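import Cfsg.Agent.UGT.L2i.Pre_m3
import Cfsg.Agent.OddHalf.D9.DoubleKill_m3
import Cfsg.Agent.Lib.PSL2Torus
import Cfsg.Agent.TwoFusion.CyclicAut
import Cfsg.Agent.StdSpSix.QLevel_m3
import Cfsg.Agent.UGT.FL34.FixX_m3
import Cfsg.Agent.S1260
import Cfsg.Agent.S1261
import Cfsg.Agent.Transfer.PGroupNormal
import Cfsg.Agent.OddHalf.Front.FE
import Cfsg.Agent.OddHalf.LieOddFam
import Mathlib
import Cfsg.Agent.OddHalf.MM.Main_m3
import Cfsg.Agent.TitsK.KChkE_m3
import Cfsg.Agent.OddHalf.D4.Rk2.False_m3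
import Cfsg.Agent.OddHalf.D4.Pair3_m3
import Cfsg.Agent.OddHalf.D8.JTwo.Sheet
import Cfsg.Agent.OddHalf.D8.MainE_m3
import Cfsg.Agent.OddHalf.D8.CaseX
import Cfsg.Agent.KFacts.J2.SheetX
import Cfsg.Agent.J2.ExtQuot
import Cfsg.Agent.SylowU5.Iso_m3
import Cfsg.Agent.S0364
import Cfsg.Agent.SignalizersComponents.CharP
import Cfsg.Agent.KFacts.MM.OutC_m3
import Cfsg.Agent.S0280
import Cfsg.Agent.S0292
import Cfsg.Agent.S0293
import Cfsg.Agent.S0294
import Cfsg.Agent.OddHalf.Quat.KTwoOf_m3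
import Cfsg.Prelude.Def_Classification2
import Cfsg.Agent.OddHalf.D9.EEight.CountsF_m3
import Cfsg.Agent.KFacts.FiTTh.BasInv
import Cfsg.Agent.SignalizersComponents.PLayerAut
import Cfsg.Agent.Transfer.FrobeniusFusion
import Cfsg.Agent.OddHalf.Soft
import Cfsg.Agent.SignalizersComponents.DistinctComponents
import Cfsg.Agent.OddHalf.D8.Rows
import Cfsg.Agent.MTwelveType.SylowModel
import Cfsg.Agent.SporadicA.MathieuRecog
import Cfsg.Agent.S1694
import Cfsg.Agent.S1619
import Cfsg.Agent.S1627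
import Cfsg.Agent.S0399
import Cfsg.Agent.R01.Fi22Facts
import Cfsg.Agent.KFacts.HS.Base
import Cfsg.Agent.BM.KHAll
import Cfsg.Agent.KFacts.FiTTh.Has
import Cfsg.Agent.SylowSp4.QuatId
import Cfsg.Agent.OddHalf.Small.Plug
import Cfsg.Agent.Cit.Nil.End
import Cfsg.Agent.FastGrp
import Cfsg.Agent.Prune
set_option linter.all false

section
prune_inst 0x7fbcfcfbaff80ddedfff7e7ffed5dffc38d4dfffffdffb4bffece9ff8fdf030a39e52b859de058ff0ed6629630b87813f9fece7fae6bdc7ffffd5ff45ffbec0f8566bd8151d688340fbc2fff63f07fce7f3fffffffffffffffffffffffffffbefffdffbfffff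

-- part: OddHalf/D6/LTwoMain
section
prune_inst 0xa20120000000012800020101000000000000001002006000200402008008000080004021000000000000000120804100010000000000000002007091000800001000100000008000000000000000000000000000000000000000000200400000
set_option linter.all false
open scoped Cfsg.Agent.FastGrp

-- part: OddHalf/D6/FieldInvC
section
/-!
# ODD D6, `K = L₂(q)`, `|Q| = 2`: the data around the field involution (helper708)
-/

set_option autoImplicit false

namespace Cfsg.Agent.OddHalf.D6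

open Subgroup Cfsg.Agent.GH Cfsg.Agent.GH.L2Aut

variable {G : Type*} [Group G]

theorem zpowers_comm {a b c : G} (ha : a ∈ zpowers c) (hb : b ∈ zpowers c) : a * b = b * a := by
  obtain ⟨i, rfl⟩ := mem_zpowers_iff.1 ha
  obtain ⟨j, rfl⟩ := mem_zpowers_iff.1 hb
  rw [← zpow_add, ← zpow_add, add_comm]

/-- `e ∈ {1, x, z, xz}` -/
def In4 (x z e : G) : Prop := e = 1 ∨ e = x ∨ e = z ∨ e = x * z

/-- The data around the field involution `f`. -/
structure FData {F : Type*} [Field F] [Finite F] (x z f c r : G) (K T : Subgroup G) (R : L2Aut.Rep F K) :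
    Prop where
  fT : f ∈ T
  ff : f * f = 1 ∨ f * f = x
  fD : ∀ d ∈ T, d ∈ K → f * d = d * f
  /-- the action of `f` -/
  ftype : ∀ α, Acts K f α → α * α = 1 ∧ R.fld α ≠ 1
  zz : z * z = 1
  z1 : z ≠ 1
  zT : z ∈ T
  zK : z ∈ K
  cz : ∀ t ∈ T, t * z = z * t
  /-- `K ∩ Z(T) = ⟨z⟩` -/
  KZ : ∀ e ∈ K, e ∈ T → (∀ t ∈ T, t * e = e * t) → e = 1 ∨ e = z
  cT : c ∈ T
  cK : c ∈ K
  cc : c * c ≠ 1
  zc : z ∈ zpowers (c * c)
  rT : r ∈ T
  rK : r ∈ K
  rr : r * r = 1
  r1 : r ≠ 1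
  rz : r ≠ z
  rc : r * c * r⁻¹ = c⁻¹
  D_form : ∀ d ∈ T, d ∈ K → ∃ k : ℤ, d = c ^ k ∨ d = c ^ k * r
  /-- `c` centralizes the elements of odd order of `C_K(z)` -/
  codd : ∀ k ∈ K, k * z = z * k → Odd (orderOf k) → c * k = k * c
  /-- noncentral involutions of `D` invert the elements of odd order of `C_K(z)` -/
  vodd : ∀ v ∈ T, v ∈ K → v * v = 1 → v ≠ 1 → v ≠ z → ∀ k ∈ K, k * z = z * k → Odd (orderOf k) →
    v * k * v⁻¹ = k⁻¹
  /-- `C_T(D)` -/
  CD : ∀ t ∈ T, (∀ d ∈ T, d ∈ K → t * d = d * t) → ∃ e, In4 x z e ∧ (t = e ∨ t = f * e)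
  /-- `C_T(D)`, linear part -/
  CD1 : ∀ t ∈ T, (∀ d ∈ T, d ∈ K → t * d = d * t) → (∀ α, Acts K t α → R.fld α = 1) → In4 x z t

namespace Setup

variable {x : G} {K T : Subgroup G}

theorem exists_fdata [Finite G] (S : Setup x K T) {F : Type*} [Field F] [Finite F]
    (R : L2Aut.Rep F K) (h : ∃ t ∈ T, ∃ α, Acts K t α ∧ α * α = 1 ∧ R.fld α ≠ 1) :
    ∃ z f c r : G, FData x z f c r K T R := by
  obtain ⟨f, hfT, φ, hφ, hφφ, hφf, hfD⟩ := S.exists_field R h
  obtain ⟨P, hP⟩ := S.sylK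
  have memP : ∀ k : K, k ∈ (P : Subgroup K) ↔ (k : G) ∈ T := by
    intro k; rw [hP, mem_subgroupOf]
  obtain ⟨d, r, hd⟩ := R.exists_dih P
  have hdd : d * d ≠ 1 := R.ftype_dd (fun h1 => hφf (R.mem_PGL_iff_fld.1 h1)) hφφ P hd
  obtain ⟨n, hn, hzz, hz1⟩ := hd.exists_z P.isPGroup'
  have hn1 : n ≠ 0 := by
    rintro rfl
    rw [pow_zero, pow_one] at hzz
    exact hdd hzz
  set z : K := d ^ 2 ^ n with hz
  have hzd : z ∈ zpowers d := (zpowers d).pow_mem (mem_zpowers d) _
  have hzP : z ∈ (P : Subgroup K) := (P : Subgroup K).pow_mem hd.d_mem _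
  have hrz : r ≠ z := fun h1 => hd.r_not (h1 ▸ hzd)
  have hrd : r * d ≠ d * r := by
    intro h1
    apply hdd
    have h2 := hd.rd
    rw [h1, mul_inv_cancel_right] at h2
    nth_rw 2 [h2]
    exact mul_inv_cancel d
  have hrzc : r * z = z * r := by
    rw [hz]
    have h1 := hd.r_pow (2 ^ n : ℤ)
    have h2 : d ^ (-(2 ^ n : ℤ)) = d ^ (2 ^ n : ℤ) := by
      rw [zpow_neg, inv_eq_iff_mul_eq_one]
      have : d ^ ((2 : ℤ) ^ n) = d ^ 2 ^ n := by exact_mod_cast zpow_natCast d (2 ^ n)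
      rw [this]; exact hzz
    rw [h2] at h1
    have : d ^ ((2 : ℤ) ^ n) = d ^ 2 ^ n := by exact_mod_cast zpow_natCast d (2 ^ n)
    rw [this] at h1
    exact mul_inv_eq_iff_eq_mul.1 h1
  have hfour : Four z r := ⟨hzz, hd.rr, hz1, hd.r1, hrz.symm, hrzc.symm⟩
  have hdT : (d : G) ∈ T := (memP d).1 hd.d_mem
  have hrT : (r : G) ∈ T := (memP r).1 hd.r_mem
  have hzT : (z : G) ∈ T := (memP z).1 hzP
  have hfin : Finite K := inferInstance
  -- automorphisms preserving `P` fix `z`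
  have autz : ∀ α : MulAut K, (∀ s ∈ (P : Subgroup K), α s ∈ (P : Subgroup K)) → α z = z := by
    intro α hα
    have h1 : α d * α d ≠ 1 := by
      rw [← map_mul]
      intro h2
      exact hdd (α.injective (by rw [h2, map_one]))
    have h2 : α d ∈ zpowers d := by
      rcases hd.cov _ (hα d hd.d_mem) with h2 | ⟨k, h2⟩
      · exact h2
      · exfalso
        apply h1
        rw [h2]; exact hd.pow_r_sq k
    have h3 : α z ∈ zpowers d := by
      rw [hz, map_pow]
      exact (zpowers d).pow_mem h2 _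
    by_contra h4
    refine four_not_cyc (a := z) (b := α z) (c := d) ⟨hzz, ?_, hz1, ?_, fun h5 => h4 h5.symm, ?_⟩ hzd h3
    · rw [← map_mul, hzz, map_one]
    · intro h5
      exact hz1 (α.injective (by rw [h5, map_one]))
    · exact zpowers_comm hzd h3
  have actP : ∀ t ∈ T, ∀ α, Acts K t α → ∀ s ∈ (P : Subgroup K), α s ∈ (P : Subgroup K) := by
    intro t ht α hα s hs
    rw [memP, hα]
    exact T.mul_mem (T.mul_mem ht ((memP s).1 hs)) (T.inv_mem ht)
  have hcz : ∀ t ∈ T, t * (z : G) = z * t := by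
    intro t ht
    obtain ⟨α, hα⟩ := S.acts (S.cx t ht)
    exact hα.comm_of_fix (autz α (actP t ht α hα))
  -- involutions of `D`
  have hinvz : ∀ e ∈ zpowers d, e * e = 1 → e = 1 ∨ e = z := by
    intro e he hee
    by_contra h1
    rw [not_or] at h1
    refine four_not_cyc (a := z) (b := e) (c := d) ⟨hzz, hee, hz1, h1.1, fun h5 => h1.2 h5.symm, ?_⟩ hzd he
    exact zpowers_comm hzd he
  have hrefl : ∀ k : ℤ, ∀ e : K, e = d ^ k * r → e * d ≠ d * e := by
    intro k e he h1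
    apply hrd
    rw [he] at h1
    have h2 : d ^ k * (r * d) = d ^ k * (d * r) := by
      calc d ^ k * (r * d) = d ^ k * r * d := by group
        _ = d * (d ^ k * r) := h1
        _ = d ^ k * (d * r) := by group
    exact mul_left_cancel h2
  have hKZ : ∀ e ∈ K, e ∈ T → (∀ t ∈ T, t * e = e * t) → e = 1 ∨ e = (z : G) := by
    intro e heK heT he
    have h1 : (⟨e, heK⟩ : K) ∈ (P : Subgroup K) := (memP _).2 heT
    rcases hd.cov _ h1 with h2 | ⟨k, h2⟩
    · have h3 : r * ⟨e, heK⟩ = ⟨e, heK⟩ * r := Subtype.ext (he r hrT)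
      obtain ⟨i, hi⟩ := mem_zpowers_iff.1 h2
      have h4 := hd.r_pow i
      rw [hi, h3, mul_inv_cancel_right, zpow_neg, hi] at h4
      have h5 : (⟨e, heK⟩ : K) * ⟨e, heK⟩ = 1 := by
        nth_rw 2 [h4]; exact mul_inv_cancel _
      rcases hinvz _ h2 h5 with h6 | h6
      · left; exact congrArg Subtype.val h6
      · right; exact congrArg Subtype.val h6
    · exfalso
      exact hrefl k _ h2 (Subtype.ext (he d hdT).symm)
  -- linear elements centralizing `D`
  have hCD1 : ∀ t ∈ T, (∀ d ∈ T, d ∈ K → t * d = d * t) → (∀ α, Acts K t α → R.fld α = 1) →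
      In4 x (z : G) t := by
    intro t ht htD htf
    obtain ⟨α, hα⟩ := S.acts (S.cx t ht)
    have h1 : α z = z := hα.fix (htD z hzT z.2)
    have h2 : α r = r := hα.fix (htD r hrT r.2)
    have h3 : α d = d := hα.fix (htD d hdT d.2)
    have hno : ∀ u : K, (∃ k : ℤ, u = d ^ k * r) → α ≠ MulAut.conj u := by
      rintro u ⟨k, hk⟩ h4
      rw [h4, MulAut.conj_apply] at h3
      exact hrefl k u hk (mul_inv_eq_iff_eq_mul.1 h3)
    rcases R.fix_four hfour (R.mem_PGL_iff_fld.2 (htf α hα)) h1 h2 with h4 | h4 | h4 | h4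
    · rw [h4] at hα
      rcases S.ker (S.cx t ht) hα with h5 | h5
      · left; exact h5
      · right; left; exact h5
    · rw [h4] at hα
      rcases S.eq_or (S.cx t ht) (S.Kx z z.2) hα (Acts.conj z.2) with h5 | h5
      · right; right; left; exact h5
      · right; right; right
        rw [h5]; exact S.Kx z z.2
    · exact absurd h4 (hno r ⟨0, by rw [zpow_zero, one_mul]⟩)
    · exfalso
      obtain ⟨i, hi⟩ := mem_zpowers_iff.1 hzd
      exact hno (z * r) ⟨i, by rw [hi]⟩ h4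
  have hff : f * f = 1 ∨ f * f = x := by
    have h1 := hφ.mul hφ
    rw [hφφ] at h1
    exact S.ker (comm_mul (S.cx f hfT) (S.cx f hfT)) h1
  have hzx : (z : G) * x = x * z := S.Kx z z.2
  refine ⟨z, f, d, r, ⟨hfT, hff, hfD, ?_, congrArg Subtype.val hzz, fun h1 => hz1 (Subtype.ext h1),
    hzT, z.2, hcz, hKZ, hdT, d.2, fun h1 => hdd (Subtype.ext h1), ?_, hrT, r.2,
    congrArg Subtype.val hd.rr, fun h1 => hd.r1 (Subtype.ext h1), fun h1 => hrz (Subtype.ext h1),
    congrArg Subtype.val hd.rd, ?_, ?_, ?_, ?_, hCD1⟩⟩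
  · intro α hα
    rw [hα.unique hφ]
    exact ⟨hφφ, hφf⟩
  · obtain ⟨m, rfl⟩ := Nat.exists_eq_succ_of_ne_zero hn1
    have h1 : (z : G) = ((d : G) * d) ^ 2 ^ m := by
      rw [hz, ← pow_two, ← pow_mul, ← pow_succ']
      rfl
    rw [h1]
    exact (zpowers _).pow_mem (mem_zpowers _) _
  · intro e heT heK
    rcases hd.cov _ ((memP ⟨e, heK⟩).2 heT) with h2 | ⟨k, h2⟩
    · obtain ⟨i, hi⟩ := mem_zpowers_iff.1 h2
      exact ⟨i, Or.inl (by have := congrArg Subtype.val hi; simpa using this.symm)⟩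
    · exact ⟨k, Or.inr (by have := congrArg Subtype.val h2; simpa using this)⟩
  · -- `codd`
    intro k hk hkz hko
    obtain ⟨B, hzB, hBc, hBi, hB⟩ := R.inner_cent hzz hz1
    have h1 : d ∈ B := by
      rcases hB d (zpowers_comm (mem_zpowers d) hzd) with h2 | h2
      · exact h2
      · exact absurd h2.1 hdd
    have h2 : (⟨k, hk⟩ : K) ∈ B := by
      rcases hB ⟨k, hk⟩ (Subtype.ext hkz) with h3 | h3
      · exact h3
      · have h4 : (⟨k, hk⟩ : K) = 1 := by
          have h5 : k * k = 1 := congrArg Subtype.val h3.1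
          apply Subtype.ext
          show k = 1
          have h6 : orderOf k ∣ 2 := orderOf_dvd_of_pow_eq_one (by rw [pow_two]; exact h5)
          have h7 : orderOf k = 1 := by
            rcases (Nat.dvd_prime Nat.prime_two).1 h6 with h7 | h7
            · exact h7
            · rw [h7] at hko; exact absurd hko (by decide)
          exact orderOf_eq_one_iff.1 h7
        rw [h4]; exact one_mem B
    exact congrArg Subtype.val (hBc d h1 _ h2)
  · -- `vodd`
    intro v hvT hvK hvv hv1 hvz k hk hkz hko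
    obtain ⟨B, hzB, hBc, hBi, hB⟩ := R.inner_cent hzz hz1
    have h1 : d ∈ B := by
      rcases hB d (zpowers_comm (mem_zpowers d) hzd) with h2 | h2
      · exact h2
      · exact absurd h2.1 hdd
    have h2 : (⟨k, hk⟩ : K) ∈ B := by
      rcases hB ⟨k, hk⟩ (Subtype.ext hkz) with h3 | h3
      · exact h3
      · have h4 : (⟨k, hk⟩ : K) = 1 := by
          have h5 : k * k = 1 := congrArg Subtype.val h3.1
          apply Subtype.ext
          show k = 1
          have h6 : orderOf k ∣ 2 := orderOf_dvd_of_pow_eq_one (by rw [pow_two]; exact h5)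
          have h7 : orderOf k = 1 := by
            rcases (Nat.dvd_prime Nat.prime_two).1 h6 with h7 | h7
            · exact h7
            · rw [h7] at hko; exact absurd hko (by decide)
          exact orderOf_eq_one_iff.1 h7
        rw [h4]; exact one_mem B
    obtain ⟨i, hi⟩ : ∃ i : ℤ, (⟨v, hvK⟩ : K) = d ^ i * r := by
      rcases hd.cov _ ((memP ⟨v, hvK⟩).2 hvT) with h3 | h3
      · exfalso
        rcases hinvz _ h3 (Subtype.ext hvv) with h4 | h4
        · exact hv1 (congrArg Subtype.val h4)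
        · exact hvz (congrArg Subtype.val h4)
      · exact h3
    rcases hB ⟨v, hvK⟩ (Subtype.ext (hcz v hvT)) with h3 | h3
    · exact absurd (hBc _ h3 _ h1) (hrefl i _ hi)
    · exact congrArg Subtype.val (h3.2 _ h2)
  · -- `CD`
    intro t ht htD
    obtain ⟨α, hα⟩ := S.acts (S.cx t ht)
    have h1 : ∀ s ∈ (P : Subgroup K), α s = s := fun s hs =>
      hα.fix (htD s ((memP s).1 hs) s.2)
    have hαα : α * α = 1 := R.cent_syl P (hα.pow_one (pow_of_mem S.pT ht)) h1
    by_cases hαf : R.fld α = 1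
    · exact ⟨t, hCD1 t ht htD (fun β hβ => by rw [hβ.unique hα]; exact hαf), Or.inl rfl⟩
    · have h2 : R.fld α = R.fld φ := L2One.AutPsl.aut_inv (by rw [← map_mul, hαα, map_one]) hαf
        (by rw [← map_mul, hφφ, map_one]) hφf
      have h3 : In4 x (z : G) (f * t) := by
        refine hCD1 _ (T.mul_mem hfT ht) ?_ ?_
        · intro e he heK
          rw [mul_assoc, htD e he heK, ← mul_assoc, hfD e he heK, mul_assoc]
        · intro β hβ
          rw [hβ.unique (hφ.mul hα), map_mul, h2, ← map_mul, hφφ, map_one]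
      have h4 : ∀ e, In4 x (z : G) e → In4 x (z : G) (x * e) := by
        rintro e (rfl | rfl | rfl | rfl)
        · right; left; rw [mul_one]
        · left; exact S.xx
        · right; right; right; rfl
        · right; right; left
          rw [← mul_assoc, S.xx, one_mul]
      rcases hff with h5 | h5
      · refine ⟨f * t, h3, Or.inr ?_⟩
        rw [← mul_assoc, h5, one_mul]
      · refine ⟨x * (f * t), h4 _ h3, Or.inr ?_⟩
        rw [← mul_assoc, S.cx f hfT, ← mul_assoc, mul_assoc x f f, h5, S.xx, one_mul]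

end Setup

namespace FData

variable {x z f c r : G} {K T : Subgroup G} {F : Type*} [Field F] [Finite F] {R : L2Aut.Rep F K}

theorem in4_comm (S : Setup x K T) (D : FData x z f c r K T R) {e : G} (he : In4 x z e) {t : G}
    (ht : t ∈ T) : t * e = e * t := by
  have h1 := S.cx t ht
  have h2 := D.cz t ht
  rcases he with rfl | rfl | rfl | rfl
  · rw [mul_one, one_mul]
  · exact h1
  · exact h2
  · rw [← mul_assoc, h1, mul_assoc, h2, mul_assoc]

/-- `C_T(D)` is abelian -/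
theorem cD (S : Setup x K T) (D : FData x z f c r K T R) {a b : G} (ha : a ∈ T)
    (haD : ∀ d ∈ T, d ∈ K → a * d = d * a) (hb : b ∈ T) (hbD : ∀ d ∈ T, d ∈ K → b * d = d * b) :
    a * b = b * a := by
  obtain ⟨e, he, h1⟩ := D.CD a ha haD
  obtain ⟨e', he', h2⟩ := D.CD b hb hbD
  have heT : ∀ e, In4 x z e → e ∈ T := by
    rintro e (rfl | rfl | rfl | rfl)
    · exact one_mem T
    · exact S.xT
    · exact D.zT
    · exact T.mul_mem S.xT D.zT
  rcases h1 with rfl | rfl
  · exact (in4_comm S D he hb).symm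
  · rcases h2 with rfl | rfl
    · exact in4_comm S D he' ha
    · have h3 := in4_comm S D he' D.fT
      have h4 := in4_comm S D he D.fT
      have h5 := in4_comm S D he (heT e' he')
      calc f * e * (f * e') = f * (e * f) * e' := by group
        _ = f * (f * e) * e' := by rw [h4]
        _ = f * f * (e * e') := by group
        _ = f * f * (e' * e) := by rw [h5]
        _ = f * (f * e') * e := by group
        _ = f * (e' * f) * e := by rw [h3]
        _ = f * e' * (f * e) := by group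

end FData

/-- helper419's frame -/
theorem FData.base [Finite G] {x z f c r : G} {K T : Subgroup G} {F : Type} [Field F] [Finite F]
    {R : L2Aut.Rep F K} (S : Setup x K T) (D : FData x z f c r K T R) : TypeA.Base x z T K where
  xx := S.xx
  x1 := S.x1
  zz := D.zz
  z1 := D.z1
  xT := S.xT
  zT := D.zT
  xK := S.xK R
  zK := D.zK
  cx := S.cx
  cz := D.cz
  pT := S.pT
  max := fun P hP hTP h => S.max hP hTP h
  Kx := S.Kx
  Kn := S.Kn
  sylK := by
    obtain ⟨P, hP⟩ := S.sylK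
    intro P' hP' h1 h2 y hy
    have h3 : IsPGroup 2 (P'.subgroupOf K) := by
      have h4 : (P'.subgroupOf K).map K.subtype ≤ P' := by
        rintro _ ⟨y, hy, rfl⟩
        exact hy
      exact IsPGroup.of_injective (hP'.to_le h4)
        ((P'.subgroupOf K).equivMapOfInjective K.subtype K.subtype_injective).toMonoidHom
        (MulEquiv.injective _)
    have h4 : (P : Subgroup K) ≤ P'.subgroupOf K := by
      rw [hP]
      intro k hk
      exact h1 ⟨hk, k.2⟩
    have h5 := P.is_maximal' h3 h4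
    have h6 : (⟨y, h2 hy⟩ : K) ∈ (P : Subgroup K) := by
      rw [← h5]; exact hy
    rw [hP] at h6
    exact h6
  na := ⟨r, D.rT, D.rK, D.rr, D.r1, D.rz, c, D.cT, D.cK, by
    intro h1
    have h2 := D.rc
    rw [← h1, mul_inv_cancel_right] at h2
    apply D.cc
    nth_rw 2 [h2]
    exact mul_inv_cancel c⟩
  cD := fun a ha haD b hb hbD => D.cD S ha haD hb hbD
  KZ := D.KZ
  CK := fun c hc h => S.CK c (S.cx c hc) h
  iso := ⟨F, inferInstance, inferInstance, ⟨R⟩⟩

end Cfsg.Agent.OddHalf.D6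
end

-- part: OddHalf/D6/BalG
section
-- merged: Cfsg.Agent.OddHalf.D6.CentRes
section

/-!
# ODD D6: `C(x) ∩ C(z)` modulo `A₀ = O(C_K(z))` (bb ODD 7030 (1))

`K ≅ PSL(2,F)` is normal in `C(x)`, `Q = C_{C(x)}(K)` is a cyclic 2-group containing `x`, `z ∈ K` an
involution. The elements of odd order of `C_K(z)` form a cyclic group `A₀`, and `[y, v] ∈ A₀` for all
`y, v ∈ C(x) ∩ C(z)` with `y` of odd order. (`Fr`: the case `Q = ⟨x⟩`.)
-/

set_option autoImplicit false

open Subgroup Cfsg Cfsg.Agent.GH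
open Cfsg.Agent.GH.L2Aut (Four)

namespace Cfsg.Agent.OddHalf.D6

/-- in a group: `y ^ n = 1`, `n` odd, `m = [y, v]` a 2-element commuting with `y`: `m = 1` -/
theorem comm_eq_one {Q : Type*} [Group Q] {y v m : Q} {n j : ℕ} (hy : y ^ n = 1) (hn : Odd n)
    (hm : y * v * y⁻¹ * v⁻¹ = m) (hc : y * m = m * y) (h2 : m ^ 2 ^ j = 1) : m = 1 := by
  have h1 : ∀ k : ℕ, y ^ k * v * (y ^ k)⁻¹ = m ^ k * v := by
    intro k
    induction k with
    | zero => simp
    | succ k ih =>
      have h3 : y * v * y⁻¹ = m * v := by rw [← hm, inv_mul_cancel_right]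
      have h4 : y * m ^ k * y⁻¹ = m ^ k := by
        rw [(show Commute y m from hc).pow_right k |>.eq, mul_inv_cancel_right]
      calc y ^ (k + 1) * v * (y ^ (k + 1))⁻¹ = y * (y ^ k * v * (y ^ k)⁻¹) * y⁻¹ := by
            rw [pow_succ']; group
        _ = y * (m ^ k * v) * y⁻¹ := by rw [ih]
        _ = (y * m ^ k * y⁻¹) * (y * v * y⁻¹) := by group
        _ = m ^ (k + 1) * v := by rw [h4, h3, pow_succ, mul_assoc]
  have h3 := h1 n
  rw [hy, one_mul, inv_one, mul_one] at h3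
  have h4 : m ^ n = 1 := (mul_eq_right.1 h3.symm)
  have h5 : orderOf m ∣ n := orderOf_dvd_of_pow_eq_one h4
  have h6 : orderOf m ∣ 2 ^ j := orderOf_dvd_of_pow_eq_one h2
  have h7 : Nat.Coprime n (2 ^ j) := Nat.Coprime.pow_right j (Nat.coprime_two_right.2 hn)
  have h8 := Nat.eq_one_of_dvd_coprimes h7 h5 h6
  exact orderOf_eq_one_iff.1 h8

/-- The frame: `K ≅ PSL(2,F)` normal in `C(x)` with `C_{C(x)}(K) = ⟨x⟩`, `z` an involution of `K`. -/
structure Fr {G : Type*} [Group G] (x z : G) (K : Subgroup G) : Prop where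
  xx : x * x = 1
  Kx : ∀ k ∈ K, k * x = x * k
  Kn : ∀ c, c * x = x * c → ∀ k ∈ K, c * k * c⁻¹ ∈ K
  CK : ∀ c, c * x = x * c → (∀ k ∈ K, c * k = k * c) → c = 1 ∨ c = x
  zK : z ∈ K
  zz : z * z = 1
  z1 : z ≠ 1

/-- The general frame: `Q = C_{C(x)}(K) = ⟨q₀⟩` is a cyclic 2-group with involution `x`. -/
structure FrQ {G : Type*} [Group G] (x z q₀ : G) (K : Subgroup G) : Prop where
  xx : x * x = 1
  Kx : ∀ k ∈ K, k * x = x * k
  Kn : ∀ c, c * x = x * c → ∀ k ∈ K, c * k * c⁻¹ ∈ K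
  Qx : q₀ * x = x * q₀
  QK : ∀ k ∈ K, q₀ * k = k * q₀
  Q2 : ∃ n, q₀ ^ 2 ^ n = 1
  Qi : ∀ q ∈ zpowers q₀, q * q = 1 → q = 1 ∨ q = x
  CK : ∀ c, c * x = x * c → (∀ k ∈ K, c * k = k * c) → c ∈ zpowers q₀
  zK : z ∈ K
  zz : z * z = 1
  z1 : z ≠ 1

theorem mem_zpowers_of_sq {G : Type*} [Group G] {x q : G} (xx : x * x = 1) (hq : q ∈ zpowers x) :
    q = 1 ∨ q = x := by
  obtain ⟨k, rfl⟩ := mem_zpowers_iff.1 hq
  have h2 : x ^ (2 : ℤ) = 1 := by rw [zpow_two]; exact xx
  rcases Int.even_or_odd' k with ⟨m, h | h⟩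
  · left; rw [h, zpow_mul, h2, one_zpow]
  · right; rw [h, zpow_add, zpow_mul, h2, one_zpow, zpow_one, one_mul]

theorem Fr.toQ {G : Type*} [Group G] {x z : G} {K : Subgroup G} (f : Fr x z K) : FrQ x z x K where
  xx := f.xx
  Kx := f.Kx
  Kn := f.Kn
  Qx := rfl
  QK := fun k hk => (f.Kx k hk).symm
  Q2 := ⟨1, by rw [pow_one, sq, f.xx]⟩
  Qi := fun _ hq _ => mem_zpowers_of_sq f.xx hq
  CK := fun c hc hK => by
    rcases f.CK c hc hK with h | h
    · rw [h]; exact one_mem _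
    · rw [h]; exact mem_zpowers x
  zK := f.zK
  zz := f.zz
  z1 := f.z1

section torus

variable {F L : Type*} [Field F] [Finite F] [Group L]

/-- the torus of an involution and its odd part -/
theorem exists_oddPart (R : L2Aut.Rep F L) {t : L} (ht1 : t ≠ 1) (ht : t * t = 1) :
    ∃ (T A : Subgroup L) (v : L), A ≤ T ∧ t ∈ T ∧ (∃ g ∈ T, ∀ a ∈ T, a ∈ zpowers g) ∧
      (∀ a, a ∈ A ↔ a * t = t * a ∧ Odd (orderOf a)) ∧
      (∀ a ∈ T, a * t = t * a) ∧ (∀ a ∈ T, a * a = 1 → a = 1 ∨ a = t) ∧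
      (∀ x, x * t = t * x → x ∉ T → x * x = 1 ∧ ∀ y ∈ T, x * y * x⁻¹ = y⁻¹) ∧
      (∀ x y, x * t = t * x → x ∉ T → y * t = t * y → y ∉ T → x * y ∈ T) ∧
      v * t = t * v ∧ v ∉ T ∧ Odd (Nat.card A) := by
  have hfin := R.finite
  obtain ⟨T, hcyc, htT, hT, -, hout, ⟨v, hv, hvT⟩, hprod⟩ :=
    Cfsg.Agent.Lib.PSL2Torus.exists_torus_hom R.π R.two R.surj R.ker ht1 ht
  obtain ⟨⟨g, hg⟩, hgen⟩ := hcyc
  have hgen' : ∀ a ∈ T, a ∈ zpowers g := by
    intro a ha
    obtain ⟨k, hk⟩ := mem_zpowers_iff.1 (hgen ⟨a, ha⟩)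
    exact mem_zpowers_iff.2 ⟨k, congrArg Subtype.val hk⟩
  have hcomm : ∀ a ∈ T, ∀ b ∈ T, a * b = b * a := by
    intro a ha b hb
    obtain ⟨i, rfl⟩ := mem_zpowers_iff.1 (hgen' a ha)
    obtain ⟨j, rfl⟩ := mem_zpowers_iff.1 (hgen' b hb)
    rw [← zpow_add, ← zpow_add, add_comm]
  have huniq : ∀ a ∈ T, a * a = 1 → a = 1 ∨ a = t := by
    intro a ha haa
    by_cases ha1 : a = 1
    · exact Or.inl ha1
    right
    by_contra hat
    exact L2Aut.four_not_cyc (a := a) (b := t) (c := g)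
      ⟨haa, ht, ha1, ht1, hat, hT a ha⟩ (hgen' a ha) (hgen' t htT)
  let A : Subgroup L :=
    { carrier := {a | a ∈ T ∧ Odd (orderOf a)}
      one_mem' := ⟨one_mem _, by rw [orderOf_one]; exact odd_one⟩
      mul_mem' := by
        rintro a b ⟨ha, ha'⟩ ⟨hb, hb'⟩
        refine ⟨T.mul_mem ha hb, ?_⟩
        exact Odd.of_dvd_nat (ha'.mul hb')
          ((show Commute a b from hcomm a ha b hb).orderOf_mul_dvd_mul_orderOf)
      inv_mem' := by
        rintro a ⟨ha, ha'⟩
        exact ⟨T.inv_mem ha, by rw [orderOf_inv]; exact ha'⟩ }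
  refine ⟨T, A, v, fun a ha => ha.1, htT, ⟨g, hg, hgen'⟩, ?_, hT, huniq, fun x hx hxT => (hout x hx hxT).2,
    hprod, hv, hvT, ?_⟩
  · intro a
    constructor
    · rintro ⟨ha, ha'⟩
      exact ⟨hT a ha, ha'⟩
    · rintro ⟨ha, ha'⟩
      refine ⟨?_, ha'⟩
      by_contra haT
      apply haT
      have h1 := eq_one_of_sq (hout a ha haT).2.1 ha'
      rw [h1]; exact one_mem _
  · rw [← Nat.not_even_iff_odd, even_iff_two_dvd]
    intro hdvd
    obtain ⟨y, hy⟩ := exists_prime_orderOf_dvd_card' (G := A) 2 hdvd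
    have h1 : Odd (orderOf (y : L)) := y.2.2
    rw [Subgroup.orderOf_coe, hy] at h1
    exact absurd h1 (by decide)

end torus

namespace FrQ

variable {G : Type*} [Group G] [Finite G] {x z q₀ : G} {K : Subgroup G} (f : FrQ x z q₀ K)

include f

theorem norm {c : G} (hc : c * x = x * c) : c ∈ normalizer (K : Set G) := mem_norm_of (f.Kn c hc)

omit [Finite G] in
theorem zx : z * x = x * z := f.Kx z f.zK

/-- The main result: `A₀`. -/
theorem exists_A {F : Type*} [Field F] [Finite F] (R : L2Aut.Rep F K) :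
    ∃ (A : Subgroup G), (∀ a, a ∈ A ↔ a ∈ K ∧ a * z = z * a ∧ Odd (orderOf a)) ∧
      (∃ g ∈ A, ∀ a ∈ A, a ∈ zpowers g) ∧ Odd (Nat.card A) ∧
      (∃ v ∈ K, v * z = z * v ∧ v * v = 1 ∧ v ≠ z ∧ v ≠ 1 ∧ ∀ a ∈ A, v * a * v⁻¹ = a⁻¹) ∧
      (∀ y v, y * x = x * y → v * x = x * v → y * z = z * y → v * z = z * v → Odd (orderOf y) →
        y * v * y⁻¹ * v⁻¹ ∈ A) := by
  have hz1' : (⟨z, f.zK⟩ : K) ≠ 1 := fun h => f.z1 (congrArg Subtype.val h)
  have hzz' : (⟨z, f.zK⟩ : K) * ⟨z, f.zK⟩ = 1 := Subtype.ext f.zz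
  obtain ⟨T, A', v₀, hAT, hzT, ⟨g, hgT, hgen⟩, hA, hT, huniq, hout, hprod, hv₀, hv₀T, hodd⟩ :=
    exists_oddPart R hz1' hzz'
  have hcomm : ∀ a ∈ T, ∀ b ∈ T, a * b = b * a := by
    intro a ha b hb
    obtain ⟨i, rfl⟩ := mem_zpowers_iff.1 (hgen a ha)
    obtain ⟨j, rfl⟩ := mem_zpowers_iff.1 (hgen b hb)
    rw [← zpow_add, ← zpow_add, add_comm]
  have hord : ∀ k : K, orderOf k = orderOf (k : G) := fun k => (Subgroup.orderOf_coe k).symm
  have hzc : ∀ k : K, k * ⟨z, f.zK⟩ = ⟨z, f.zK⟩ * k ↔ (k : G) * z = z * k := fun k =>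
    ⟨fun h => congrArg Subtype.val h, fun h => Subtype.ext h⟩
  set A : Subgroup G := A'.map K.subtype with hAdef
  have hmem : ∀ a, a ∈ A ↔ a ∈ K ∧ a * z = z * a ∧ Odd (orderOf a) := by
    intro a
    constructor
    · rintro ⟨k, hk, rfl⟩
      obtain ⟨h1, h2⟩ := (hA k).1 hk
      exact ⟨k.2, (hzc k).1 h1, by rw [hord] at h2; exact h2⟩
    · rintro ⟨h1, h2, h3⟩
      exact ⟨⟨a, h1⟩, (hA _).2 ⟨(hzc _).2 h2, by rw [hord]; exact h3⟩, rfl⟩
  -- `A` is normalised by `C(x) ∩ C(z)`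
  have hAn : ∀ v, v * x = x * v → v * z = z * v → ∀ a ∈ A, v * a * v⁻¹ ∈ A := by
    intro v hvx hvz a ha
    obtain ⟨h1, h2, h3⟩ := (hmem a).1 ha
    refine (hmem _).2 ⟨f.Kn v hvx a h1, ?_, ?_⟩
    · calc v * a * v⁻¹ * z = v * a * v⁻¹ * (z * v) * v⁻¹ := by group
        _ = v * a * v⁻¹ * (v * z) * v⁻¹ := by rw [hvz]
        _ = v * (a * z) * v⁻¹ := by group
        _ = (v * z) * a * v⁻¹ := by rw [h2]; group
        _ = z * (v * a * v⁻¹) := by rw [hvz]; group
    · have h4 : orderOf (v * a * v⁻¹) = orderOf a :=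
        orderOf_injective (MulAut.conj v).toMonoidHom (MulAut.conj v).injective a
      rw [h4]; exact h3
  have hvv₀ := hout v₀ hv₀ hv₀T
  have hTpow : ∀ t ∈ T, ∃ j : ℕ, ((t : K) : G) ^ 2 ^ j ∈ A := by
    intro t ht
    obtain ⟨k, m, hm, hkm⟩ := Nat.exists_eq_two_pow_mul_odd (orderOf_pos t).ne'
    refine ⟨k, ⟨t ^ 2 ^ k, (hA _).2 ⟨hT _ (T.pow_mem ht _), ?_⟩, by simp⟩⟩
    rw [orderOf_pow, hkm, Nat.gcd_eq_right (Dvd.intro _ rfl), Nat.mul_div_cancel_left _ (by positivity)]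
    exact hm
  have hCKpow : ∀ k ∈ K, k * z = z * k → ∃ j : ℕ, k ^ 2 ^ j ∈ A := by
    intro k hk hkz
    by_cases h : (⟨k, hk⟩ : K) ∈ T
    · exact hTpow _ h
    · refine ⟨1, ?_⟩
      have h1 : k * k = 1 := congrArg Subtype.val (hout ⟨k, hk⟩ ((hzc _).2 hkz) h).1
      rw [pow_one, sq, h1]
      exact one_mem _
  refine ⟨A, hmem, ?_, ?_, ⟨v₀, v₀.2, (hzc v₀).1 hv₀, congrArg Subtype.val hvv₀.1, ?_, ?_, ?_⟩, ?_⟩
  · -- cyclic
    have h1 : IsCyclic A' := by
      have h2 : IsCyclic T := ⟨⟨⟨g, hgT⟩, fun a => by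
        obtain ⟨k, hk⟩ := mem_zpowers_iff.1 (hgen a a.2)
        exact mem_zpowers_iff.2 ⟨k, Subtype.ext hk⟩⟩⟩
      exact isCyclic_of_injective (Subgroup.inclusion hAT) (Subgroup.inclusion_injective hAT)
    obtain ⟨⟨c, hc⟩, hcgen⟩ := h1
    refine ⟨(c : G), ⟨c, hc, rfl⟩, ?_⟩
    rintro _ ⟨a, ha, rfl⟩
    obtain ⟨k, hk⟩ := mem_zpowers_iff.1 (hcgen ⟨a, ha⟩)
    have hk' : c ^ k = a := congrArg Subtype.val hk
    exact mem_zpowers_iff.2 ⟨k, by rw [← hk']; simp⟩
  · rw [hAdef, card_map_of_injective K.subtype_injective]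
    exact hodd
  · intro h
    apply hv₀T
    rw [show v₀ = ⟨z, f.zK⟩ from Subtype.ext h]
    exact hzT
  · intro h
    apply hv₀T
    rw [show v₀ = 1 from Subtype.ext h]
    exact one_mem _
  · rintro _ ⟨a, ha, rfl⟩
    exact congrArg Subtype.val (hvv₀.2 a (hAT ha))
  · -- the main point
    intro y w hyx hwx hyz hwz hyo
    -- `S` = the elements commuting with `y` modulo `A`
    let S : Subgroup G :=
      { carrier := {v | v * x = x * v ∧ v * z = z * v ∧ y * v * y⁻¹ * v⁻¹ ∈ A}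
        one_mem' := ⟨by rw [one_mul, mul_one], by rw [one_mul, mul_one], by
          rw [mul_one, inv_one, mul_one, mul_inv_cancel]; exact one_mem _⟩
        mul_mem' := by
          rintro a b ⟨ha, ha', ha''⟩ ⟨hb, hb', hb''⟩
          refine ⟨by rw [mul_assoc, hb, ← mul_assoc, ha, mul_assoc],
            by rw [mul_assoc, hb', ← mul_assoc, ha', mul_assoc], ?_⟩
          have h1 := A.mul_mem ha'' (hAn a ha ha' _ hb'')
          have h2 : y * a * y⁻¹ * a⁻¹ * (a * (y * b * y⁻¹ * b⁻¹) * a⁻¹) =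
            y * (a * b) * y⁻¹ * (a * b)⁻¹ := by group
          rwa [h2] at h1
        inv_mem' := by
          rintro a ⟨ha, ha', ha''⟩
          have e1 : a⁻¹ * x = x * a⁻¹ := by
            rw [inv_mul_eq_iff_eq_mul, ← mul_assoc, ha, mul_inv_cancel_right]
          have e2 : a⁻¹ * z = z * a⁻¹ := by
            rw [inv_mul_eq_iff_eq_mul, ← mul_assoc, ha', mul_inv_cancel_right]
          refine ⟨e1, e2, ?_⟩
          have h1 := hAn a⁻¹ e1 e2 _ (A.inv_mem ha'')
          have h2 : a⁻¹ * (y * a * y⁻¹ * a⁻¹)⁻¹ * a⁻¹⁻¹ = y * a⁻¹ * y⁻¹ * a⁻¹⁻¹ := by group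
          rwa [h2] at h1 }
    have hmemS : ∀ v, v ∈ S ↔ v * x = x * v ∧ v * z = z * v ∧ y * v * y⁻¹ * v⁻¹ ∈ A := fun v => Iff.rfl
    have hAx : ∀ a ∈ A, a * x = x * a := fun a ha => f.Kx a ((hmem a).1 ha).1
    have hAz : ∀ a ∈ A, a * z = z * a := fun a ha => ((hmem a).1 ha).2.1
    have hAS : A ≤ S := by
      intro a ha
      refine ⟨hAx a ha, hAz a ha, A.mul_mem (hAn y hyx hyz a ha) (A.inv_mem ha)⟩
    -- the key step
    have key : ∀ v, v * x = x * v → v * z = z * v → y * v * y⁻¹ * v⁻¹ ∈ S →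
        (∃ j : ℕ, (y * v * y⁻¹ * v⁻¹) ^ 2 ^ j ∈ A) → v ∈ S := by
      rintro v hvx hvz hm ⟨j, hj⟩
      refine ⟨hvx, hvz, ?_⟩
      let N : Subgroup G := centralizer ({x} : Set G) ⊓ centralizer ({z} : Set G)
      have hN : ∀ g, g ∈ N ↔ g * x = x * g ∧ g * z = z * g := fun g => by
        rw [mem_inf, mem_centralizer_singleton_iff, mem_centralizer_singleton_iff]
      have hAN : ∀ a ∈ A, a ∈ N := fun a ha => (hN a).2 ⟨hAx a ha, hAz a ha⟩
      have hnorm : (A.subgroupOf N).Normal := ⟨by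
        rintro ⟨a, haN⟩ ha ⟨g, hg⟩
        exact hAn g ((hN g).1 hg).1 ((hN g).1 hg).2 a ha⟩
      have hyN : y ∈ N := (hN y).2 ⟨hyx, hyz⟩
      have hvN : v ∈ N := (hN v).2 ⟨hvx, hvz⟩
      let Y : N := ⟨y, hyN⟩
      let V : N := ⟨v, hvN⟩
      let q : N →* N ⧸ A.subgroupOf N := QuotientGroup.mk' _
      have hq : ∀ g : N, q g = 1 ↔ (g : G) ∈ A := fun g => by
        change (QuotientGroup.mk g : N ⧸ A.subgroupOf N) = 1 ↔ _
        rw [QuotientGroup.eq_one_iff]
        exact Iff.rfl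
      have h1 : q (Y * V * Y⁻¹ * V⁻¹) = 1 := by
        refine comm_eq_one (y := q Y) (v := q V) (n := orderOf y) (j := j) ?_ hyo ?_ ?_ ?_
        · rw [← map_pow, show Y ^ orderOf y = 1 from Subtype.ext (pow_orderOf_eq_one y), map_one]
        · simp only [map_mul, map_inv]
        · have h2 : q (Y * (Y * V * Y⁻¹ * V⁻¹) * Y⁻¹ * (Y * V * Y⁻¹ * V⁻¹)⁻¹) = 1 := by
            rw [hq]
            exact ((hmemS _).1 hm).2.2
          rw [map_mul, map_mul, map_mul, map_inv, map_inv, mul_inv_eq_one, mul_inv_eq_iff_eq_mul] at h2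
          exact h2
        · rw [← map_pow, hq]
          exact hj
      rw [hq] at h1
      exact h1
    -- (0) `T` is normalised by `y`
    have hTy : ∀ t : K, t ∈ T → ∃ t' : K, t' ∈ T ∧ (t' : G) = y * t * y⁻¹ := by
      intro t ht
      refine ⟨⟨y * t * y⁻¹, f.Kn y hyx t t.2⟩, ?_, rfl⟩
      have hc : (⟨y * t * y⁻¹, f.Kn y hyx t t.2⟩ : K) * ⟨z, f.zK⟩ = ⟨z, f.zK⟩ * ⟨y * t * y⁻¹, f.Kn y hyx t t.2⟩ := by
        rw [hzc]
        change y * t * y⁻¹ * z = z * (y * t * y⁻¹)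
        have htz := (hzc t).1 (hT t ht)
        calc y * t * y⁻¹ * z = y * t * y⁻¹ * (z * y) * y⁻¹ := by group
          _ = y * t * y⁻¹ * (y * z) * y⁻¹ := by rw [hyz]
          _ = y * (t * z) * y⁻¹ := by group
          _ = (y * z) * t * y⁻¹ := by rw [htz]; group
          _ = z * (y * t * y⁻¹) := by rw [hyz]; group
      by_contra h1
      have h2 := (hout _ hc h1).1
      have h3 : y * t * y⁻¹ * (y * t * y⁻¹) = 1 := congrArg Subtype.val h2
      have h4 : (t : G) * t = 1 := by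
        have h5 : y * ((t : G) * t) * y⁻¹ = 1 := by rw [← h3]; group
        rw [mul_inv_eq_one] at h5
        exact mul_eq_left.1 h5
      apply h1
      rcases huniq t ht (Subtype.ext h4) with h5 | h5
      · have h6 : (⟨y * t * y⁻¹, f.Kn y hyx t t.2⟩ : K) = 1 := by
          apply Subtype.ext
          change y * t * y⁻¹ = 1
          rw [h5, Subgroup.coe_one, mul_one, mul_inv_cancel]
        rw [h6]; exact one_mem _
      · have h6 : (⟨y * t * y⁻¹, f.Kn y hyx t t.2⟩ : K) = ⟨z, f.zK⟩ := by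
          apply Subtype.ext
          change y * t * y⁻¹ = z
          rw [h5]
          change y * z * y⁻¹ = z
          rw [hyz, mul_inv_cancel_right]
        rw [h6]; exact hzT
    -- (i) the 2-elements of `T`
    have h2T : ∀ j : ℕ, ∀ t : K, t ∈ T → t ^ 2 ^ j = 1 → y * (t : G) * y⁻¹ = t := by
      intro j
      induction j with
      | zero =>
        intro t _ h
        rw [pow_zero, pow_one] at h
        rw [h, Subgroup.coe_one, mul_one, mul_inv_cancel]
      | succ j ih =>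
        intro t ht h
        obtain ⟨t', ht', htt'⟩ := hTy t ht
        have h1 : y * ((t ^ 2 : K) : G) * y⁻¹ = (t ^ 2 : K) := ih (t ^ 2) (T.pow_mem ht _) (by
          rw [← pow_mul, ← pow_succ', h])
        have h3 : t' * t' = t * t := by
          apply Subtype.ext
          change (t' : G) * t' = t * t
          rw [htt']
          rw [Subgroup.coe_pow, sq] at h1
          rw [← h1]; group
        -- `m = t' t⁻¹` has order at most two
        have h4 : t' * t⁻¹ * (t' * t⁻¹) = 1 := by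
          have hc := hcomm t⁻¹ (T.inv_mem ht) t' ht'
          rw [mul_assoc, ← mul_assoc t⁻¹, hc, mul_assoc, ← mul_assoc t', h3]
          group
        have h5 : y * (t' * t⁻¹ : K) = (t' * t⁻¹ : K) * y := by
          rcases huniq _ (T.mul_mem ht' (T.inv_mem ht)) h4 with h6 | h6
          · rw [h6, Subgroup.coe_one, mul_one, one_mul]
          · rw [h6]; exact hyz
        have h6 := comm_eq_one (y := y) (v := (t : G)) (m := ((t' * t⁻¹ : K) : G)) (n := orderOf y)
          (j := 1) (pow_orderOf_eq_one y) hyo (by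
            rw [Subgroup.coe_mul, htt', Subgroup.coe_inv]) h5 (by
            rw [pow_one, sq]; exact congrArg Subtype.val h4)
        rw [Subgroup.coe_mul, Subgroup.coe_inv, mul_inv_eq_one, htt'] at h6
        exact h6
    have hTS : ∀ t : K, t ∈ T → (t : G) ∈ S := by
      intro t ht
      obtain ⟨k, m, hm, hkm⟩ := Nat.exists_eq_two_pow_mul_odd (orderOf_pos t).ne'
      have hcop : IsCoprime ((2 ^ k : ℕ) : ℤ) (m : ℤ) := by
        rw [Nat.isCoprime_iff_coprime]
        exact Nat.Coprime.pow_left k (Nat.coprime_two_left.2 hm)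
      obtain ⟨a, b, hab⟩ := hcop
      have h1 : t = (t ^ 2 ^ k) ^ a * (t ^ m) ^ b := by
        rw [← zpow_natCast t (2 ^ k), ← zpow_natCast t m, ← zpow_mul, ← zpow_mul, ← zpow_add,
          mul_comm _ a, mul_comm _ b, hab, zpow_one]
      have h2 : (((t ^ 2 ^ k : K) : K) : G) ∈ S := by
        apply hAS
        refine ⟨t ^ 2 ^ k, (hA _).2 ⟨hT _ (T.pow_mem ht _), ?_⟩, rfl⟩
        rw [orderOf_pow, hkm, Nat.gcd_eq_right (Dvd.intro _ rfl),
          Nat.mul_div_cancel_left _ (by positivity)]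
        exact hm
      have h3 : (((t ^ m : K) : K) : G) ∈ S := by
        have h4 := h2T k (t ^ m) (T.pow_mem ht _) (by
          rw [← pow_mul, mul_comm, ← hkm, pow_orderOf_eq_one])
        refine ⟨f.Kx _ (t ^ m).2, (hzc _).1 (hT _ (T.pow_mem ht _)), ?_⟩
        rw [h4, mul_inv_cancel]
        exact one_mem _
      rw [h1, Subgroup.coe_mul, Subgroup.coe_zpow, Subgroup.coe_zpow]
      exact S.mul_mem (S.zpow_mem h2 a) (S.zpow_mem h3 b)
    -- (ii) `C_K(z)`
    have hCK : ∀ k ∈ K, k * z = z * k → k ∈ S := by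
      intro k hk hkz
      by_cases hkT : (⟨k, hk⟩ : K) ∈ T
      · exact hTS _ hkT
      have hk' : y * k * y⁻¹ ∈ K := f.Kn y hyx k hk
      have hkz' : (y * k * y⁻¹) * z = z * (y * k * y⁻¹) := by
        calc y * k * y⁻¹ * z = y * k * y⁻¹ * (z * y) * y⁻¹ := by group
          _ = y * k * y⁻¹ * (y * z) * y⁻¹ := by rw [hyz]
          _ = y * (k * z) * y⁻¹ := by group
          _ = (y * z) * k * y⁻¹ := by rw [hkz]; group
          _ = z * (y * k * y⁻¹) := by rw [hyz]; group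
      have hT' : (⟨y * k * y⁻¹, hk'⟩ : K) ∉ T := by
        intro h
        apply hkT
        -- a power of `y` is `y⁻¹`
        have hpow : ∀ n : ℕ, ∀ t : K, t ∈ T → ∃ t' : K, t' ∈ T ∧ (t' : G) = y ^ n * t * (y ^ n)⁻¹ := by
          intro n
          induction n with
          | zero => intro t ht; exact ⟨t, ht, by simp⟩
          | succ n ih =>
            intro t ht
            obtain ⟨t', ht', e⟩ := ih t ht
            obtain ⟨t'', ht'', e'⟩ := hTy t' ht'
            exact ⟨t'', ht'', by rw [e', e, pow_succ']; group⟩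
        obtain ⟨t', ht', e⟩ := hpow (orderOf y - 1) _ h
        have h1 : y ^ (orderOf y - 1) = y⁻¹ := by
          rw [eq_inv_iff_mul_eq_one, ← pow_succ, Nat.sub_add_cancel (orderOf_pos y),
            pow_orderOf_eq_one]
        rw [h1] at e
        have h2 : t' = ⟨k, hk⟩ := by
          apply Subtype.ext
          rw [e]
          change y⁻¹ * (y * k * y⁻¹) * y⁻¹⁻¹ = k
          group
        rwa [← h2]
      have hk1 : k * k = 1 := congrArg Subtype.val (hout ⟨k, hk⟩ ((hzc _).2 hkz) hkT).1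
      have hki : k⁻¹ = k := inv_eq_of_mul_eq_one_left hk1
      have h1 : (⟨y * k * y⁻¹, hk'⟩ : K) * ⟨k, hk⟩ ∈ T :=
        hprod _ _ ((hzc _).2 hkz') hT' ((hzc _).2 hkz) hkT
      have h2 : y * k * y⁻¹ * k⁻¹ ∈ S := by
        rw [hki]
        exact hTS _ h1
      refine key k (f.Kx k hk) hkz h2 ?_
      rw [hki]
      exact hTpow _ h1
    -- (iii) `Q`: `y` centralises `Q`
    have hQx : ∀ q ∈ zpowers q₀, q * x = x * q := by
      intro q hq
      obtain ⟨k, rfl⟩ := mem_zpowers_iff.1 hq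
      exact ((show Commute q₀ x from f.Qx).zpow_left k)
    have hQK : ∀ q ∈ zpowers q₀, ∀ k ∈ K, q * k = k * q := by
      intro q hq k hk
      obtain ⟨i, rfl⟩ := mem_zpowers_iff.1 hq
      exact ((show Commute q₀ k from f.QK k hk).zpow_left i)
    have hyQ : ∀ q ∈ zpowers q₀, y * q * y⁻¹ ∈ zpowers q₀ := by
      intro q hq
      refine f.CK _ ?_ ?_
      · have h1 : ∀ u, u * x = x * u ↔ u ∈ centralizer ({x} : Set G) := fun u =>
          mem_centralizer_singleton_iff.symm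
        have h2 := hQx q hq
        rw [h1] at hyx h2 ⊢
        exact mul_mem (mul_mem hyx h2) (inv_mem hyx)
      · intro k hk
        have hyx' : y⁻¹ * x = x * y⁻¹ := by
          rw [inv_mul_eq_iff_eq_mul, ← mul_assoc, hyx, mul_inv_cancel_right]
        have h1 : y⁻¹ * k * y ∈ K := by
          have := f.Kn y⁻¹ hyx' k hk
          rwa [inv_inv] at this
        calc y * q * y⁻¹ * k = y * (q * (y⁻¹ * k * y)) * y⁻¹ := by group
          _ = y * ((y⁻¹ * k * y) * q) * y⁻¹ := by rw [hQK q hq _ h1]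
          _ = k * (y * q * y⁻¹) := by group
    have h2Q : ∀ j : ℕ, ∀ q ∈ zpowers q₀, q ^ 2 ^ j = 1 → y * q * y⁻¹ = q := by
      intro j
      induction j with
      | zero =>
        intro t _ h
        rw [pow_zero, pow_one] at h
        rw [h, mul_one, mul_inv_cancel]
      | succ j ih =>
        intro t ht h
        have h1 := ih (t ^ 2) (pow_mem ht 2) (by rw [← pow_mul, ← pow_succ', h])
        obtain ⟨t', ht'⟩ : ∃ t', t' = y * t * y⁻¹ := ⟨_, rfl⟩
        have ht'Q : t' ∈ zpowers q₀ := by rw [ht']; exact hyQ t ht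
        have hc : t⁻¹ * t' = t' * t⁻¹ := by
          obtain ⟨a, ha⟩ := mem_zpowers_iff.1 ((zpowers q₀).inv_mem ht)
          obtain ⟨b, hb⟩ := mem_zpowers_iff.1 ht'Q
          rw [← ha, ← hb, ← zpow_add, ← zpow_add, add_comm]
        have h3 : t' * t' = t * t := by
          rw [ht']
          rw [sq] at h1
          rw [← h1]; group
        have h4 : t' * t⁻¹ * (t' * t⁻¹) = 1 := by
          rw [mul_assoc, ← mul_assoc t⁻¹, hc, mul_assoc, ← mul_assoc t', h3]
          group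
        have h5 : y * (t' * t⁻¹) = (t' * t⁻¹) * y := by
          rcases f.Qi _ (mul_mem ht'Q (inv_mem ht)) h4 with h6 | h6
          · rw [h6, mul_one, one_mul]
          · rw [h6]; exact hyx
        have h6 := comm_eq_one (y := y) (v := t) (m := t' * t⁻¹) (n := orderOf y)
          (j := 1) (pow_orderOf_eq_one y) hyo (by rw [ht']) h5 (by rw [pow_one, sq, h4])
        rw [ht', mul_inv_eq_one] at h6
        exact h6
    obtain ⟨nQ, hnQ⟩ := f.Q2
    have hQpow : ∀ q ∈ zpowers q₀, q ^ 2 ^ nQ = 1 := by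
      intro q hq
      obtain ⟨k, rfl⟩ := mem_zpowers_iff.1 hq
      rw [← zpow_natCast, ← zpow_mul, mul_comm, zpow_mul, zpow_natCast, hnQ, one_zpow]
    have hQS : ∀ q ∈ zpowers q₀, q ∈ S := by
      intro q hq
      refine ⟨hQx q hq, hQK q hq z f.zK, ?_⟩
      rw [h2Q nQ q hq (hQpow q hq), mul_inv_cancel]
      exact one_mem _
    -- elements acting on `K` as an inner automorphism
    have hinn : ∀ v (hvx : v * x = x * v), v * z = z * v → act K v (f.norm hvx) ∈ L2Aut.Inn K →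
        v ∈ S ∧ ∃ j : ℕ, v ^ 2 ^ j ∈ A := by
      rintro v hvx hvz ⟨k, hk⟩
      have hk1 : ∀ l : K, (k : G) * l * (k : G)⁻¹ = v * l * v⁻¹ := fun l => by
        have h1 : act K v (f.norm hvx) l = k * l * k⁻¹ := by rw [← hk]; rfl
        exact (congrArg Subtype.val h1).symm
      have hkz : (k : G) * z = z * k := by
        have h1 := hk1 ⟨z, f.zK⟩
        change (k : G) * z * (k : G)⁻¹ = v * z * v⁻¹ at h1
        rw [hvz, mul_inv_cancel_right] at h1
        exact mul_inv_eq_iff_eq_mul.1 h1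
      have hkx := f.Kx k k.2
      have h2 : (k : G)⁻¹ * v ∈ zpowers q₀ := by
        refine f.CK _ ?_ ?_
        · calc (k : G)⁻¹ * v * x = (k : G)⁻¹ * (x * v) := by rw [mul_assoc, hvx]
            _ = (k : G)⁻¹ * (x * k) * (k : G)⁻¹ * v := by group
            _ = (k : G)⁻¹ * (k * x) * (k : G)⁻¹ * v := by rw [hkx]
            _ = x * ((k : G)⁻¹ * v) := by group
        · intro l hl
          have h3 := hk1 ⟨l, hl⟩
          change (k : G) * l * (k : G)⁻¹ = v * l * v⁻¹ at h3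
          calc (k : G)⁻¹ * v * l = (k : G)⁻¹ * (v * l * v⁻¹) * v := by group
            _ = (k : G)⁻¹ * (k * l * (k : G)⁻¹) * v := by rw [h3]
            _ = l * ((k : G)⁻¹ * v) := by group
      obtain ⟨j, hj⟩ := hCKpow k k.2 hkz
      obtain ⟨q, hq⟩ : ∃ q, q = (k : G)⁻¹ * v := ⟨_, rfl⟩
      rw [← hq] at h2
      have h3 : v = k * q := by rw [hq, mul_inv_cancel_left]
      rw [h3]
      refine ⟨S.mul_mem (hCK k k.2 hkz) (hQS q h2), j + nQ, ?_⟩
      rw [(show Commute (k : G) q from (hQK q h2 k k.2).symm).mul_pow]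
      have h4 : q ^ 2 ^ (j + nQ) = 1 := by
        rw [pow_add, mul_comm, pow_mul, hQpow q h2, one_pow]
      rw [h4, mul_one, pow_add, pow_mul]
      exact A.pow_mem hj _
    have hactc : ∀ v w (hvx : v * x = x * v) (hwx : w * x = x * w)
        (hm : (v * w * v⁻¹ * w⁻¹) * x = x * (v * w * v⁻¹ * w⁻¹)),
        act K (v * w * v⁻¹ * w⁻¹) (f.norm hm) = act K v (f.norm hvx) * act K w (f.norm hwx) *
          (act K v (f.norm hvx))⁻¹ * (act K w (f.norm hwx))⁻¹ := by
      intro v w hvx hwx hm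
      have hinv : ∀ u (hu : u * x = x * u), (act K u (f.norm hu))⁻¹ =
          act K u⁻¹ ((normalizer (K : Set G)).inv_mem (f.norm hu)) := by
        intro u hu
        rw [inv_eq_iff_mul_eq_one, act_mul, act_one_iff]
        intro l _
        rw [mul_inv_cancel, one_mul, mul_one]
      rw [hinv v hvx, hinv w hwx, act_mul, act_mul, act_mul]
    have hcx : ∀ v, v * x = x * v → (y * v * y⁻¹ * v⁻¹) * x = x * (y * v * y⁻¹ * v⁻¹) := by
      intro v hvx
      have h1 : ∀ u, u * x = x * u ↔ u ∈ centralizer ({x} : Set G) := fun u =>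
        mem_centralizer_singleton_iff.symm
      rw [h1] at hvx hyx ⊢
      exact mul_mem (mul_mem (mul_mem hyx hvx) (inv_mem hyx)) (inv_mem hvx)
    have hcz : ∀ v, v * z = z * v → (y * v * y⁻¹ * v⁻¹) * z = z * (y * v * y⁻¹ * v⁻¹) := by
      intro v hvz
      have h1 : ∀ u, u * z = z * u ↔ u ∈ centralizer ({z} : Set G) := fun u =>
        mem_centralizer_singleton_iff.symm
      rw [h1] at hvz hyz ⊢
      exact mul_mem (mul_mem (mul_mem hyz hvz) (inv_mem hyz)) (inv_mem hvz)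
    -- (iv) elements acting on `K` as elements of `PGL`
    have hpgl : ∀ v (hvx : v * x = x * v), v * z = z * v → act K v (f.norm hvx) ∈ R.PGL → v ∈ S := by
      intro v hvx hvz hv
      have h1 : act K (y * v * y⁻¹ * v⁻¹) (f.norm (hcx v hvx)) ∈ L2Aut.Inn K := by
        rw [hactc y v hyx hvx (hcx v hvx)]
        set α := act K y (f.norm hyx)
        set β := act K v (f.norm hvx)
        by_cases hβ : β ∈ L2Aut.Inn K
        · have h2 : α * β * α⁻¹ ∈ L2Aut.Inn K := by
            obtain ⟨l, hl⟩ := hβ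
            rw [← hl, L2Aut.conj_conj]
            exact ⟨_, rfl⟩
          exact mul_mem h2 (inv_mem hβ)
        · refine R.mul_mem_inn ((inferInstance : R.PGL.Normal).conj_mem _ hv α) ?_ (inv_mem hv) (fun h => hβ (inv_mem_iff.1 h))
          intro h
          apply hβ
          obtain ⟨l, hl⟩ := h
          have h2 : β = α⁻¹ * MulAut.conj l * α⁻¹⁻¹ := by
            rw [show MulAut.conj l = α * β * α⁻¹ from hl]; group
          rw [h2, L2Aut.conj_conj]
          exact ⟨_, rfl⟩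
      obtain ⟨h2, j, hj⟩ := hinn _ (hcx v hvx) (hcz v hvz) h1
      exact key v hvx hvz h2 ⟨j, hj⟩
    -- (v) the general case
    have h1 : act K (y * w * y⁻¹ * w⁻¹) (f.norm (hcx w hwx)) ∈ R.PGL := by
      rw [hactc y w hyx hwx (hcx w hwx), R.mem_PGL_iff_fld, map_mul, map_mul, map_mul, map_inv, map_inv,
        Cfsg.Agent.Lib.AutSL2Out.ringEquiv_comm (R.fld (act K y (f.norm hyx))), mul_inv_cancel_right,
        mul_inv_cancel]
    have h2 := hpgl _ (hcx w hwx) (hcz w hwz) h1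
    have h3 : ∃ j : ℕ, (y * w * y⁻¹ * w⁻¹) ^ 2 ^ j ∈ A := by
      obtain ⟨m, hm⟩ : ∃ m, m = y * w * y⁻¹ * w⁻¹ := ⟨_, rfl⟩
      have hmx : m * x = x * m := by rw [hm]; exact hcx w hwx
      have hmz : m * z = z * m := by rw [hm]; exact hcz w hwz
      have h4 : act K m (f.norm hmx) ∈ R.PGL := by
        rw [act_congr (f.norm hmx) (f.norm (hcx w hwx)) hm]; exact h1
      have hm2x : m * m * x = x * (m * m) := by rw [mul_assoc, hmx, ← mul_assoc, hmx, mul_assoc]
      have hm2z : m * m * z = z * (m * m) := by rw [mul_assoc, hmz, ← mul_assoc, hmz, mul_assoc]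
      have h5 : act K (m * m) (f.norm hm2x) ∈ L2Aut.Inn K := by
        have h6 : act K (m * m) (f.norm hm2x) = act K m (f.norm hmx) * act K m (f.norm hmx) :=
          (act_mul _ _).symm
        rw [h6]
        by_cases hi : act K m (f.norm hmx) ∈ L2Aut.Inn K
        · exact mul_mem hi hi
        · exact R.mul_mem_inn h4 hi h4 hi
      obtain ⟨-, j, hj⟩ := hinn _ hm2x hm2z h5
      refine ⟨j + 1, ?_⟩
      rw [← hm, pow_succ', pow_mul, sq]
      exact hj
    exact (key w hwx hwz h2 h3).2.2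

end FrQ

namespace Fr

variable {G : Type*} [Group G] [Finite G] {x z : G} {K : Subgroup G} (f : Fr x z K)

include f

theorem norm {c : G} (hc : c * x = x * c) : c ∈ normalizer (K : Set G) := mem_norm_of (f.Kn c hc)

omit [Finite G] in
theorem zx : z * x = x * z := f.Kx z f.zK

theorem exists_A {F : Type*} [Field F] [Finite F] (R : L2Aut.Rep F K) :
    ∃ (A : Subgroup G), (∀ a, a ∈ A ↔ a ∈ K ∧ a * z = z * a ∧ Odd (orderOf a)) ∧
      (∃ g ∈ A, ∀ a ∈ A, a ∈ zpowers g) ∧ Odd (Nat.card A) ∧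
      (∃ v ∈ K, v * z = z * v ∧ v * v = 1 ∧ v ≠ z ∧ v ≠ 1 ∧ ∀ a ∈ A, v * a * v⁻¹ = a⁻¹) ∧
      (∀ y v, y * x = x * y → v * x = x * v → y * z = z * y → v * z = z * v → Odd (orderOf y) →
        y * v * y⁻¹ * v⁻¹ ∈ A) := f.toQ.exists_A R

end Fr

end Cfsg.Agent.OddHalf.D6

end

-- merged: Cfsg.Agent.OddHalf.D6.BalSwap
section

/-!
# ODD D6: the end of C1 and of the case `|Q| ≥ 4` (helper419)

`H` finite, `O(H) = 1`, all components of `H` are `≅ PSL(2,F)` (`F` of odd characteristic), `B : Bal x A`,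
`T` a Sylow 2-subgroup of `C_H(x)`; every involution of `Z(T)` acts on `H` as `1` or as `x`.

* `exists_unique`: `A ≠ 1` is contained in a component `L` on which `x` acts as an involution `w ∈ L ∩ Z(T)`;
* `false_of_swap`: if some `s ∈ H` maps `x` to `x c`, `1 ≠ c ∈ Z(H)`, then `A = 1`.
-/

set_option autoImplicit false

open Subgroup Cfsg Cfsg.Agent.GH
open Cfsg.Agent.GH.L2Aut (Four)

namespace Cfsg.Agent.OddHalf.D6.Bal

variable {H : Type*} [Group H] [Finite H] {x : H} {A : Subgroup H} (B : Bal x A)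

include B

/-- `A` is contained in one component, which is of type (a) -/
theorem exists_unique (hO : oddCore H = ⊥) (hW : ∀ L : Subgroup H, IsComponent L → IsL2 L)
    (hA : A ≠ ⊥) {T : Subgroup H} (pT : IsPGroup 2 T) (hTx : ∀ t ∈ T, t * x = x * t)
    (max : ∀ P : Subgroup H, IsPGroup 2 P → T ≤ P → (∀ y ∈ P, y * x = x * y) → P ≤ T)
    (hZ : ∀ v ∈ T, v * v = 1 → v ≠ 1 → (∀ t ∈ T, t * v = v * t) →
      (∀ h, h * v = v * h) ∨ ∃ c, (∀ h, h * c = c * h) ∧ v = x * c) :
    ∃ L : Subgroup H, IsComponent L ∧ IsL2 L ∧ A ≤ L ∧ ∃ w ∈ L, w ∈ T ∧ w ≠ 1 ∧ w * w = 1 ∧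
      (∀ l ∈ L, x * l * x⁻¹ = w * l * w⁻¹) ∧ (∀ h, h * x = x * h → h * w = w * h) ∧
      ∃ c, (∀ h, h * c = c * h) ∧ w = x * c := by
  -- every component meeting `A`
  have key : ∀ L : Subgroup H, IsComponent L → (∃ a ∈ A, a ∈ L ∧ a ≠ 1) →
      ∃ w ∈ L, w ∈ T ∧ w ≠ 1 ∧ w * w = 1 ∧
      (∀ l ∈ L, x * l * x⁻¹ = w * l * w⁻¹) ∧ (∀ h, h * x = x * h → h * w = w * h) ∧
      ∃ c, (∀ h, h * c = c * h) ∧ w = x * c := by
    rintro L hL ⟨a, ha, haL, ha1⟩
    obtain ⟨F, _, _, ⟨R⟩⟩ := hW L hL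
    have hx := B.x_norm R hL
    rcases B.types R hx with ⟨w, hw, hw1, hww, hxw⟩ | ⟨-, hb⟩
    · have hc : ∀ h, h * x = x * h → h * w = w * h := fun h hh =>
        B.inner_central R hL ha haL ha1 hw hxw hh
      obtain ⟨hwT, -⟩ := B.inner_sylow R hL ha haL ha1 hw hw1 hww hxw pT hTx max
      refine ⟨w, hw, hwT, hw1, hww, hxw, hc, ?_⟩
      rcases hZ w hwT hww hw1 (fun t ht => hc t (hTx t ht)) with h | h
      · exact absurd (eq_one_of_central R hw fun m _ => (h m).symm) hw1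
      · exact h
    · exfalso
      obtain ⟨v, hvT, hvL, hvv, hv1, hvc, -, hinv⟩ := B.outer_sylow R hL hx hb ha haL ha1 pT hTx max
      have h1 := hinv a ha haL
      have h2 : v * a * v⁻¹ = a := by
        rw [mul_inv_eq_iff_eq_mul]
        rcases hZ v hvT hvv hv1 hvc with h | ⟨c, hc, rfl⟩
        · exact (h a).symm
        · rw [mul_assoc, ← hc a, ← mul_assoc, ← B.ax a ha, mul_assoc]
      rw [h2] at h1
      apply ha1
      apply B.one_of_sq ha
      nth_rw 1 [h1]
      rw [inv_mul_cancel]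
  obtain ⟨L, hL, hLA⟩ := B.exists_comp hO hW hA
  obtain ⟨w, hw, hwT, hw1, hww, hxw, hc, hwc⟩ := key L hL hLA
  refine ⟨L, hL, hW L hL, ?_, w, hw, hwT, hw1, hww, hxw, hc, hwc⟩
  apply B.le_of_unique hO hW hL
  intro M hM hMA
  by_contra hne
  obtain ⟨w', hw', -, hw1', hww', hxw', -, c, hcc, hwc'⟩ := key M hM hMA
  -- `w' ∈ M` centralises `L`, acts as `x`
  obtain ⟨F, _, _, ⟨R⟩⟩ := hW L hL
  apply hw1
  apply eq_one_of_central R hw
  intro m hm
  have h1 : w' * m = m * w' := SignalizersComponents.OddFixed.commute_of_ne hM hL hne hw' hm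
  have h2 : x * m = m * x := by
    have h3 : x * c * m = m * (x * c) := by rw [← hwc']; exact h1
    have h4 : x * m * c = m * x * c := by
      calc x * m * c = x * (m * c) := by group
        _ = x * (c * m) := by rw [hcc m]
        _ = m * (x * c) := by rw [← mul_assoc, h3]
        _ = m * x * c := by group
    exact mul_right_cancel h4
  have h3 := hxw m hm
  rw [h2, mul_inv_cancel_right] at h3
  rw [eq_mul_inv_iff_mul_eq] at h3
  exact h3.symm

/-- **No swap.** -/
theorem false_of_swap (hO : oddCore H = ⊥) (hW : ∀ L : Subgroup H, IsComponent L → IsL2 L)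
    (hA : A ≠ ⊥) {T : Subgroup H} (pT : IsPGroup 2 T) (hTx : ∀ t ∈ T, t * x = x * t)
    (max : ∀ P : Subgroup H, IsPGroup 2 P → T ≤ P → (∀ y ∈ P, y * x = x * y) → P ≤ T)
    (hZ : ∀ v ∈ T, v * v = 1 → v ≠ 1 → (∀ t ∈ T, t * v = v * t) →
      (∀ h, h * v = v * h) ∨ ∃ c, (∀ h, h * c = c * h) ∧ v = x * c)
    {s z : H} (hz : ∀ h, h * z = z * h) (hz1 : z ≠ 1) (hs : s * x * s⁻¹ = x * z) : False := by
  obtain ⟨L, hL, ⟨F, _, _, ⟨R⟩⟩, hAL, w, hw, -, hw1, hww, hxw, -, c, hc, hwc⟩ :=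
    B.exists_unique hO hW hA pT hTx max hZ
  obtain ⟨a, ha, ha1⟩ := A.bot_or_exists_ne_one.resolve_left hA
  have hn := B.swap_comp R hL hAL ha ha1 hz hs
  have hsn := mem_norm_of hn
  have hn' : ∀ l ∈ L, s⁻¹ * l * s ∈ L := by
    intro l hl
    have := (mem_normalizer_iff.1 (inv_mem hsn) l).1 hl
    rwa [inv_inv] at this
  have h1 := Bal.swap_inner R hz hs hn hn' hw hxw
  rw [hwc] at h1
  have h2 : s * (x * c) * s⁻¹ = x * z * c := by
    calc s * (x * c) * s⁻¹ = s * x * (c * s⁻¹) := by group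
      _ = s * x * (s⁻¹ * c) := by rw [← hc]
      _ = s * x * s⁻¹ * c := by group
      _ = x * z * c := by rw [hs]
  rw [h2, mul_assoc] at h1
  exact hz1 (mul_eq_right.1 (mul_left_cancel h1))

end Cfsg.Agent.OddHalf.D6.Bal

end

-- merged: Cfsg.Agent.OddHalf.D6.SwapG
section

/-!
# ODD D6: `Bal` in `C_G(u)`, and the swap theorem at the level of `G` (helper419)

`BalG x u A`: `x, u` commuting, `A` cyclic of odd order centralised by `x` and `u`, with the properties of `Bal`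
for `C(x) ∩ C(u)`. Used with `u = z` (case C1) and `u = xz` (`|Q| ≥ 4`).
-/

set_option autoImplicit false

open Subgroup Cfsg Cfsg.Agent.GH

namespace Cfsg.Agent.OddHalf.D6

variable {G : Type*} [Group G]

/-- The hypotheses at the level of `G`. -/
structure BalG (x u : G) (A : Subgroup G) : Prop where
  xx : x * x = 1
  xu : x * u = u * x
  odd : Odd (Nat.card A)
  cyc : ∃ g ∈ A, ∀ a ∈ A, a ∈ zpowers g
  ax : ∀ a ∈ A, a * x = x * a
  au : ∀ a ∈ A, a * u = u * a
  inv : ∃ v, v * x = x * v ∧ v * u = u * v ∧ ∀ a ∈ A, v * a * v⁻¹ = a⁻¹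
  res : ∀ y v, y * x = x * y → y * u = u * y → v * x = x * v → v * u = u * v → Odd (orderOf y) →
    y * v * y⁻¹ * v⁻¹ ∈ A

namespace BalG

variable {x u : G} {A : Subgroup G}

theorem x_mem (B : BalG x u A) : x ∈ centralizer ({u} : Set G) :=
  mem_centralizer_singleton_iff.2 B.xu

/-- the element `x` of `C(u)` -/
def x' (B : BalG x u A) : centralizer ({u} : Set G) := ⟨x, B.x_mem⟩

theorem A_le (B : BalG x u A) : A ≤ centralizer ({u} : Set G) :=
  fun a ha => mem_centralizer_singleton_iff.2 (B.au a ha)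

theorem bal (B : BalG x u A) : Bal B.x' (A.subgroupOf (centralizer ({u} : Set G))) where
  xx := Subtype.ext B.xx
  odd := by
    rw [Nat.card_congr (subgroupOfEquivOfLe B.A_le).toEquiv]
    exact B.odd
  cyc := by
    obtain ⟨g, hg, h⟩ := B.cyc
    refine ⟨⟨g, B.A_le hg⟩, by rw [mem_subgroupOf]; exact hg, fun a ha => ?_⟩
    obtain ⟨k, hk⟩ := mem_zpowers_iff.1 (h a (mem_subgroupOf.1 ha))
    exact mem_zpowers_iff.2 ⟨k, Subtype.ext hk⟩
  ax := fun a ha => Subtype.ext (B.ax a (mem_subgroupOf.1 ha))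
  inv := by
    obtain ⟨v, h1, h2, h3⟩ := B.inv
    exact ⟨⟨v, mem_centralizer_singleton_iff.2 h2⟩, Subtype.ext h1,
      fun a ha => Subtype.ext (h3 a (mem_subgroupOf.1 ha))⟩
  res := by
    intro y v hy hv ho
    rw [mem_subgroupOf]
    refine B.res y v (congrArg Subtype.val hy) (mem_centralizer_singleton_iff.1 y.2)
      (congrArg Subtype.val hv) (mem_centralizer_singleton_iff.1 v.2) ?_
    rwa [orderOf_coe]

/-- a Sylow subgroup of `C(x) ∩ C(u)` in `C(u)` -/
theorem max' (B : BalG x u A) {T : Subgroup G} (hTu : ∀ t ∈ T, t * u = u * t)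
    (max : ∀ P : Subgroup G, IsPGroup 2 P → T ≤ P → (∀ y ∈ P, y * x = x * y) →
      (∀ y ∈ P, y * u = u * y) → P ≤ T) :
    ∀ P : Subgroup (centralizer ({u} : Set G)), IsPGroup 2 P →
      T.subgroupOf (centralizer ({u} : Set G)) ≤ P → (∀ y ∈ P, y * B.x' = B.x' * y) →
      P ≤ T.subgroupOf (centralizer ({u} : Set G)) := by
  intro P hP hle hPx p hp
  have h := max (P.map (Subgroup.subtype _)) (hP.map _) (by
      intro t ht
      have htu : t ∈ centralizer ({u} : Set G) := mem_centralizer_singleton_iff.2 (hTu t ht)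
      exact ⟨⟨t, htu⟩, hle (by rw [mem_subgroupOf]; exact ht), rfl⟩)
    (by rintro _ ⟨y, hy, rfl⟩; exact congrArg Subtype.val (hPx y hy))
    (by rintro _ ⟨y, -, rfl⟩; exact mem_centralizer_singleton_iff.1 y.2)
  rw [mem_subgroupOf]
  exact h ⟨p, hp, rfl⟩

/-- **The swap theorem.** `T` a Sylow 2-subgroup of `C(x) ∩ C(u)` with no involutions in its centre except
`x, u, xu`; `s ∈ C(u)` with `x ^ s = xu`. -/
theorem false_of_swap [Finite G] (B : BalG x u A) (hu1 : u ≠ 1) (hO : oddCore ↥(centralizer ({u} : Set G)) = ⊥)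
    (hW : ∀ L : Subgroup ↥(centralizer ({u} : Set G)), IsComponent L → IsL2 L)
    (hA : A ≠ ⊥) {T : Subgroup G} (pT : IsPGroup 2 T) (hTx : ∀ t ∈ T, t * x = x * t)
    (hTu : ∀ t ∈ T, t * u = u * t)
    (max : ∀ P : Subgroup G, IsPGroup 2 P → T ≤ P → (∀ y ∈ P, y * x = x * y) →
      (∀ y ∈ P, y * u = u * y) → P ≤ T)
    (hZ : ∀ v ∈ T, v * v = 1 → v ≠ 1 → (∀ t ∈ T, t * v = v * t) → v = x ∨ v = u ∨ v = x * u)
    {s : G} (hsu : s * u = u * s) (hs : s * x * s⁻¹ = x * u) : False := by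
  have huu : u ∈ centralizer ({u} : Set G) := mem_centralizer_singleton_iff.2 rfl
  have hcen : ∀ h : centralizer ({u} : Set G), h * ⟨u, huu⟩ = ⟨u, huu⟩ * h := fun h =>
    Subtype.ext (mem_centralizer_singleton_iff.1 h.2)
  refine B.bal.false_of_swap hO hW ?_ (T := T.subgroupOf (centralizer ({u} : Set G)))
    (pT.comap_of_injective _ (Subgroup.subtype_injective _)) ?_ (B.max' hTu max) ?_
    (s := ⟨s, mem_centralizer_singleton_iff.2 hsu⟩) (z := ⟨u, huu⟩) hcen
    (fun h => hu1 (congrArg Subtype.val h)) (Subtype.ext hs)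
  · intro h
    apply hA
    rw [subgroupOf_eq_bot] at h
    exact disjoint_self.1 (h.mono_right B.A_le)
  · intro t ht
    exact Subtype.ext (hTx t (mem_subgroupOf.1 ht))
  · intro v hv hvv hv1 hvc
    rcases hZ v (mem_subgroupOf.1 hv) (congrArg Subtype.val hvv) (fun h => hv1 (Subtype.ext h))
      (fun t ht => congrArg Subtype.val (hvc ⟨t, mem_centralizer_singleton_iff.2 (hTu t ht)⟩
        (by rw [mem_subgroupOf]; exact ht))) with h | h | h
    · right
      exact ⟨1, fun h => by rw [mul_one, one_mul], Subtype.ext (by rw [h]; exact (mul_one x).symm)⟩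
    · left
      intro g
      have : v = ⟨u, huu⟩ := Subtype.ext h
      rw [this]; exact hcen g
    · right
      exact ⟨⟨u, huu⟩, hcen, Subtype.ext h⟩

end BalG

end Cfsg.Agent.OddHalf.D6

end

-- merged: Cfsg.Agent.OddHalf.D6.TypeB
section

/-!
# ODD D6: the components of `C(z)` meeting `A_i = [A, f]` are of type (b) (helper419)

* `Bal.exists_inverted`: some component contains `b ∈ A`, `b ≠ 1`, inverted by `f`;
* `not_inner`: with `TypeA.Base`, `BalG x z A` and `f`: `x` acts on such a component outside `Inn`;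
* `exists_typeB`: both.
-/

set_option autoImplicit false

open Subgroup Cfsg Cfsg.Agent.GH

namespace Cfsg.Agent.OddHalf.D6

/-- transport of a representation -/
def repCongr {F L L' : Type*} [Field F] [Group L] [Group L'] (R : L2Aut.Rep F L) (e : L ≃* L') :
    L2Aut.Rep F L' where
  π := e.toMonoidHom.comp R.π
  surj := e.surjective.comp R.surj
  ker := fun x => by
    rw [← R.ker]
    change e (R.π x) = 1 ↔ _
    rw [map_eq_one_iff e e.injective]
  two := R.two

theorem IsL2.congr {L L' : Type*} [Group L] [Group L'] (h : IsL2 L) (e : L ≃* L') : IsL2 L' := by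
  obtain ⟨F, i1, i2, ⟨R⟩⟩ := h
  exact ⟨F, i1, i2, ⟨repCongr R e⟩⟩

namespace Bal

variable {H : Type*} [Group H] [Finite H] {x : H} {A : Subgroup H} (B : Bal x A)

include B

end Bal

variable {G : Type*} [Group G]

end Cfsg.Agent.OddHalf.D6

end

-- merged: Cfsg.Agent.OddHalf.D6.BalG
section

/-!
# ODD D6: the components of `C(z)` and of `C(xz)` meeting `A₀ = O(C_K(z))`, at the level of `G`

`f : FrQ x z q₀ K` (`Fr.toQ` for `Q = ⟨x⟩`), `A0 z K`, `z'` with `C(x) ∩ C(z') = C(x) ∩ C(z)` (`z' = z` or `z' = x z`).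
-/

set_option autoImplicit false

open Subgroup Cfsg Cfsg.Agent.GH
open Cfsg.Agent.GH.L2Aut (Four)

namespace Cfsg.Agent.OddHalf.D6

/-- `O(C_K(z))` -/
def A0 {G : Type*} [Group G] (z : G) (K : Subgroup G) : Subgroup G :=
  closure {a | a ∈ K ∧ a * z = z * a ∧ Odd (orderOf a)}

/-- `L` is a component of `C(z)` -/
def Comp {G : Type*} [Group G] (z : G) (L : Subgroup G) : Prop :=
  ∃ L' : Subgroup ↥(centralizer ({z} : Set G)), IsComponent L' ∧
    L'.map (centralizer ({z} : Set G)).subtype = L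

/-- all components of `C(z)` are `PSL(2,F)`'s of odd characteristic, and `O(C(z)) = 1` -/
structure World {G : Type*} [Group G] (z : G) : Prop where
  core : oddCore ↥(centralizer ({z} : Set G)) = ⊥
  comp : ∀ L : Subgroup G, Comp z L → IsL2 L

theorem mem_cent {G : Type*} [Group G] {z g : G} :
    g ∈ centralizer ({z} : Set G) ↔ g * z = z * g := mem_centralizer_singleton_iff

theorem Comp.comm {G : Type*} [Group G] {z : G} {L : Subgroup G} (h : Comp z L) :
    ∀ l ∈ L, l * z = z * l := by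
  obtain ⟨L', -, rfl⟩ := h
  rintro _ ⟨l, -, rfl⟩
  exact mem_cent.1 l.2

theorem World.comp' {G : Type*} [Group G] {z : G} (W : World z) :
    ∀ L : Subgroup ↥(centralizer ({z} : Set G)), IsComponent L → IsL2 L := by
  intro L hL
  exact (W.comp _ ⟨L, hL, rfl⟩).congr
    (L.equivMapOfInjective _ (centralizer ({z} : Set G)).subtype_injective).symm

namespace FrQ

variable {G : Type*} [Group G] [Finite G] {x z q₀ : G} {K : Subgroup G} (f : FrQ x z q₀ K)
  {F : Type*} [Field F] [Finite F] (R : L2Aut.Rep F K)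

include f R

theorem A0_data : (∀ a, a ∈ A0 z K ↔ a ∈ K ∧ a * z = z * a ∧ Odd (orderOf a)) ∧
      (∃ g ∈ A0 z K, ∀ a ∈ A0 z K, a ∈ zpowers g) ∧ Odd (Nat.card (A0 z K)) ∧
      (∃ v ∈ K, v * z = z * v ∧ v * v = 1 ∧ v ≠ z ∧ v ≠ 1 ∧ ∀ a ∈ A0 z K, v * a * v⁻¹ = a⁻¹) ∧
      (∀ y v, y * x = x * y → v * x = x * v → y * z = z * y → v * z = z * v → Odd (orderOf y) →
        y * v * y⁻¹ * v⁻¹ ∈ A0 z K) := by
  obtain ⟨A, hA, h⟩ := f.exists_A R
  have h1 : A0 z K = A := by
    apply le_antisymm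
    · rw [A0, closure_le]
      intro a ha
      exact (hA a).2 ha
    · intro a ha
      exact subset_closure ((hA a).1 ha)
  rw [h1]
  exact ⟨hA, h⟩

theorem mem_A0 {a : G} : a ∈ A0 z K ↔ a ∈ K ∧ a * z = z * a ∧ Odd (orderOf a) := (f.A0_data R).1 a

theorem A0_norm {a c : G} (ha : a ∈ A0 z K) (hcx : c * x = x * c) (hcz : c * z = z * c) :
    c * a * c⁻¹ ∈ A0 z K := by
  obtain ⟨h1, h2, h3⟩ := (f.mem_A0 R).1 ha
  refine (f.mem_A0 R).2 ⟨f.Kn c hcx a h1, ?_, ?_⟩
  · calc c * a * c⁻¹ * z = c * a * c⁻¹ * (z * c) * c⁻¹ := by group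
      _ = c * a * c⁻¹ * (c * z) * c⁻¹ := by rw [hcz]
      _ = c * (a * z) * c⁻¹ := by group
      _ = (c * z) * a * c⁻¹ := by rw [h2]; group
      _ = z * (c * a * c⁻¹) := by rw [hcz]; group
  · have h4 : orderOf (c * a * c⁻¹) = orderOf a :=
      orderOf_injective (MulAut.conj c).toMonoidHom (MulAut.conj c).injective a
    rw [h4]; exact h3

/-- involutions of `C_K(z)` other than `z` invert `A₀` -/
theorem inv_A0 {v : G} (hv : v ∈ K) (hvz : v * z = z * v) (hvv : v * v = 1) (hv1 : v ≠ 1)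
    (hvne : v ≠ z) : ∀ a ∈ A0 z K, v * a * v⁻¹ = a⁻¹ := by
  have hz1' : (⟨z, f.zK⟩ : K) ≠ 1 := fun h => f.z1 (congrArg Subtype.val h)
  have hzz' : (⟨z, f.zK⟩ : K) * ⟨z, f.zK⟩ = 1 := Subtype.ext f.zz
  obtain ⟨T, A', -, hAT, -, -, hA, -, huniq, hout, -⟩ := exists_oddPart R hz1' hzz'
  intro a ha
  obtain ⟨h1, h2, h3⟩ := (f.mem_A0 R).1 ha
  have haA : (⟨a, h1⟩ : K) ∈ A' := (hA _).2 ⟨Subtype.ext h2, by
    rw [← Subgroup.orderOf_coe]; exact h3⟩
  have hvT : (⟨v, hv⟩ : K) ∉ T := by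
    intro h
    rcases huniq _ h (Subtype.ext hvv) with h4 | h4
    · exact hv1 (congrArg Subtype.val h4)
    · exact hvne (congrArg Subtype.val h4)
  exact congrArg Subtype.val ((hout ⟨v, hv⟩ (Subtype.ext hvz) hvT).2 _ (hAT haA))

variable {z' : G} (hz' : ∀ c, c * x = x * c → (c * z' = z' * c ↔ c * z = z * c))

include hz'

omit [Finite G] R [Field F] [Finite F] in
/-- the subgroup `C(z')` contains `x` and `A₀` -/
theorem x_mem : x ∈ centralizer ({z'} : Set G) := mem_cent.2 ((hz' x rfl).2 f.zx.symm)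

theorem A0_le : A0 z K ≤ centralizer ({z'} : Set G) := fun a ha =>
  mem_cent.2 ((hz' a (f.Kx a ((f.mem_A0 R).1 ha).1)).2 ((f.mem_A0 R).1 ha).2.1)

theorem bal : Bal (⟨x, f.x_mem hz'⟩ : ↥(centralizer ({z'} : Set G)))
    ((A0 z K).subgroupOf (centralizer ({z'} : Set G))) := by
  obtain ⟨hmem, ⟨g, hg, hgen⟩, hodd, ⟨v, hvK, hvz, hvv, -, -, hinv⟩, hres⟩ := f.A0_data R
  have hle := f.A0_le R hz'
  have hz'' : ∀ c : ↥(centralizer ({z'} : Set G)), (c : G) * x = x * c → (c : G) * z = z * c :=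
    fun c hc => (hz' c hc).1 (mem_cent.1 c.2)
  refine ⟨Subtype.ext f.xx, ?_, ⟨⟨g, hle hg⟩, hg, ?_⟩, ?_, ?_, ?_⟩
  · rw [Nat.card_congr (subgroupOfEquivOfLe hle).toEquiv]
    exact hodd
  · rintro ⟨a, ha'⟩ ha
    obtain ⟨k, hk⟩ := mem_zpowers_iff.1 (hgen a ha)
    exact mem_zpowers_iff.2 ⟨k, Subtype.ext hk⟩
  · rintro ⟨a, ha'⟩ ha
    exact Subtype.ext (f.Kx a ((hmem a).1 ha).1)
  · refine ⟨⟨v, mem_cent.2 ((hz' v (f.Kx v hvK)).2 hvz)⟩, Subtype.ext (f.Kx v hvK), ?_⟩
    rintro ⟨a, ha'⟩ ha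
    exact Subtype.ext (hinv a ha)
  · intro y w hy hw ho
    have hy' : (y : G) * x = x * y := congrArg Subtype.val hy
    have hw' : (w : G) * x = x * w := congrArg Subtype.val hw
    exact hres y w hy' hw' (hz'' y hy') (hz'' w hw') (by rw [Subgroup.orderOf_coe]; exact ho)

/-- helper419's `BalG` -/
theorem balG : BalG x z' (A0 z K) := by
  obtain ⟨hmem, hcyc, hodd, ⟨v, hvK, hvz, hvv, -, -, hinv⟩, hres⟩ := f.A0_data R
  exact
    { xx := f.xx
      xu := mem_cent.1 (f.x_mem hz')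
      odd := hodd
      cyc := hcyc
      ax := fun a ha => f.Kx a ((hmem a).1 ha).1
      au := fun a ha => mem_cent.1 (f.A0_le R hz' ha)
      inv := ⟨v, f.Kx v hvK, (hz' v (f.Kx v hvK)).2 hvz, hinv⟩
      res := fun y w hyx hyz hwx hwz ho =>
        hres y w hyx hwx ((hz' y hyx).1 hyz) ((hz' w hwx).1 hwz) ho }

variable (W : World z')

include W

/-- every `a ∈ A₀` of prime order lies in a component of `C(z')` -/
theorem exists_comp {a : G} (ha : a ∈ A0 z K) (hp : (orderOf a).Prime) : ∃ L, Comp z' L ∧ a ∈ L := by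
  have B := f.bal R hz'
  obtain ⟨a', ha'⟩ : ∃ a' : ↥(centralizer ({z'} : Set G)), (a' : G) = a := ⟨⟨a, f.A0_le R hz' ha⟩, rfl⟩
  have haA : a' ∈ (A0 z K).subgroupOf (centralizer ({z'} : Set G)) := by
    change (a' : G) ∈ A0 z K
    rw [ha']; exact ha
  have hord : orderOf a' = orderOf a := by rw [← ha', Subgroup.orderOf_coe]
  have ha1 : a' ≠ 1 := by
    intro h
    rw [h, orderOf_one] at hord
    rw [← hord] at hp
    exact Nat.not_prime_one hp
  -- a component not centralised by `a`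
  obtain ⟨L, hL, hLa⟩ : ∃ L : Subgroup ↥(centralizer ({z'} : Set G)), IsComponent L ∧
      ¬ ∀ l ∈ L, a' * l = l * a' := by
    by_contra hcon
    push Not at hcon
    exact ha1 (B.eq_one_of_comm W.core haA hcon)
  obtain ⟨F', _, _, ⟨R'⟩⟩ := W.comp' L hL
  obtain ⟨b, hbA, hbL, hb⟩ := B.decomp R' hL haA
  refine ⟨_, ⟨L, hL, rfl⟩, a', ?_, ha'⟩
  -- `a ∈ ⟨b⟩`
  have hcomm : Commute b (b⁻¹ * a') := (hb b hbL).symm
  have hp' : a' ^ orderOf a = 1 := by rw [← hord, pow_orderOf_eq_one]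
  have h1 : b ^ orderOf a * (b⁻¹ * a') ^ orderOf a = 1 := by
    rw [← hcomm.mul_pow, mul_inv_cancel_left, hp']
  have h2 : b ^ orderOf a = 1 := by
    refine Bal.eq_one_of_central R' (L.pow_mem hbL _) fun m hm => ?_
    have h3 : b ^ orderOf a = ((b⁻¹ * a') ^ orderOf a)⁻¹ := eq_inv_of_mul_eq_one_left h1
    rw [h3]
    exact ((show Commute (b⁻¹ * a') m from hb m hm).pow_left _).inv_left
  have hb1 : b ≠ 1 := by
    intro h
    apply hLa
    rw [h, inv_one, one_mul] at hb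
    exact hb
  -- both `a` and `b` have order `p` in a cyclic group
  have hob : orderOf b = orderOf a := by
    rcases (Nat.dvd_prime hp).1 (orderOf_dvd_of_pow_eq_one h2) with h | h
    · exact absurd (orderOf_eq_one_iff.1 h) hb1
    · exact h
  obtain ⟨g, hg, hgen⟩ := B.cyc
  have h4 : zpowers a' = zpowers b := by
    have hcyc : IsCyclic (zpowers g) := inferInstance
    have e : ∀ y : zpowers g, orderOf y = orderOf (y : ↥(centralizer ({z'} : Set G))) := fun y =>
      (Subgroup.orderOf_coe y).symm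
    have h5 := Cfsg.Agent.TwoFusion.CyclicAut.zpowers_eq_of_orderOf_eq
      (⟨a', hgen a' haA⟩ : zpowers g) ⟨b, hgen b hbA⟩
      (by rw [e, e]; exact hord.trans hob.symm)
    have h6 := congrArg (Subgroup.map (zpowers g).subtype) h5
    rw [MonoidHom.map_zpowers, MonoidHom.map_zpowers] at h6
    exact h6
  have h5 : a' ∈ zpowers b := by rw [← h4]; exact mem_zpowers a'
  exact (zpowers_le.2 hbL) h5


/-- `a = b (b⁻¹ a)`, `b ∈ A₀ ∩ L`, `b⁻¹ a` centralises `L` -/
theorem decomp {L : Subgroup G} (hL : Comp z' L) {a : G} (ha : a ∈ A0 z K) :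
    ∃ b ∈ A0 z K, b ∈ L ∧ ∀ l ∈ L, b⁻¹ * a * l = l * (b⁻¹ * a) := by
  obtain ⟨L', hL', rfl⟩ := hL
  obtain ⟨F', _, _, ⟨R'⟩⟩ := W.comp' L' hL'
  obtain ⟨b, hbA, hbL, hb⟩ := (f.bal R hz').decomp R' hL' (a := ⟨a, f.A0_le R hz' ha⟩) ha
  refine ⟨b, hbA, ⟨b, hbL, rfl⟩, ?_⟩
  rintro _ ⟨l, hl, rfl⟩
  exact congrArg Subtype.val (hb l hl)

/-- `C(x) ∩ C(z)` normalises a component meeting `A₀` -/
theorem norm_comp {L : Subgroup G} (hL : Comp z' L) {a : G} (ha : a ∈ A0 z K) (haL : a ∈ L)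
    (ha1 : a ≠ 1) {c : G} (hcx : c * x = x * c) (hcz : c * z = z * c) :
    ∀ l ∈ L, c * l * c⁻¹ ∈ L := by
  obtain ⟨L', hL', rfl⟩ := hL
  obtain ⟨F', _, _, ⟨R'⟩⟩ := W.comp' L' hL'
  obtain ⟨a', haL', rfl⟩ := haL
  rintro _ ⟨l, hl, rfl⟩
  have h1 := (f.bal R hz').norm_of_mem R' hL' (a := a') ha haL'
    (fun h => ha1 (by rw [h]; rfl))
    (h := ⟨c, mem_cent.2 ((hz' c hcx).2 hcz)⟩) (Subtype.ext hcx) l hl
  exact ⟨_, h1, rfl⟩

/-- the elements of odd order of `C_L(x)` lie in `A₀`, for every component `L` of `C(z')` -/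
theorem odd_mem {L : Subgroup G} (hL : Comp z' L) {y : G} (hy : y ∈ L) (hyx : y * x = x * y)
    (ho : Odd (orderOf y)) : y ∈ A0 z K := by
  obtain ⟨L', hL', rfl⟩ := hL
  obtain ⟨F', _, _, ⟨R'⟩⟩ := W.comp' L' hL'
  obtain ⟨y', hy', rfl⟩ := hy
  have B := f.bal R hz'
  obtain ⟨C, v, -, -, -, -, -, -, -, -, h⟩ := B.cent_data R' (B.x_norm R' hL')
  exact (h ⟨y', hy'⟩ (Subtype.ext hyx) (by
    change Odd (orderOf y')
    rw [← Subgroup.orderOf_coe]; exact ho)).2

/-- the two types -/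
theorem types {L : Subgroup G} (hL : Comp z' L) {a : G} (ha : a ∈ A0 z K) (haL : a ∈ L)
    (ha1 : a ≠ 1) {T : Subgroup G} (pT : IsPGroup 2 T) (Tx : ∀ t ∈ T, t * x = x * t)
    (Tz : ∀ t ∈ T, t * z = z * t)
    (max : ∀ P : Subgroup G, IsPGroup 2 P → T ≤ P → (∀ y ∈ P, y * x = x * y) → P ≤ T) :
    (∃ w ∈ L, w ∈ T ∧ w ≠ 1 ∧ w * w = 1 ∧ (∀ l ∈ L, x * l * x⁻¹ = w * l * w⁻¹) ∧
        (∀ c, c * x = x * c → c * z = z * c → c * w = w * c) ∧
        (∀ P : Subgroup G, IsPGroup 2 P → T ⊓ L ≤ P → P ≤ L → P ≤ T)) ∨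
      (∃ v ∈ L, v ∈ T ∧ v ≠ 1 ∧ v * v = 1 ∧ (∀ t ∈ T, t * v = v * t) ∧
        (∀ u ∈ T, u ∈ L → u = 1 ∨ u = v) ∧ (∀ a ∈ A0 z K, a ∈ L → v * a * v⁻¹ = a⁻¹) ∧
        ¬ ∃ w ∈ L, ∀ l ∈ L, x * l * x⁻¹ = w * l * w⁻¹) := by
  have B := f.bal R hz'
  have hLT := fun c hcx hcz => f.norm_comp R hz' W hL ha haL ha1 (c := c) hcx hcz
  obtain ⟨L', hL', rfl⟩ := hL
  obtain ⟨F', _, _, ⟨R'⟩⟩ := W.comp' L' hL'
  obtain ⟨a', haL', rfl⟩ := haL
  have ha1' : a' ≠ 1 := fun h => ha1 (by rw [h]; rfl)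
  have hx := B.x_norm R' hL'
  have Tz' : T ≤ centralizer ({z'} : Set G) := fun t ht => mem_cent.2 ((hz' t (Tx t ht)).2 (Tz t ht))
  set H : Subgroup G := centralizer ({z'} : Set G) with hH
  have pT' : IsPGroup 2 (T.subgroupOf H) := pT.comap_subtype
  have Tx' : ∀ t ∈ T.subgroupOf H, t * (⟨x, f.x_mem hz'⟩ : H) = ⟨x, f.x_mem hz'⟩ * t :=
    fun t ht => Subtype.ext (Tx t ht)
  have max' : ∀ P : Subgroup H, IsPGroup 2 P → T.subgroupOf H ≤ P →
      (∀ y ∈ P, y * (⟨x, f.x_mem hz'⟩ : H) = ⟨x, f.x_mem hz'⟩ * y) → P ≤ T.subgroupOf H := by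
    intro P hP hTP hPx y hy
    have h1 : P.map H.subtype ≤ T := by
      refine max _ (hP.map _) ?_ ?_
      · intro t ht
        exact ⟨⟨t, Tz' ht⟩, hTP ht, rfl⟩
      · rintro _ ⟨y, hy, rfl⟩
        exact congrArg Subtype.val (hPx y hy)
    exact h1 ⟨y, hy, rfl⟩
  rcases B.types R' hx with ⟨w, hw, hw1, hww, hwx⟩ | ⟨-, hb⟩
  · left
    obtain ⟨hwT, hsyl⟩ := B.inner_sylow R' hL' ha haL' ha1' hw hw1 hww hwx pT' Tx' max'
    refine ⟨w, ⟨w, hw, rfl⟩, hwT, fun h => hw1 (Subtype.ext h), congrArg Subtype.val hww, ?_, ?_, ?_⟩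
    · rintro _ ⟨l, hl, rfl⟩
      exact congrArg Subtype.val (hwx l hl)
    · intro c hcx hcz
      exact congrArg Subtype.val (B.inner_central R' hL' ha haL' ha1' hw hwx
        (h := ⟨c, mem_cent.2 ((hz' c hcx).2 hcz)⟩) (Subtype.ext hcx))
    · intro P hP hTP hPL y hy
      have h1 : P.subgroupOf H ≤ T.subgroupOf H := by
        refine hsyl _ hP.comap_subtype ?_ ?_
        · rintro t ⟨ht, htL⟩
          exact hTP ⟨ht, ⟨t, htL, rfl⟩⟩
        · rintro t ht
          obtain ⟨l, hl, hlt⟩ := hPL ht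
          rw [← show l = t from Subtype.ext hlt]
          exact hl
      obtain ⟨l, hl, rfl⟩ := hPL hy
      exact h1 (show l ∈ P.subgroupOf H from hy)
  · right
    obtain ⟨v, hvT, hvL, hvv, hv1, hvc, hvu, hvi⟩ :=
      B.outer_sylow R' hL' hx hb ha haL' ha1' pT' Tx' max'
    refine ⟨v, ⟨v, hvL, rfl⟩, hvT, fun h => hv1 (Subtype.ext h), congrArg Subtype.val hvv, ?_, ?_, ?_, ?_⟩
    · intro t ht
      exact congrArg Subtype.val (hvc ⟨t, Tz' ht⟩ ht)
    · rintro _ hu ⟨u, huL, rfl⟩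
      rcases hvu u hu huL with h | h
      · left; rw [h]; rfl
      · right; rw [h]; rfl
    · rintro _ haA ⟨b, hbL, rfl⟩
      exact congrArg Subtype.val (hvi b haA hbL)
    · rintro ⟨_, ⟨w, hw, rfl⟩, hwl⟩
      apply hb
      refine ⟨⟨w, hw⟩, ?_⟩
      ext l
      exact (hwl l ⟨l, l.2, rfl⟩).symm

end FrQ

/-- the condition on `z'` for `z' = z` -/
theorem hz_self {G : Type*} [Group G] {x z : G} :
    ∀ c, c * x = x * c → (c * z = z * c ↔ c * z = z * c) := fun _ _ => Iff.rfl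

/-- the condition on `z'` for `z' = x z` -/
theorem hz_mul {G : Type*} [Group G] {x z : G} :
    ∀ c, c * x = x * c → (c * (x * z) = x * z * c ↔ c * z = z * c) := by
  intro c hc
  constructor
  · intro h
    rw [← mul_assoc, hc, mul_assoc, mul_assoc] at h
    exact mul_left_cancel h
  · intro h
    rw [← mul_assoc, hc, mul_assoc, h, mul_assoc]

/-- type (a) for `C(z)`: helper419's frame `TypeA.Over` -/
theorem FrQ.types_over {G : Type*} [Group G] [Finite G] {x z q₀ : G} {K : Subgroup G} (f : FrQ x z q₀ K)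
    {F : Type*} [Field F] [Finite F] (R : L2Aut.Rep F K) (W : World z)
    {L : Subgroup G} (hL : Comp z L) {a : G} (ha : a ∈ A0 z K) (haL : a ∈ L)
    (ha1 : a ≠ 1) {T : Subgroup G} (pT : IsPGroup 2 T) (Tx : ∀ t ∈ T, t * x = x * t)
    (Tz : ∀ t ∈ T, t * z = z * t)
    (max : ∀ P : Subgroup G, IsPGroup 2 P → T ≤ P → (∀ y ∈ P, y * x = x * y) → P ≤ T) :
    (∃ w, TypeA.Over x z T K L w ∧ w ∈ T ∧ (∀ c, c * x = x * c → c * z = z * c → c * w = w * c)) ∨
      (∃ v ∈ L, v ∈ T ∧ v ≠ 1 ∧ v * v = 1 ∧ (∀ t ∈ T, t * v = v * t) ∧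
        (∀ u ∈ T, u ∈ L → u = 1 ∨ u = v) ∧ (∀ a ∈ A0 z K, a ∈ L → v * a * v⁻¹ = a⁻¹) ∧
        ¬ ∃ w ∈ L, ∀ l ∈ L, x * l * x⁻¹ = w * l * w⁻¹) := by
  rcases f.types R hz_self W hL ha haL ha1 pT Tx Tz max with ⟨w, hwL, hwT, hw1, hww, hwx, hwc, hsyl⟩ | h
  · left
    refine ⟨w, ?_, hwT, hwc⟩
    exact
      { Lz := hL.comm
        TL := fun t ht => f.norm_comp R hz_self W hL ha haL ha1 (Tx t ht) (Tz t ht)
        wL := hwL
        ww := hww
        w1 := hw1
        wx := hwx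
        iso := W.comp L hL
        syl := hsyl
        inv := by
          intro v hvT hvK hvv hv1 hvz
          refine ⟨a, haL, ?_, f.Kx a ((f.mem_A0 R).1 ha).1,
            f.inv_A0 R hvK (Tz v hvT) hvv hv1 hvz a ha⟩
          intro h
          exact ha1 (eq_one_of_sq h ((f.mem_A0 R).1 ha).2.2) }
  · exact Or.inr h

end Cfsg.Agent.OddHalf.D6

end
end

-- part: OddHalf/D6/Beta
section
-- merged: Cfsg.Agent.OddHalf.D6.PairTransfer
section

/-!
# Transfer with exactly one bad coset (ODD D6, helper446)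

`false_of_unique` : `G` without homomorphism onto `{±1}`, `H ≤ G` any subgroup (no condition on the index),
`lam : H →* {±1}`, `x` an involution, `T` a `2`-group centralising `x`, `x ∈ T ≤ H`, `lam x = -1`.
Then some coset `gH ≠ H` is fixed by `T` and has `lam (g⁻¹ x g) = -1`.
-/

set_option autoImplicit false

namespace Cfsg.Agent.OddHalf.D6.PairTransfer

open Subgroup Cfsg.Agent.OddHalf.D9.TransferGen

variable {G : Type*} [Group G]

theorem fixed_iff (H : Subgroup G) (T : Subgroup G) (g : G) :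
    (∀ d ∈ T, d • (g : G ⧸ H) = (g : G ⧸ H)) ↔ ∀ d ∈ T, g⁻¹ * d * g ∈ H := by
  constructor
  · intro h d hd
    exact (smul_mk_eq H d g).1 (h d hd)
  · intro h d hd
    exact (smul_mk_eq H d g).2 (h d hd)

/-- **one bad coset** -/
theorem false_of_unique [Finite G] (hG : ∀ (f : G →* ℤˣ) (u : G), f u = 1) (H : Subgroup G)
    (lam : H →* ℤˣ) {x : G} (hx : x * x = 1) {T : Subgroup G} (hT : IsPGroup 2 T) (hxT : x ∈ T)
    (hTx : ∀ d ∈ T, d * x = x * d) (hTH : T ≤ H) (hl : lam ⟨x, hTH hxT⟩ = -1)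
    (hu : ∀ (g : G) (h : ∀ d ∈ T, g⁻¹ * d * g ∈ H), lam ⟨g⁻¹ * x * g, h x hxT⟩ = -1 → g ∈ H) :
    False := by
  classical
  have hfin : Fintype (G ⧸ H) := Fintype.ofFinite _
  have hx2 : ∀ k, k ∣ orderOf x → k ≠ 1 → ∀ g : G, ∀ h : g⁻¹ * x ^ k * g ∈ H,
      lam ⟨g⁻¹ * x ^ k * g, h⟩ = 1 := by
    intro k hk hk1 g h
    have h1 : orderOf x ∣ 2 := orderOf_dvd_of_pow_eq_one (by rw [pow_two, hx])
    have h2 : k = 2 := by
      rcases (Nat.dvd_prime Nat.prime_two).1 (hk.trans h1) with h3 | h3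
      · exact absurd h3 hk1
      · exact h3
    have h3 : (⟨g⁻¹ * x ^ k * g, h⟩ : H) = 1 := by
      apply Subtype.ext
      show g⁻¹ * x ^ k * g = 1
      rw [h2, pow_two, hx]
      group
    rw [h3, map_one]
  have key := transfer_eq_D H lam x hx2 T hT hxT hTx
  rw [hG (MonoidHom.transfer lam) x] at key
  -- the product is `-1`
  have h1 : ((1 : G) : G ⧸ H) ∈ Finset.univ.filter (fun q : G ⧸ H => ∀ d ∈ T, d • q = q) := by
    rw [Finset.mem_filter]
    refine ⟨Finset.mem_univ _, (fixed_iff H T 1).2 fun d hd => ?_⟩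
    rw [inv_one, one_mul, mul_one]
    exact hTH hd
  have h11 : (1 : G)⁻¹ * x * 1 ∈ H := by rw [inv_one, one_mul, mul_one]; exact hTH hxT
  rw [← Finset.mul_prod_erase _ _ h1, val_mk H lam x 1 h11] at key
  have h12 : lam ⟨(1 : G)⁻¹ * x * 1, h11⟩ = -1 := by
    rw [← hl]
    congr 1
    apply Subtype.ext
    show (1 : G)⁻¹ * x * 1 = x
    group
  rw [h12] at key
  have h2 : ∏ q ∈ (Finset.univ.filter (fun q : G ⧸ H => ∀ d ∈ T, d • q = q)).erase
      ((1 : G) : G ⧸ H), val H lam x q = 1 := by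
    apply Finset.prod_eq_one
    intro q hq
    rw [Finset.mem_erase, Finset.mem_filter] at hq
    obtain ⟨g, rfl⟩ := QuotientGroup.mk_surjective q
    have h3 := (fixed_iff H T g).1 hq.2.2
    rw [val_mk H lam x g (h3 x hxT)]
    rcases Int.units_eq_one_or (lam ⟨g⁻¹ * x * g, h3 x hxT⟩) with h4 | h4
    · exact h4
    · exfalso
      apply hq.1
      rw [QuotientGroup.eq, mul_one]
      exact H.inv_mem (hu g h3 h4)
  rw [h2, mul_one] at key
  exact absurd key (by decide)

end Cfsg.Agent.OddHalf.D6.PairTransfer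

end

-- merged: Cfsg.Agent.OddHalf.D6.Beta
section

/-!
# ODD D6, `K = L₂(q)`, `|Q| = 2`, `q ≠ 9`: no component of type (b) (C2(beta), helper446)

`BData` : `T` Sylow in `C(x)`, `K ≅ PSL(2,F)` normal in `C(x)`, `C(x) ∩ C(K) = ⟨x⟩`, `Z(T) ≤ ⟨x,z⟩ ∪ f⟨x,z⟩`, `f` a field
involution on `K`; `L ≅ PSL(2,F')` a `T`-invariant component of `C(z)` on which `x` acts as an element of
`PGL ∖ PSL`; `c ∈ T` with `z ∈ ⟨c²⟩` commutes with all `b` of odd order in `C(x) ∩ C(z)` that are inverted by an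
element of `C(x) ∩ C(z)`.

`BData.absurd_of` : impossible if `G` has no homomorphism onto `{±1}`. The transfer for `H = N_{C(z)}(L)` and the
character `o1` of `Aut L` : `L^g` for a bad `T`-fixed coset `gH` belongs to `z^g ∈ Z(T)`, and each of
`z^g = x, z, xz`, `z^g` a field involution is treated.
-/

set_option autoImplicit false

open Subgroup Cfsg Cfsg.Agent.GH
open Cfsg.Agent.S1260 (isQuasisimple_of_mulEquiv)

namespace Cfsg.Agent.OddHalf.D6.Beta

variable {G : Type*} [Group G]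

/-- the elements `1, x, z, xz` -/
def Q4 (x z t : G) : Prop := t = 1 ∨ t = x ∨ t = z ∨ t = x * z

theorem Q4.comm {x z t b : G} (h : Q4 x z t) (hx : b * x = x * b) (hz : b * z = z * b) :
    b * t = t * b := by
  rcases h with rfl | rfl | rfl | rfl
  · rw [mul_one, one_mul]
  · exact hx
  · exact hz
  · rw [← mul_assoc, hx, mul_assoc, hz, mul_assoc]

/-- Sylow's theorem in `M` -/
theorem exists_conj_mem [Finite G] {M T : Subgroup G} (pT : IsPGroup 2 T) (hTM : T ≤ M)
    (max : ∀ P : Subgroup G, IsPGroup 2 P → T ≤ P → P ≤ M → P ≤ T) {v : G} (hv : v ∈ M)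
    (hvv : v * v = 1) : ∃ m ∈ M, m * v * m⁻¹ ∈ T := by
  have hP : IsPGroup 2 (zpowers v) := isPGroup_zpowers ⟨1, by rw [pow_one, sq, hvv]⟩
  have hPM : zpowers v ≤ M := by rw [zpowers_le]; exact hv
  obtain ⟨S, hS⟩ := (show IsPGroup 2 (T.subgroupOf M) from pT.comap_subtype).exists_le_sylow
  obtain ⟨Q, hQ⟩ := (show IsPGroup 2 ((zpowers v).subgroupOf M) from
    hP.comap_subtype).exists_le_sylow
  have h1 : (S : Subgroup _).map M.subtype ≤ T := by
    refine max _ (S.2.map _) ?_ ?_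
    · intro t ht
      exact ⟨⟨t, hTM ht⟩, hS ht, rfl⟩
    · rintro _ ⟨y, -, rfl⟩
      exact y.2
  obtain ⟨g, hg⟩ := MulAction.exists_smul_eq M Q S
  refine ⟨g, g.2, ?_⟩
  have h2 : (⟨v, hv⟩ : M) ∈ Q := hQ (mem_zpowers v)
  exact h1 ⟨g * ⟨v, hv⟩ * g⁻¹, L2Aut.conj_mem_syl hg h2, rfl⟩

/-- The configuration. -/
structure BData {F F' : Type*} [Field F] [Finite F] [Field F'] [Finite F'] (x z f c : G)
    (T K L : Subgroup G) (RK : L2Aut.Rep F K) (RL : L2Aut.Rep F' L) : Prop where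
  hF : 9 < Nat.card F
  xx : x * x = 1
  zz : z * z = 1
  z1 : z ≠ 1
  xT : x ∈ T
  zK : z ∈ K
  cx : ∀ t ∈ T, t * x = x * t
  cz : ∀ t ∈ T, t * z = z * t
  pT : IsPGroup 2 T
  /-- `T` is a Sylow 2-subgroup of `C(x)` -/
  max : ∀ P : Subgroup G, IsPGroup 2 P → T ≤ P → (∀ y ∈ P, y * x = x * y) → P ≤ T
  Kx : ∀ k ∈ K, k * x = x * k
  Kn : ∀ g : G, g * x = x * g → ∀ k ∈ K, g * k * g⁻¹ ∈ K
  CK : ∀ g : G, g * x = x * g → (∀ k ∈ K, g * k = k * g) → g = 1 ∨ g = x
  /-- `f` acts on `K` with nontrivial field part -/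
  fx : f * x = x * f
  fK : ∀ φ : MulAut K, (∀ k : K, ((φ k : K) : G) = f * k * f⁻¹) → RK.fld φ ≠ 1
  /-- the centre of `T` -/
  Z : ∀ t ∈ T, (∀ d ∈ T, d * t = t * d) → Q4 x z t ∨ Q4 x z (f * t)
  cT : c ∈ T
  zc : z ∈ zpowers (c * c)
  inv : ∀ b v : G, Odd (orderOf b) → b * x = x * b → b * z = z * b → v * x = x * v → v * z = z * v →
    v * b * v⁻¹ = b⁻¹ → c * b = b * c
  Lz : ∀ l ∈ L, l * z = z * l
  TL : ∀ t ∈ T, ∀ l ∈ L, t * l * t⁻¹ ∈ L
  hL : IsComponent (L.subgroupOf (centralizer ({z} : Set G)))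
  /-- `x` acts on `L` as an element of `PGL ∖ PSL` -/
  out : ∀ φ : MulAut L, (∀ l : L, ((φ l : L) : G) = x * l * x⁻¹) → RL.o1 φ = -1
  b : ∃ b ∈ L, b ≠ 1 ∧ Odd (orderOf b) ∧ b * x = x * b

namespace BData

variable {F F' : Type*} [Field F] [Finite F] [Field F'] [Finite F'] {x z f c : G}
    {T K L : Subgroup G} {RK : L2Aut.Rep F K} {RL : L2Aut.Rep F' L}
    (S : BData x z f c T K L RK RL)

include S in
theorem xi : x⁻¹ = x := inv_eq_of_mul_eq_one_left S.xx

/-- the subgroup of the transfer -/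
def HH (z : G) (L : Subgroup G) : Subgroup G := centralizer ({z} : Set G) ⊓ normalizer (L : Set G)

/-- the character -/
noncomputable def lam (z : G) {L : Subgroup G} (RL : L2Aut.Rep F' L) : HH z L →* ℤˣ :=
  RL.o1.comp (L.normalizerMonoidHom.comp (inclusion (inf_le_right : HH z L ≤ normalizer (L : Set G))))

theorem lam_apply {h : G} (hh : h ∈ HH z L) : lam z RL ⟨h, hh⟩ = RL.o1 (act L h hh.2) := rfl

theorem mem_HH {h : G} : h ∈ HH z L ↔ h * z = z * h ∧ h ∈ normalizer (L : Set G) := by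
  rw [HH, mem_inf, mem_centralizer_singleton_iff]

variable [Finite G]

include S

theorem T_le : T ≤ HH z L := fun t ht => mem_HH.2 ⟨S.cz t ht, mem_norm_of (S.TL t ht)⟩

omit [Finite G] in
theorem two_pow {t : G} (ht : t ∈ T) : ∃ n, t ^ 2 ^ n = 1 := by
  obtain ⟨n, hn⟩ := S.pT ⟨t, ht⟩
  exact ⟨n, congrArg Subtype.val hn⟩

/-- the pair `(b, v)` for a bad coset -/
theorem pair {g : G} (h : ∀ d ∈ T, g⁻¹ * d * g ∈ HH z L)
    (hl : lam z RL ⟨g⁻¹ * x * g, h x S.xT⟩ = -1) :
    ∃ b v : G, g⁻¹ * b * g ∈ L ∧ b ≠ 1 ∧ Odd (orderOf b) ∧ b * x = x * b ∧ v ∈ T ∧ g⁻¹ * v * g ∈ L ∧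
      (∀ d ∈ T, d * v = v * d) ∧ v * b * v⁻¹ = b⁻¹ := by
  have hx' := h x S.xT
  obtain ⟨x', hx'e⟩ : ∃ x', x' = g⁻¹ * x * g := ⟨_, rfl⟩
  rw [lam_apply] at hl
  have hα' : act L (g⁻¹ * x * g) hx'.2 * act L (g⁻¹ * x * g) hx'.2 = 1 := by
    rw [act_mul, act_one_iff]
    intro l _
    have h1 : g⁻¹ * x * g * (g⁻¹ * x * g) = 1 := by
      calc g⁻¹ * x * g * (g⁻¹ * x * g) = g⁻¹ * (x * x) * g := by group
        _ = 1 := by rw [S.xx]; group
    rw [h1, one_mul, mul_one]
  have hxn := (S.T_le S.xT).2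
  have hα : act L x hxn * act L x hxn = 1 := by
    rw [act_mul, act_one_iff]
    intro l _
    rw [S.xx, one_mul, mul_one]
  have ho : RL.o1 (act L x hxn) = -1 := S.out _ fun l => act_apply L x hxn l
  obtain ⟨b0, hb0L, hb01, hb0o, hb0x⟩ := S.b
  obtain ⟨y, hy⟩ := PglType.exists_fix_conj RL hα ho hα' hl (b := ⟨b0, hb0L⟩)
    (act_eq_iff.2 hb0x.symm)
  obtain ⟨b1, hb1⟩ : ∃ b1 : L, b1 = y * ⟨b0, hb0L⟩ * y⁻¹ := ⟨_, rfl⟩
  rw [← hb1] at hy
  have hb1o : Odd (orderOf b1) := by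
    have h1 : orderOf b1 = orderOf (⟨b0, hb0L⟩ : L) := by
      rw [hb1]
      exact (MulAut.conj y).orderOf_eq (⟨b0, hb0L⟩ : L)
    rw [h1, orderOf_mk]
    exact hb0o
  have hb11 : b1 ≠ 1 := by
    intro h1
    apply hb01
    rw [hb1, mul_inv_eq_one, mul_eq_left] at h1
    exact congrArg Subtype.val h1
  -- an involution
  obtain ⟨v0, hv0, hv0v, hv01⟩ := PglType.exists_fix_involution RL hα' hl
  -- fixed elements
  have hfix : ∀ l : L, act L (g⁻¹ * x * g) hx'.2 l = l ↔ (g * (l : G) * g⁻¹) * x = x * (g * l * g⁻¹) := by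
    intro l
    rw [act_eq_iff]
    constructor
    · intro h1
      calc g * (l : G) * g⁻¹ * x = g * (l * (g⁻¹ * x * g)) * g⁻¹ := by group
        _ = g * (g⁻¹ * x * g * l) * g⁻¹ := by rw [h1]
        _ = x * (g * l * g⁻¹) := by group
    · intro h1
      calc g⁻¹ * x * g * (l : G) = g⁻¹ * (x * (g * l * g⁻¹)) * g := by group
        _ = g⁻¹ * (g * l * g⁻¹ * x) * g := by rw [h1]
        _ = l * (g⁻¹ * x * g) := by group
  have hLM : ∀ m, g⁻¹ * m * g ∈ HH z L → ∀ l ∈ L, g⁻¹ * m * g * l * (g⁻¹ * m * g)⁻¹ ∈ L := by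
    intro m hm l hl
    exact (mem_normalizer_iff.1 (mem_HH.1 hm).2 l).1 hl
  obtain ⟨m, hm, hmT⟩ := exists_conj_mem (v := g * v0 * g⁻¹)
    (M := centralizer ({x} : Set G) ⊓ (HH z L).comap (MulAut.conj g⁻¹).toMonoidHom) S.pT
    (fun t ht => ⟨mem_centralizer_singleton_iff.2 (S.cx t ht), by
      show g⁻¹ * t * g⁻¹⁻¹ ∈ HH z L
      rw [inv_inv]
      exact h t ht⟩)
    (fun P hP hTP hPM => S.max P hP hTP fun y hy =>
      mem_centralizer_singleton_iff.1 (hPM hy).1)
    ⟨mem_centralizer_singleton_iff.2 ((hfix v0).1 hv0), by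
      show g⁻¹ * (g * v0 * g⁻¹) * g⁻¹⁻¹ ∈ HH z L
      have h1 : g⁻¹ * (g * v0 * g⁻¹) * g⁻¹⁻¹ = v0 := by group
      rw [h1]
      exact mem_HH.2 ⟨S.Lz _ v0.2, le_normalizer v0.2⟩⟩
    (by
      have h1 : (v0 : G) * v0 = 1 := congrArg Subtype.val hv0v
      calc g * (v0 : G) * g⁻¹ * (g * v0 * g⁻¹) = g * (v0 * v0) * g⁻¹ := by group
        _ = 1 := by rw [h1]; group)
  have hmx : m * x = x * m := mem_centralizer_singleton_iff.1 hm.1
  have hmH : g⁻¹ * m * g ∈ HH z L := by
    have h1 : g⁻¹ * m * g⁻¹⁻¹ ∈ HH z L := hm.2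
    rwa [inv_inv] at h1
  obtain ⟨v, hv⟩ : ∃ v, v = m * (g * v0 * g⁻¹) * m⁻¹ := ⟨_, rfl⟩
  rw [← hv] at hmT
  have hvv : v * v = 1 := by
    have h1 : (v0 : G) * v0 = 1 := congrArg Subtype.val hv0v
    rw [hv]
    calc m * (g * (v0 : G) * g⁻¹) * m⁻¹ * (m * (g * v0 * g⁻¹) * m⁻¹)
        = m * (g * (v0 * v0) * g⁻¹) * m⁻¹ := by group
      _ = 1 := by rw [h1]; group
  have hv1 : v ≠ 1 := by
    intro h1
    apply hv01
    apply Subtype.ext
    show (v0 : G) = 1
    have h2 : (v0 : G) = g⁻¹ * (m⁻¹ * v * m) * g := by rw [hv]; group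
    rw [h2, h1]
    group
  have hvL : g⁻¹ * v * g ∈ L := by
    have h1 := hLM m hmH v0 v0.2
    have h2 : g⁻¹ * m * g * v0 * (g⁻¹ * m * g)⁻¹ = g⁻¹ * v * g := by rw [hv]; group
    rwa [h2] at h1
  -- `v` is central in `T`
  have hgc : ∀ w : G, g * (g⁻¹ * w * g) * g⁻¹ = w := fun w => by group
  have hw : ∀ w ∈ T, ∀ hw : g⁻¹ * w * g ∈ L, w * w = 1 → w ≠ 1 →
      act L (g⁻¹ * x * g) hx'.2 ⟨g⁻¹ * w * g, hw⟩ = ⟨g⁻¹ * w * g, hw⟩ ∧
      (⟨g⁻¹ * w * g, hw⟩ : L) * ⟨g⁻¹ * w * g, hw⟩ = 1 ∧ (⟨g⁻¹ * w * g, hw⟩ : L) ≠ 1 := by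
    intro w hwT hwL hww hw1
    refine ⟨?_, ?_, ?_⟩
    · rw [hfix]
      show g * (g⁻¹ * w * g) * g⁻¹ * x = x * (g * (g⁻¹ * w * g) * g⁻¹)
      rw [hgc, S.cx w hwT]
    · apply Subtype.ext
      show g⁻¹ * w * g * (g⁻¹ * w * g) = 1
      calc g⁻¹ * w * g * (g⁻¹ * w * g) = g⁻¹ * (w * w) * g := by group
        _ = 1 := by rw [hww]; group
    · intro h1
      apply hw1
      have h2 : g⁻¹ * w * g = 1 := congrArg Subtype.val h1
      rw [← hgc w, h2]
      group
  obtain ⟨e1, e2, e3⟩ := hw v hmT hvL hvv hv1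
  have hcen : ∀ d ∈ T, d * v = v * d := by
    intro d hd
    have hdvT : d * v * d⁻¹ ∈ T := mul_mem (mul_mem hd hmT) (inv_mem hd)
    have hdvL : g⁻¹ * (d * v * d⁻¹) * g ∈ L := by
      have h1 := hLM d (h d hd) _ hvL
      have h2 : g⁻¹ * d * g * (g⁻¹ * v * g) * (g⁻¹ * d * g)⁻¹ = g⁻¹ * (d * v * d⁻¹) * g := by group
      rwa [h2] at h1
    have hdvv : d * v * d⁻¹ * (d * v * d⁻¹) = 1 := by
      calc d * v * d⁻¹ * (d * v * d⁻¹) = d * (v * v) * d⁻¹ := by group
        _ = 1 := by rw [hvv]; group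
    have hdv1 : d * v * d⁻¹ ≠ 1 := by
      intro h1
      apply hv1
      have h2 : v = d⁻¹ * (d * v * d⁻¹) * d := by group
      rw [h2, h1]
      group
    obtain ⟨f1, f2, f3⟩ := hw _ hdvT hdvL hdvv hdv1
    have h1 := PglType.eq_of_two RL hα' hl e1 e2 e3 f1 f2 f3 (by
      obtain ⟨n, hn⟩ := S.two_pow (mul_mem hmT hdvT)
      refine ⟨n, ?_⟩
      apply Subtype.ext
      show (g⁻¹ * v * g * (g⁻¹ * (d * v * d⁻¹) * g)) ^ 2 ^ n = 1
      have h2 : g⁻¹ * v * g * (g⁻¹ * (d * v * d⁻¹) * g) = g⁻¹ * (v * (d * v * d⁻¹)) * g⁻¹⁻¹ := by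
        group
      rw [h2, conj_pow, hn]
      group)
    have h2 : g⁻¹ * v * g = g⁻¹ * (d * v * d⁻¹) * g := congrArg Subtype.val h1
    have h3 : v = d * v * d⁻¹ := mul_left_cancel (mul_right_cancel h2)
    nth_rw 2 [h3]
    group
  -- inversion
  have hinv := PglType.inverts RL hα' hl e1 e2 e3 hy hb1o
  have hinv' : g⁻¹ * v * g * b1 * (g⁻¹ * v * g)⁻¹ = (b1 : G)⁻¹ := congrArg Subtype.val hinv
  refine ⟨g * b1 * g⁻¹, v, ?_, ?_, ?_, (hfix b1).1 hy, hmT, hvL, hcen, ?_⟩
  · have h1 : g⁻¹ * (g * b1 * g⁻¹) * g = b1 := by group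
    rw [h1]
    exact b1.2
  · intro h1
    apply hb11
    apply Subtype.ext
    show (b1 : G) = 1
    have h2 : (b1 : G) = g⁻¹ * (g * b1 * g⁻¹) * g := by group
    rw [h2, h1]
    group
  · have h1 : orderOf (g * (b1 : G) * g⁻¹) = orderOf (b1 : G) := (MulAut.conj g).orderOf_eq (b1 : G)
    rw [h1, orderOf_coe]
    exact hb1o
  · calc v * (g * (b1 : G) * g⁻¹) * v⁻¹ = g * (g⁻¹ * v * g * b1 * (g⁻¹ * v * g)⁻¹) * g⁻¹ := by group
      _ = (g * b1 * g⁻¹)⁻¹ := by rw [hinv']; group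

omit S [Finite G] [Field F] [Finite F] [Field F'] [Finite F'] in
/-- an element inverting `b` is not in `⟨x,z⟩` -/
theorem not_Q4 {b v : G} (hb1 : b ≠ 1) (hbo : Odd (orderOf b)) (hx : b * x = x * b)
    (hz : b * z = z * b) (hv : v * b * v⁻¹ = b⁻¹) : ¬ Q4 x z v := by
  intro h
  apply hb1
  have h1 := h.comm hx hz
  have h2 : v * b * v⁻¹ = b := by rw [← h1]; group
  rw [h2] at hv
  exact PglType.eq_one_of_eq_inv hv hbo

/-- the case `z^g = z` -/
theorem case_z {g : G} (h : ∀ d ∈ T, g⁻¹ * d * g ∈ HH z L)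
    (hl : lam z RL ⟨g⁻¹ * x * g, h x S.xT⟩ = -1) (hg : g * z = z * g) : g ∈ HH z L := by
  refine mem_HH.2 ⟨hg, mem_norm_of ?_⟩
  by_contra hn
  have h' : ∀ d ∈ T, (1 : G)⁻¹ * d * 1 ∈ HH z L := fun d hd => by
    rw [inv_one, one_mul, mul_one]
    exact S.T_le hd
  have hl' : lam z RL ⟨(1 : G)⁻¹ * x * 1, h' x S.xT⟩ = -1 := by
    rw [lam_apply]
    apply S.out
    intro l
    rw [act_apply]
    group
  obtain ⟨b, v, b1, b2, b3, b4, b5, b6, b7, b8⟩ := S.pair h hl
  obtain ⟨b', v', c1, c2, c3, c4, c5, c6, c7, c8⟩ := S.pair h' hl'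
  have hbz : b * z = z * b := by
    have h1 := S.Lz _ b1
    have h2 : g⁻¹ * z = z * g⁻¹ := by
      rw [inv_mul_eq_iff_eq_mul, ← mul_assoc, hg, mul_inv_cancel_right]
    calc b * z = g * (g⁻¹ * b * g) * (g⁻¹ * z) := by group
      _ = g * (g⁻¹ * b * g) * (z * g⁻¹) := by rw [h2]
      _ = g * (g⁻¹ * b * g * z) * g⁻¹ := by group
      _ = g * (z * (g⁻¹ * b * g)) * g⁻¹ := by rw [h1]
      _ = g * z * g⁻¹ * b := by group
      _ = z * b := by rw [hg]; group
  have hb'z : b' * z = z * b' := by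
    have h1 := S.Lz _ c1
    have h2 : (1 : G)⁻¹ * b' * 1 = b' := by group
    rwa [h2] at h1
  have q1 := (S.Z v b5 b7).resolve_left (not_Q4 b2 b3 b4 hbz b8)
  have q2 := (S.Z v' c5 c7).resolve_left (not_Q4 c2 c3 c4 hb'z c8)
  -- `v'` commutes with `b`
  have hc : v' * b = b * v' := by
    have hLC : L ≤ centralizer ({z} : Set G) := fun l hl =>
      mem_centralizer_singleton_iff.2 (S.Lz l hl)
    have h1 := comm_of_not (H := centralizer ({z} : Set G)) S.hL
      (h := ⟨g, mem_centralizer_singleton_iff.2 hg⟩)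
      (fun h2 => hn fun l hl => h2 ⟨l, hLC hl⟩ hl)
      (a := ⟨g⁻¹ * b * g, hLC b1⟩) (b := ⟨(1 : G)⁻¹ * v' * 1, hLC c6⟩) b1 c6
    have h2 : g * (g⁻¹ * b * g) * g⁻¹ * ((1 : G)⁻¹ * v' * 1) =
      (1 : G)⁻¹ * v' * 1 * (g * (g⁻¹ * b * g) * g⁻¹) := congrArg Subtype.val h1
    have h3 : g * (g⁻¹ * b * g) * g⁻¹ = b := by group
    have h4 : (1 : G)⁻¹ * v' * 1 = v' := by group
    rw [h3, h4] at h2
    exact h2.symm
  -- `v'⁻¹ v` commutes with `b`
  have hd1 := q1.comm b4 hbz
  have hd2 := q2.comm b4 hbz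
  have hd3 : v * b = b * v := by
    have h1 : v = v' * ((f * v')⁻¹ * (f * v)) := by group
    have h2 : (f * v')⁻¹ * b = b * (f * v')⁻¹ := by
      rw [inv_mul_eq_iff_eq_mul, ← mul_assoc, ← hd2, mul_inv_cancel_right]
    calc v * b = v' * ((f * v')⁻¹ * (f * v)) * b := by rw [← h1]
      _ = v' * (f * v')⁻¹ * ((f * v) * b) := by group
      _ = v' * (f * v')⁻¹ * (b * (f * v)) := by rw [hd1]
      _ = v' * ((f * v')⁻¹ * b) * (f * v) := by group
      _ = v' * (b * (f * v')⁻¹) * (f * v) := by rw [h2]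
      _ = (v' * b) * ((f * v')⁻¹ * (f * v)) := by group
      _ = b * (v' * ((f * v')⁻¹ * (f * v))) := by rw [hc]; group
      _ = b * v := by rw [← h1]
  apply b2
  have h2 : v * b * v⁻¹ = b := by rw [hd3]; group
  rw [h2] at b8
  exact PglType.eq_one_of_eq_inv b8 b3

/-- the case `z^g = xz` -/
theorem case_xz {g : G} (h : ∀ d ∈ T, g⁻¹ * d * g ∈ HH z L)
    (hl : lam z RL ⟨g⁻¹ * x * g, h x S.xT⟩ = -1) (hg : g * z * g⁻¹ = x * z) : False := by
  obtain ⟨b, v, b1, b2, b3, b4, b5, b6, b7, b8⟩ := S.pair h hl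
  have hxz : b * (x * z) = x * z * b := by
    rw [← hg]
    have h1 := S.Lz _ b1
    calc b * (g * z * g⁻¹) = g * (g⁻¹ * b * g * z) * g⁻¹ := by group
      _ = g * (z * (g⁻¹ * b * g)) * g⁻¹ := by rw [h1]
      _ = g * z * g⁻¹ * b := by group
  have hbz : b * z = z * b := by
    have h1 : x * (b * z) = x * (z * b) := by
      rw [← mul_assoc, ← b4, mul_assoc, hxz, mul_assoc]
    exact mul_left_cancel h1
  have hcb := S.inv b v b3 b4 hbz (S.cx v b5) (S.cz v b5) b8
  have hx' := h x S.xT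
  have hc' := h c S.cT
  rw [lam_apply] at hl
  have hα' : act L (g⁻¹ * x * g) hx'.2 * act L (g⁻¹ * x * g) hx'.2 = 1 := by
    rw [act_mul, act_one_iff]
    intro l _
    have h1 : g⁻¹ * x * g * (g⁻¹ * x * g) = 1 := by
      calc g⁻¹ * x * g * (g⁻¹ * x * g) = g⁻¹ * (x * x) * g := by group
        _ = 1 := by rw [S.xx]; group
    rw [h1, one_mul, mul_one]
  have hγ := PglType.mul_self_of_fix RL hα' hl (b := ⟨g⁻¹ * b * g, b1⟩) (γ := act L (g⁻¹ * c * g) hc'.2)
    (by
      intro h1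
      apply b2
      have h2 : g⁻¹ * b * g = 1 := congrArg Subtype.val h1
      have h3 : b = g * (g⁻¹ * b * g) * g⁻¹ := by group
      rw [h3, h2]
      group)
    (by
      have h1 : orderOf (g⁻¹ * b * g⁻¹⁻¹) = orderOf b := (MulAut.conj g⁻¹).orderOf_eq b
      rw [inv_inv] at h1
      rw [orderOf_mk, h1]
      exact b3)
    (by
      rw [act_eq_iff]
      show g⁻¹ * x * g * (g⁻¹ * b * g) = g⁻¹ * b * g * (g⁻¹ * x * g)
      calc g⁻¹ * x * g * (g⁻¹ * b * g) = g⁻¹ * (x * b) * g := by group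
        _ = g⁻¹ * (b * x) * g := by rw [b4]
        _ = g⁻¹ * b * g * (g⁻¹ * x * g) := by group)
    (by
      obtain ⟨n, hn⟩ := S.two_pow S.cT
      refine ⟨n, ?_⟩
      have h1 : (⟨g⁻¹ * c * g, hc'.2⟩ : normalizer (L : Set G)) ^ 2 ^ n = 1 := by
        apply Subtype.ext
        show (g⁻¹ * c * g) ^ 2 ^ n = 1
        have h2 : g⁻¹ * c * g = g⁻¹ * c * g⁻¹⁻¹ := by group
        rw [h2, conj_pow, hn]
        group
      show (L.normalizerMonoidHom ⟨g⁻¹ * c * g, hc'.2⟩) ^ 2 ^ n = 1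
      rw [← map_pow, h1, map_one])
    (by
      rw [act_mul, act_mul]
      apply act_congr
      calc g⁻¹ * c * g * (g⁻¹ * x * g) = g⁻¹ * (c * x) * g := by group
        _ = g⁻¹ * (x * c) * g := by rw [S.cx c S.cT]
        _ = g⁻¹ * x * g * (g⁻¹ * c * g) := by group)
    (by
      rw [act_eq_iff]
      show g⁻¹ * c * g * (g⁻¹ * b * g) = g⁻¹ * b * g * (g⁻¹ * c * g)
      calc g⁻¹ * c * g * (g⁻¹ * b * g) = g⁻¹ * (c * b) * g := by group
        _ = g⁻¹ * (b * c) * g := by rw [hcb]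
        _ = g⁻¹ * b * g * (g⁻¹ * c * g) := by group)
  rw [act_mul, act_one_iff] at hγ
  -- so `g⁻¹ c² g` centralises `L`, and `g⁻¹ z g`, and `g⁻¹ x g`
  have key : ∀ l ∈ L, g⁻¹ * x * g * l = l * (g⁻¹ * x * g) := by
    intro l hl
    have h1 : c * c ∈ centralizer ({g * l * g⁻¹} : Set G) := by
      rw [mem_centralizer_singleton_iff]
      have h2 := hγ l hl
      calc c * c * (g * l * g⁻¹) = g * (g⁻¹ * c * g * (g⁻¹ * c * g) * l) * g⁻¹ := by group
        _ = g * (l * (g⁻¹ * c * g * (g⁻¹ * c * g))) * g⁻¹ := by rw [h2]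
        _ = g * l * g⁻¹ * (c * c) := by group
    have h2 : z ∈ centralizer ({g * l * g⁻¹} : Set G) := by
      have h3 : zpowers (c * c) ≤ centralizer ({g * l * g⁻¹} : Set G) := by rwa [zpowers_le]
      exact h3 S.zc
    have h3 : x * z ∈ centralizer ({g * l * g⁻¹} : Set G) := by
      rw [← hg, mem_centralizer_singleton_iff]
      have h4 := S.Lz l hl
      calc g * z * g⁻¹ * (g * l * g⁻¹) = g * (z * l) * g⁻¹ := by group
        _ = g * (l * z) * g⁻¹ := by rw [h4]
        _ = g * l * g⁻¹ * (g * z * g⁻¹) := by group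
    have h4 : x ∈ centralizer ({g * l * g⁻¹} : Set G) := by
      have h5 : x = x * z * z⁻¹ := by group
      rw [h5]
      exact mul_mem h3 (inv_mem h2)
    rw [mem_centralizer_singleton_iff] at h4
    calc g⁻¹ * x * g * l = g⁻¹ * (x * (g * l * g⁻¹)) * g := by group
      _ = g⁻¹ * (g * l * g⁻¹ * x) * g := by rw [h4]
      _ = l * (g⁻¹ * x * g) := by group
  exact PglType.ne_one RL hl ((act_one_iff hx'.2).2 key)

/-- the case of a field involution -/
theorem case_f {g : G} (h : ∀ d ∈ T, g⁻¹ * d * g ∈ HH z L)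
    (hl : lam z RL ⟨g⁻¹ * x * g, h x S.xT⟩ = -1) (hgT : g * z * g⁻¹ ∈ T)
    (hgQ : Q4 x z (f * (g * z * g⁻¹))) : False := by
  obtain ⟨u, hu⟩ : ∃ u, u = g * z * g⁻¹ := ⟨_, rfl⟩
  rw [← hu] at hgT hgQ
  have hux : u * x = x * u := S.cx u hgT
  have hKmem : ∀ y, y * x = x * y → y ∈ normalizer (K : Set G) := fun y hy => mem_norm_of (S.Kn y hy)
  have huu : u * u = 1 := by
    rw [hu]
    calc g * z * g⁻¹ * (g * z * g⁻¹) = g * (z * z) * g⁻¹ := by group
      _ = 1 := by rw [S.zz]; group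
  -- `u` is of field type
  obtain ⟨φ, hφ⟩ : ∃ φ, φ = act K u (hKmem u hux) := ⟨_, rfl⟩
  have hφφ : φ * φ = 1 := by
    rw [hφ, act_mul, act_one_iff]
    intro l _
    rw [huu, one_mul, mul_one]
  have hfφ : RK.fld φ ≠ 1 := by
    intro h1
    refine S.fK (act K f (hKmem f S.fx)) (fun k => act_apply K f _ k) ?_
    have hQx : ∀ w, Q4 x z w → w * x = x * w := fun w hw => by
      rcases hw with rfl | rfl | rfl | rfl
      · group
      · rfl
      · exact S.cz x S.xT |>.symm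
      · rw [mul_assoc, ← S.cz x S.xT]
    have hQ : ∀ w (hw : w * x = x * w), Q4 x z w → RK.fld (act K w (hKmem w hw)) = 1 := by
      intro w hw hq
      have hx1 : act K x (hKmem x rfl) = 1 := by
        rw [act_one_iff]
        intro l hl
        exact (S.Kx l hl).symm
      have hz1 : RK.fld (act K z (hKmem z (S.cz x S.xT).symm)) = 1 := by
        have h2 : act K z (hKmem z (S.cz x S.xT).symm) = MulAut.conj ⟨z, S.zK⟩ := by
          ext l
          rfl
        rw [h2]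
        exact RK.mem_PGL_iff_fld.1 (RK.conj_mem_PGL _)
      rcases hq with rfl | rfl | rfl | rfl
      · have h2 : act K 1 (hKmem 1 hw) = 1 := by
          rw [act_one_iff]
          intro l _
          rw [one_mul, mul_one]
        rw [h2, map_one]
      · rw [hx1, map_one]
      · exact hz1
      · rw [← act_mul (hKmem x rfl) (hKmem z (S.cz x S.xT).symm), map_mul, hx1, map_one, hz1, one_mul]
    have h2 : act K f (hKmem f S.fx) * φ = act K (f * u) (hKmem _ (hQx _ hgQ)) := by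
      rw [hφ]
      exact act_mul _ _
    have h3 := congrArg RK.fld h2
    rw [map_mul, h1, mul_one, hQ _ (hQx _ hgQ) hgQ] at h3
    exact h3
  obtain ⟨M, hM1, hM2, hM3, hM4⟩ := SubFix.exists_sub RK S.hF hφφ hfφ
  obtain ⟨b, v, b1, b2, b3, b4, b5, b6, b7, b8⟩ := S.pair h hl
  have hφu : ∀ k : K, φ k = k ↔ (k : G) * u = u * k := by
    intro k
    rw [hφ, act_eq_iff]
    exact eq_comm
  have hMu : ∀ m ∈ M, (m : G) * u = u * m := fun m hm => (hφu m).1 (hM1 m hm)
  have hbu : b * u = u * b := by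
    rw [hu]
    have h1 := S.Lz _ b1
    calc b * (g * z * g⁻¹) = g * (g⁻¹ * b * g * z) * g⁻¹ := by group
      _ = g * (z * (g⁻¹ * b * g)) * g⁻¹ := by rw [h1]
      _ = g * z * g⁻¹ * b := by group
  -- the group `C(x) ∩ C(u)`
  obtain ⟨X, hX⟩ : ∃ X : Subgroup G, X = centralizer ({x} : Set G) ⊓ centralizer ({u} : Set G) :=
    ⟨_, rfl⟩
  have memX : ∀ y, y ∈ X ↔ y * x = x * y ∧ y * u = u * y := fun y => by
    rw [hX, mem_inf, mem_centralizer_singleton_iff, mem_centralizer_singleton_iff]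
  have hK1X : M.map K.subtype ≤ X := by
    rintro _ ⟨m, hm, rfl⟩
    exact (memX _).2 ⟨S.Kx m m.2, hMu m hm⟩
  have hcomp : IsComponent ((M.map K.subtype).subgroupOf X) := by
    constructor
    · have hle : (M.map K.subtype).subgroupOf X ≤ K.subgroupOf X := by
        rintro ⟨y, hy⟩ hyM
        obtain ⟨m, -, hm⟩ := hyM
        show y ∈ K
        rw [← show K.subtype m = y from hm]
        exact m.2
      refine IsSubnormal.trans hle ?_ ?_
      · refine Normal.isSubnormal ⟨?_⟩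
        rintro ⟨⟨y, hyX⟩, hyK⟩ hyM ⟨⟨w, hwX⟩, hwK⟩
        obtain ⟨m, hm, hmy⟩ := hyM
        have hmy' : (m : G) = y := hmy
        have hwK' : w ∈ K := hwK
        refine ⟨⟨w, hwK'⟩ * m * ⟨w, hwK'⟩⁻¹, hM3 ⟨w, hwK'⟩ ((hφu _).2 ((memX w).1 hwX).2) m hm, ?_⟩
        show w * m * w⁻¹ = w * y * w⁻¹
        rw [hmy']
      · refine Normal.isSubnormal ⟨?_⟩
        rintro ⟨y, hyX⟩ hyK ⟨w, hwX⟩
        exact S.Kn w ((memX w).1 hwX).1 y hyK
    · have e1 : M ≃* M.map K.subtype := M.equivMapOfInjective K.subtype K.subtype_injective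
      have e2 : (M.map K.subtype).subgroupOf X ≃* M.map K.subtype := subgroupOfEquivOfLe hK1X
      exact isQuasisimple_of_mulEquiv (e1.trans e2.symm) hM2
  -- the subnormal subgroup `X ∩ L^g`
  let ψ : X →* centralizer ({z} : Set G) :=
    ((MulAut.conj g⁻¹).toMonoidHom.comp X.subtype).codRestrict _ (by
      rintro ⟨y, hy⟩
      rw [mem_centralizer_singleton_iff]
      show g⁻¹ * y * g⁻¹⁻¹ * z = z * (g⁻¹ * y * g⁻¹⁻¹)
      have h1 := ((memX y).1 hy).2
      rw [hu] at h1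
      calc g⁻¹ * y * g⁻¹⁻¹ * z = g⁻¹ * (y * (g * z * g⁻¹)) * g := by group
        _ = g⁻¹ * (g * z * g⁻¹ * y) * g := by rw [h1]
        _ = z * (g⁻¹ * y * g⁻¹⁻¹) := by group)
  have hψ : ∀ y (hy : y ∈ X), ((ψ ⟨y, hy⟩ : centralizer ({z} : Set G)) : G) = g⁻¹ * y * g := by
    intro y hy
    show g⁻¹ * y * g⁻¹⁻¹ = _
    rw [inv_inv]
  have hsub : ((L.subgroupOf (centralizer ({z} : Set G))).comap ψ).IsSubnormal := S.hL.1.comap ψ
  have memS : ∀ y (hy : y ∈ X), (⟨y, hy⟩ : X) ∈ (L.subgroupOf (centralizer ({z} : Set G))).comap ψ ↔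
      g⁻¹ * y * g ∈ L := by
    intro y hy
    rw [mem_comap, mem_subgroupOf, hψ]
  have hx' := h x S.xT
  rcases Cfsg.Agent.S1261.result _ _ hcomp hsub with h1 | h1
  · -- `K₁^(g⁻¹) ≤ L` is fixed by `x^(g⁻¹)`
    have h2 : ∀ m ∈ M, g⁻¹ * (m : G) * g ∈ L := by
      intro m hm
      have h3 : (m : G) ∈ X := hK1X ⟨m, hm, rfl⟩
      exact (memS m h3).1 (h1 (show (⟨m, h3⟩ : X) ∈ (M.map K.subtype).subgroupOf X from ⟨m, hm, rfl⟩))
    let θ : M →* L :=
      { toFun := fun m => ⟨g⁻¹ * (m : G) * g, h2 m m.2⟩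
        map_one' := Subtype.ext (by
          show g⁻¹ * (1 : G) * g = 1
          group)
        map_mul' := fun a b => Subtype.ext (by
          show g⁻¹ * ((a : G) * (b : G)) * g = g⁻¹ * a * g * (g⁻¹ * b * g)
          group) }
    have hα' : act L (g⁻¹ * x * g) hx'.2 * act L (g⁻¹ * x * g) hx'.2 = 1 := by
      rw [act_mul, act_one_iff]
      intro l _
      have h1 : g⁻¹ * x * g * (g⁻¹ * x * g) = 1 := by
        calc g⁻¹ * x * g * (g⁻¹ * x * g) = g⁻¹ * (x * x) * g := by group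
          _ = 1 := by rw [S.xx]; group
      rw [h1, one_mul, mul_one]
    have h3 : θ.range = ⊥ := by
      refine PglType.no_perfect RL hα' hl ?_ ?_
      · rintro _ ⟨m, rfl⟩
        rw [act_eq_iff]
        show g⁻¹ * x * g * (g⁻¹ * (m : G) * g) = g⁻¹ * m * g * (g⁻¹ * x * g)
        have h4 := S.Kx m (m : K).2
        calc g⁻¹ * x * g * (g⁻¹ * (m : G) * g) = g⁻¹ * (x * m) * g := by group
          _ = g⁻¹ * (m * x) * g := by rw [h4]
          _ = g⁻¹ * m * g * (g⁻¹ * x * g) := by group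
      · have h4 : ⁅(⊤ : Subgroup M), (⊤ : Subgroup M)⁆ = ⊤ := hM2.1.commutator_eq_top
        rw [MonoidHom.range_eq_map, ← map_commutator, h4]
    have h4 := Cfsg.Agent.Lib.ComponentSolvable.quasisimple_nontrivial hM2
    obtain ⟨m, hm⟩ := exists_ne (1 : M)
    apply hm
    have h5 : θ m ∈ θ.range := ⟨m, rfl⟩
    rw [h3, mem_bot] at h5
    have h6 : g⁻¹ * (m : G) * g = 1 := congrArg Subtype.val h5
    apply Subtype.ext
    apply Subtype.ext
    show (m : G) = 1
    have h7 : (m : G) = g * (g⁻¹ * m * g) * g⁻¹ := by group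
    rw [h7, h6]
    group
  · -- `b` centralises `K₁`, hence `K`
    have hbX : b ∈ X := (memX b).2 ⟨b4, hbu⟩
    have h2 : ∀ m ∈ M, b * (m : G) = m * b := by
      intro m hm
      have h3 : (m : G) ∈ X := hK1X ⟨m, hm, rfl⟩
      have h4 := (commutator_eq_bot_iff_le_centralizer.1 h1)
        (show (⟨m, h3⟩ : X) ∈ (M.map K.subtype).subgroupOf X from ⟨m, hm, rfl⟩)
      have h5 := mem_centralizer_iff.1 h4 ⟨b, hbX⟩ ((memS b hbX).2 b1)
      exact congrArg Subtype.val h5
    have hβ : act K b (hKmem b b4) = 1 := by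
      apply hM4
      · exact Odd.of_dvd_nat b3 (orderOf_act_dvd _)
      · intro m hm
        rw [act_eq_iff]
        exact h2 m hm
    rw [act_one_iff] at hβ
    rcases S.CK b b4 hβ with h3 | h3
    · exact b2 h3
    · apply b2
      exact PglType.eq_one_of_odd_sq (by rw [h3]; exact S.xx) b3

/-- **C2(beta)** -/
theorem absurd_of (hG : ∀ (φ : G →* ℤˣ) (u : G), φ u = 1) : False := by
  refine PairTransfer.false_of_unique hG (HH z L) (lam z RL) S.xx S.pT S.xT S.cx S.T_le ?_ ?_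
  · rw [lam_apply]
    exact S.out _ fun l => act_apply L x _ l
  · intro g h hl
    have hz' : ∀ d ∈ T, d * (g * z * g⁻¹) = g * z * g⁻¹ * d := by
      intro d hd
      have h1 := (mem_HH.1 (h d hd)).1
      calc d * (g * z * g⁻¹) = g * (g⁻¹ * d * g * z) * g⁻¹ := by group
        _ = g * (z * (g⁻¹ * d * g)) * g⁻¹ := by rw [h1]
        _ = g * z * g⁻¹ * d := by group
    have hz'T : g * z * g⁻¹ ∈ T := by
      have h1 : g * z * g⁻¹ * (g * z * g⁻¹) = 1 := by
        calc g * z * g⁻¹ * (g * z * g⁻¹) = g * (z * z) * g⁻¹ := by group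
          _ = 1 := by rw [S.zz]; group
      have h2 : IsPGroup 2 (zpowers (g * z * g⁻¹)) := isPGroup_zpowers ⟨1, by rw [pow_one, sq, h1]⟩
      have h3 : T ≤ normalizer (zpowers (g * z * g⁻¹) : Set G) := by
        intro d hd
        apply mem_norm_of
        intro l hl
        obtain ⟨k, rfl⟩ := mem_zpowers_iff.1 hl
        have h4 : d * (g * z * g⁻¹) ^ k = (g * z * g⁻¹) ^ k * d :=
          (Commute.zpow_right (hz' d hd) k)
        rw [h4, mul_inv_cancel_right]
        exact hl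
      have h4 := IsPGroup.to_sup_of_normal_right' S.pT h2 h3
      have h5 := S.max _ h4 le_sup_left (by
        intro y hy
        have h6 : T ⊔ zpowers (g * z * g⁻¹) ≤ centralizer ({x} : Set G) := by
          rw [sup_le_iff, zpowers_le]
          exact ⟨fun t ht => mem_centralizer_singleton_iff.2 (S.cx t ht),
            mem_centralizer_singleton_iff.2 (hz' x S.xT).symm⟩
        exact mem_centralizer_singleton_iff.1 (h6 hy))
      exact h5 (mem_sup_right (mem_zpowers _))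
    rcases S.Z _ hz'T hz' with (h1 | h1 | h1 | h1) | h1
    · exfalso
      apply S.z1
      have h2 : z = g⁻¹ * (g * z * g⁻¹) * g := by group
      rw [h2, h1]
      group
    · exfalso
      rw [lam_apply] at hl
      refine PglType.ne_one RL hl ((act_one_iff (h x S.xT).2).2 fun l hl => ?_)
      have h2 : g⁻¹ * x * g = z := by rw [← h1]; group
      rw [h2]
      exact (S.Lz l hl).symm
    · exact S.case_z h hl (by rw [← mul_inv_eq_iff_eq_mul]; exact h1)
    · exact absurd (S.case_xz h hl h1) id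
    · exact absurd (S.case_f h hl hz'T h1) id

end BData

end Cfsg.Agent.OddHalf.D6.Beta

end
end

-- part: OddHalf/D6/LTwoMain
section
-- merged: Cfsg.Agent.OddHalf.D6.FieldInvD
section

/-!
# ODD D6, `K = L₂(q)`: the field involution inverts an element of odd order of `C_K(z)` (helper708)

`exists_inverted`: `φ` an involutory automorphism of field type of `L = PSL(2,F)`, `|F| ≠ 9`, trivial on a Sylow
2-subgroup with central involution `z`: `φ` inverts an element `≠ 1` of odd order of `C_L(z)`.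
-/

set_option autoImplicit false

namespace Cfsg.Agent.OddHalf.D6

open Matrix Cfsg.Agent.GH Cfsg.Agent.GH.L2Aut Cfsg.Agent.Lib.SL2Mat Cfsg.Agent.Lib.AutSL2
  Cfsg.Agent.Lib.AutSL2Out Cfsg.Agent.Lib.PSL2Circle Cfsg.Agent.Lib.PSL2Inv

section count

variable {F : Type*} [Field F] [Finite F]

/-- the count: some point of the circle has first coordinate not in `F₀ ∪ δ F₀` -/
theorem exists_point (h2 : (2 : F) ≠ 0) {τ : F ≃+* F} (hτ : orderOf τ = 2) (hF : Nat.card F ≠ 9) :
    ∃ p : Circ F, τ p.re ≠ p.re ∧ τ p.re ≠ - p.re := by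
  classical
  by_contra hno
  push Not at hno
  obtain ⟨K, hK, hcard⟩ := L2Aut.exists_fixed_field τ
  rw [hτ] at hcard
  have : Fintype F := Fintype.ofFinite F
  have : Fintype (Circ F) := Fintype.ofFinite _
  set k := Nat.card K with hk
  have hkodd : k % 2 = 1 := by
    have h1 := Lib.PSL2Torus.odd_card h2
    rw [hcard] at h1
    by_contra h3
    have h4 : k % 2 = 0 := by omega
    have h5 : k ^ 2 % 2 = 0 := by rw [pow_two, Nat.mul_mod, h4]
    omega
  have hk4 : k ^ 2 % 4 = 1 := by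
    have h3 : k % 4 = 1 ∨ k % 4 = 3 := by omega
    rcases h3 with h3 | h3 <;> rw [pow_two, Nat.mul_mod, h3]
  have hk1 : 1 < k := by
    have h3 : 1 < Nat.card F := Finite.one_lt_card
    rw [hcard] at h3
    by_contra h4
    interval_cases k <;> omega
  have hk3 : k ≠ 3 := by
    intro h3
    apply hF
    rw [hcard, h3]; norm_num
  have hk5 : 5 ≤ k := by omega
  have hcirc : Fintype.card (Circ F) = k ^ 2 - 1 := by
    rw [← Nat.card_eq_fintype_card]
    rcases card_circ h2 with h3 | h3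
    · rw [h3.2, hcard]
    · rw [hcard, hk4] at h3
      omega
  let S1 : Finset F := Finset.univ.filter (fun a => τ a = a)
  let S2 : Finset F := Finset.univ.filter (fun a => τ a = -a)
  have hS1 : S1.card = k := by
    rw [hk, Nat.card_eq_fintype_card, ← Fintype.card_coe]
    refine Fintype.card_congr ⟨fun a => ⟨a, (hK a).2 (Finset.mem_filter.1 a.2).2⟩,
      fun a => ⟨a, Finset.mem_filter.2 ⟨Finset.mem_univ _, (hK a).1 a.2⟩⟩, fun a => rfl, fun a => rfl⟩
  have hS2 : S2.card ≤ k := by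
    by_cases h3 : ∃ d ∈ S2, d ≠ 0
    · obtain ⟨d, hd, hd0⟩ := h3
      have hdd := (Finset.mem_filter.1 hd).2
      rw [← hS1]
      refine Finset.card_le_card_of_injOn (fun a => a * d⁻¹) ?_ ?_
      · intro a ha
        have haa := (Finset.mem_filter.1 ha).2
        refine Finset.mem_coe.2 (Finset.mem_filter.2 ⟨Finset.mem_univ _, ?_⟩)
        show τ (a * d⁻¹) = a * d⁻¹
        rw [map_mul, map_inv₀, haa, hdd, inv_neg, neg_mul_neg]
      · intro a _ b _ hab
        exact mul_right_cancel₀ (inv_ne_zero hd0) hab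
    · push Not at h3
      have h4 : S2 ⊆ {0} := by
        intro a ha
        rw [Finset.mem_singleton]
        exact h3 a ha
      exact (Finset.card_le_card h4).trans (by rw [Finset.card_singleton]; omega)
  have hfib := Finset.card_le_mul_card_image (f := fun p : Circ F => p.re) Finset.univ 2 (by
    intro a ha
    obtain ⟨p, -, hp⟩ := Finset.mem_image.1 ha
    let p' : Circ F := ⟨p.re, -p.im, by rw [neg_sq]; exact p.eqn⟩
    have h3 : Finset.univ.filter (fun q : Circ F => q.re = a) ⊆ {p, p'} := by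
      intro q hq
      have h4 : q.re = a := (Finset.mem_filter.1 hq).2
      have h5 : (q.im - p.im) * (q.im + p.im) = 0 := by
        have h6 := q.eqn
        have h7 := p.eqn
        have h8 : p.re = q.re := by rw [h4]; exact hp
        rw [h8] at h7
        linear_combination h6 - h7
      have h8 : q.re = p.re := by rw [h4]; exact hp.symm
      rw [Finset.mem_insert, Finset.mem_singleton]
      rcases mul_eq_zero.1 h5 with h6 | h6
      · left
        exact Circ.ext h8 (by linear_combination h6)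
      · right
        exact Circ.ext h8 (by show q.im = -p.im; linear_combination h6)
    exact (Finset.card_le_card h3).trans Finset.card_le_two)
  have himg : (Finset.univ.image (fun p : Circ F => p.re)).card ≤ 2 * k := by
    have h3 : Finset.univ.image (fun p : Circ F => p.re) ⊆ S1 ∪ S2 := by
      intro a ha
      obtain ⟨p, -, rfl⟩ := Finset.mem_image.1 ha
      rw [Finset.mem_union]
      by_cases h4 : τ p.re = p.re
      · left; exact Finset.mem_filter.2 ⟨Finset.mem_univ _, h4⟩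
      · right; exact Finset.mem_filter.2 ⟨Finset.mem_univ _, hno p h4⟩
    have h4 := (Finset.card_le_card h3).trans (Finset.card_union_le _ _)
    omega
  rw [Finset.card_univ, hcirc] at hfib
  have h9 : k ^ 2 - 1 ≤ 4 * k := by omega
  have h10 : 5 * k ≤ k ^ 2 := by rw [pow_two]; exact Nat.mul_le_mul_right k hk5
  omega

end count

section inverted

variable {F L : Type*} [Field F] [Finite F] [Group L]

/-- an element is a product of a power of 2-power order and a power of odd order -/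
theorem exists_two_odd {A : Type*} [Group A] [Finite A] (y : A) :
    ∃ u v : ℤ, ∃ k : ℕ, ∃ m : ℕ, Odd m ∧ orderOf y = 2 ^ k * m ∧ y = (y ^ m) ^ u * (y ^ 2 ^ k) ^ v := by
  obtain ⟨k, m, hm, hkm⟩ := Nat.exists_eq_two_pow_mul_odd (orderOf_pos y).ne'
  have hco : Int.gcd (m : ℤ) ((2 ^ k : ℕ) : ℤ) = 1 := by
    rw [Int.gcd_natCast_natCast]
    exact (Nat.Coprime.pow_left k hm.coprime_two_left).symm
  have h1 := Int.gcd_eq_gcd_ab (m : ℤ) ((2 ^ k : ℕ) : ℤ)
  rw [hco] at h1
  refine ⟨Int.gcdA m ((2 ^ k : ℕ) : ℤ), Int.gcdB m ((2 ^ k : ℕ) : ℤ), k, m, hm, hkm, ?_⟩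
  rw [← zpow_natCast y m, ← zpow_natCast y (2 ^ k), ← _root_.zpow_mul, ← _root_.zpow_mul, ← _root_.zpow_add, ← h1]
  simp

theorem exists_inverted (R : L2Aut.Rep F L) {φ : MulAut L} (hφφ : φ * φ = 1) (hφf : R.fld φ ≠ 1)
    {z : L} (hzz : z * z = 1) (hz1 : z ≠ 1) (P : Sylow 2 L) (hP : ∀ s ∈ P, φ s = s)
    (hzP : z ∈ P) (hPz : ∀ s ∈ P, s * z = z * s) (hF : Nat.card F ≠ 9) :
    ∃ a : L, a * z = z * a ∧ Odd (orderOf a) ∧ a ≠ 1 ∧ φ a = a⁻¹ := by
  have hfinL : Finite L := R.finite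
  obtain ⟨R', -, hfld, hφ, hord⟩ := R.ftype_rep (fun h1 => hφf (R.mem_PGL_iff_fld.1 h1)) hφφ
  set τ := R.fld φ with hτ
  have h2 := R'.two
  obtain ⟨i, hi, hii⟩ := R'.exists_inv_lift hzz hz1
  have hii' : i * i = -1 := Subtype.ext hii
  have hie : ent i 1 1 = - ent i 0 0 := tr_of_sq h2 hii'
  have hcomm : ∀ m n : Matrix.SpecialLinearGroup (Fin 2) F, m * i = i * m → n * i = i * n →
      m * n = n * m := by
    intro m n hm hn
    obtain ⟨p, rfl⟩ := exists_comb h2 hie hm
    obtain ⟨q, rfl⟩ := exists_comb h2 hie hn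
    exact comb_comm hie p q
  have hφz : φ z = z := hP z hzP
  have hτi : fieldAut τ i = i ∨ fieldAut τ i = -i := by
    rw [← R'.π_eq_iff, ← R'.fa_apply, ← hφ, hi, hφz]
  have hφm : ∀ m, φ (R'.π m) = R'.π (fieldAut τ m) := by
    intro m
    rw [← R'.fa_apply, ← hφ]
  have hτm : ∀ m, m * i = i * m → fieldAut τ m * i = i * fieldAut τ m := by
    intro m hm
    have h3 := congrArg (fieldAut τ) hm
    rw [map_mul, map_mul] at h3
    rcases hτi with h4 | h4
    · rwa [h4] at h3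
    · rw [h4, mul_neg, neg_mul, neg_inj] at h3
      exact h3
  by_contra hno
  push Not at hno
  -- elements of odd order are fixed
  have hodd : ∀ m, m * i = i * m → Odd (orderOf (R'.π m)) → φ (R'.π m) = R'.π m := by
    intro m hm ho
    by_contra h3
    have hc : R'.π m * φ (R'.π m) = φ (R'.π m) * R'.π m := by
      rw [hφm, ← map_mul, ← map_mul, hcomm _ _ hm (hτm m hm)]
    have hφ2 : φ (φ (R'.π m)) = R'.π m := by
      rw [← MulAut.mul_apply, hφφ, MulAut.one_apply]
    refine hno (R'.π m * (φ (R'.π m))⁻¹) ?_ ?_ ?_ ?_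
    · have e1 : R'.π m * z = z * R'.π m := by rw [← hi, ← map_mul, hm, map_mul]
      have e2 : φ (R'.π m) * z = z * φ (R'.π m) := by
        have := congrArg φ e1
        rwa [map_mul, map_mul, hφz] at this
      have e3 : (φ (R'.π m))⁻¹ * z = z * (φ (R'.π m))⁻¹ := by
        rw [inv_mul_eq_iff_eq_mul, ← mul_assoc, e2, mul_assoc, mul_inv_cancel, mul_one]
      rw [mul_assoc, e3, ← mul_assoc, e1, mul_assoc]
    · have e1 : Commute (R'.π m) (φ (R'.π m))⁻¹ := (Commute.inv_right (show Commute _ _ from hc))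
      have e2 : orderOf (φ (R'.π m))⁻¹ = orderOf (R'.π m) := by
        rw [orderOf_inv]
        exact orderOf_injective φ.toMonoidHom φ.injective _
      refine Odd.of_dvd_nat ?_ (e1.orderOf_mul_dvd_mul_orderOf)
      rw [e2]; exact ho.mul ho
    · rw [Ne, mul_inv_eq_one]
      exact fun h => h3 h.symm
    · rw [map_mul, map_inv, hφ2, _root_.mul_inv_rev, inv_inv]
  -- 2-elements are in `P`
  have htwo : ∀ m, m * i = i * m → (∃ n, (R'.π m) ^ 2 ^ n = 1) → φ (R'.π m) = R'.π m := by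
    intro m hm hn
    apply hP
    have hnorm : ∀ s ∈ P, s * R'.π m * s⁻¹ ∈ Subgroup.zpowers (R'.π m) := by
      intro s hs
      obtain ⟨n, rfl⟩ := R'.surj s
      have e1 : n * i = i * n ∨ n * i = -(i * n) := by
        rw [← R'.π_eq_iff, map_mul, map_mul, hi]
        exact hPz _ hs
      rcases e1 with e1 | e1
      · rw [← map_mul, hcomm n m e1 hm, map_mul, mul_inv_cancel_right]
        exact Subgroup.mem_zpowers _
      · have e2 := (Lib.PSL2Torus.anti h2 hie e1).2 m hm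
        rw [← map_mul, ← map_inv, ← map_mul, e2, map_inv]
        exact (Subgroup.zpowers _).inv_mem (Subgroup.mem_zpowers _)
    have hsup : IsPGroup 2 (Subgroup.zpowers (R'.π m) ⊔ (P : Subgroup L) : Subgroup L) := by
      refine isPGroup_sup (isPGroup_zp hn) P.isPGroup' ?_
      intro s hs
      refine Subgroup.mem_normalizer_fintype ?_
      intro y hy
      obtain ⟨j, rfl⟩ := Subgroup.mem_zpowers_iff.1 hy
      have e3 : s * (R'.π m) ^ j * s⁻¹ = (s * R'.π m * s⁻¹) ^ j := (conj_zpow).symm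
      rw [e3]
      exact (Subgroup.zpowers _).zpow_mem (hnorm s hs) j
    have e4 := P.is_maximal' hsup le_sup_right
    rw [← SetLike.mem_coe, ← P.coe_coe, SetLike.mem_coe]
    rw [← e4]
    exact (le_sup_left : Subgroup.zpowers (R'.π m) ≤ _) (Subgroup.mem_zpowers _)
  -- everything is fixed
  have hall : ∀ m, m * i = i * m → φ (R'.π m) = R'.π m := by
    intro m hm
    obtain ⟨u, v, k, n, hn, hord', hy⟩ := exists_two_odd (R'.π m)
    have hpow : ∀ j : ℕ, m ^ j * i = i * m ^ j := fun j =>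
      ((show Commute m i from hm).pow_left j)
    have e1 : φ ((R'.π m) ^ n) = (R'.π m) ^ n := by
      rw [← map_pow]
      refine htwo _ (hpow n) ⟨k, ?_⟩
      rw [map_pow, ← pow_mul, mul_comm, ← hord', pow_orderOf_eq_one]
    have e2 : φ ((R'.π m) ^ 2 ^ k) = (R'.π m) ^ 2 ^ k := by
      rw [← map_pow]
      refine hodd _ (hpow _) ?_
      rw [map_pow, orderOf_pow, hord', Nat.gcd_mul_right_left, Nat.mul_div_cancel_left _ (by positivity)]
      exact hn
    rw [hy, map_mul, map_zpow, map_zpow, e1, e2]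
  -- count
  obtain ⟨p, hp1, hp2⟩ := exists_point h2 hord hF
  have h3 := hall (comb i hie p) (comb_commute hie p)
  rw [hφm, R'.π_eq_iff] at h3
  have htr : tr (comb i hie p) = 2 * p.re := by
    show ent (comb i hie p) 0 0 + ent (comb i hie p) 1 1 = 2 * p.re
    rw [comb_00, comb_11]; ring
  have htr' := tr_fieldAut τ (comb i hie p)
  have hτ2 : τ 2 = 2 := map_ofNat τ 2
  rcases h3 with h3 | h3
  · rw [h3, htr, map_mul, hτ2] at htr'
    exact hp1 (mul_left_cancel₀ h2 htr'.symm)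
  · have hneg : ∀ y : Matrix.SpecialLinearGroup (Fin 2) F, tr (-y) = - tr y := by
      intro y
      show - ent y 0 0 + - ent y 1 1 = -(ent y 0 0 + ent y 1 1)
      ring
    rw [h3, hneg, htr, map_mul, hτ2] at htr'
    apply hp2
    apply mul_left_cancel₀ h2
    rw [← htr']; ring

end inverted

/-- **(B4)** `f` inverts an element of odd prime order of `C_K(z)`. -/
theorem FData.exists_inv {G : Type*} [Group G] [Finite G] {x z f c r : G} {K T : Subgroup G}
    {F : Type*} [Field F] [Finite F] {R : L2Aut.Rep F K} (S : Setup x K T)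
    (D : FData x z f c r K T R) (hF : Nat.card F ≠ 9) :
    ∃ a ∈ K, a * z = z * a ∧ (orderOf a).Prime ∧ Odd (orderOf a) ∧ f * a * f⁻¹ = a⁻¹ := by
  obtain ⟨P, hP⟩ := S.sylK
  have memP : ∀ k : K, k ∈ P ↔ (k : G) ∈ T := by
    intro k
    have : k ∈ (P : Subgroup K) ↔ k ∈ T.subgroupOf K := by rw [hP]
    exact this
  obtain ⟨φ, hφ⟩ := S.acts (S.cx f D.fT)
  obtain ⟨hφφ, hφf⟩ := D.ftype φ hφ
  have hzT := D.zT
  obtain ⟨a, haz, hao, ha1, haφ⟩ := exists_inverted R hφφ hφf (z := ⟨z, D.zK⟩)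
    (Subtype.ext D.zz) (fun h => D.z1 (congrArg Subtype.val h)) P
    (fun s hs => hφ.fix (D.fD s ((memP s).1 hs) s.2)) ((memP _).2 hzT)
    (fun s hs => Subtype.ext (D.cz s ((memP s).1 hs))) hF
  have ha1' : orderOf a ≠ 1 := fun h => ha1 (orderOf_eq_one_iff.1 h)
  obtain ⟨p, hp, hpa⟩ := Nat.exists_prime_and_dvd ha1'
  have hord : orderOf (a ^ (orderOf a / p)) = p := by
    rw [orderOf_pow, Nat.gcd_eq_right (Nat.div_dvd_of_dvd hpa)]
    exact Nat.div_div_self hpa (orderOf_pos a).ne'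
  have hord' : orderOf ((a ^ (orderOf a / p) : K) : G) = p := by
    rw [Subgroup.orderOf_coe]; exact hord
  refine ⟨((a ^ (orderOf a / p) : K) : G), (a ^ (orderOf a / p)).2, ?_, ?_, ?_, ?_⟩
  · have h1 : a ^ (orderOf a / p) * ⟨z, D.zK⟩ = ⟨z, D.zK⟩ * a ^ (orderOf a / p) :=
      (show Commute a ⟨z, D.zK⟩ from haz).pow_left _
    exact congrArg Subtype.val h1
  · rw [hord']; exact hp
  · rw [hord']; exact Odd.of_dvd_nat hao hpa
  · rw [← hφ, map_pow, haφ, inv_pow]
    rfl

end Cfsg.Agent.OddHalf.D6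

end

-- merged: Cfsg.Agent.OddHalf.D6.Main2
section

/-!
# ODD D6, `K = L₂(q)`, `|Q| = 2`, `q ≠ 9`: the end (helper708)

`main2`: `x` an involution of the finite group `G` without homomorphism onto `{±1}`, of sectional 2-rank at least 5,
`K ≅ PSL(2,F)` normal in `C(x)` with `C_{C(x)}(K) = {1, x}`, `|F| ≠ 9`; all involution centralizers have trivial core
and only components `PSL(2,F')`, `F'` of odd characteristic. Contradiction.
-/

set_option autoImplicit false

namespace Cfsg.Agent.OddHalf.D6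

open Subgroup Cfsg.Agent.GH Cfsg.Agent.GH.L2Aut

variable {G : Type*} [Group G]

theorem Setup.toFr {x z : G} {K T : Subgroup G} (S : Setup x K T) (zK : z ∈ K) (zz : z * z = 1)
    (z1 : z ≠ 1) : Fr x z K :=
  ⟨S.xx, S.Kx, S.Kn, S.CK, zK, zz, z1⟩

/-- type (a) -/
theorem false_of_typeA [Finite G] {x z f c r w a : G} {K T L : Subgroup G} {F : Type} [Field F]
    [Finite F] {R : L2Aut.Rep F K} (S : Setup x K T) (D : FData x z f c r K T R)
    (O : TypeA.Over x z T K L w) (hwT : w ∈ T)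
    (hw : ∀ c, c * x = x * c → c * z = z * c → c * w = w * c)
    (haK : a ∈ K) (haz : a * z = z * a) (hao : Odd (orderOf a)) (ha1 : a ≠ 1)
    (hfa : f * a * f⁻¹ = a⁻¹) : False := by
  have haw := hw a (S.Kx a haK) haz
  have hcen : ∀ t ∈ T, w * t = t * w := fun t ht => (hw t (S.cx t ht) (D.cz t ht)).symm
  obtain ⟨e, he, hwe⟩ := D.CD w hwT (fun d hd _ => hcen d hd)
  have hea : e * a = a * e := by
    have h1 := S.Kx a haK
    rcases he with rfl | rfl | rfl | rfl
    · rw [mul_one, one_mul]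
    · exact h1.symm
    · exact haz.symm
    · rw [mul_assoc, ← haz, ← mul_assoc, ← h1, mul_assoc]
  rcases hwe with rfl | rfl
  · have hz : w ≠ z := by
      rintro rfl
      exact O.w1 (O.center O.wL (fun m hm => (O.Lz m hm).symm))
    rcases he with h | h | h | h
    · exact O.w1 h
    · exact (D.base S).false_of_over O (Or.inl h)
    · exact hz h
    · exact (D.base S).false_of_over O (Or.inr h)
  · have h1 : a = a⁻¹ := by
      calc a = (f * e) * a * (f * e)⁻¹ := by rw [← haw]; group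
        _ = f * (e * a * e⁻¹) * f⁻¹ := by group
        _ = f * a * f⁻¹ := by rw [hea]; group
        _ = a⁻¹ := hfa
    have h2 : a * a = 1 := by nth_rw 2 [h1]; exact mul_inv_cancel a
    have h3 : orderOf a ∣ 2 := orderOf_dvd_of_pow_eq_one (by rw [pow_two]; exact h2)
    rcases (Nat.dvd_prime Nat.prime_two).1 h3 with h4 | h4
    · exact ha1 (orderOf_eq_one_iff.1 h4)
    · rw [h4] at hao; exact absurd hao (by decide)

/-- `x` acts on a component of `C(z)` as an element of `PGL(2,F)` -/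
theorem fld_of_comp [Finite G] {x z : G} {K : Subgroup G} {F : Type*} [Field F] [Finite F]
    {R : L2Aut.Rep F K} (fr : Fr x z K) {L : Subgroup G} (hL : Comp z L) {F' : Type*}
    [Field F'] [Finite F'] (RL : L2Aut.Rep F' L) {φ : MulAut L}
    (hφ : ∀ l : L, ((φ l : L) : G) = x * l * x⁻¹) : RL.fld φ = 1 := by
  have B := fr.toQ.bal R (hz_self (x := x) (z := z))
  by_contra h
  have hφφ : φ * φ = 1 := by
    ext l
    rw [MulAut.mul_apply, hφ, hφ, MulAut.one_apply]
    have hx : x⁻¹ = x := inv_eq_of_mul_eq_one_left fr.xx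
    rw [hx]
    calc x * (x * l * x) * x = (x * x) * l * (x * x) := by group
      _ = l := by rw [fr.xx]; group
  obtain ⟨a, b, y, hab, ha, hb, hy, hyyy, hya⟩ := RL.field_four (fun h1 => h (RL.mem_PGL_iff_fld.1 h1)) hφφ
  have hc : ∀ l : L, φ l = l → (l : G) * x = x * l := by
    intro l hl
    have h1 := hφ l
    rw [hl] at h1
    nth_rw 1 [h1]; group
  have hz : ∀ l : L, (l : G) ∈ centralizer ({z} : Set G) := fun l => mem_cent.2 (hL.comm l l.2)
  have e1 : (y : G) * y * y = 1 := congrArg Subtype.val hyyy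
  have e2 : (y : G) * a * (y : G)⁻¹ = b := congrArg Subtype.val hya
  have e3 : (a : G) * a = 1 := congrArg Subtype.val hab.aa
  have e4 : (b : G) * b = 1 := congrArg Subtype.val hab.bb
  have e5 : (a : G) * b = b * a := congrArg Subtype.val hab.comm
  have h2 := B.no_four (a := ⟨a, hz a⟩) (b := ⟨b, hz b⟩) (y := ⟨y, hz y⟩)
    (Subtype.ext (hc y hy)) (Subtype.ext (hc a ha)) (Subtype.ext e1) (Subtype.ext e2)
    (Subtype.ext e3) (Subtype.ext e4) (Subtype.ext e5)
  have h3 : (a : G) = b := congrArg (fun t : ↥(centralizer ({z} : Set G)) => (t : G)) h2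
  exact hab.ne (Subtype.ext h3)

/-- **|Q| = 2** -/
theorem main2 [Finite G] (hG : ∀ (φ : G →* ℤˣ) (u : G), φ u = 1)
    (h5 : ¬ SectionalPRankLE 2 4 G) {x : G} {K T : Subgroup G} (S : Setup x K T) {F : Type}
    [Field F] [Finite F] (R : L2Aut.Rep F K) (hF : Nat.card F ≠ 9)
    (hW : ∀ u : G, u * u = 1 → u ≠ 1 → World u) : False := by
  have hfield : ∃ t ∈ T, ∃ α, Acts K t α ∧ α * α = 1 ∧ R.fld α ≠ 1 := by
    by_contra h
    push Not at h
    exact h5 (S.harada R h)
  obtain ⟨z, f, c, r, D⟩ := S.exists_fdata R hfield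
  have fr := S.toFr D.zK D.zz D.z1
  have W := hW z D.zz D.z1
  obtain ⟨a, haK, haz, hap, hao, hfa⟩ := D.exists_inv S hF
  have ha1 : a ≠ 1 := by
    rintro rfl
    rw [orderOf_one] at hap
    exact Nat.not_prime_one hap
  have haA : a ∈ A0 z K := (fr.toQ.mem_A0 R).2 ⟨haK, haz, hao⟩
  obtain ⟨L, hL, haL⟩ := fr.toQ.exists_comp R hz_self W haA hap
  rcases fr.toQ.types_over R W hL haA haL ha1 S.pT S.cx D.cz (fun P hP hTP h => S.max hP hTP h) with
    ⟨w, O, hwT, hw⟩ | ⟨v, -, -, -, -, -, -, -, hout⟩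
  · exact false_of_typeA S D O hwT hw haK haz hao ha1 hfa
  · obtain ⟨F', _, _, ⟨RL⟩⟩ := W.comp L hL
    have hF9 : 9 < Nat.card F := by
      obtain ⟨α, hα⟩ := S.acts (S.cx f D.fT)
      obtain ⟨hαα, hαf⟩ := D.ftype α hα
      obtain ⟨K₀, hK₀, hcard⟩ := L2Aut.exists_fixed_field (R.fld α)
      have h2 : orderOf (R.fld α) = 2 := by
        apply orderOf_eq_prime
        · rw [pow_two, ← map_mul, hαα, map_one]
        · exact hαf
      rw [h2] at hcard
      have h3 := Lib.PSL2Torus.odd_card R.two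
      have h4 : 1 < Nat.card F := Finite.one_lt_card
      set k := Nat.card K₀
      rw [hcard] at h3 h4 hF ⊢
      have h5 : k % 2 = 1 := by
        by_contra h6
        have h7 : k % 2 = 0 := by omega
        have h8 : k ^ 2 % 2 = 0 := by rw [pow_two, Nat.mul_mod, h7]
        omega
      have h6 : k ≠ 1 := by
        intro h7
        rw [h7] at h4
        norm_num at h4
      have h7 : k ≠ 3 := by
        intro h7
        rw [h7] at hF
        norm_num at hF
      have h8 : 5 ≤ k := by omega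
      nlinarith
    have BD : Beta.BData x z f c T K L R RL :=
      { hF := hF9
        xx := S.xx
        zz := D.zz
        z1 := D.z1
        xT := S.xT
        zK := D.zK
        cx := S.cx
        cz := D.cz
        pT := S.pT
        max := fun P hP hTP h => S.max hP hTP h
        Kx := S.Kx
        Kn := S.Kn
        CK := S.CK
        fx := S.cx f D.fT
        fK := fun φ hφ => (D.ftype φ hφ).2
        Z := by
          intro t ht hcen
          obtain ⟨e, he, hte⟩ := D.CD t ht (fun d hd _ => (hcen d hd).symm)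
          rcases hte with rfl | rfl
          · exact Or.inl he
          · right
            rw [← mul_assoc]
            rcases D.ff with h1 | h1
            · rw [h1, one_mul]; exact he
            · rw [h1]
              rcases he with rfl | rfl | rfl | rfl
              · right; left; rw [mul_one]
              · left; exact S.xx
              · right; right; right; rfl
              · right; right; left
                rw [← mul_assoc, S.xx, one_mul]
        cT := D.cT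
        zc := D.zc
        inv := by
          intro b v hbo hbx hbz hvx hvz hvb
          have h1 := (fr.toQ.A0_data R).2.2.2.2 b v hbx hvx hbz hvz hbo
          have h2 : b * v * b⁻¹ * v⁻¹ = b * b := by
            have h3 : v * b⁻¹ * v⁻¹ = b := by
              have h4 := congrArg (fun y => y⁻¹) hvb
              simp only [mul_inv_rev, inv_inv] at h4
              rw [← mul_assoc] at h4
              exact h4
            calc b * v * b⁻¹ * v⁻¹ = b * (v * b⁻¹ * v⁻¹) := by group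
              _ = b * b := by rw [h3]
          rw [h2] at h1
          have h3 := mem_of_sq_mem h1 hbo
          exact D.codd b ((fr.toQ.mem_A0 R).1 h3).1 hbz hbo
        Lz := hL.comm
        TL := fun t ht => fr.toQ.norm_comp R hz_self W hL haA haL ha1 (S.cx t ht) (D.cz t ht)
        hL := by
          obtain ⟨L', hL', rfl⟩ := hL
          rw [Subgroup.subgroupOf,
            Subgroup.comap_map_eq_self_of_injective (centralizer ({z} : Set G)).subtype_injective]
          exact hL'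
        out := by
          intro φ hφ
          have h1 := fld_of_comp (R := R) fr hL RL hφ
          by_contra h2
          have h3 : RL.o1 φ = 1 := by
            rcases Int.units_eq_one_or (RL.o1 φ) with h3 | h3
            · exact h3
            · exact absurd h3 h2
          obtain ⟨w, hw⟩ := RL.mem_inn_iff.2 ⟨h1, h3⟩
          refine hout ⟨w, w.2, fun l hl => ?_⟩
          have h4 := hφ ⟨l, hl⟩
          rw [← hw] at h4
          exact h4.symm
        b := ⟨a, haL, ha1, hao, S.Kx a haK⟩ }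
    exact BD.absurd_of hG

end Cfsg.Agent.OddHalf.D6

end

-- merged: Cfsg.Agent.OddHalf.D6.SetupQ
section

/-!
# ODD D6, `K = L₂(q)`, `Q = C_{C(x)}(K) = ⟨q₀⟩` cyclic: the setup (helper419)

`SetupQ x q₀ K T`: `x` is an involution, `K ⊴ C(x)`, `C_{C(x)}(K) = ⟨q₀⟩` is a cyclic 2-group containing `x`,
`T` is a Sylow 2-subgroup of `C(x)`. (After helper708's `Setup`.)
-/

set_option autoImplicit false

namespace Cfsg.Agent.OddHalf.D6

open Subgroup Cfsg.Agent.GH Cfsg.Agent.GH.L2Aut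

/-- The setup with `Q = ⟨q₀⟩`. -/
structure SetupQ {G : Type*} [Group G] (x q₀ : G) (K T : Subgroup G) : Prop where
  xx : x * x = 1
  x1 : x ≠ 1
  Kx : ∀ k ∈ K, k * x = x * k
  Kn : ∀ c, c * x = x * c → ∀ k ∈ K, c * k * c⁻¹ ∈ K
  Qx : q₀ * x = x * q₀
  QK : ∀ k ∈ K, q₀ * k = k * q₀
  Q2 : ∃ n, q₀ ^ 2 ^ n = 1
  Qi : ∀ q ∈ zpowers q₀, q * q = 1 → q = 1 ∨ q = x
  CK : ∀ c, c * x = x * c → (∀ k ∈ K, c * k = k * c) → c ∈ zpowers q₀
  pT : IsPGroup 2 T
  cx : ∀ t ∈ T, t * x = x * t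
  /-- `T` is a Sylow 2-subgroup of `C(x)` -/
  syl : ∀ P : Subgroup G, IsPGroup 2 P → (∀ y ∈ P, y * x = x * y) →
    ∃ g, g * x = x * g ∧ ∀ y ∈ P, g * y * g⁻¹ ∈ T

variable {G : Type*} [Group G]

namespace SetupQ

variable {x q₀ : G} {K T : Subgroup G}

/-- elements of `C(x)` act on `K` -/
theorem acts (S : SetupQ x q₀ K T) {c : G} (hc : c * x = x * c) : ∃ α, Acts K c α := by
  refine exists_acts (S.Kn c hc) ?_
  intro k hk
  have := S.Kn c⁻¹ (Setup.comm_inv hc) k hk
  rwa [inv_inv] at this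

theorem ker (S : SetupQ x q₀ K T) {c : G} (hc : c * x = x * c) (h1 : Acts K c 1) :
    c ∈ zpowers q₀ := S.CK c hc h1.comm

/-- `Q` centralizes `x` -/
theorem q_comm (S : SetupQ x q₀ K T) {q : G} (hq : q ∈ zpowers q₀) : q * x = x * q := by
  obtain ⟨i, rfl⟩ := mem_zpowers_iff.1 hq
  exact ((show Commute q₀ x from S.Qx).zpow_left i).eq

/-- `Q` centralizes `K` -/
theorem q_commK (S : SetupQ x q₀ K T) {q : G} (hq : q ∈ zpowers q₀) : ∀ k ∈ K, q * k = k * q := by
  intro k hk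
  obtain ⟨i, rfl⟩ := mem_zpowers_iff.1 hq
  exact ((show Commute q₀ k from S.QK k hk).zpow_left i).eq

/-- `Q ⊴ C(x)` -/
theorem q_norm (S : SetupQ x q₀ K T) {c q : G} (hc : c * x = x * c) (hq : q ∈ zpowers q₀) :
    c * q * c⁻¹ ∈ zpowers q₀ := by
  refine S.CK _ (Setup.comm_mul (Setup.comm_mul hc (S.q_comm hq)) (Setup.comm_inv hc)) ?_
  intro k hk
  have h1 : c⁻¹ * k * c ∈ K := by
    have := S.Kn c⁻¹ (Setup.comm_inv hc) k hk
    rwa [inv_inv] at this
  have h2 := S.q_commK hq _ h1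
  calc c * q * c⁻¹ * k = c * (q * (c⁻¹ * k * c)) * c⁻¹ := by group
    _ = c * (c⁻¹ * k * c * q) * c⁻¹ := by rw [h2]
    _ = k * (c * q * c⁻¹) := by group

theorem pQ (S : SetupQ x q₀ K T) : IsPGroup 2 (zpowers q₀) := TypeA.isPGroup_zpowers S.Q2

/-- `Q ≤ T` -/
theorem qT (S : SetupQ x q₀ K T) {q : G} (hq : q ∈ zpowers q₀) : q ∈ T := by
  obtain ⟨g, hg, h⟩ := S.syl _ S.pQ (fun y hy => S.q_comm hy)
  have h1 : g⁻¹ * q * g ∈ zpowers q₀ := by
    have := S.q_norm (Setup.comm_inv hg) hq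
    rwa [inv_inv] at this
  have h2 := h _ h1
  rwa [show g * (g⁻¹ * q * g) * g⁻¹ = q by group] at h2

/-- `x ∈ Q` -/
theorem xQ (S : SetupQ x q₀ K T) : x ∈ zpowers q₀ :=
  S.CK x rfl fun k hk => (S.Kx k hk).symm

theorem xT (S : SetupQ x q₀ K T) : x ∈ T := S.qT S.xQ

/-- a 2-group in `C(x)` containing `T` is `T` -/
theorem max [Finite G] (S : SetupQ x q₀ K T) {P : Subgroup G} (hP : IsPGroup 2 P) (hTP : T ≤ P)
    (h : ∀ y ∈ P, y * x = x * y) : P ≤ T := by
  obtain ⟨g, -, hg⟩ := S.syl P hP h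
  have h1 : Nat.card P ≤ Nat.card T := by
    refine Nat.card_le_card_of_injective (fun y : P => (⟨g * y * g⁻¹, hg y y.2⟩ : T)) ?_
    intro a b hab
    have := congrArg Subtype.val hab
    exact Subtype.ext (mul_left_cancel (mul_right_cancel this))
  exact (Subgroup.eq_of_le_of_card_ge hTP h1).ge

/-- a 2-element of `C(x)` normalizing `T` is in `T` -/
theorem mem_of_norm [Finite G] (S : SetupQ x q₀ K T) {y : G} (h2 : ∃ n, y ^ 2 ^ n = 1)
    (hy : y * x = x * y) (hn : ∀ t ∈ T, y * t * y⁻¹ ∈ T) : y ∈ T := by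
  have hy' : zpowers y ≤ normalizer (T : Set G) := by
    rw [zpowers_le]
    exact mem_normalizer_fintype hn
  have h3 : IsPGroup 2 (T ⊔ zpowers y : Subgroup G) := isPGroup_sup S.pT (isPGroup_zpowers h2) hy'
  have h4 := S.max h3 le_sup_left (by
    have h5 : T ⊔ zpowers y ≤ centralizer ({x} : Set G) := by
      refine sup_le (fun t ht => mem_centralizer_singleton_iff.2 (S.cx t ht)) ?_
      rw [zpowers_le]
      exact mem_centralizer_singleton_iff.2 hy
    intro t ht
    exact mem_centralizer_singleton_iff.1 (h5 ht))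
  exact h4 (mem_sup_right (mem_zpowers y))

/-- `T ∩ K` is a Sylow 2-subgroup of `K` -/
theorem sylK [Finite G] (S : SetupQ x q₀ K T) :
    ∃ P : Sylow 2 K, (P : Subgroup K) = T.subgroupOf K := by
  have h2 : IsPGroup 2 (T.subgroupOf K) := by
    have h3 : IsPGroup 2 ((T.subgroupOf K).map K.subtype) := by
      refine S.pT.to_le ?_
      rintro _ ⟨y, hy, rfl⟩
      exact hy
    exact IsPGroup.of_injective h3 ((T.subgroupOf K).equivMapOfInjective K.subtype
      K.subtype_injective).toMonoidHom (MulEquiv.injective _)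
  obtain ⟨P, hP⟩ := h2.exists_le_sylow
  refine ⟨P, (Subgroup.eq_of_le_of_card_ge hP ?_).symm⟩
  have h3 : IsPGroup 2 ((P : Subgroup K).map K.subtype) := P.isPGroup'.map _
  obtain ⟨g, hg, h⟩ := S.syl _ h3 (by
    rintro _ ⟨y, -, rfl⟩
    exact S.Kx y y.2)
  refine Nat.card_le_card_of_injective
    (fun y : (P : Subgroup K) => (⟨⟨g * ((y : K) : G) * g⁻¹, S.Kn g hg _ (y : K).2⟩,
      mem_subgroupOf.2 (h _ ⟨y, y.2, rfl⟩)⟩ : T.subgroupOf K)) ?_
  intro a b hab
  have h4 : g * ((a : K) : G) * g⁻¹ = g * ((b : K) : G) * g⁻¹ :=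
    congrArg (fun z : T.subgroupOf K => ((z : K) : G)) hab
  exact Subtype.ext (Subtype.ext (mul_left_cancel (mul_right_cancel h4)))

/-- `T` has sectional rank at most 4 -/
theorem rank_T [Finite G] (S : SetupQ x q₀ K T) {F : Type*} [Field F] [Finite F]
    (R : L2Aut.Rep F K) : SectionalPRankLE 2 4 T := by
  have hle : T ≤ normalizer (K : Set G) := fun t ht =>
    mem_normalizer_fintype fun k hk => S.Kn t (S.cx t ht) k hk
  let f : T →* MulAut K := K.normalizerMonoidHom.comp (Subgroup.inclusion hle)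
  have hf : ∀ t : T, Acts K t (f t) := fun t k => rfl
  have h1 : SectionalPRankLE 2 1 f.ker := by
    refine rank_of_zpowers (c := (⟨q₀, S.qT (mem_zpowers q₀)⟩ : T)) ?_
    intro t ht
    have h2 := hf t
    rw [MonoidHom.mem_ker] at ht
    rw [ht] at h2
    obtain ⟨i, hi⟩ := mem_zpowers_iff.1 (S.ker (S.cx t t.2) h2)
    exact mem_zpowers_iff.2 ⟨i, Subtype.ext hi⟩
  have h2 : SectionalPRankLE 2 3 f.range := by
    exact rank_aut R _ (IsPGroup.of_surjective S.pT f.rangeRestrict f.rangeRestrict_surjective)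
  exact Rank.of_extension f h1 h2

theorem exists_grow [Finite G] (S : SetupQ x q₀ K T) {F : Type*} [Field F] [Finite F]
    (R : L2Aut.Rep F K) (h : ¬ SectionalPRankLE 2 4 G) :
    ∃ s, (∀ t ∈ T, s * t * s⁻¹ ∈ T) ∧ s * s ∈ T ∧ s ∉ T ∧ s * x ≠ x * s ∧ ∃ n, s ^ 2 ^ n = 1 := by
  obtain ⟨S2, hTS⟩ := S.pT.exists_le_sylow
  have hlt : T < (S2 : Subgroup G) := by
    refine lt_of_le_of_ne hTS ?_
    rintro rfl
    exact h ((Rank.sylow_iff S2).1 (S.rank_T R))
  have : Group.IsNilpotent (S2 : Subgroup G) := S2.isPGroup'.isNilpotent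
  obtain ⟨y, hyS, hyT, hyN⟩ :=
    Cfsg.Agent.Transfer.FrobeniusFusion.exists_mem_normalizer_notMem hlt
  obtain ⟨n, hn⟩ := pow_of_mem S2.isPGroup' hyS
  obtain ⟨m, hm1, hm2⟩ : ∃ m, y ^ 2 ^ m ∉ T ∧ y ^ 2 ^ (m + 1) ∈ T := by
    have h1 : y ^ 2 ^ n ∈ T := by rw [hn]; exact one_mem T
    clear hn
    induction n with
    | zero => rw [pow_zero, pow_one] at h1; exact absurd h1 hyT
    | succ n ih =>
      by_cases h2 : y ^ 2 ^ n ∈ T
      · exact ih h2
      · exact ⟨n, h2, h1⟩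
  have hN : y ^ 2 ^ m ∈ normalizer (T : Set G) := (normalizer (T : Set G)).pow_mem hyN _
  have hc : ∀ t ∈ T, y ^ 2 ^ m * t * (y ^ 2 ^ m)⁻¹ ∈ T := fun t ht =>
    (mem_normalizer_iff.1 hN t).1 ht
  obtain ⟨k, hk⟩ := pow_of_mem S2.isPGroup' ((S2 : Subgroup G).pow_mem hyS (2 ^ m))
  refine ⟨y ^ 2 ^ m, hc, ?_, hm1, ?_, k, hk⟩
  · rw [← pow_add, ← two_mul, ← pow_succ']; exact hm2
  · intro h3
    exact hm1 (S.mem_of_norm ⟨k, hk⟩ h3 hc)

/-- helper837's frame -/
theorem frQ (S : SetupQ x q₀ K T) {z : G} (zK : z ∈ K) (zz : z * z = 1) (z1 : z ≠ 1) :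
    FrQ x z q₀ K where
  xx := S.xx
  Kx := S.Kx
  Kn := S.Kn
  Qx := S.Qx
  QK := S.QK
  Q2 := S.Q2
  Qi := S.Qi
  CK := S.CK
  zK := zK
  zz := zz
  z1 := z1

end SetupQ

end Cfsg.Agent.OddHalf.D6

end

-- merged: Cfsg.Agent.OddHalf.D6.Main4
section

/-!
# ODD D6, `K = L₂(q)`, `q ≠ 9`, `|Q| ≥ 4` (helper419, after helper446's second proof)
-/

set_option autoImplicit false

namespace Cfsg.Agent.OddHalf.D6

open Subgroup Cfsg.Agent.GH Cfsg.Agent.GH.L2Aut

variable {G : Type*} [Group G]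

namespace SetupQ

variable {x q₀ : G} {K T : Subgroup G}

/-- `s` normalizes `T`, `s² ∈ T`, and moves `x` to `z` -/
structure Sw (x z s : G) (T : Subgroup G) : Prop where
  sT : ∀ t ∈ T, s * t * s⁻¹ ∈ T
  ss : s * s ∈ T
  zx : z ≠ x
  sx : s * x * s⁻¹ = z

namespace Sw

variable {z s : G}

theorem sT' (w : Sw x z s T) {t : G} (ht : t ∈ T) : s⁻¹ * t * s ∈ T := by
  have h1 := T.mul_mem (T.mul_mem (T.inv_mem w.ss) (w.sT t ht)) w.ss
  rwa [show (s * s)⁻¹ * (s * t * s⁻¹) * (s * s) = s⁻¹ * t * s by group] at h1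

theorem sx' (w : Sw x z s T) : s⁻¹ * z * s = x := by
  rw [← w.sx]; group

theorem zT (S : SetupQ x q₀ K T) (w : Sw x z s T) : z ∈ T := by
  rw [← w.sx]; exact w.sT x S.xT

theorem zz (S : SetupQ x q₀ K T) (w : Sw x z s T) : z * z = 1 := by
  rw [← w.sx, show s * x * s⁻¹ * (s * x * s⁻¹) = s * (x * x) * s⁻¹ by group, S.xx]; group

theorem z1 (S : SetupQ x q₀ K T) (w : Sw x z s T) : z ≠ 1 := by
  intro h
  apply S.x1
  rw [← w.sx', h]; group

theorem cz (S : SetupQ x q₀ K T) (w : Sw x z s T) {t : G} (ht : t ∈ T) : t * z = z * t := by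
  have h1 := S.cx _ (w.sT' ht)
  rw [← w.sx]
  calc t * (s * x * s⁻¹) = s * (s⁻¹ * t * s * x) * s⁻¹ := by group
    _ = s * (x * (s⁻¹ * t * s)) * s⁻¹ := by rw [h1]
    _ = s * x * s⁻¹ * t := by group

theorem sz (S : SetupQ x q₀ K T) (w : Sw x z s T) : s * z * s⁻¹ = x := by
  rw [← w.sx, show s * (s * x * s⁻¹) * s⁻¹ = s * s * x * (s * s)⁻¹ by group, S.cx _ w.ss]
  group

theorem sz' (S : SetupQ x q₀ K T) (w : Sw x z s T) : s⁻¹ * x * s = z := by
  nth_rw 1 [← w.sz S]; group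

/-- conjugation by `s` maps `C(x) ∩ C(z)` to itself -/
theorem conj_x (w : Sw x z s T) {y : G} (hy : y * x = x * y) : s * y * s⁻¹ * z = z * (s * y * s⁻¹) := by
  rw [← w.sx]
  calc s * y * s⁻¹ * (s * x * s⁻¹) = s * (y * x) * s⁻¹ := by group
    _ = s * (x * y) * s⁻¹ := by rw [hy]
    _ = s * x * s⁻¹ * (s * y * s⁻¹) := by group

theorem conj_z (S : SetupQ x q₀ K T) (w : Sw x z s T) {y : G} (hy : y * z = z * y) :
    s * y * s⁻¹ * x = x * (s * y * s⁻¹) := by
  have h := w.sz S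
  calc s * y * s⁻¹ * x = s * y * s⁻¹ * (s * z * s⁻¹) := by rw [h]
    _ = s * (y * z) * s⁻¹ := by group
    _ = s * (z * y) * s⁻¹ := by rw [hy]
    _ = s * z * s⁻¹ * (s * y * s⁻¹) := by group
    _ = x * (s * y * s⁻¹) := by rw [h]

/-- `Q ∩ Q^s = 1` -/
theorem qq (S : SetupQ x q₀ K T) (w : Sw x z s T) {y : G} (h1 : y ∈ zpowers q₀)
    (h2 : s⁻¹ * y * s ∈ zpowers q₀) : y = 1 := by
  by_contra hy
  obtain ⟨m, hm1, hm2⟩ := exists_pow_two (pow_of_mem S.pQ h1) hy
  have h3 : y ^ 2 ^ m = x := (S.Qi _ ((zpowers q₀).pow_mem h1 _) hm2).resolve_left hm1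
  have h4 : (s⁻¹ * y * s) ^ 2 ^ m = z := by
    have : (s⁻¹ * y * s) ^ 2 ^ m = s⁻¹ * y ^ 2 ^ m * s := by
      have := conj_pow (a := s⁻¹) (b := y) (i := 2 ^ m)
      rwa [inv_inv] at this
    rw [this, h3, w.sz' S]
  have h5 := S.Qi _ ((zpowers q₀).pow_mem h2 (2 ^ m)) (by rw [h4]; exact w.zz S)
  rw [h4] at h5
  exact h5.elim (w.z1 S) w.zx

/-- `T ∩ Q^s K`-elements: `z` is a power of every non-trivial element of `Q^s` -/
theorem z_pow (S : SetupQ x q₀ K T) (w : Sw x z s T) {y : G} (hy : y ≠ 1)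
    (h2 : s⁻¹ * y * s ∈ zpowers q₀) : ∃ m : ℕ, y ^ m = z := by
  have h1 : s⁻¹ * y * s ≠ 1 := by
    intro h
    apply hy
    rw [show y = s * (s⁻¹ * y * s) * s⁻¹ by group, h]; group
  obtain ⟨m, hm1, hm2⟩ := exists_pow_two (pow_of_mem S.pQ h2) h1
  have h3 := (S.Qi _ ((zpowers q₀).pow_mem h2 _) hm2).resolve_left hm1
  refine ⟨2 ^ m, ?_⟩
  have : (s⁻¹ * y * s) ^ 2 ^ m = s⁻¹ * y ^ 2 ^ m * s := by
    have := conj_pow (a := s⁻¹) (b := y) (i := 2 ^ m)
    rwa [inv_inv] at this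
  rw [this] at h3
  rw [← w.sx, ← h3]; group

end Sw

/-- an element of `T` centralizing `T ∩ K` has its square in `Q` -/
theorem sq_of_cent [Finite G] (S : SetupQ x q₀ K T) {F : Type*} [Field F] [Finite F]
    (R : L2Aut.Rep F K) {t : G} (ht : t ∈ T) (h : ∀ d ∈ T, d ∈ K → t * d = d * t)
    {α : MulAut K} (hα : Acts K t α) : α * α = 1 := by
  obtain ⟨P, hP⟩ := S.sylK
  refine R.cent_syl P (hα.pow_one (pow_of_mem S.pT ht)) fun p hp => hα.fix (h p ?_ p.2)
  have : p ∈ T.subgroupOf K := by rw [← hP]; exact hp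
  exact this

/-- `x ^ s = z` lies in `K`, and some element of `Q^s` does not centralize `T ∩ K` -/
theorem z_mem [Finite G] (S : SetupQ x q₀ K T) {z s : G} (w : Sw x z s T)
    {F : Type*} [Field F] [Finite F] (R : L2Aut.Rep F K) (hq : q₀ * q₀ ≠ 1) :
    z ∈ K ∧ ∃ p ∈ T, ∃ d ∈ T, d ∈ K ∧ p * d ≠ d * p := by
  set p := s * q₀ * s⁻¹ with hp
  have hpT : p ∈ T := w.sT _ (S.qT (mem_zpowers q₀))
  have hp1 : s⁻¹ * p * s = q₀ := by rw [hp]; group
  obtain ⟨d, hdT, hdK, hd⟩ : ∃ d ∈ T, d ∈ K ∧ p * d ≠ d * p := by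
    by_contra hcon
    push Not at hcon
    obtain ⟨α, hα⟩ := S.acts (S.cx p hpT)
    have h1 := S.sq_of_cent R hpT hcon hα
    have h2 : p * p ∈ zpowers q₀ := S.ker (S.cx _ (T.mul_mem hpT hpT)) (h1 ▸ hα.mul hα)
    have h3 : s⁻¹ * (p * p) * s = q₀ * q₀ := by
      calc s⁻¹ * (p * p) * s = (s⁻¹ * p * s) * (s⁻¹ * p * s) := by group
        _ = q₀ * q₀ := by rw [hp1]
    have h4 := w.qq S h2 (by rw [h3]; exact mul_mem (mem_zpowers q₀) (mem_zpowers q₀))
    apply hq
    rw [← h3, h4]; group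
  refine ⟨?_, p, hpT, d, hdT, hdK, hd⟩
  set e := p * d * p⁻¹ * d⁻¹ with he
  have he1 : e ≠ 1 := by
    intro h
    rw [he, mul_inv_eq_one, mul_inv_eq_iff_eq_mul] at h
    exact hd h
  have heK : e ∈ K := K.mul_mem (S.Kn p (S.cx p hpT) d hdK) (K.inv_mem hdK)
  have heQ : s⁻¹ * e * s ∈ zpowers q₀ := by
    have h1 : s⁻¹ * e * s = q₀ * ((s⁻¹ * d * s) * q₀⁻¹ * (s⁻¹ * d * s)⁻¹) := by
      rw [he, hp]; group
    rw [h1]
    exact mul_mem (mem_zpowers q₀) (S.q_norm (S.cx _ (w.sT' hdT)) (inv_mem (mem_zpowers q₀)))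
  obtain ⟨m, hm⟩ := w.z_pow S he1 heQ
  rw [← hm]
  exact K.pow_mem heK m

theorem xK (S : SetupQ x q₀ K T) {F : Type*} [Field F] [Finite F] (R : L2Aut.Rep F K) : x ∉ K := by
  intro h
  have h1 : (⟨x, h⟩ : K) ∈ Subgroup.center K := by
    rw [Subgroup.mem_center_iff]
    intro k
    exact Subtype.ext (S.Kx k k.2)
  rw [R.center_eq_bot, mem_bot] at h1
  exact S.x1 (congrArg Subtype.val h1)

/-- central involutions of `T` in `K` -/
theorem KZ [Finite G] (S : SetupQ x q₀ K T) {z s : G} (w : Sw x z s T) (zK : z ∈ K)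
    {F : Type*} [Field F] [Finite F] (R : L2Aut.Rep F K)
    (hne : ∃ p ∈ T, ∃ d ∈ T, d ∈ K ∧ p * d ≠ d * p) {e : G} (heK : e ∈ K) (ee : e * e = 1)
    (he : ∀ t ∈ T, t * e = e * t) : e = 1 ∨ e = z := by
  by_contra hcon
  rw [not_or] at hcon
  obtain ⟨p, hpT, d, hdT, hdK, hpd⟩ := hne
  have hf : Four (⟨z, zK⟩ : K) ⟨e, heK⟩ :=
    { aa := Subtype.ext (w.zz S)
      bb := Subtype.ext ee
      a1 := fun h => w.z1 S (congrArg Subtype.val h)
      b1 := fun h => hcon.1 (congrArg Subtype.val h)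
      ne := fun h => hcon.2 (congrArg Subtype.val h).symm
      comm := Subtype.ext (he z (w.zT S)) }
  have h1 : MulAut.conj (⟨d, hdK⟩ : K) ∈ R.PGL := R.conj_mem_PGL _
  have h2 : MulAut.conj (⟨d, hdK⟩ : K) ⟨z, zK⟩ = ⟨z, zK⟩ := by
    rw [MulAut.conj_apply]
    exact Subtype.ext (by show d * z * d⁻¹ = z; rw [w.cz S hdT]; group)
  have h3 : MulAut.conj (⟨d, hdK⟩ : K) ⟨e, heK⟩ = ⟨e, heK⟩ := by
    rw [MulAut.conj_apply]
    exact Subtype.ext (by show d * e * d⁻¹ = e; rw [he d hdT]; group)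
  have h4 := R.fix_four hf h1 h2 h3
  have hinj : Function.Injective (MulAut.conj : K →* MulAut K) := R.conj_injective
  have h5 : d = 1 ∨ d = z ∨ d = e ∨ d = z * e := by
    rcases h4 with h | h | h | h
    · left
      have := hinj (h.trans (map_one (MulAut.conj : K →* MulAut K)).symm)
      exact congrArg Subtype.val this
    · right; left; exact congrArg Subtype.val (hinj h)
    · right; right; left; exact congrArg Subtype.val (hinj h)
    · right; right; right; exact congrArg Subtype.val (hinj h)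
  apply hpd
  rcases h5 with rfl | rfl | rfl | rfl
  · rw [mul_one, one_mul]
  · exact w.cz S hpT
  · exact he p hpT
  · rw [← mul_assoc, w.cz S hpT, mul_assoc, he p hpT, mul_assoc]

/-- `D ∩ D^s = 1` -/
theorem dd [Finite G] (S : SetupQ x q₀ K T) {z s : G} (w : Sw x z s T) (zK : z ∈ K)
    {F : Type*} [Field F] [Finite F] (R : L2Aut.Rep F K)
    (hne : ∃ p ∈ T, ∃ d ∈ T, d ∈ K ∧ p * d ≠ d * p) {e : G} (heT : e ∈ T) (heK : e ∈ K)
    (heK' : s⁻¹ * e * s ∈ K) : e = 1 := by
  let N : Subgroup T :=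
    { carrier := {y | (y : G) ∈ K ∧ s⁻¹ * y * s ∈ K}
      one_mem' := ⟨one_mem K, by
        show s⁻¹ * 1 * s ∈ K
        rw [mul_one, inv_mul_cancel]; exact one_mem K⟩
      mul_mem' := by
        rintro a b ⟨ha, ha'⟩ ⟨hb, hb'⟩
        refine ⟨K.mul_mem ha hb, ?_⟩
        show s⁻¹ * ((a : G) * b) * s ∈ K
        rw [show s⁻¹ * ((a : G) * b) * s = (s⁻¹ * a * s) * (s⁻¹ * b * s) by group]
        exact K.mul_mem ha' hb'
      inv_mem' := by
        rintro a ⟨ha, ha'⟩
        refine ⟨K.inv_mem ha, ?_⟩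
        show s⁻¹ * ((a : G))⁻¹ * s ∈ K
        rw [show s⁻¹ * ((a : G))⁻¹ * s = (s⁻¹ * a * s)⁻¹ by group]
        exact K.inv_mem ha' }
  have hN : N.Normal := by
    refine ⟨?_⟩
    rintro a ⟨ha, ha'⟩ ⟨t, ht⟩
    refine ⟨S.Kn t (S.cx t ht) a ha, ?_⟩
    show s⁻¹ * (t * (a : G) * t⁻¹) * s ∈ K
    rw [show s⁻¹ * (t * (a : G) * t⁻¹) * s = (s⁻¹ * t * s) * (s⁻¹ * a * s) * (s⁻¹ * t * s)⁻¹ by group]
    exact S.Kn _ (S.cx _ (w.sT' ht)) _ ha'
  by_contra he1
  have hN1 : N ≠ ⊥ := by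
    intro h
    have h1 : (⟨e, heT⟩ : T) ∈ N := ⟨heK, heK'⟩
    rw [h, mem_bot] at h1
    exact he1 (congrArg Subtype.val h1)
  have : Fact (Nat.Prime 2) := ⟨Nat.prime_two⟩
  obtain ⟨⟨y, hyT⟩, ⟨hyK, hyK'⟩, hyc, hyo⟩ := Transfer.PGroupNormal.exists_mem_inf_center_orderOf S.pT N hN1
  rw [Subgroup.orderOf_mk] at hyo
  have hyy : y * y = 1 := by rw [← pow_two, ← hyo, pow_orderOf_eq_one]
  have hy1 : y ≠ 1 := by
    rintro rfl
    rw [orderOf_one] at hyo
    exact absurd hyo (by norm_num)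
  have h2 : ∀ t ∈ T, t * y = y * t := fun t ht =>
    congrArg Subtype.val (Subgroup.mem_center_iff.1 hyc ⟨t, ht⟩)
  have h3 : y = z := (S.KZ w zK R hne (e := y) hyK hyy h2).resolve_left hy1
  change s⁻¹ * y * s ∈ K at hyK'
  rw [h3, w.sx'] at hyK'
  exact S.xK R hyK'

/-- `D^s` centralizes `D` -/
theorem ds_comm [Finite G] (S : SetupQ x q₀ K T) {z s : G} (w : Sw x z s T) (zK : z ∈ K)
    {F : Type*} [Field F] [Finite F] (R : L2Aut.Rep F K)
    (hne : ∃ p ∈ T, ∃ d ∈ T, d ∈ K ∧ p * d ≠ d * p) {d : G} (hdT : d ∈ T)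
    (hdK : s⁻¹ * d * s ∈ K) : ∀ e ∈ T, e ∈ K → d * e = e * d := by
  intro e heT heK
  have h1 : d * e * d⁻¹ * e⁻¹ = 1 := by
    refine S.dd w zK R hne ?_ ?_ ?_
    · exact T.mul_mem (T.mul_mem (T.mul_mem hdT heT) (T.inv_mem hdT)) (T.inv_mem heT)
    · exact K.mul_mem (S.Kn d (S.cx d hdT) e heK) (K.inv_mem heK)
    · rw [show s⁻¹ * (d * e * d⁻¹ * e⁻¹) * s =
        (s⁻¹ * d * s) * ((s⁻¹ * e * s) * (s⁻¹ * d * s)⁻¹ * (s⁻¹ * e * s)⁻¹) by group]
      exact K.mul_mem hdK (S.Kn _ (S.cx _ (w.sT' heT)) _ (K.inv_mem hdK))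
  rw [mul_inv_eq_one, mul_inv_eq_iff_eq_mul] at h1
  exact h1

/-- some element of `D^s` is of field type -/
theorem exists_ftype [Finite G] (S : SetupQ x q₀ K T) {z s : G} (w : Sw x z s T) (zK : z ∈ K)
    {F : Type*} [Field F] [Finite F] (R : L2Aut.Rep F K)
    (hne : ∃ p ∈ T, ∃ d ∈ T, d ∈ K ∧ p * d ≠ d * p) :
    ∃ t ∈ T, s⁻¹ * t * s ∈ K ∧ ∃ α, Acts K t α ∧ α * α = 1 ∧ R.fld α ≠ 1 := by
  by_contra hcon
  push Not at hcon
  obtain ⟨P, hP⟩ := S.sylK
  have memP : ∀ k : K, k ∈ (P : Subgroup K) ↔ (k : G) ∈ T := by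
    intro k; rw [hP, mem_subgroupOf]
  obtain ⟨a, b, ha, hb, hab⟩ := R.exists_four_mem P
  have haT := (memP a).1 ha
  have hbT := (memP b).1 hb
  -- every element of `D^s` of order two is `x v`, `v ∈ D`
  have key : ∀ y : K, y ∈ (P : Subgroup K) → y * y = 1 → y ≠ 1 →
      ∃ v ∈ T, v ∈ K ∧ s * (y : G) * s⁻¹ = x * v := by
    intro y hy hyy hy1
    set t := s * (y : G) * s⁻¹ with ht
    have hyT := (memP y).1 hy
    have htT : t ∈ T := w.sT _ hyT
    have htK : s⁻¹ * t * s ∈ K := by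
      rw [show s⁻¹ * t * s = (y : G) by rw [ht]; group]; exact y.2
    have hc := S.ds_comm w zK R hne htT htK
    obtain ⟨α, hα⟩ := S.acts (S.cx t htT)
    have h1 := S.sq_of_cent R htT hc hα
    have h2 : R.fld α = 1 := by
      by_contra h
      exact h (hcon t htT htK α hα h1)
    have h3 := R.fix_four hab (R.mem_PGL_iff_fld.2 h2) (hα.fix (hc a haT a.2)) (hα.fix (hc b hbT b.2))
    obtain ⟨v, hvT, hv⟩ : ∃ v : K, (v : G) ∈ T ∧ α = MulAut.conj v := by
      rcases h3 with h | h | h | h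
      · exact ⟨1, one_mem T, by rw [h, map_one]⟩
      · exact ⟨a, haT, h⟩
      · exact ⟨b, hbT, h⟩
      · exact ⟨a * b, T.mul_mem haT hbT, h⟩
    have h4 : Acts K (t * (v : G)⁻¹) 1 := by
      have := hα.mul (Acts.conj v.2).inv
      rwa [hv, mul_inv_cancel] at this
    have h5 : t * (v : G)⁻¹ ∈ zpowers q₀ :=
      S.ker (Setup.comm_mul (S.cx t htT) (Setup.comm_inv (S.Kx v v.2))) h4
    have htt : t * t = 1 := by
      rw [ht, show s * (y : G) * s⁻¹ * (s * y * s⁻¹) = s * ((y : G) * y) * s⁻¹ by group,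
        show (y : G) * y = 1 from congrArg Subtype.val hyy]
      group
    have h6 : t * (v : G)⁻¹ * (t * (v : G)⁻¹) = 1 := by
      have h7 : t * (v : G)⁻¹ * (t * (v : G)⁻¹) ∈ zpowers q₀ := mul_mem h5 h5
      have h8 : t * (v : G)⁻¹ * (t * (v : G)⁻¹) = (v : G)⁻¹ * (v : G)⁻¹ := by
        have h9 := hc v hvT v.2
        have h10 : t * (v : G)⁻¹ = (v : G)⁻¹ * t := by
          rw [eq_inv_mul_iff_mul_eq, ← mul_assoc, ← h9, mul_assoc, mul_inv_cancel, mul_one]
        calc t * (v : G)⁻¹ * (t * (v : G)⁻¹) = (v : G)⁻¹ * t * ((v : G)⁻¹ * t) := by rw [h10]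
          _ = (v : G)⁻¹ * (t * (v : G)⁻¹) * t := by group
          _ = (v : G)⁻¹ * ((v : G)⁻¹ * t) * t := by rw [h10]
          _ = (v : G)⁻¹ * (v : G)⁻¹ * (t * t) := by group
          _ = (v : G)⁻¹ * (v : G)⁻¹ := by rw [htt, mul_one]
      rw [h8] at h7 ⊢
      -- an element of `Q ∩ K` is trivial
      have h9 : (v : G)⁻¹ * (v : G)⁻¹ ∈ K := K.mul_mem (K.inv_mem v.2) (K.inv_mem v.2)
      have h10 : (⟨_, h9⟩ : K) ∈ Subgroup.center K := by
        rw [Subgroup.mem_center_iff]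
        intro k
        exact Subtype.ext (S.q_commK h7 k k.2).symm
      rw [R.center_eq_bot, mem_bot] at h10
      exact congrArg Subtype.val h10
    rcases S.Qi _ h5 h6 with h7 | h7
    · exfalso
      have h8 : t = v := mul_inv_eq_one.1 h7
      have h9 := S.dd w zK R hne htT (h8 ▸ v.2) htK
      apply hy1
      apply Subtype.ext
      show (y : G) = 1
      rw [show (y : G) = s⁻¹ * t * s by rw [ht]; group, h9]; group
    · exact ⟨v, hvT, v.2, by rw [← h7]; group⟩
  obtain ⟨v, hvT, hvK, hv⟩ := key a ha hab.aa hab.a1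
  obtain ⟨u, huT, huK, hu⟩ := key b hb hab.bb hab.b1
  have h1 : s * ((a : G) * b) * s⁻¹ = v * u := by
    calc s * ((a : G) * b) * s⁻¹ = (s * a * s⁻¹) * (s * b * s⁻¹) := by group
      _ = x * v * (x * u) := by rw [hv, hu]
      _ = x * (v * x) * u := by group
      _ = x * (x * v) * u := by rw [S.Kx v hvK]
      _ = (x * x) * (v * u) := by group
      _ = v * u := by rw [S.xx, one_mul]
  have h2 := S.dd w zK R hne (T.mul_mem hvT huT) (K.mul_mem hvK huK) (by
    rw [← h1, show s⁻¹ * (s * ((a : G) * b) * s⁻¹) * s = a * b by group]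
    exact K.mul_mem a.2 b.2)
  rw [← h1] at h2
  have h3 : (a : G) * b = 1 := by
    calc (a : G) * b = s⁻¹ * (s * ((a : G) * b) * s⁻¹) * s := by group
      _ = 1 := by rw [h2]; group
  exact hab.right.b1 (Subtype.ext h3)

/-- a non-trivial element of odd order is not inverted and centralized at once -/
theorem not_both {a c : G} (ho : Odd (orderOf a)) (h1 : a ≠ 1) (h2 : c * a * c⁻¹ = a⁻¹)
    (h3 : c * a = a * c) : False := by
  rw [h3, mul_inv_cancel_right] at h2
  have h4 : a * a = 1 := by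
    nth_rw 2 [h2]; exact mul_inv_cancel a
  exact h1 (eq_one_of_sq h4 ho)

/-- **`|Q| ≥ 4`, `q ≠ 9`**: no group of sectional 2-rank at least 5 -/
theorem false_of_q [Finite G] (S : SetupQ x q₀ K T) {F : Type*} [Field F] [Finite F]
    (R : L2Aut.Rep F K) (hF : Nat.card F ≠ 9) (hq : q₀ * q₀ ≠ 1) (hr : ¬ SectionalPRankLE 2 4 G)
    (W : ∀ u : G, u * u = 1 → u ≠ 1 → World u) : False := by
  obtain ⟨s, hsT, hss, -, hsx, -⟩ := S.exists_grow R hr
  obtain ⟨z, hz⟩ : ∃ z, z = s * x * s⁻¹ := ⟨_, rfl⟩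
  have w : Sw x z s T := ⟨hsT, hss, fun h => hsx (mul_inv_eq_iff_eq_mul.1 (hz ▸ h)), hz.symm⟩
  obtain ⟨zK, hne⟩ := S.z_mem w R hq
  obtain ⟨t, htT, htK, φ, hφ, hφφ, hφf⟩ := S.exists_ftype w zK R hne
  have htD := S.ds_comm w zK R hne htT htK
  obtain ⟨P, hP⟩ := S.sylK
  have memP : ∀ k : K, k ∈ (P : Subgroup K) ↔ (k : G) ∈ T := by
    intro k; rw [hP, mem_subgroupOf]
  have f := S.frQ zK (w.zz S) (w.z1 S)
  -- `A₀ ≠ 1`
  obtain ⟨a, haz, hao, ha1, -⟩ := exists_inverted R hφφ hφf (z := ⟨z, zK⟩) (Subtype.ext (w.zz S))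
    (fun h => w.z1 S (congrArg Subtype.val h)) P (fun p hp => hφ.fix (htD p ((memP p).1 hp) p.2))
    ((memP ⟨z, zK⟩).2 (w.zT S)) (fun p hp => Subtype.ext (w.cz S ((memP p).1 hp))) hF
  have haA : (a : G) ∈ A0 z K := (f.mem_A0 R).2 ⟨a.2, congrArg Subtype.val haz, by
    rw [Subgroup.orderOf_coe]; exact hao⟩
  have ha1' : (a : G) ≠ 1 := fun h => ha1 (Subtype.ext h)
  have hao' : Odd (orderOf (a : G)) := ((f.mem_A0 R).1 haA).2.2
  -- the dihedral group
  obtain ⟨d, r, hd⟩ := R.exists_dih P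
  have hdd : d * d ≠ 1 := R.ftype_dd (fun h1 => hφf (R.mem_PGL_iff_fld.1 h1)) hφφ P hd
  have hdT : (d : G) ∈ T := (memP d).1 hd.d_mem
  have hrT : (r : G) ∈ T := (memP r).1 hd.r_mem
  have hrd : (r : G) * d ≠ d * r := by
    intro h1
    apply hdd
    have h2 := hd.rd
    rw [show r * d = d * r from Subtype.ext h1, mul_inv_cancel_right] at h2
    nth_rw 2 [h2]
    exact mul_inv_cancel d
  have hrz : (r : G) ≠ z := by
    intro h
    exact hrd (by rw [h]; exact (w.cz S hdT).symm)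
  have hrinv := f.inv_A0 R r.2 (w.cz S hrT) (congrArg Subtype.val hd.rr)
    (fun h => hd.r1 (Subtype.ext h)) hrz
  -- `d` centralizes `A₀`
  have hdr : (d : G) * r * (d * r) = 1 := by
    have := hd.pow_r_sq 1
    rw [zpow_one] at this
    exact congrArg Subtype.val this
  have hdrinv := f.inv_A0 R (v := (d : G) * r) (K.mul_mem d.2 r.2)
    (w.cz S (T.mul_mem hdT hrT)) hdr
    (by
      intro h
      apply hrd
      have h1 : (r : G) = (d : G)⁻¹ := eq_inv_of_mul_eq_one_right h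
      rw [h1, inv_mul_cancel, mul_inv_cancel])
    (by
      intro h
      apply hrd
      have h1 : (d : G) * (d * r) = d * r * d := by rw [h]; exact w.cz S hdT
      rw [mul_assoc (d : G) r d] at h1
      exact (mul_left_cancel h1).symm)
  have hdA : ∀ b ∈ A0 z K, (d : G) * b * (d : G)⁻¹ = b := by
    intro b hb
    have h1 := hrinv b hb
    have h2 := hdrinv b⁻¹ (inv_mem hb)
    rw [inv_inv] at h2
    have h3 : (r : G) * b⁻¹ * (r : G)⁻¹ = b := by
      rw [← h1, show (r : G) * (r * b * (r : G)⁻¹) * (r : G)⁻¹ = (r * r) * b * ((r : G) * r)⁻¹ by group,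
        show (r : G) * r = 1 from congrArg Subtype.val hd.rr]
      group
    calc (d : G) * b * (d : G)⁻¹ = d * (r * b⁻¹ * (r : G)⁻¹) * (d : G)⁻¹ := by rw [h3]
      _ = (d * r) * b⁻¹ * ((d : G) * r)⁻¹ := by group
      _ = b := h2
  -- `A₀^s = A₀`
  obtain ⟨-, -, -, -, hres⟩ := f.A0_data R
  have hAs : ∀ b ∈ A0 z K, s * b * s⁻¹ ∈ A0 z K := by
    intro b hb
    obtain ⟨hbK, hbz, hbo⟩ := (f.mem_A0 R).1 hb
    have h1 := hres (s * b * s⁻¹) (s * (r : G) * s⁻¹) (w.conj_z S hbz)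
      (w.conj_z S (w.cz S hrT)) (w.conj_x (f.Kx b hbK)) (w.conj_x (f.Kx r r.2)) (by
        have h4 : orderOf (s * b * s⁻¹) = orderOf b :=
          orderOf_injective (MulAut.conj s).toMonoidHom (MulAut.conj s).injective b
        rw [h4]; exact hbo)
    have h2 : s * b * s⁻¹ * (s * (r : G) * s⁻¹) * (s * b * s⁻¹)⁻¹ * (s * (r : G) * s⁻¹)⁻¹ =
        (s * b * s⁻¹) ^ 2 := by
      calc s * b * s⁻¹ * (s * (r : G) * s⁻¹) * (s * b * s⁻¹)⁻¹ * (s * (r : G) * s⁻¹)⁻¹
          = s * b * ((r : G) * b * (r : G)⁻¹)⁻¹ * s⁻¹ := by group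
        _ = (s * b * s⁻¹) ^ 2 := by rw [hrinv b hb, pow_two]; group
    rw [h2] at h1
    obtain ⟨k, hk⟩ := hbo
    have h3 : s * b * s⁻¹ = ((s * b * s⁻¹) ^ 2) ^ (k + 1) := by
      have h5 : (s * b * s⁻¹) ^ (2 * k + 1) = 1 := by
        rw [conj_pow, ← hk, pow_orderOf_eq_one]; group
      rw [← pow_mul, show 2 * (k + 1) = 2 * k + 1 + 1 by ring, pow_succ, h5, one_mul]
    rw [h3]
    exact pow_mem h1 _
  have hAs' : ∀ b ∈ A0 z K, s⁻¹ * b * s ∈ A0 z K := by
    intro b hb
    have h1 := f.A0_norm R (hAs b hb) (c := (s * s)⁻¹) (Setup.comm_inv (S.cx _ hss))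
      (by
        have := w.cz S (T.inv_mem hss)
        exact this)
    rwa [show (s * s)⁻¹ * (s * b * s⁻¹) * (s * s)⁻¹⁻¹ = s⁻¹ * b * s by group] at h1
  -- `c = d^s` and `v = r^s`
  obtain ⟨c, hc⟩ : ∃ c, c = s * (d : G) * s⁻¹ := ⟨_, rfl⟩
  obtain ⟨v, hv⟩ : ∃ v, v = s * (r : G) * s⁻¹ := ⟨_, rfl⟩
  have hcT : c ∈ T := hc ▸ w.sT _ hdT
  have hvT : v ∈ T := hv ▸ w.sT _ hrT
  have hcK : s⁻¹ * c * s ∈ K := by
    rw [hc, show s⁻¹ * (s * (d : G) * s⁻¹) * s = d by group]; exact d.2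
  have hvK : s⁻¹ * v * s ∈ K := by
    rw [hv, show s⁻¹ * (s * (r : G) * s⁻¹) * s = r by group]; exact r.2
  have hcD := S.ds_comm w zK R hne hcT hcK
  have hvD := S.ds_comm w zK R hne hvT hvK
  have hcA : ∀ b ∈ A0 z K, c * b * c⁻¹ = b := by
    intro b hb
    have h1 := hdA _ (hAs' b hb)
    rw [hc]
    calc s * (d : G) * s⁻¹ * b * (s * (d : G) * s⁻¹)⁻¹ = s * (d * (s⁻¹ * b * s) * (d : G)⁻¹) * s⁻¹ := by
          group
      _ = b := by rw [h1]; group
  have hvA : ∀ b ∈ A0 z K, v * b * v⁻¹ = b⁻¹ := by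
    intro b hb
    have h1 := hrinv _ (hAs' b hb)
    rw [hv]
    calc s * (r : G) * s⁻¹ * b * (s * (r : G) * s⁻¹)⁻¹ = s * (r * (s⁻¹ * b * s) * (r : G)⁻¹) * s⁻¹ := by
          group
      _ = b⁻¹ := by rw [h1]; group
  have hvc : v * c ≠ c * v := by
    intro h
    apply hrd
    rw [hv, hc] at h
    calc (r : G) * d = s⁻¹ * (s * (r : G) * s⁻¹ * (s * (d : G) * s⁻¹)) * s := by group
      _ = s⁻¹ * (s * (d : G) * s⁻¹ * (s * (r : G) * s⁻¹)) * s := by rw [h]
      _ = d * r := by group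
  -- linear elements centralizing `D`
  have hfour : Four (⟨z, zK⟩ : K) r :=
    ⟨Subtype.ext (w.zz S), hd.rr, fun h => w.z1 S (congrArg Subtype.val h), hd.r1,
      fun h => hrz (congrArg Subtype.val h).symm, Subtype.ext (w.cz S hrT).symm⟩
  have lin : ∀ y ∈ T, (∀ e ∈ T, e ∈ K → y * e = e * y) → ∀ α, Acts K y α → R.fld α = 1 →
      ∃ e ∈ zpowers q₀, y = e ∨ y = e * z := by
    intro y hy hyD α hα hαf
    have h1 : α ⟨z, zK⟩ = ⟨z, zK⟩ := hα.fix (hyD z (w.zT S) zK)
    have h2 : α r = r := hα.fix (hyD r hrT r.2)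
    have h3 : α d = d := hα.fix (hyD d hdT d.2)
    have hzd : (z : G) * d = d * z := (w.cz S hdT).symm
    rcases R.fix_four hfour (R.mem_PGL_iff_fld.2 hαf) h1 h2 with h4 | h4 | h4 | h4
    · rw [h4] at hα
      exact ⟨y, S.ker (S.cx y hy) hα, Or.inl rfl⟩
    · have h5 : Acts K (y * z⁻¹) 1 := by
        have := hα.mul (Acts.conj zK).inv
        rwa [h4, mul_inv_cancel] at this
      refine ⟨y * z⁻¹, S.ker (Setup.comm_mul (S.cx y hy) (Setup.comm_inv (S.Kx z zK))) h5,
        Or.inr (by group)⟩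
    · exfalso
      rw [h4, MulAut.conj_apply, mul_inv_eq_iff_eq_mul] at h3
      exact hrd (congrArg Subtype.val h3)
    · exfalso
      rw [h4, MulAut.conj_apply, mul_inv_eq_iff_eq_mul] at h3
      apply hrd
      have h5 : z * (r : G) * d = d * (z * r) := congrArg Subtype.val h3
      rw [← mul_assoc, ← hzd, mul_assoc, mul_assoc] at h5
      exact mul_left_cancel h5
  -- they centralize `A₀`
  have linA : ∀ y, (∃ e ∈ zpowers q₀, y = e ∨ y = e * z) → ∀ b ∈ A0 z K, y * b = b * y := by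
    rintro y ⟨e, he, rfl | rfl⟩ b hb
    · exact S.q_commK he b ((f.mem_A0 R).1 hb).1
    · rw [mul_assoc, ← ((f.mem_A0 R).1 hb).2.1, ← mul_assoc, S.q_commK he b ((f.mem_A0 R).1 hb).1,
        mul_assoc]
  obtain ⟨γ, hγ⟩ := S.acts (S.cx c hcT)
  obtain ⟨ν, hν⟩ := S.acts (S.cx v hvT)
  have hγγ := S.sq_of_cent R hcT hcD hγ
  have hνν := S.sq_of_cent R hvT hvD hν
  have hνf : R.fld ν ≠ 1 := fun h =>
    not_both hao' ha1' (hvA a haA) (linA v (lin v hvT hvD ν hν h) a haA)
  have fsq : ∀ α : MulAut K, α * α = 1 → R.fld α * R.fld α = 1 := fun α h => by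
    rw [← map_mul, h, map_one]
  have hγf : R.fld γ = 1 := by
    by_contra h
    have h1 : R.fld γ = R.fld ν := L2One.AutPsl.aut_inv (fsq γ hγγ) h (fsq ν hνν) hνf
    refine not_both (c := c * v) hao' ha1' ?_ (linA _ (lin (c * v) (T.mul_mem hcT hvT) ?_ _ (hγ.mul hν) ?_)
      a haA)
    · calc c * v * a * (c * v)⁻¹ = c * (v * a * v⁻¹) * c⁻¹ := by group
        _ = (a : G)⁻¹ := by rw [hvA a haA, hcA _ (inv_mem haA)]
    · intro e he heK
      rw [mul_assoc, hvD e he heK, ← mul_assoc, hcD e he heK, mul_assoc]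
    · rw [map_mul, h1, fsq ν hνν]
  obtain ⟨e₀, he₀, hce⟩ := lin c hcT hcD γ hγ hγf
  -- `c` commutes with the linear elements
  have linc : ∀ y, (∃ e ∈ zpowers q₀, y = e ∨ y = e * z) → y * c = c * y := by
    rintro y ⟨e, he, hy⟩
    have h1 : e * e₀ = e₀ * e := zpowers_comm he he₀
    have h2 : e * z = z * e := w.cz S (S.qT he)
    have h3 : e₀ * z = z * e₀ := w.cz S (S.qT he₀)
    have h4 : Commute e e₀ := h1
    have h5 : Commute e z := h2
    have h6 : Commute e₀ z := h3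
    have h7 : Commute z z := Commute.refl z
    rcases hy with rfl | rfl <;> rcases hce with rfl | rfl
    · exact h4.eq
    · exact (h4.mul_right h5).eq
    · exact (h4.mul_left h6.symm).eq
    · exact ((h4.mul_right h5).mul_left (h6.symm.mul_right h7)).eq
  -- the involutions of `Z(T)`
  have hZ : ∀ y ∈ T, y * y = 1 → y ≠ 1 → (∀ t ∈ T, t * y = y * t) →
      y = x ∨ y = x * z ∨ y = x * (x * z) := by
    intro y hy hyy hy1 hyc
    have hyD : ∀ e ∈ T, e ∈ K → y * e = e * y := fun e he _ => (hyc e he).symm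
    obtain ⟨α, hα⟩ := S.acts (S.cx y hy)
    have hαα := S.sq_of_cent R hy hyD hα
    have hαf : R.fld α = 1 := by
      by_contra h
      have h1 : R.fld α = R.fld ν := L2One.AutPsl.aut_inv (fsq α hαα) h (fsq ν hνν) hνf
      have h2 := linc (y * v) (lin (y * v) (T.mul_mem hy hvT) (by
        intro e he heK
        rw [mul_assoc, hvD e he heK, ← mul_assoc, hyD e he heK, mul_assoc]) _ (hα.mul hν) (by
          rw [map_mul, h1, fsq ν hνν]))
      apply hvc
      have h3 := hyc c hcT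
      rw [← mul_assoc, h3, mul_assoc, mul_assoc] at h2
      exact mul_left_cancel h2
    obtain ⟨e, he, h⟩ := lin y hy hyD α hα hαf
    have hez : e * z = z * e := w.cz S (S.qT he)
    have hee : e * e = 1 := by
      rcases h with rfl | rfl
      · exact hyy
      · calc e * e = e * e * (z * z) := by rw [w.zz S, mul_one]
          _ = e * (e * z) * z := by group
          _ = e * (z * e) * z := by rw [hez]
          _ = e * z * (e * z) := by group
          _ = 1 := hyy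
    rcases S.Qi e he hee with rfl | rfl
    · rcases h with rfl | rfl
      · exact absurd rfl hy1
      · right; right
        rw [one_mul, ← mul_assoc, S.xx, one_mul]
    · rcases h with rfl | rfl
      · exact Or.inl rfl
      · exact Or.inr (Or.inl rfl)
  have hzx : z * x = x * z := S.Kx z zK
  have hu1 : x * z ≠ 1 := by
    intro h
    exact w.zx (by rw [← one_mul z, ← S.xx, mul_assoc, h, mul_one])
  have huu : x * z * (x * z) = 1 := by
    calc x * z * (x * z) = x * (z * x) * z := by group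
      _ = x * (x * z) * z := by rw [hzx]
      _ = (x * x) * (z * z) := by group
      _ = 1 := by rw [S.xx, w.zz S, one_mul]
  refine (f.balG R hz_mul).false_of_swap hu1 (W _ huu hu1).core (W _ huu hu1).comp' ?_ S.pT S.cx
    (T := T) ?_ ?_ hZ (s := s) ?_ ?_
  · intro h
    rw [h, mem_bot] at haA
    exact ha1' haA
  · intro t ht
    rw [← mul_assoc, S.cx t ht, mul_assoc, w.cz S ht, mul_assoc]
  · intro P hP hTP hPx _
    exact S.max hP hTP hPx
  · have h1 : s * x = z * s := mul_inv_eq_iff_eq_mul.1 w.sx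
    have h2 : s * z = x * s := mul_inv_eq_iff_eq_mul.1 (w.sz S)
    rw [← mul_assoc, h1, mul_assoc, h2, ← mul_assoc, hzx]
  · rw [w.sx, ← mul_assoc, S.xx, one_mul]

end SetupQ

end Cfsg.Agent.OddHalf.D6

end

-- merged: Cfsg.Agent.OddHalf.D6.LTwoMain
section

/-!
# ODD D6, `K = PSL(2,q)`, `q ≠ 9`: the row (helper419)

`row`: no standard component `K ≅ PSL(2,q)`, `q ≥ 5` odd, `q ≠ 9`, with `C(K)` of cyclic Sylow 2-subgroups.
`row27`, `rowBig`: in the form of `LieOddFam`.
-/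

set_option autoImplicit false

namespace Cfsg.Agent.OddHalf.D6.LTwoMain

open Subgroup Cfsg Cfsg.Agent.GH Cfsg.Agent.OddHalf.Iface Cfsg.Agent.OddHalf.Front.FE
open Cfsg.Agent.OddHalf.LieOddFam

universe u

variable {G : Type u} [Group G]

/-- a Sylow 2-subgroup of `C(x)` -/
theorem exists_T [Finite G] (x : G) : ∃ T : Subgroup G, IsPGroup 2 T ∧ (∀ t ∈ T, t * x = x * t) ∧
    ∀ P : Subgroup G, IsPGroup 2 P → (∀ y ∈ P, y * x = x * y) →
      ∃ g, g * x = x * g ∧ ∀ y ∈ P, g * y * g⁻¹ ∈ T := by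
  set H := centralizer ({x} : Set G) with hH
  have : Fact (Nat.Prime 2) := ⟨Nat.prime_two⟩
  obtain ⟨S⟩ : Nonempty (Sylow 2 ↥H) := inferInstance
  refine ⟨(S : Subgroup ↥H).map H.subtype, S.isPGroup'.map _, ?_, ?_⟩
  · rintro _ ⟨y, -, rfl⟩
    exact mem_centralizer_singleton_iff.1 y.2
  · intro P hP hPx
    have hPH : P ≤ H := fun y hy => mem_centralizer_singleton_iff.2 (hPx y hy)
    have h1 : IsPGroup 2 (P.subgroupOf H) := hP.comap_subtype
    obtain ⟨Q, hQ⟩ := h1.exists_le_sylow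
    obtain ⟨g, hg⟩ := MulAction.exists_smul_eq ↥H Q S
    refine ⟨g, mem_centralizer_singleton_iff.1 g.2, fun y hy => ?_⟩
    have h2 : (⟨y, hPH hy⟩ : ↥H) ∈ (Q : Subgroup ↥H) := hQ (mem_subgroupOf.2 hy)
    have h3 : g * ⟨y, hPH hy⟩ * g⁻¹ ∈ (S : Subgroup ↥H) := by
      rw [← hg, Sylow.coe_subgroup_smul]
      exact Subgroup.smul_mem_pointwise_smul _ (MulAut.conj g) _ h2
    exact ⟨_, h3, rfl⟩

/-- all components are `PSL(2,q)`'s, `q` odd -/
theorem world (C : Ctx G) {K : Subgroup G} (S : Std G K) (hK : IsL2o ↥K) (u : G)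
    (huu : u * u = 1) (hu1 : u ≠ 1) : World u := by
  have hu : orderOf u = 2 := orderOf_eq_prime (by rw [pow_two]; exact huu) hu1
  refine ⟨?_, ?_⟩
  · have h1 := C.bal u hu
    rw [centralizerPPrimeCore, Subgroup.map_eq_bot_iff_of_injective _
      (centralizer ({u} : Set G)).subtype_injective] at h1
    exact h1
  · rintro L ⟨L', hL', rfl⟩
    have h1 : CompOf u (L'.map (centralizer ({u} : Set G)).subtype) := by
      refine ⟨Subgroup.map_subtype_le L', ?_⟩
      rw [Subgroup.subgroupOf,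
        Subgroup.comap_map_eq_self_of_injective (centralizer ({u} : Set G)).subtype_injective]
      exact hL'
    obtain ⟨F, _, _, h2, -, ⟨e⟩⟩ := S.pref hK u _ hu h1
    exact ⟨F, _, inferInstance, ⟨L2Aut.Rep.ofEquiv (L2Aut.two_ne_zero_of_odd h2) e⟩⟩

/-- **D6, `K ≅ PSL(2,q)`, `q ≥ 5` odd, `q ≠ 9`** -/
theorem row (C : Ctx G) {K : Subgroup G} (S : Std G K) (hcyc : Iface.Cyc K)
    (h : ∃ (F : Type) (_ : Field F) (_ : Fintype F), Odd (Fintype.card F) ∧ 5 ≤ Fintype.card F ∧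
      Fintype.card F ≠ 9 ∧ Nonempty (↥K ≃* Matrix.ProjectiveSpecialLinearGroup (Fin 2) F)) : False := by
  have := C.fin
  obtain ⟨F, _, _, hodd, h5, h9, ⟨e⟩⟩ := h
  have hK : IsL2o ↥K := ⟨F, _, _, hodd, h5, ⟨e⟩⟩
  have R : L2Aut.Rep F ↥K := L2Aut.Rep.ofEquiv (L2Aut.two_ne_zero_of_odd hodd) e
  have h9' : Nat.card F ≠ 9 := by rw [Nat.card_eq_fintype_card]; exact h9
  have W := world C S hK
  obtain ⟨x, q, St⟩ := exists_start C S hcyc R.center_eq_bot
  obtain ⟨T, pT, cx, syl⟩ := exists_T x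
  have Kn : ∀ c, c * x = x * c → ∀ k ∈ K, c * k * c⁻¹ ∈ K := fun c hc k hk =>
    (mem_normalizer_iff.1 (St.nK c hc) k).1 hk
  have CK : ∀ c, c * x = x * c → (∀ k ∈ K, c * k = k * c) → c ∈ zpowers q := fun c hc hK =>
    St.cK c hc fun k hk => (hK k hk).symm
  by_cases hq : q * q = 1
  · have h1 : ∀ c ∈ zpowers q, c = 1 ∨ c = x := by
      intro c hc
      by_cases hc1 : c = 1
      · exact Or.inl hc1
      · right
        refine St.toStart0.uniq hc ?_ hc1
        obtain ⟨i, rfl⟩ := mem_zpowers_iff.1 hc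
        rw [← zpow_add, ← two_mul, zpow_mul]
        rw [show (q : G) ^ (2 : ℤ) = q * q from zpow_two q, hq, one_zpow]
    have S' : Setup x K T :=
      { xx := St.tt
        x1 := St.t1
        Kx := St.toStart0.Kt
        Kn := Kn
        CK := fun c hc hK => h1 c (CK c hc hK)
        pT := pT
        cx := cx
        syl := syl }
    refine main2 ?_ C.sect5 S' R h9' W
    intro φ u
    have h2 := commutator_eq_top C
    have h3 : commutator G ≤ φ.ker := Abelianization.commutator_subset_ker φ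
    rw [h2] at h3
    exact h3 (mem_top u)
  · obtain ⟨n, hn⟩ := St.pQ ⟨q, mem_zpowers q⟩
    have S' : SetupQ x q K T :=
      { xx := St.tt
        x1 := St.t1
        Kx := St.toStart0.Kt
        Kn := Kn
        Qx := St.toStart0.Qt q (mem_zpowers q)
        QK := fun k hk => (St.qK k hk).symm
        Q2 := ⟨n, congrArg Subtype.val hn⟩
        Qi := fun c hc hcc => by
          by_cases hc1 : c = 1
          · exact Or.inl hc1
          · exact Or.inr (St.toStart0.uniq hc hcc hc1)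
        CK := CK
        pT := pT
        cx := cx
        syl := syl }
    exact S'.false_of_q R h9' hq C.sect5 W

/-- the row `PSL(2,7)` -/
theorem row27 (C : Ctx G) {K : Subgroup G} (S : Std G K) (hcyc : Iface.Cyc K) (h : XL27 ↥K) : False := by
  obtain ⟨F, i1, i2, h1, h2⟩ := h
  exact row C S hcyc ⟨F, i1, i2, by rw [h1]; decide, by omega, by omega, h2⟩

/-- the row `PSL(2,q)`, `q ≥ 11` -/
theorem rowBig (C : Ctx G) {K : Subgroup G} (S : Std G K) (hcyc : Iface.Cyc K) (h : XL2Big ↥K) : False := by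
  obtain ⟨F, i1, i2, h0, h1, h2⟩ := h
  exact row C S hcyc ⟨F, i1, i2, h0, by omega, by omega, h2⟩

end Cfsg.Agent.OddHalf.D6.LTwoMain

end
end

private theorem dce_bad1089fe72e : _root_.True := by
  try have : _root_.True := by simp only [_root_.Cfsg.Agent.OddHalf.D6.A0.eq_1]
  try have : _root_.True := by simp only [_root_.Cfsg.centralizerPPrimeCore.eq_1]
  try have : _root_.True := by simp only [_root_.Cfsg.Agent.OddHalf.D6.Beta.BData.HH.eq_1]
  exact _root_.True.intro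
end

-- part: OddHalf/SpN/BothInst
section
prune_inst 0x4003004005a2210000018001022001c528200000200480000000004000dc80c4024050021b030011290120cd46038006013180500422000000a000800013d06890000800080580800000000000000000000000000000000000000000000000000200400000
set_option linter.all false
open scoped Cfsg.Agent.FastGrp

-- merged: Cfsg.Agent.OddHalf.SpN.BothPair
section

/-!
# ODD D7, `K = Sp_2n(q)`, `n ≥ 3`, `q ≥ 4` even, pattern ALL: the frame of one pair (helper780)

Section 8 of `blueprints/ODD-D7-Sp-helper297.md` for one pair `(1, 2)` of indices; `P2` collects the root elements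
`x1, x2, s, d, d'` of the roots `2e₁, 2e₂, e₁+e₂, e₁-e₂, e₂-e₁`, the doubled root elements `w1, w2, ws, wd`
(`w2 = w1 ^ n`, `n = d'(1) d(1) d'(1)`), the torus of the two indices, generators with a third index
(`P j = x_{1j}`, `P' j = x_{2j}`, `Y j = y_j`, `Z`: the rest) and the two facts F3.

Result: `P2.gamma_eq_zero`, `P2.kappa_eq`, `P2.epsilon_eq`, `P2.delta_cases`, `P2.ws_w2`, `P2.conj_d'`, `P2.conj_x2`.
-/

set_option autoImplicit false

namespace Cfsg.Agent.OddHalf.SpN.Both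

/-- One pair of indices. All characteristic two; `rt` = square root. -/
structure P2 (F G J : Type*) [Field F] [Group G] where
  t : G
  x1 : F → G
  x2 : F → G
  s : F → G
  d : F → G
  d' : F → G
  w1 : F → G
  w2 : F → G
  ws : F → G
  wd : F → G
  h : Fˣ → Fˣ → G
  P : J → F → G
  P' : J → F → G
  Y : J → F → G
  Z : Set G
  Hr : Set G
  rt : F →+* F
  γ : F
  δ : F
  ε : F
  κ : F → F → F
  -- the field
  two : (2 : F) = 0
  rt_sq : ∀ a, rt a * rt a = a
  /-- `q ≥ 4` -/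
  big : ∃ a : F, a ≠ 0 ∧ a ≠ 1
  -- root elements
  tt : t * t = 1
  x1_add : ∀ u v, x1 (u + v) = x1 u * x1 v
  x2_add : ∀ u v, x2 (u + v) = x2 u * x2 v
  s_add : ∀ u v, s (u + v) = s u * s v
  d_add : ∀ u v, d (u + v) = d u * d v
  d'_add : ∀ u v, d' (u + v) = d' u * d' v
  t_x1 : ∀ u, Commute t (x1 u)
  t_x2 : ∀ u, Commute t (x2 u)
  t_s : ∀ u, Commute t (s u)
  t_d : ∀ u, Commute t (d u)
  t_d' : ∀ u, Commute t (d' u)
  x1_x2 : ∀ u v, Commute (x1 u) (x2 v)
  x1_s : ∀ u v, Commute (x1 u) (s v)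
  x2_s : ∀ u v, Commute (x2 u) (s v)
  d_x1 : ∀ u v, Commute (d u) (x1 v)
  d_s : ∀ u v, Commute (d u) (s v)
  d'_x2 : ∀ u v, Commute (d' u) (x2 v)
  d'_s : ∀ u v, Commute (d' u) (s v)
  /-- `x₂(v)^{d(u)} = x₂(v) s(uv) x₁(u²v)` -/
  d_x2 : ∀ u v, d u * x2 v * d u = x2 v * s (u * v) * x1 (u * u * v)
  d'_x1 : ∀ u v, d' u * x1 v * d' u = x1 v * s (u * v) * x2 (u * u * v)
  ind : ∀ a b c e, x1 a * x2 b * s c * d e = 1 → a = 0 ∧ b = 0 ∧ c = 0 ∧ e = 0
  t_ind : ∀ a b c e, t ≠ x1 a * x2 b * s c * d e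
  -- doubled root elements: section 2
  w1_zero : w1 0 = 1
  w1_t : ∀ u, t * w1 u * t = w1 u * x1 u
  ws_t : ∀ u, t * ws u * t = ws u * s u
  wd_t : ∀ u, t * wd u * t = wd u * d u
  w1_mul : ∀ u v, w1 u * w1 v = w1 (u + v) * x1 (κ u v)
  /-- `w₂ = w₁ ^ n` -/
  w2_def : ∀ u, w2 u = (d' 1 * d 1 * d' 1) * w1 u * (d' 1 * d 1 * d' 1)
  nn : (d' 1 * d 1 * d' 1) * (d' 1 * d 1 * d' 1) = 1
  d'_n : ∀ u, (d' 1 * d 1 * d' 1) * d' u * (d' 1 * d 1 * d' 1) = d u
  w2_t : ∀ u, t * w2 u * t = w2 u * x2 u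
  w2_mul : ∀ u v, w2 u * w2 v = w2 (u + v) * x2 (κ u v)
  ws_add : ∀ u v, ws (u + v) = ws u * ws v
  wd_add : ∀ u v, wd (u + v) = wd u * wd v
  -- section 3, long
  w1_x1 : ∀ u v, Commute (w1 u) (x1 v)
  w1_s : ∀ u v, Commute (w1 u) (s v)
  w1_d : ∀ u v, Commute (w1 u) (d v)
  w1_x2 : ∀ u v, w1 u * x2 v = x2 v * w1 u * s (γ * rt (u * v))
  w2_x2 : ∀ u v, Commute (w2 u) (x2 v)
  w2_s : ∀ u v, Commute (w2 u) (s v)
  w2_d' : ∀ u v, Commute (w2 u) (d' v)
  w2_x1 : ∀ u v, w2 u * x1 v = x1 v * w2 u * s (γ * rt (u * v))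
  -- section 3, short
  ws_x1 : ∀ u v, Commute (ws u) (x1 v)
  ws_x2 : ∀ u v, Commute (ws u) (x2 v)
  ws_s : ∀ u v, Commute (ws u) (s v)
  ws_d : ∀ u v, ws u * d v = d v * ws u * x1 (δ * (u * v))
  ws_d' : ∀ u v, ws u * d' v = d' v * ws u * x2 (δ * (u * v))
  wd_x1 : ∀ u v, Commute (wd u) (x1 v)
  wd_d : ∀ u v, Commute (wd u) (d v)
  wd_s : ∀ u v, wd u * s v = s v * wd u * x1 (δ * (u * v))
  -- section 4
  w1_w2 : ∀ u v, w1 u * w2 v = w2 v * w1 u * s (ε * rt (u * v))
  -- torus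
  h_x1 : ∀ l m u, h l m * x1 u * (h l m)⁻¹ = x1 (l * l * u)
  h_x2 : ∀ l m u, h l m * x2 u * (h l m)⁻¹ = x2 (m * m * u)
  h_s : ∀ l m u, h l m * s u * (h l m)⁻¹ = s (l * m * u)
  h_d : ∀ l m u, h l m * d u * (h l m)⁻¹ = d (l * (m⁻¹ : Fˣ) * u)
  h_d' : ∀ l m u, h l m * d' u * (h l m)⁻¹ = d' ((l⁻¹ : Fˣ) * m * u)
  h_w1 : ∀ l m u, h l m * w1 u * (h l m)⁻¹ = w1 (l * l * u)
  h_w2 : ∀ l m u, h l m * w2 u * (h l m)⁻¹ = w2 (m * m * u)
  h_ws : ∀ l m u, h l m * ws u * (h l m)⁻¹ = ws (l * m * u)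
  h_wd : ∀ l m u, h l m * wd u * (h l m)⁻¹ = wd (l * (m⁻¹ : Fˣ) * u)
  h_t : ∀ l m, Commute (h l m) t
  -- generators with a third index
  P_x1 : ∀ j a u, Commute (P j a) (x1 u)
  P_x2 : ∀ j a u, Commute (P j a) (x2 u)
  P_s : ∀ j a u, Commute (P j a) (s u)
  P_d : ∀ j a u, Commute (P j a) (d u)
  P_d' : ∀ j a u, d' u * P j a * d' u = P j a * P' j (a * u)
  P'_x1 : ∀ j a u, Commute (P' j a) (x1 u)
  P'_x2 : ∀ j a u, Commute (P' j a) (x2 u)
  P'_s : ∀ j a u, Commute (P' j a) (s u)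
  P'_d' : ∀ j a u, Commute (P' j a) (d' u)
  P_w1 : ∀ j a u, Commute (P j a) (w1 u)
  P_w2 : ∀ j a u, Commute (P j a) (w2 u)
  P_ws : ∀ j a u, Commute (P j a) (ws u)
  P_wd : ∀ j a u, Commute (P j a) (wd u)
  P'_w1 : ∀ j a u, Commute (P' j a) (w1 u)
  P'_w2 : ∀ j a u, Commute (P' j a) (w2 u)
  P'_ws : ∀ j a u, Commute (P' j a) (ws u)
  Y_x1 : ∀ j a u, Commute (Y j a) (x1 u)
  Y_x2 : ∀ j a u, Commute (Y j a) (x2 u)
  Y_s : ∀ j a u, Commute (Y j a) (s u)
  Y_d' : ∀ j a u, Commute (Y j a) (d' u)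
  Y_ws : ∀ j a u, Commute (Y j a) (ws u)
  Y_w1 : ∀ j a u, w1 u * Y j a = Y j a * w1 u * P j (γ * rt (u * a))
  Y_w2 : ∀ j a u, w2 u * Y j a = Y j a * w2 u * P' j (γ * rt (u * a))
  Z_x : ∀ z ∈ Z, ∀ u, Commute z (x1 u) ∧ Commute z (x2 u) ∧ Commute z (s u) ∧ Commute z (d' u)
  Z_w : ∀ z ∈ Z, ∀ u, Commute z (w1 u) ∧ Commute z (w2 u) ∧ Commute z (ws u)
  Hr_x : ∀ z ∈ Hr, ∀ u, Commute z (x2 u)
  Hr_w : ∀ z ∈ Hr, ∀ u, Commute z (w1 u) ∧ Commute z (ws u) ∧ Commute z (wd u)
  -- the facts F3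
  centA : ∀ g, Commute g t → (∀ u, Commute g (x1 u)) → (∀ u, Commute g (x2 u)) → (∀ u, Commute g (s u)) →
    (∀ j a, Commute g (P j a)) → (∀ j a, Commute g (P' j a)) → (∀ j a, Commute g (Y j a)) → (∀ z ∈ Z, Commute g z) →
    ∃ a b c, g = x1 a * x2 b * s c ∨ g = t * (x1 a * x2 b * s c)
  centQ : ∀ g, Commute g t → (∀ u, Commute g (x1 u)) → (∀ u, Commute g (s u)) → (∀ u, Commute g (d u)) →
    (∀ j a, Commute g (P j a)) → (∀ z ∈ Hr, Commute g z) →
    ∃ a b c, g = x1 a * s b * d c ∨ g = t * (x1 a * s b * d c)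


section gen

variable {F G : Type*} [Field F] [Group G]

/-- an additive function invariant under all scalars is zero -/
theorem eq_zero_of_inv (hbig : ∃ a : F, a ≠ 0 ∧ a ≠ 1) (f : F → F) (ha : ∀ u v, f (u + v) = f u + f v)
    (hi : ∀ a, a ≠ 0 → ∀ u, f (a * u) = f u) (u : F) : f u = 0 := by
  obtain ⟨a, h0, h1⟩ := hbig
  have e : f (-a * u + u) = f ((1 - a) * u) := by ring_nf
  rw [ha, hi _ (neg_ne_zero.mpr h0), hi _ (sub_ne_zero.mpr h1.symm)] at e
  simpa using e

theorem comm_of_eq {g g1 x x' : G} (h : g * x = x' * g) (h1 : g1 * x = x' * g1) : Commute (g⁻¹ * g1) x := by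
  show g⁻¹ * g1 * x = x * (g⁻¹ * g1)
  have e : g⁻¹ * x' = x * g⁻¹ := by
    rw [inv_mul_eq_iff_eq_mul, ← mul_assoc, h, mul_assoc, mul_inv_cancel, mul_one]
  rw [mul_assoc, h1, ← mul_assoc, e, mul_assoc]

theorem comm_gen {a b c g g' : G} (h : a * b = b * a * c) (ag : Commute a g) (ag' : Commute a g') (bg' : Commute b g')
    (hb : b * g = g * b * g') : Commute c g := by
  have hc : c = (b * a)⁻¹ * (a * b) := by rw [h, inv_mul_cancel_left]
  rw [hc]
  apply comm_of_eq (x' := g * g')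
  · calc b * a * g = b * (a * g) := mul_assoc _ _ _
      _ = (b * g) * a := by rw [ag.eq, mul_assoc]
      _ = g * (b * g') * a := by rw [hb, mul_assoc g]
      _ = _ := by rw [bg'.eq]; simp only [mul_assoc]
  · calc a * b * g = a * (b * g) := mul_assoc _ _ _
      _ = a * g * (b * g') := by rw [hb]; simp only [mul_assoc]
      _ = g * (a * g') * b := by rw [ag.eq, bg'.eq]; simp only [mul_assoc]
      _ = _ := by rw [ag'.eq]; simp only [mul_assoc]

theorem comm_t_of {t g g1 X : G} (ht : t * t = 1) (h : t * g * t = g * X) (h1 : t * g1 * t = g1 * X)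
    (hc : Commute (g⁻¹ * g1) X) : Commute (g⁻¹ * g1) t := by
  have ti : t⁻¹ = t := inv_eq_of_mul_eq_one_right ht
  have t2 : ∀ x, t * (t * x) = x := fun x => by rw [← mul_assoc, ht, one_mul]
  have e3 : t * (g⁻¹ * g1) * t = g⁻¹ * g1 := by
    calc t * (g⁻¹ * g1) * t = (t * g * t)⁻¹ * (t * g1 * t) := by simp only [mul_inv_rev, mul_assoc, ti, t2]
      _ = X⁻¹ * ((g⁻¹ * g1) * X) := by rw [h, h1, mul_inv_rev]; simp only [mul_assoc]
      _ = _ := by rw [hc.eq, inv_mul_cancel_left]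
  show (g⁻¹ * g1) * t = t * (g⁻¹ * g1)
  calc (g⁻¹ * g1) * t = t * (t * (g⁻¹ * g1) * t) := by simp only [mul_assoc, t2]
    _ = _ := by rw [e3]

/-- conjugation by an involution -/
theorem conj3 {a x y z : G} (ha : a * a = 1) : a * (x * y * z) * a = (a * x * a) * (a * y * a) * (a * z * a) := by
  have : ∀ g, a * (a * g) = g := fun g => by rw [← mul_assoc, ha, one_mul]
  simp only [mul_assoc, this]

theorem conj2 {a x y : G} (ha : a * a = 1) : a * (x * y) * a = (a * x * a) * (a * y * a) := by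
  have : ∀ g, a * (a * g) = g := fun g => by rw [← mul_assoc, ha, one_mul]
  simp only [mul_assoc, this]

theorem conj_of_comm {a x : G} (ha : a * a = 1) (h : Commute a x) : a * x * a = x := by
  rw [h.eq, mul_assoc, ha, mul_one]

end gen

namespace P2

variable {F G J : Type*} [Field F] [Group G] (B : P2 F G J)

include B in
theorem add_self (a : F) : a + a = 0 := by rw [← two_mul, B.two, zero_mul]

include B in
theorem add_self_left (a b : F) : a + (a + b) = b := by rw [← add_assoc, B.add_self, zero_add]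

theorem tt' (g : G) : B.t * (B.t * g) = g := by rw [← mul_assoc, B.tt, one_mul]

section root
variable {f : F → G} (hf : ∀ u v, f (u + v) = f u * f v)
include hf
theorem f0 : f 0 = 1 := by have := hf 0 0; rw [add_zero] at this; exact left_eq_mul.mp this
theorem fc (u v : F) : Commute (f u) (f v) := by
  show f u * f v = f v * f u
  rw [← hf, ← hf, add_comm]
end root

include B in
theorem ff {f : F → G} (hf : ∀ u v, f (u + v) = f u * f v) (u : F) : f u * f u = 1 := by
  rw [← hf, B.add_self, f0 hf]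

include B in
theorem ff' {f : F → G} (hf : ∀ u v, f (u + v) = f u * f v) (u : F) (g : G) : f u * (f u * g) = g := by
  rw [← mul_assoc, B.ff hf, one_mul]

/-- `x₁(p) x₂(q) s(r)` -/
def A (p q r : F) : G := B.x1 p * B.x2 q * B.s r

theorem A_congr {p q r p' q' r' : F} (h1 : p = p') (h2 : q = q') (h3 : r = r') : B.A p q r = B.A p' q' r' := by
  rw [h1, h2, h3]

theorem A_mul (p q r p' q' r' : F) : B.A p q r * B.A p' q' r' = B.A (p + p') (q + q') (r + r') := by
  unfold A
  rw [B.x1_add, B.x2_add, B.s_add]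
  have h1 := (B.x1_x2 p' q).eq
  have h2 := (B.x1_s p' r).eq
  have h3 := (B.x2_s q' r).eq
  calc B.x1 p * B.x2 q * B.s r * (B.x1 p' * B.x2 q' * B.s r')
      = B.x1 p * B.x2 q * (B.s r * B.x1 p') * B.x2 q' * B.s r' := by simp only [mul_assoc]
    _ = B.x1 p * (B.x2 q * B.x1 p') * (B.s r * B.x2 q') * B.s r' := by rw [← h2]; simp only [mul_assoc]
    _ = B.x1 p * B.x1 p' * (B.x2 q * B.x2 q') * (B.s r * B.s r') := by rw [← h1, ← h3]; simp only [mul_assoc]
    _ = _ := by simp only [mul_assoc]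

theorem x1_eq (p : F) : B.x1 p = B.A p 0 0 := by simp [A, f0 B.x2_add, f0 B.s_add]
theorem x2_eq (p : F) : B.x2 p = B.A 0 p 0 := by simp [A, f0 B.x1_add, f0 B.s_add]
theorem s_eq (p : F) : B.s p = B.A 0 0 p := by simp [A, f0 B.x1_add, f0 B.x2_add]
theorem A_zero : B.A 0 0 0 = 1 := by simp [A, f0 B.x1_add, f0 B.x2_add, f0 B.s_add]

theorem A_inj {p q r : F} (h : B.A p q r = 1) : p = 0 ∧ q = 0 ∧ r = 0 := by
  have := B.ind p q r 0 (by rw [f0 B.d_add, mul_one]; exact h)
  exact ⟨this.1, this.2.1, this.2.2.1⟩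

theorem A_ext {p q r p' q' r' : F} (h : B.A p q r = B.A p' q' r') : p = p' ∧ q = q' ∧ r = r' := by
  have e : B.A (p + p') (q + q') (r + r') = 1 := by
    rw [← A_mul, h, A_mul, B.add_self, B.add_self, B.add_self, A_zero]
  obtain ⟨h1, h2, h3⟩ := B.A_inj e
  have hn : ∀ a b : F, a + b = 0 → a = b := fun a b hab => by
    have := B.add_self_left a b
    rw [hab, add_zero] at this; exact this
  exact ⟨hn _ _ h1, hn _ _ h2, hn _ _ h3⟩

theorem t_ne (p q r : F) : B.t ≠ B.A p q r := by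
  have := B.t_ind p q r 0
  rwa [f0 B.d_add, mul_one] at this

theorem A_comm (p q r p' q' r' : F) : Commute (B.A p q r) (B.A p' q' r') := by
  show _ * _ = _ * _
  rw [A_mul, A_mul, add_comm p, add_comm q, add_comm r]

/-- elements commuting with `x₁, x₂, s` -/
theorem comm_A {g : G} (h1 : ∀ u, Commute g (B.x1 u)) (h2 : ∀ u, Commute g (B.x2 u)) (h3 : ∀ u, Commute g (B.s u))
    (p q r : F) : Commute g (B.A p q r) := ((h1 p).mul_right (h2 q)).mul_right (h3 r)

theorem t_A (p q r : F) : Commute B.t (B.A p q r) := B.comm_A B.t_x1 B.t_x2 B.t_s p q r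

theorem ws_A (c p q r : F) : Commute (B.ws c) (B.A p q r) := B.comm_A (B.ws_x1 c) (B.ws_x2 c) (B.ws_s c) p q r

theorem A_w2 (p q r b : F) : B.A p q r * B.w2 b = B.w2 b * B.A p q (r + B.γ * B.rt (b * p)) := by
  have h := B.w2_x1 b p
  have e : B.x1 p * B.w2 b = B.w2 b * (B.x1 p * B.s (B.γ * B.rt (b * p))) := by
    rw [← mul_assoc, h, mul_assoc, B.ff B.s_add, mul_one]
  unfold A
  rw [mul_assoc, mul_assoc, ← (B.w2_s b r).eq, ← mul_assoc (B.x2 q), ← (B.w2_x2 b q).eq, mul_assoc (B.w2 b),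
    ← mul_assoc (B.x1 p), e]
  simp only [mul_assoc]
  rw [← mul_assoc (B.s _) (B.x2 q), ← (B.x2_s q _).eq, mul_assoc, ← B.s_add, add_comm]

theorem A_w2' (p q r b : F) (g : G) :
    B.A p q r * (B.w2 b * g) = B.w2 b * (B.A p q (r + B.γ * B.rt (b * p)) * g) := by
  rw [← mul_assoc, A_w2, mul_assoc]

theorem A_w1 (p q r b : F) : B.A p q r * B.w1 b = B.w1 b * B.A p q (r + B.γ * B.rt (b * q)) := by
  have h := B.w1_x2 b q
  have e : B.x2 q * B.w1 b = B.w1 b * (B.x2 q * B.s (B.γ * B.rt (b * q))) := by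
    rw [← mul_assoc, h, mul_assoc, B.ff B.s_add, mul_one]
  unfold A
  rw [mul_assoc, mul_assoc, ← (B.w1_s b r).eq, ← mul_assoc (B.x2 q), e, mul_assoc (B.w1 b), ← mul_assoc (B.x1 p),
    ← (B.w1_x1 b p).eq]
  simp only [mul_assoc]
  rw [← B.s_add, add_comm]

theorem A_ws (p q r b : F) : B.A p q r * B.ws b = B.ws b * B.A p q r := (B.ws_A b p q r).eq.symm

theorem A_ws' (p q r b : F) (g : G) : B.A p q r * (B.ws b * g) = B.ws b * (B.A p q r * g) := by
  rw [← mul_assoc, A_ws, mul_assoc]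

theorem A_t (p q r : F) : B.A p q r * B.t = B.t * B.A p q r := (B.t_A p q r).eq.symm

theorem A_t' (p q r : F) (g : G) : B.A p q r * (B.t * g) = B.t * (B.A p q r * g) := by
  rw [← mul_assoc, A_t, mul_assoc]

/-- conjugation by `d'` -/
theorem A_d' (p q r β : F) : B.d' β * B.A p q r * B.d' β = B.A p (q + β * β * p) (r + β * p) := by
  have e1 : B.d' β * B.x1 p * B.d' β = B.A p (β * β * p) (β * p) := by
    rw [B.d'_x1, A, mul_assoc, mul_assoc (B.x1 p), (B.x2_s _ _).eq]
  rw [A, conj3 (B.ff B.d'_add β), e1, conj_of_comm (B.ff B.d'_add β) (B.d'_x2 β q),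
    conj_of_comm (B.ff B.d'_add β) (B.d'_s β r), x2_eq, s_eq, A_mul, A_mul]
  congr 1 <;> ring

/-- conjugation by `d` -/
theorem A_d (p q r β : F) : B.d β * B.A p q r * B.d β = B.A (p + β * β * q) q (r + β * q) := by
  have e1 : B.d β * B.x2 q * B.d β = B.A (β * β * q) q (β * q) := by
    rw [B.d_x2, A, mul_assoc, ← (B.x1_s _ _).eq, ← mul_assoc, (B.x1_x2 _ _).eq]
  rw [A, conj3 (B.ff B.d_add β), e1, conj_of_comm (B.ff B.d_add β) (B.d_x1 β p),
    conj_of_comm (B.ff B.d_add β) (B.d_s β r), x1_eq, s_eq, A_mul, A_mul]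
  congr 1 <;> ring

/-- torus -/
theorem A_h (p q r : F) (l m : Fˣ) : B.h l m * B.A p q r * (B.h l m)⁻¹ = B.A (l * l * p) (m * m * q) (l * m * r) := by
  unfold A
  rw [← B.h_x1 l m, ← B.h_x2 l m, ← B.h_s l m]
  group

/-- conjugation by `n` -/
theorem A_n (p q r : F) : (B.d' 1 * B.d 1 * B.d' 1) * B.A p q r * (B.d' 1 * B.d 1 * B.d' 1) = B.A q p r := by
  have e : (B.d' 1 * B.d 1 * B.d' 1) * B.A p q r * (B.d' 1 * B.d 1 * B.d' 1) =
      B.d' 1 * (B.d 1 * (B.d' 1 * B.A p q r * B.d' 1) * B.d 1) * B.d' 1 := by simp only [mul_assoc]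
  rw [e, A_d', A_d, A_d']
  congr 1
  · linear_combination p * B.two
  · linear_combination (q + p) * B.two
  · linear_combination (2 * p + q) * B.two

theorem ws_conj_d' (c β : F) : B.d' β * B.ws c * B.d' β = B.ws c * B.A 0 (B.δ * (c * β)) 0 := by
  rw [mul_assoc, B.ws_d', ← x2_eq, mul_assoc, B.ff' B.d'_add]

theorem ws_conj_d (c β : F) : B.d β * B.ws c * B.d β = B.ws c * B.A (B.δ * (c * β)) 0 0 := by
  rw [mul_assoc, B.ws_d, ← x1_eq, mul_assoc, B.ff' B.d_add]

theorem ws_n (c : F) : (B.d' 1 * B.d 1 * B.d' 1) * B.ws c * (B.d' 1 * B.d 1 * B.d' 1) = B.ws c * B.A 0 0 (B.δ * c) := by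
  have e : (B.d' 1 * B.d 1 * B.d' 1) * B.ws c * (B.d' 1 * B.d 1 * B.d' 1) =
      B.d' 1 * (B.d 1 * (B.d' 1 * B.ws c * B.d' 1) * B.d 1) * B.d' 1 := by simp only [mul_assoc]
  rw [e, ws_conj_d', conj2 (B.ff B.d_add 1), ws_conj_d, A_d, mul_assoc (B.ws c), A_mul, conj2 (B.ff B.d'_add 1),
    ws_conj_d', A_d', mul_assoc (B.ws c), A_mul]
  congr 2
  · linear_combination B.δ * c * B.two
  · linear_combination 2 * B.δ * c * B.two
  · linear_combination B.δ * c * B.two

theorem w2_n (u : F) : (B.d' 1 * B.d 1 * B.d' 1) * B.w2 u * (B.d' 1 * B.d 1 * B.d' 1) = B.w1 u := by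
  have : ∀ g, (B.d' 1 * B.d 1 * B.d' 1) * ((B.d' 1 * B.d 1 * B.d' 1) * g) = g := fun g => by
    rw [← mul_assoc, B.nn, one_mul]
  rw [B.w2_def]
  simp only [mul_assoc] at this ⊢
  rw [this]
  have h2 := B.nn
  simp only [mul_assoc] at h2
  rw [h2, mul_one]

theorem w2_zero : B.w2 0 = 1 := by rw [B.w2_def, B.w1_zero, mul_one, B.nn]

theorem ws_zero : B.ws 0 = 1 := f0 B.ws_add

theorem wd_zero : B.wd 0 = 1 := f0 B.wd_add

/-! ### (8.1) -/

/-- the commutator `[ws, w2]` is in `⟨t⟩ A` -/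
theorem comm_ws_w2 (u v : F) : ∃ p q r, B.ws u * B.w2 v = B.w2 v * B.ws u * B.A p q r ∨
    B.ws u * B.w2 v = B.w2 v * B.ws u * (B.t * B.A p q r) := by
  set c := (B.w2 v * B.ws u)⁻¹ * (B.ws u * B.w2 v) with hc
  have h : B.ws u * B.w2 v = B.w2 v * B.ws u * c := by rw [hc, mul_inv_cancel_left]
  have cx1 : ∀ a, Commute c (B.x1 a) := fun a =>
    comm_gen h (B.ws_x1 u a) (B.ws_s u _) (B.w2_s v _) (B.w2_x1 v a)
  have cx2 : ∀ a, Commute c (B.x2 a) := fun a =>
    comm_gen h (B.ws_x2 u a) (Commute.one_right _) (Commute.one_right _) (by rw [mul_one]; exact (B.w2_x2 v a).eq)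
  have cs : ∀ a, Commute c (B.s a) := fun a =>
    comm_gen h (B.ws_s u a) (Commute.one_right _) (Commute.one_right _) (by rw [mul_one]; exact (B.w2_s v a).eq)
  obtain ⟨p, q, r, hk⟩ := B.centA c (by
      apply comm_t_of B.tt (X := B.A 0 v u) _ _ (B.comm_A cx1 cx2 cs 0 v u)
      · rw [conj2 B.tt, B.ws_t, B.w2_t, s_eq, x2_eq, ← mul_assoc, mul_assoc (B.w2 v), A_ws]
        simp only [mul_assoc, A_mul]
        congr 3 <;> simp
      · rw [conj2 B.tt, B.ws_t, B.w2_t, s_eq, x2_eq, ← mul_assoc, mul_assoc (B.ws u), A_w2]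
        simp only [mul_assoc, A_mul]
        congr 3 <;> simp)
    cx1 cx2 cs
    (fun j a => comm_gen h (B.P_ws j a u).symm (Commute.one_right _) (Commute.one_right _)
      (by rw [mul_one]; exact (B.P_w2 j a v).eq.symm))
    (fun j a => comm_gen h (B.P'_ws j a u).symm (Commute.one_right _) (Commute.one_right _)
      (by rw [mul_one]; exact (B.P'_w2 j a v).eq.symm))
    (fun j a => comm_gen h (B.Y_ws j a u).symm (B.P'_ws j _ u).symm (B.P'_w2 j _ v).symm (B.Y_w2 j a v))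
    (fun z hz => comm_gen h (B.Z_w z hz u).2.2.symm (Commute.one_right _) (Commute.one_right _)
      (by rw [mul_one]; exact (B.Z_w z hz v).2.1.eq.symm))
  refine ⟨p, q, r, ?_⟩
  rcases hk with hk | hk
  · left; rw [h, hk]; rfl
  · right; rw [h, hk]; rfl

include B in
theorem add_eq_zero_iff' {a b : F} (h : a + b = 0) : a = b := by
  have := B.add_self_left a b
  rw [h, add_zero] at this; exact this

theorem ws_tt (u : F) : B.t * (B.ws u * B.t) = B.ws u * B.A 0 0 u := by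
  rw [← mul_assoc, B.ws_t, s_eq]

theorem comm_ws_w2' (u v : F) : ∃ p q r, B.ws u * B.w2 v = B.w2 v * B.ws u * B.A p q r := by
  obtain ⟨p, q, r, h | h⟩ := B.comm_ws_w2 u v
  · exact ⟨p, q, r, h⟩
  exfalso
  have hh : ∀ l : Fˣ, ∃ p q r, B.ws (l * u) * B.w2 v = B.w2 v * B.ws (l * u) * (B.t * B.A p q r) := fun l => by
    have e := congrArg (fun g => B.h l 1 * g * (B.h l 1)⁻¹) h
    have c : ∀ x y, B.h l 1 * (x * y) * (B.h l 1)⁻¹ = (B.h l 1 * x * (B.h l 1)⁻¹) * (B.h l 1 * y * (B.h l 1)⁻¹) :=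
      fun x y => by group
    have ct : B.h l 1 * B.t * (B.h l 1)⁻¹ = B.t := by rw [(B.h_t l 1).eq, mul_inv_cancel_right]
    simp only [c, B.h_ws, B.h_w2, B.A_h, ct, Units.val_one, mul_one, one_mul] at e
    exact ⟨_, _, _, e⟩
  obtain ⟨a, ha0, ha1⟩ := B.big
  obtain ⟨p1, q1, r1, h1⟩ := hh (Units.mk0 a ha0)
  have hs : 1 + a ≠ 0 := fun h0 => ha1 (B.add_eq_zero_iff' h0).symm
  obtain ⟨p2, q2, r2, h2⟩ := hh (Units.mk0 (1 + a) hs)
  simp only [Units.val_mk0] at h1 h2
  have e : B.ws ((1 + a) * u) = B.ws u * B.ws (a * u) := by rw [← B.ws_add]; congr 1; ring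
  rw [e, mul_assoc, h1] at h2
  have e2 : B.ws u * (B.w2 v * B.ws (a * u) * (B.t * B.A p1 q1 r1)) =
      B.w2 v * (B.ws u * B.ws (a * u)) * (B.A (p + p1) (q + q1) (a * u + r + r1)) := by
    calc B.ws u * (B.w2 v * B.ws (a * u) * (B.t * B.A p1 q1 r1))
        = (B.ws u * B.w2 v) * (B.ws (a * u) * (B.t * B.A p1 q1 r1)) := by simp only [mul_assoc]
      _ = B.w2 v * (B.ws u * (B.t * (B.A p q r * (B.ws (a * u) * (B.t * B.A p1 q1 r1))))) := by
          rw [h]; simp only [mul_assoc]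
      _ = B.w2 v * (B.ws u * ((B.t * (B.ws (a * u) * B.t)) * (B.A p q r * B.A p1 q1 r1))) := by
          rw [A_ws', A_t']; simp only [mul_assoc]
      _ = _ := by
          rw [ws_tt, A_mul]; simp only [mul_assoc]; rw [A_mul]
          congr 4 <;> ring
  rw [e2] at h2
  have h3 := mul_left_cancel h2
  apply B.t_ne (p + p1 + p2) (q + q1 + q2) (a * u + r + r1 + r2)
  have e3 : B.A (p + p1 + p2) (q + q1 + q2) (a * u + r + r1 + r2) =
      B.A (p + p1) (q + q1) (a * u + r + r1) * B.A p2 q2 r2 := by rw [A_mul]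
  rw [e3, h3, mul_assoc, A_mul, B.add_self, B.add_self, B.add_self, A_zero, mul_one]

/-- **(8.1)**, 45 degrees -/
theorem ws_w2 (u v : F) : Commute (B.ws u) (B.w2 v) := by
  choose p q r h using B.comm_ws_w2'
  -- torus
  have hh : ∀ (l m : Fˣ) (u v : F), p (l * m * u) (m * m * v) = l * l * p u v ∧
      q (l * m * u) (m * m * v) = m * m * q u v ∧ r (l * m * u) (m * m * v) = l * m * r u v := fun l m u v => by
    have e := congrArg (fun g => B.h l m * g * (B.h l m)⁻¹) (h u v)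
    have c : ∀ x y, B.h l m * (x * y) * (B.h l m)⁻¹ = (B.h l m * x * (B.h l m)⁻¹) * (B.h l m * y * (B.h l m)⁻¹) :=
      fun x y => by group
    simp only [c, B.h_ws, B.h_w2, B.A_h] at e
    rw [h] at e
    exact B.A_ext (mul_left_cancel e)
  -- additivity in `u`
  have hu : ∀ u u' v, q (u + u') v = q u v + q u' v := fun u u' v => by
    have e := h (u + u') v
    rw [B.ws_add, mul_assoc, h u' v, ← mul_assoc, ← mul_assoc, h u v] at e
    simp only [mul_assoc] at e
    have e := mul_left_cancel e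
    rw [A_ws'] at e
    have e := mul_left_cancel (mul_left_cancel e)
    rw [A_mul] at e
    exact (B.A_ext e).2.1.symm
  have hq : ∀ u v, q u v = 0 := fun u v => by
    refine eq_zero_of_inv B.big (fun u => q u v) (fun u u' => hu u u' v) (fun a ha u => ?_) u
    have := (hh (Units.mk0 a ha) 1 u v).2.1
    simpa using this
  -- conjugation with `d'`
  have hp : ∀ u v, p u v = 0 := fun u v => by
    have e := congrArg (fun g => B.d' 1 * g * B.d' 1) (h u v)
    simp only [conj3 (B.ff B.d'_add 1), conj2 (B.ff B.d'_add 1), ws_conj_d', A_d',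
      conj_of_comm (B.ff B.d'_add 1) (B.w2_d' v 1).symm] at e
    rw [mul_assoc, A_w2, ← mul_assoc, h u v] at e
    simp only [mul_assoc, A_mul] at e
    have e := B.A_ext (mul_left_cancel (mul_left_cancel e))
    have e3 := e.2.2
    simp only [mul_zero, map_zero, one_mul, add_zero, zero_add] at e3
    exact left_eq_add.mp e3
  -- additivity in `v`
  have hv : ∀ u v v', r u (v + v') = r u v + r u v' := fun u v v' => by
    have e1 : B.ws u * (B.w2 v * B.w2 v') = B.w2 v * (B.w2 v' * (B.ws u * B.A 0 0 (r u v + r u v'))) := by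
      rw [← mul_assoc, h u v, hp, hq, mul_assoc, A_w2, ← mul_assoc, mul_assoc (B.w2 v), h u v', hp, hq]
      simp only [mul_assoc, A_mul]
      exact congrArg _ (congrArg _ (congrArg _ (B.A_congr (by simp) (by simp) (by simp [add_comm]))))
    rw [B.w2_mul, ← mul_assoc, h u (v + v'), hp, hq, ← mul_assoc (B.w2 v), B.w2_mul, x2_eq] at e1
    simp only [mul_assoc, A_mul] at e1
    rw [A_ws'] at e1
    simp only [A_mul] at e1
    have e2 := B.A_ext (mul_left_cancel (mul_left_cancel e1))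
    simpa using e2.2.2
  have hr : ∀ u v, r u v = 0 := fun u v => by
    refine eq_zero_of_inv B.big (fun v => r u v) (fun v v' => hv u v v') (fun a ha v => ?_) v
    have hb : B.rt a ≠ 0 := fun h0 => ha (by rw [← B.rt_sq a, h0, zero_mul])
    have := (hh (Units.mk0 (B.rt a) hb)⁻¹ (Units.mk0 (B.rt a) hb) u v).2.2
    simpa [B.rt_sq, inv_mul_cancel₀ hb] using this
  show _ = _
  rw [h u v, hp, hq, hr, A_zero, mul_one]

end P2

end Cfsg.Agent.OddHalf.SpN.Both

end

-- merged: Cfsg.Agent.OddHalf.SpN.BothLong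
section

/-!
# ODD D7, `K = Sp_2n(q)`, pattern ALL: (8.2) (helper780)
-/

set_option autoImplicit false

namespace Cfsg.Agent.OddHalf.SpN.Both.P2

variable {F G J : Type*} [Field F] [Group G] (B : P2 F G J)

/-- `w₂(b) w_s(c) x₁(p) x₂(q) s(r)` -/
def M (b c p q r : F) : G := B.w2 b * B.ws c * B.A p q r

theorem M_mul (b c p q r b' c' p' q' r' : F) : B.M b c p q r * B.M b' c' p' q' r' =
    B.M (b + b') (c + c') (p + p') (q + q' + B.κ b b') (r + r' + B.γ * B.rt (b' * p)) := by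
  unfold M
  calc B.w2 b * B.ws c * B.A p q r * (B.w2 b' * B.ws c' * B.A p' q' r')
      = B.w2 b * B.ws c * (B.A p q r * (B.w2 b' * (B.ws c' * B.A p' q' r'))) := by simp only [mul_assoc]
    _ = B.w2 b * (B.ws c * B.w2 b') * B.ws c' *
          (B.A p q (r + B.γ * B.rt (b' * p)) * B.A p' q' r') := by rw [A_w2', A_ws']; simp only [mul_assoc]
    _ = (B.w2 b * B.w2 b') * (B.ws c * B.ws c') *
          (B.A (p + p') (q + q') (r + B.γ * B.rt (b' * p) + r')) := by
        rw [(B.ws_w2 c b').eq, A_mul]; simp only [mul_assoc]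
    _ = B.w2 (b + b') * (B.x2 (B.κ b b') * B.ws (c + c')) *
          (B.A (p + p') (q + q') (r + B.γ * B.rt (b' * p) + r')) := by
        rw [B.w2_mul, B.ws_add]; simp only [mul_assoc]
    _ = _ := by
        rw [x2_eq, A_ws]; simp only [mul_assoc]; rw [A_mul]
        exact congrArg _ (congrArg _ (B.A_congr (by ring) (by ring) (by ring)))

theorem M_zero : B.M 0 0 0 0 0 = 1 := by rw [M, w2_zero, ws_zero, A_zero, mul_one, mul_one]

theorem M_one (p q r : F) : B.M 0 0 p q r = B.A p q r := by rw [M, w2_zero, ws_zero, one_mul, one_mul]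

/-- the subgroup of the `M b c p q r` -/
def Q2 : Subgroup G where
  carrier := {g | ∃ b c p q r, g = B.M b c p q r}
  one_mem' := ⟨0, 0, 0, 0, 0, B.M_zero.symm⟩
  mul_mem' := by
    rintro x y ⟨b, c, p, q, r, rfl⟩ ⟨b', c', p', q', r', rfl⟩
    exact ⟨_, _, _, _, _, B.M_mul ..⟩
  inv_mem' := by
    rintro x ⟨b, c, p, q, r, rfl⟩
    refine ⟨b, c, p, q + B.κ b b, r + B.γ * B.rt (b * p), ?_⟩
    rw [inv_eq_iff_mul_eq_one, M_mul, B.add_self, B.add_self, B.add_self]
    have e1 : q + (q + B.κ b b) + B.κ b b = 0 := by rw [B.add_self_left, B.add_self]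
    have e2 : r + (r + B.γ * B.rt (b * p)) + B.γ * B.rt (b * p) = 0 := by rw [B.add_self_left, B.add_self]
    rw [e1, e2, M_zero]

theorem mem_Q2 (b c p q r : F) : B.M b c p q r ∈ B.Q2 := ⟨b, c, p, q, r, rfl⟩

theorem A_mem_Q2 (p q r : F) : B.A p q r ∈ B.Q2 := by rw [← M_one]; exact B.mem_Q2 ..

theorem w2_mem_Q2 (b : F) : B.w2 b ∈ B.Q2 := ⟨b, 0, 0, 0, 0, by rw [M, ws_zero, A_zero, mul_one, mul_one]⟩

theorem ws_mem_Q2 (b : F) : B.ws b ∈ B.Q2 := ⟨0, b, 0, 0, 0, by rw [M, w2_zero, A_zero, one_mul, mul_one]⟩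

theorem M_t (b c p q r : F) : B.t * B.M b c p q r * B.t = B.M b c p (q + b) (r + c) := by
  unfold M
  rw [conj3 B.tt, B.w2_t, B.ws_t, conj_of_comm B.tt (B.t_A p q r), x2_eq, s_eq]
  calc B.w2 b * B.A 0 b 0 * (B.ws c * B.A 0 0 c) * B.A p q r
      = B.w2 b * (B.A 0 b 0 * (B.ws c * (B.A 0 0 c * B.A p q r))) := by simp only [mul_assoc]
    _ = B.w2 b * B.ws c * (B.A 0 b 0 * (B.A 0 0 c * B.A p q r)) := by rw [A_ws']; simp only [mul_assoc]
    _ = _ := by
        rw [A_mul, A_mul]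
        exact congrArg _ (B.A_congr (by ring) (by ring) (by ring))

theorem M_d' (b c p q r β : F) : B.d' β * B.M b c p q r * B.d' β =
    B.M b c p (q + B.δ * (c * β) + β * β * p) (r + β * p) := by
  unfold M
  rw [conj3 (B.ff B.d'_add β), conj_of_comm (B.ff B.d'_add β) (B.w2_d' b β).symm, ws_conj_d', A_d']
  simp only [mul_assoc, A_mul]
  exact congrArg _ (congrArg _ (B.A_congr (by ring) (by ring) (by ring)))

theorem t_not_mem_Q2 : B.t ∉ B.Q2 := by
  rintro ⟨b, c, p, q, r, h⟩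
  have h1 := congrArg (fun g => B.t * g * B.t) h
  simp only [M_t, B.tt, one_mul] at h1
  rw [h] at h1
  unfold M at h1
  have h2 := B.A_ext (mul_left_cancel h1)
  have hb : b = 0 := left_eq_add.mp h2.2.1
  have hc : c = 0 := left_eq_add.mp h2.2.2
  rw [hb, hc, M_one] at h
  exact B.t_ne _ _ _ h

theorem t_conj_mem_Q2 {g : G} (h : g ∈ B.Q2) : B.t * g * B.t ∈ B.Q2 := by
  obtain ⟨b, c, p, q, r, rfl⟩ := h
  rw [M_t]; exact B.mem_Q2 ..

theorem d'_conj_mem_Q2 {g : G} (h : g ∈ B.Q2) (β : F) : B.d' β * g * B.d' β ∈ B.Q2 := by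
  obtain ⟨b, c, p, q, r, rfl⟩ := h
  rw [M_d']; exact B.mem_Q2 ..

theorem rt_mul_self (a : F) : B.rt (a * a) = a := by
  rw [map_mul, B.rt_sq]

/-- first form of (8.2) -/
theorem conj_w1 (u b : F) : ∃ p q r,
    B.d' b * B.w1 u * B.d' b = B.w1 u * B.M (u * (b * b)) ((1 + B.γ) * (u * b)) p q r ∨
    B.d' b * B.w1 u * B.d' b = B.w1 u * (B.w2 (u * (b * b)) * B.ws ((1 + B.γ) * (u * b)) * (B.t * B.A p q r)) := by
  set y := u * (b * b) with hy
  set z := (1 + B.γ) * (u * b) with hz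
  set g := B.w1 u * B.w2 y * B.ws z with hg
  set g1 := B.d' b * B.w1 u * B.d' b with hg1
  have dd := B.ff B.d'_add b
  have dd' : ∀ x, B.d' b * (B.d' b * x) = x := B.ff' B.d'_add b
  have rty : ∀ a, B.rt (y * a) = b * B.rt (u * a) := fun a => by
    rw [hy, map_mul, map_mul, B.rt_mul_self, map_mul]; ring
  -- the generators
  have gx1 : ∀ a, g * B.x1 a = (B.x1 a * B.s (B.γ * B.rt (y * a))) * g := fun a => by
    calc g * B.x1 a = B.w1 u * B.w2 y * (B.ws z * B.x1 a) := by rw [hg]; simp only [mul_assoc]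
      _ = B.w1 u * (B.w2 y * B.x1 a) * B.ws z := by rw [(B.ws_x1 z a).eq]; simp only [mul_assoc]
      _ = (B.w1 u * B.x1 a) * (B.w2 y * B.s (B.γ * B.rt (y * a))) * B.ws z := by
          rw [B.w2_x1]; simp only [mul_assoc]
      _ = B.x1 a * (B.w1 u * B.s (B.γ * B.rt (y * a))) * B.w2 y * B.ws z := by
          rw [(B.w1_x1 u a).eq, (B.w2_s y _).eq]; simp only [mul_assoc]
      _ = _ := by rw [(B.w1_s u _).eq, hg]; simp only [mul_assoc]
  have g1x1 : ∀ a, g1 * B.x1 a = (B.x1 a * B.s (B.γ * B.rt (y * a))) * g1 := fun a => by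
    have e1 : B.d' b * B.x1 a = B.x1 a * B.s (b * a) * B.x2 (b * b * a) * B.d' b := by
      rw [← B.d'_x1]; simp only [mul_assoc, dd, mul_one]
    have e2 : B.d' b * (B.x1 a * B.s (b * a) * B.x2 (b * b * a)) = B.x1 a * B.d' b := by
      rw [← B.d'_x1, ← mul_assoc, ← mul_assoc, dd, one_mul]
    calc g1 * B.x1 a = B.d' b * B.w1 u * (B.d' b * B.x1 a) := by rw [hg1]; simp only [mul_assoc]
      _ = B.d' b * (B.w1 u * B.x1 a) * B.s (b * a) * B.x2 (b * b * a) * B.d' b := by
          rw [e1]; simp only [mul_assoc]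
      _ = B.d' b * B.x1 a * (B.w1 u * B.s (b * a)) * B.x2 (b * b * a) * B.d' b := by
          rw [(B.w1_x1 u a).eq]; simp only [mul_assoc]
      _ = B.d' b * B.x1 a * B.s (b * a) * (B.w1 u * B.x2 (b * b * a)) * B.d' b := by
          rw [(B.w1_s u _).eq]; simp only [mul_assoc]
      _ = (B.d' b * (B.x1 a * B.s (b * a) * B.x2 (b * b * a))) * (B.w1 u * (B.s (B.γ * B.rt (u * (b * b * a))) *
            B.d' b)) := by
          rw [B.w1_x2]; simp only [mul_assoc]
      _ = B.x1 a * B.d' b * (B.w1 u * (B.d' b * B.s (B.γ * B.rt (u * (b * b * a))))) := by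
          rw [e2, ← (B.d'_s b _).eq]
      _ = B.x1 a * (g1 * B.s (B.γ * B.rt (u * (b * b * a)))) := by rw [hg1]; simp only [mul_assoc]
      _ = _ := by
          have e3 : B.rt (u * (b * b * a)) = B.rt (y * a) := by rw [hy]; congr 1; ring
          have e4 : Commute g1 (B.s (B.γ * B.rt (y * a))) := by
            rw [hg1]; exact ((B.d'_s b _).mul_left (B.w1_s u _)).mul_left (B.d'_s b _)
          rw [e3, e4.eq, ← mul_assoc]
  have gx2 : ∀ a, g * B.x2 a = (B.x2 a * B.s (B.γ * B.rt (u * a))) * g := fun a => by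
    calc g * B.x2 a = B.w1 u * B.w2 y * (B.ws z * B.x2 a) := by rw [hg]; simp only [mul_assoc]
      _ = B.w1 u * (B.w2 y * B.x2 a) * B.ws z := by rw [(B.ws_x2 z a).eq]; simp only [mul_assoc]
      _ = (B.w1 u * B.x2 a) * B.w2 y * B.ws z := by
          rw [(B.w2_x2 y a).eq]; simp only [mul_assoc]
      _ = B.x2 a * (B.w1 u * B.s (B.γ * B.rt (u * a))) * B.w2 y * B.ws z := by
          rw [B.w1_x2]; simp only [mul_assoc]
      _ = _ := by rw [(B.w1_s u _).eq, hg]; simp only [mul_assoc]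
  have g1x2 : ∀ a, g1 * B.x2 a = (B.x2 a * B.s (B.γ * B.rt (u * a))) * g1 := fun a => by
    calc g1 * B.x2 a = B.d' b * B.w1 u * (B.d' b * B.x2 a) := by rw [hg1]; simp only [mul_assoc]
      _ = B.d' b * (B.w1 u * B.x2 a) * B.d' b := by rw [(B.d'_x2 b a).eq]; simp only [mul_assoc]
      _ = (B.d' b * B.x2 a) * (B.w1 u * B.s (B.γ * B.rt (u * a))) * B.d' b := by
          rw [B.w1_x2]; simp only [mul_assoc]
      _ = B.x2 a * (B.d' b * B.s (B.γ * B.rt (u * a))) * B.w1 u * B.d' b := by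
          rw [(B.d'_x2 b a).eq, (B.w1_s u _).eq]; simp only [mul_assoc]
      _ = _ := by rw [(B.d'_s b _).eq, hg1]; simp only [mul_assoc]
  have cx1 : ∀ a, Commute (g⁻¹ * g1) (B.x1 a) := fun a => comm_of_eq (gx1 a) (g1x1 a)
  have cx2 : ∀ a, Commute (g⁻¹ * g1) (B.x2 a) := fun a => comm_of_eq (gx2 a) (g1x2 a)
  have cs : ∀ a, Commute (g⁻¹ * g1) (B.s a) := fun a => by
    refine Commute.mul_left (Commute.inv_left ?_) ?_
    · exact ((B.w1_s u a).mul_left (B.w2_s y a)).mul_left (B.ws_s z a)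
    · exact ((B.d'_s b _).mul_left (B.w1_s u _)).mul_left (B.d'_s b _)
  obtain ⟨p, q, r, hk⟩ := B.centA (g⁻¹ * g1) (by
      apply comm_t_of B.tt (X := B.A u y (u * b)) _ _ (B.comm_A cx1 cx2 cs _ _ _)
      · rw [hg, conj3 B.tt, B.w1_t, B.w2_t, B.ws_t, x1_eq, x2_eq, s_eq]
        have e3 : B.rt (y * u) = u * b := by rw [rty, B.rt_mul_self]; ring
        calc B.w1 u * B.A u 0 0 * (B.w2 y * B.A 0 y 0) * (B.ws z * B.A 0 0 z)
            = B.w1 u * (B.A u 0 0 * (B.w2 y * (B.A 0 y 0 * (B.ws z * B.A 0 0 z)))) := by simp only [mul_assoc]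
          _ = B.w1 u * B.w2 y * B.ws z * (B.A u 0 (0 + B.γ * B.rt (y * u)) * (B.A 0 y 0 * B.A 0 0 z)) := by
              rw [A_w2', A_ws', A_ws']; simp only [mul_assoc]
          _ = _ := by
              rw [A_mul, A_mul]
              refine congrArg _ (B.A_congr (by ring) (by ring) ?_)
              rw [e3, hz]; linear_combination B.γ * (u * b) * B.two
      · rw [hg1, conj3 B.tt, B.w1_t, conj_of_comm B.tt (B.t_d' b), x1_eq]
        have e := B.A_d' u 0 0 b
        calc B.d' b * (B.w1 u * B.A u 0 0) * B.d' b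
            = B.d' b * B.w1 u * B.d' b * (B.d' b * B.A u 0 0 * B.d' b) := by simp only [mul_assoc, dd']
          _ = _ := by
              rw [e]
              exact congrArg _ (B.A_congr rfl (by rw [hy]; ring) (by ring)))
    cx1 cx2 cs
    (fun j a => comm_of_eq (x' := B.P j a)
      (by
        have : Commute g (B.P j a) := by
          rw [hg]; exact ((B.P_w1 j a u).symm.mul_left (B.P_w2 j a y).symm).mul_left (B.P_ws j a z).symm
        exact this.eq)
      (by
        have e1 : B.d' b * B.P j a = B.P j a * B.P' j (a * b) * B.d' b := by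
          rw [← B.P_d']; simp only [mul_assoc, dd, mul_one]
        have e2 : B.d' b * (B.P j a * B.P' j (a * b)) = B.P j a * B.d' b := by
          rw [← B.P_d', ← mul_assoc, ← mul_assoc, dd, one_mul]
        calc g1 * B.P j a = B.d' b * B.w1 u * (B.d' b * B.P j a) := by rw [hg1]; simp only [mul_assoc]
          _ = B.d' b * (B.w1 u * B.P j a) * B.P' j (a * b) * B.d' b := by rw [e1]; simp only [mul_assoc]
          _ = B.d' b * B.P j a * (B.w1 u * B.P' j (a * b)) * B.d' b := by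
              rw [← (B.P_w1 j a u).eq]; simp only [mul_assoc]
          _ = (B.d' b * (B.P j a * B.P' j (a * b))) * B.w1 u * B.d' b := by
              rw [← (B.P'_w1 j _ u).eq]; simp only [mul_assoc]
          _ = _ := by rw [e2, hg1]; simp only [mul_assoc]))
    (fun j a => Commute.mul_left (Commute.inv_left
        (((B.P'_w1 j a u).symm.mul_left (B.P'_w2 j a y).symm).mul_left (B.P'_ws j a z).symm))
        (((B.P'_d' j a b).symm.mul_left (B.P'_w1 j a u).symm).mul_left (B.P'_d' j a b).symm))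
    (fun j a => comm_of_eq (x' := B.Y j a * (B.P j (B.γ * B.rt (u * a)) * B.P' j (B.γ * B.rt (y * a))))
      (by
        calc g * B.Y j a = B.w1 u * B.w2 y * (B.ws z * B.Y j a) := by rw [hg]; simp only [mul_assoc]
          _ = B.w1 u * (B.w2 y * B.Y j a) * B.ws z := by rw [← (B.Y_ws j a z).eq]; simp only [mul_assoc]
          _ = (B.w1 u * B.Y j a) * (B.w2 y * B.P' j (B.γ * B.rt (y * a))) * B.ws z := by
              rw [B.Y_w2]; simp only [mul_assoc]
          _ = B.Y j a * (B.w1 u * B.P j (B.γ * B.rt (u * a))) * B.P' j (B.γ * B.rt (y * a)) * B.w2 y * B.ws z := by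
              rw [B.Y_w1, ← (B.P'_w2 j _ y).eq]; simp only [mul_assoc]
          _ = B.Y j a * B.P j (B.γ * B.rt (u * a)) * (B.w1 u * B.P' j (B.γ * B.rt (y * a))) * B.w2 y * B.ws z := by
              rw [← (B.P_w1 j _ u).eq]; simp only [mul_assoc]
          _ = _ := by rw [← (B.P'_w1 j _ u).eq, hg]; simp only [mul_assoc])
      (by
        have e1 : B.d' b * B.P j (B.γ * B.rt (u * a)) =
            B.P j (B.γ * B.rt (u * a)) * B.P' j (B.γ * B.rt (y * a)) * B.d' b := by
          have e0 := B.P_d' j (B.γ * B.rt (u * a)) b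
          have e3 : B.γ * B.rt (u * a) * b = B.γ * B.rt (y * a) := by rw [rty]; ring
          rw [e3] at e0
          rw [← e0]; simp only [mul_assoc, dd, mul_one]
        calc g1 * B.Y j a = B.d' b * B.w1 u * (B.d' b * B.Y j a) := by rw [hg1]; simp only [mul_assoc]
          _ = B.d' b * (B.w1 u * B.Y j a) * B.d' b := by rw [← (B.Y_d' j a b).eq]; simp only [mul_assoc]
          _ = (B.d' b * B.Y j a) * (B.w1 u * B.P j (B.γ * B.rt (u * a))) * B.d' b := by
              rw [B.Y_w1]; simp only [mul_assoc]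
          _ = B.Y j a * (B.d' b * B.P j (B.γ * B.rt (u * a))) * B.w1 u * B.d' b := by
              rw [← (B.Y_d' j a b).eq, ← (B.P_w1 j _ u).eq]; simp only [mul_assoc]
          _ = _ := by rw [e1, hg1]; simp only [mul_assoc]))
    (fun x hx => Commute.mul_left (Commute.inv_left
        (((B.Z_w x hx u).1.symm.mul_left (B.Z_w x hx y).2.1.symm).mul_left (B.Z_w x hx z).2.2.symm))
        (((B.Z_x x hx b).2.2.2.symm.mul_left (B.Z_w x hx u).1.symm).mul_left (B.Z_x x hx b).2.2.2.symm))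
  refine ⟨p, q, r, ?_⟩
  have e : g1 = g * (g⁻¹ * g1) := by rw [mul_inv_cancel_left]
  rcases hk with hk | hk
  · left; rw [e, hk, hg, M, A]; simp only [mul_assoc]
  · right; rw [e, hk, hg, A]; simp only [mul_assoc]

/-- `T` is trivial -/
theorem conj_w1' (u b : F) : ∃ p q r,
    B.d' b * B.w1 u * B.d' b = B.w1 u * B.M (u * (b * b)) ((1 + B.γ) * (u * b)) p q r := by
  obtain ⟨p, q, r, h | h⟩ := B.conj_w1 u b
  · exact ⟨p, q, r, h⟩
  exfalso
  -- torus
  have hh : ∀ m : Fˣ, ∃ x ∈ B.Q2, B.d' (m * b) * B.w1 u * B.d' (m * b) = B.w1 u * (B.t * x) := fun m => by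
    have e := congrArg (fun g => B.h 1 m * g * (B.h 1 m)⁻¹) h
    have c : ∀ x y, B.h 1 m * (x * y) * (B.h 1 m)⁻¹ = (B.h 1 m * x * (B.h 1 m)⁻¹) * (B.h 1 m * y * (B.h 1 m)⁻¹) :=
      fun x y => by group
    have ct : B.h 1 m * B.t * (B.h 1 m)⁻¹ = B.t := by rw [(B.h_t 1 m).eq, mul_inv_cancel_right]
    simp only [c, B.h_ws, B.h_w1, B.h_w2, B.h_d', B.A_h, ct, Units.val_one, mul_one, one_mul, inv_one] at e
    refine ⟨B.t * (B.w2 (m * m * (u * (b * b))) * B.ws (m * ((1 + B.γ) * (u * b)))) * B.t *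
      B.A p (m * m * q) (m * r), mul_mem (B.t_conj_mem_Q2 (mul_mem (B.w2_mem_Q2 _) (B.ws_mem_Q2 _)))
      (B.A_mem_Q2 _ _ _), ?_⟩
    rw [e]
    simp only [mul_assoc, B.tt']
  obtain ⟨a, ha0, ha1⟩ := B.big
  obtain ⟨x, hx, hx'⟩ := hh 1
  obtain ⟨y, hy, hy'⟩ := hh (Units.mk0 a ha0)
  have hs : 1 + a ≠ 0 := fun h0 => ha1 (B.add_eq_zero_iff' h0).symm
  obtain ⟨z, hz, hz'⟩ := hh (Units.mk0 (1 + a) hs)
  simp only [Units.val_mk0, Units.val_one, one_mul] at hx' hy' hz'
  have dd' : ∀ x, B.d' b * (B.d' b * x) = x := B.ff' B.d'_add b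
  have hab : (1 + a) * b = b + a * b := by ring
  rw [hab] at hz'
  have e : B.d' (b + a * b) * B.w1 u * B.d' (b + a * b) = B.w1 u * (B.t * x) * (B.t * (B.d' b * y * B.d' b)) := by
    have e1 : B.d' (b + a * b) * B.w1 u * B.d' (b + a * b) =
        B.d' b * (B.d' (a * b) * B.w1 u * B.d' (a * b)) * B.d' b := by
      nth_rw 2 [add_comm]
      rw [B.d'_add, B.d'_add]; simp only [mul_assoc]
    have e2 : B.d' b * B.t = B.t * B.d' b := (B.t_d' b).eq.symm
    rw [e1, hy']
    calc B.d' b * (B.w1 u * (B.t * y)) * B.d' b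
        = (B.d' b * B.w1 u * B.d' b) * (B.d' b * B.t) * y * B.d' b := by simp only [mul_assoc, dd']
      _ = _ := by rw [hx', e2]; simp only [mul_assoc]
  rw [e, mul_assoc] at hz'
  have h3 := mul_left_cancel hz'
  apply B.t_not_mem_Q2
  have h4 : B.t = (B.t * x * B.t) * (B.d' b * y * B.d' b) * z⁻¹ := by
    rw [eq_mul_inv_iff_mul_eq, ← h3]; simp only [mul_assoc]
  rw [h4]
  exact mul_mem (mul_mem (B.t_conj_mem_Q2 hx) (B.d'_conj_mem_Q2 hy b)) (inv_mem hz)

theorem M_ext {b c p q r p' q' r' : F} (h : B.M b c p q r = B.M b c p' q' r') : p = p' ∧ q = q' ∧ r = r' :=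
  B.A_ext (mul_left_cancel h)

/-- **(8.2)**, first part -/
theorem main_conj : (∀ u v, B.κ u v = B.δ * (1 + B.γ) * B.rt (u * v)) ∧ ∃ c2 c3 : F, ∀ u b,
    B.d' b * B.w1 u * B.d' b = B.w1 u * B.M (u * (b * b)) ((1 + B.γ) * (u * b)) 0 (c2 * (u * (b * b))) (c3 * (u * b)) := by
  choose p q r h using B.conj_w1'
  -- torus
  have hh : ∀ (l m : Fˣ) (u b : F), p (l * l * u) ((l⁻¹ : Fˣ) * m * b) = l * l * p u b ∧
      q (l * l * u) ((l⁻¹ : Fˣ) * m * b) = m * m * q u b ∧ r (l * l * u) ((l⁻¹ : Fˣ) * m * b) = l * m * r u b := fun l m u b => by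
    have e := congrArg (fun g => B.h l m * g * (B.h l m)⁻¹) (h u b)
    have c : ∀ x y, B.h l m * (x * y) * (B.h l m)⁻¹ = (B.h l m * x * (B.h l m)⁻¹) * (B.h l m * y * (B.h l m)⁻¹) :=
      fun x y => by group
    simp only [c, M, B.h_ws, B.h_w1, B.h_w2, B.h_d', B.A_h] at e
    rw [h] at e
    have e := mul_left_cancel e
    have l0 : (l : F) ≠ 0 := l.ne_zero
    have e1 : (l : F) * l * u * ((l⁻¹ : Fˣ) * m * b * ((l⁻¹ : Fˣ) * m * b)) = m * m * (u * (b * b)) := by
      rw [Units.val_inv_eq_inv_val]; field_simp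
    have e2 : (1 + B.γ) * ((l : F) * l * u * ((l⁻¹ : Fˣ) * m * b)) = l * m * ((1 + B.γ) * (u * b)) := by
      rw [Units.val_inv_eq_inv_val]; field_simp
    rw [e1, e2] at e
    exact B.M_ext e
  -- additivity in `b`
  have hadd : ∀ u b b', p u (b + b') = p u b + p u b' ∧
      q u (b + b') = q u b + q u b' + B.δ * ((1 + B.γ) * (u * b') * b) + b * b * p u b' +
        B.κ (u * (b * b)) (u * (b' * b')) ∧
      r u (b + b') = r u b + r u b' + b * p u b' + B.γ * B.rt (u * (b' * b') * p u b) := fun u b b' => by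
    have dd' : ∀ x, B.d' b * (B.d' b * x) = x := B.ff' B.d'_add b
    have e1 : B.d' (b + b') * B.w1 u * B.d' (b + b') =
        B.d' b * (B.d' b' * B.w1 u * B.d' b') * B.d' b := by
      nth_rw 2 [add_comm]
      rw [B.d'_add, B.d'_add]; simp only [mul_assoc]
    rw [h u b', conj2 (B.ff B.d'_add b), h u b, M_d', mul_assoc (B.w1 u), M_mul, h] at e1
    have e2 := mul_left_cancel e1
    have i1 : u * ((b + b') * (b + b')) = u * (b * b) + u * (b' * b') := by linear_combination (u * b * b') * B.two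
    have i2 : (1 + B.γ) * (u * (b + b')) = (1 + B.γ) * (u * b) + (1 + B.γ) * (u * b') := by ring
    rw [i1, i2] at e2
    obtain ⟨j1, j2, j3⟩ := B.M_ext e2
    refine ⟨j1, ?_, ?_⟩
    · rw [j2]; ring
    · rw [j3]; ring
  have hp : ∀ u b, p u b = 0 := fun u b => by
    refine eq_zero_of_inv B.big (fun b => p u b) (fun b b' => (hadd u b b').1) (fun a ha b => ?_) b
    have := (hh 1 (Units.mk0 a ha) u b).1
    simpa using this
  simp only [hp, mul_zero, add_zero, map_zero] at hadd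
  have h0 : ∀ u, q u 0 = 0 ∧ r u 0 = 0 := fun u => by
    have h1 := h u 0
    simp only [f0 B.d'_add, one_mul, mul_one, mul_zero, hp] at h1
    have h2 := left_eq_mul.mp h1
    rw [M_one] at h2
    exact (B.A_inj h2).2
  have hq : ∀ u b, q u b = b * b * q u 1 := fun u b => by
    by_cases hb : b = 0
    · rw [hb, (h0 u).1]; ring
    · have := (hh 1 (Units.mk0 b hb) u 1).2.1
      simpa using this
  have hκ : ∀ u v, B.κ u v = B.δ * (1 + B.γ) * B.rt (u * v) := fun u v => by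
    have h1 := (hadd 1 (B.rt u) (B.rt v)).2.1
    rw [hq 1 (B.rt u + B.rt v), hq 1 (B.rt u), hq 1 (B.rt v), B.rt_sq, B.rt_sq] at h1
    simp only [one_mul] at h1
    rw [map_mul]
    have h2 := B.rt_sq u
    have h3 := B.rt_sq v
    linear_combination -h1 + (B.rt u * B.rt v) * (q 1 1 - B.δ * (1 + B.γ)) * B.two + q 1 1 * h2 + q 1 1 * h3
  refine ⟨hκ, q 1 1, r 1 1, fun u b => ?_⟩
  rw [h u b, hp]
  refine congrArg _ ?_
  by_cases hu : u = 0
  · subst hu
    have h1 := h 0 b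
    simp only [B.w1_zero, mul_one, B.ff B.d'_add, one_mul, hp, zero_mul, mul_zero] at h1
    rw [M_one] at h1
    have h2 := (B.A_inj h1.symm).2
    rw [h2.1, h2.2]; simp
  · have hl : B.rt u ≠ 0 := fun h0 => hu (by rw [← B.rt_sq u, h0, zero_mul])
    have h1 := (hh (Units.mk0 (B.rt u) hl) 1 1 (B.rt u * b)).2
    have h2 := (hh 1 (Units.mk0 (B.rt u) hl) 1 b).2
    simp only [Units.val_mk0, Units.val_one, mul_one, one_mul, inv_one, Units.val_inv_eq_inv_val,
      inv_mul_cancel_left₀ hl, B.rt_sq] at h1 h2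
    have hr1 : r 1 b = b * r 1 1 := by
      by_cases hb : b = 0
      · rw [hb, (h0 1).2, zero_mul]
      · have := (hh 1 (Units.mk0 b hb) 1 1).2.2
        simpa using this
    have e1 : q u b = q 1 1 * (u * (b * b)) := by rw [h1.1, h2.1, hq 1 b]; ring
    have e2 : r u b = r 1 1 * (u * b) := by
      rw [h1.2, h2.2, hr1]
      linear_combination (b * r 1 1) * B.rt_sq u
    rw [e1, e2]

theorem main_eps : (∀ u v, B.κ u v = B.δ * (1 + B.γ) * B.rt (u * v)) ∧ B.ε = B.δ * (1 + B.γ) ∧ ∃ c3 : F, ∀ u b,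
    B.d' b * B.w1 u * B.d' b = B.w1 u * B.M (u * (b * b)) ((1 + B.γ) * (u * b)) 0 0 (c3 * (u * b)) := by
  obtain ⟨hκ, c2, c3, h⟩ := B.main_conj
  set n := B.d' 1 * B.d 1 * B.d' 1 with hn
  have cn : ∀ x y, n * (x * y) * n = (n * x * n) * (n * y * n) := fun x y => conj2 B.nn
  have key : ∀ u, c2 * u = 0 ∧ B.ε * u + B.δ * ((1 + B.γ) * u) = 0 := fun u => by
    set z := (1 + B.γ) * u with hz
    have h1 : B.d' 1 * B.w1 u * B.d' 1 = B.w1 u * (B.w2 u * B.ws z * B.A 0 (c2 * u) (c3 * u)) := by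
      have := h u 1
      simpa only [mul_one, M] using this
    have h2 : B.d 1 * B.w2 u * B.d 1 = B.w2 u * (B.w1 u * (B.ws z * B.A 0 0 (B.δ * z)) * B.A (c2 * u) 0 (c3 * u)) := by
      have e := congrArg (fun g => n * g * n) h1
      simp only [cn] at e
      rw [hn, B.d'_n, ← B.w2_def, B.w2_n, B.ws_n, B.A_n] at e
      exact e
    have h3 : B.w1 u * B.w2 u * B.w1 u = B.w2 u * B.A (B.δ * z) 0 (B.ε * u) := by
      have e : B.w1 u * B.w1 u = B.A (B.δ * z) 0 0 := by
        rw [B.w1_mul, B.add_self, B.w1_zero, one_mul, hκ, B.rt_mul_self, x1_eq, hz]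
        exact B.A_congr (by ring) rfl rfl
      rw [B.w1_w2, B.rt_mul_self, mul_assoc, ← (B.w1_s u _).eq, mul_assoc, ← mul_assoc (B.w1 u), e, s_eq, A_mul]
      exact congrArg _ (B.A_congr (by ring) (by ring) (by ring))
    have ww : B.ws z * B.ws z = 1 := B.ff B.ws_add z
    have h4 : B.d 1 * (B.d' 1 * B.w1 u * B.d' 1) * B.d 1 =
        B.w2 u * B.A 0 (c2 * u) (B.ε * u + B.δ * z + c2 * u) := by
      rw [h1, conj2 (B.ff B.d_add 1), conj3 (B.ff B.d_add 1), h2, ws_conj_d, A_d,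
        conj_of_comm (B.ff B.d_add 1) (B.w1_d u 1).symm]
      calc B.w1 u * (B.w2 u * (B.w1 u * (B.ws z * B.A 0 0 (B.δ * z)) * B.A (c2 * u) 0 (c3 * u)) *
              (B.ws z * B.A (B.δ * (z * 1)) 0 0) *
            B.A (0 + 1 * 1 * (c2 * u)) (c2 * u) (c3 * u + 1 * (c2 * u)))
          = (B.w1 u * B.w2 u * B.w1 u) * (B.ws z * (B.A 0 0 (B.δ * z) * (B.A (c2 * u) 0 (c3 * u) *
              (B.ws z * (B.A (B.δ * (z * 1)) 0 0 * B.A (0 + 1 * 1 * (c2 * u)) (c2 * u) (c3 * u + 1 * (c2 * u))))))) := by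
            simp only [mul_assoc]
        _ = (B.w1 u * B.w2 u * B.w1 u) * ((B.ws z * B.ws z) * (B.A 0 0 (B.δ * z) * (B.A (c2 * u) 0 (c3 * u) *
              (B.A (B.δ * (z * 1)) 0 0 * B.A (0 + 1 * 1 * (c2 * u)) (c2 * u) (c3 * u + 1 * (c2 * u)))))) := by
            rw [A_ws', A_ws']; simp only [mul_assoc]
        _ = _ := by
            rw [ww, one_mul, h3, mul_assoc, A_mul, A_mul, A_mul, A_mul]
            refine congrArg _ (B.A_congr ?_ ?_ ?_)
            · linear_combination (B.δ * z + c2 * u) * B.two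
            · ring
            · linear_combination (c3 * u) * B.two
    have e : n * B.w1 u * n = B.d' 1 * (B.d 1 * (B.d' 1 * B.w1 u * B.d' 1) * B.d 1) * B.d' 1 := by
      rw [hn]; simp only [mul_assoc]
    have e2 := B.w2_def u
    rw [← hn, e, h4, conj2 (B.ff B.d'_add 1), A_d', conj_of_comm (B.ff B.d'_add 1) (B.w2_d' u 1).symm] at e2
    obtain ⟨-, e3, e4⟩ := B.A_inj (left_eq_mul.mp e2)
    simp only [mul_zero, add_zero] at e3 e4
    rw [e3, add_zero] at e4
    exact ⟨e3, e4⟩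
  obtain ⟨k1, k2⟩ := key 1
  simp only [mul_one] at k1 k2
  refine ⟨hκ, B.add_eq_zero_iff' k2, c3, fun u b => ?_⟩
  rw [h u b, k1, zero_mul]

end Cfsg.Agent.OddHalf.SpN.Both.P2

end

-- merged: Cfsg.Agent.OddHalf.SpN.BothShort
section

/-!
# ODD D7, `K = Sp_2n(q)`, pattern ALL: (8.3), (8.4) (helper780)
-/

set_option autoImplicit false

namespace Cfsg.Agent.OddHalf.SpN.Both.P2

variable {F G J : Type*} [Field F] [Group G] (B : P2 F G J)

/-- (8.1), the other long root -/
theorem ws_w1 (u v : F) : Commute (B.ws u) (B.w1 v) := by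
  set n := B.d' 1 * B.d 1 * B.d' 1 with hn
  have cn : ∀ x y, n * (x * y) * n = (n * x * n) * (n * y * n) := fun x y => conj2 B.nn
  have e := congrArg (fun g => n * g * n) (B.ws_w2 u v).eq
  simp only [cn] at e
  rw [hn, B.ws_n, B.w2_n] at e
  have e1 : B.A 0 0 (B.δ * u) * B.w1 v = B.w1 v * B.A 0 0 (B.δ * u) := by
    rw [A_w1]; simp
  rw [mul_assoc, e1, ← mul_assoc, ← mul_assoc] at e
  exact mul_right_cancel e

/-- `x₁(p) s(q) d(r)` -/
def E (p q r : F) : G := B.x1 p * B.s q * B.d r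

theorem E_mul (p q r p' q' r' : F) : B.E p q r * B.E p' q' r' = B.E (p + p') (q + q') (r + r') := by
  unfold E
  rw [B.x1_add, B.s_add, B.d_add]
  have h1 := (B.x1_s p' q).eq
  have h2 := (B.d_x1 r p').eq
  have h3 := (B.d_s r q').eq
  calc B.x1 p * B.s q * B.d r * (B.x1 p' * B.s q' * B.d r')
      = B.x1 p * B.s q * (B.d r * B.x1 p') * B.s q' * B.d r' := by simp only [mul_assoc]
    _ = B.x1 p * (B.s q * B.x1 p') * (B.d r * B.s q') * B.d r' := by rw [h2]; simp only [mul_assoc]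
    _ = B.x1 p * B.x1 p' * (B.s q * B.s q') * (B.d r * B.d r') := by rw [← h1, h3]; simp only [mul_assoc]
    _ = _ := by simp only [mul_assoc]

theorem E_congr {p q r p' q' r' : F} (h1 : p = p') (h2 : q = q') (h3 : r = r') : B.E p q r = B.E p' q' r' := by
  rw [h1, h2, h3]

theorem x1_eq' (p : F) : B.x1 p = B.E p 0 0 := by simp [E, f0 B.d_add, f0 B.s_add]
theorem s_eq' (p : F) : B.s p = B.E 0 p 0 := by simp [E, f0 B.x1_add, f0 B.d_add]
theorem d_eq' (p : F) : B.d p = B.E 0 0 p := by simp [E, f0 B.x1_add, f0 B.s_add]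
theorem E_zero : B.E 0 0 0 = 1 := by simp [E, f0 B.x1_add, f0 B.d_add, f0 B.s_add]

theorem E_inj {p q r : F} (h : B.E p q r = 1) : p = 0 ∧ q = 0 ∧ r = 0 := by
  have := B.ind p 0 q r (by rw [f0 B.x2_add, mul_one]; exact h)
  exact ⟨this.1, this.2.2.1, this.2.2.2⟩

theorem E_ext {p q r p' q' r' : F} (h : B.E p q r = B.E p' q' r') : p = p' ∧ q = q' ∧ r = r' := by
  have e : B.E (p + p') (q + q') (r + r') = 1 := by
    rw [← E_mul, h, E_mul, B.add_self, B.add_self, B.add_self, E_zero]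
  obtain ⟨h1, h2, h3⟩ := B.E_inj e
  exact ⟨B.add_eq_zero_iff' h1, B.add_eq_zero_iff' h2, B.add_eq_zero_iff' h3⟩

theorem t_ne' (p q r : F) : B.t ≠ B.E p q r := by
  have := B.t_ind p 0 q r
  rwa [f0 B.x2_add, mul_one] at this

theorem comm_E {g : G} (h1 : ∀ u, Commute g (B.x1 u)) (h2 : ∀ u, Commute g (B.s u)) (h3 : ∀ u, Commute g (B.d u))
    (p q r : F) : Commute g (B.E p q r) := ((h1 p).mul_right (h2 q)).mul_right (h3 r)

theorem t_E (p q r : F) : Commute B.t (B.E p q r) := B.comm_E B.t_x1 B.t_s B.t_d p q r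

theorem w1_E (c p q r : F) : Commute (B.w1 c) (B.E p q r) := B.comm_E (B.w1_x1 c) (B.w1_s c) (B.w1_d c) p q r

theorem E_ws (p q r b : F) : B.E p q r * B.ws b = B.ws b * B.E (p + B.δ * (b * r)) q r := by
  have e : B.d r * B.ws b = B.ws b * (B.d r * B.x1 (B.δ * (b * r))) := by
    rw [← mul_assoc, B.ws_d, mul_assoc, B.ff B.x1_add, mul_one]
  unfold E
  calc B.x1 p * B.s q * B.d r * B.ws b = B.x1 p * B.s q * (B.d r * B.ws b) := mul_assoc _ _ _
    _ = B.x1 p * (B.s q * B.ws b) * B.d r * B.x1 (B.δ * (b * r)) := by rw [e]; simp only [mul_assoc]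
    _ = (B.x1 p * B.ws b) * B.s q * (B.d r * B.x1 (B.δ * (b * r))) := by
        rw [← (B.ws_s b q).eq]; simp only [mul_assoc]
    _ = B.ws b * B.x1 p * (B.s q * B.x1 (B.δ * (b * r))) * B.d r := by
        rw [← (B.ws_x1 b p).eq, (B.d_x1 r _).eq]; simp only [mul_assoc]
    _ = B.ws b * (B.x1 p * B.x1 (B.δ * (b * r))) * B.s q * B.d r := by
        rw [← (B.x1_s _ q).eq]; simp only [mul_assoc]
    _ = _ := by rw [← B.x1_add]; simp only [mul_assoc]

theorem E_ws' (p q r b : F) (g : G) :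
    B.E p q r * (B.ws b * g) = B.ws b * (B.E (p + B.δ * (b * r)) q r * g) := by
  rw [← mul_assoc, E_ws, mul_assoc]

theorem E_w1 (p q r b : F) : B.E p q r * B.w1 b = B.w1 b * B.E p q r := (B.w1_E b p q r).eq.symm

theorem E_w1' (p q r b : F) (g : G) : B.E p q r * (B.w1 b * g) = B.w1 b * (B.E p q r * g) := by
  rw [← mul_assoc, E_w1, mul_assoc]

theorem d_conj_x2 (r v : F) : B.x2 v * B.d r * B.x2 v = B.E (r * r * v) (r * v) r := by
  have h := B.d_x2 r v
  have e : B.x2 v * B.d r * B.x2 v * B.d r = B.s (r * v) * B.x1 (r * r * v) := by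
    calc B.x2 v * B.d r * B.x2 v * B.d r = B.x2 v * (B.d r * B.x2 v * B.d r) := by simp only [mul_assoc]
      _ = _ := by rw [h]; simp only [mul_assoc]; rw [B.ff' B.x2_add]
  calc B.x2 v * B.d r * B.x2 v = (B.x2 v * B.d r * B.x2 v * B.d r) * B.d r := by
        simp only [mul_assoc]; rw [B.ff B.d_add, mul_one]
    _ = _ := by rw [e, ← (B.x1_s _ _).eq, E]

theorem E_x2 (p q r v : F) : B.x2 v * B.E p q r * B.x2 v = B.E (p + r * r * v) (q + r * v) r := by
  rw [E, conj3 (B.ff B.x2_add v), d_conj_x2, conj_of_comm (B.ff B.x2_add v) (B.x1_x2 p v).symm,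
    conj_of_comm (B.ff B.x2_add v) (B.x2_s v q), x1_eq', s_eq', E_mul, E_mul]
  congr 1 <;> ring

theorem E_h (p q r : F) (l m : Fˣ) :
    B.h l m * B.E p q r * (B.h l m)⁻¹ = B.E (l * l * p) (l * m * q) (l * (m⁻¹ : Fˣ) * r) := by
  unfold E
  rw [← B.h_x1 l m, ← B.h_s l m, ← B.h_d l m]
  group

/-- `w_s(b) w₁(c) x₁(p) s(q) d(r)` -/
def N (b c p q r : F) : G := B.ws b * B.w1 c * B.E p q r

theorem N_mul (b c p q r b' c' p' q' r' : F) : B.N b c p q r * B.N b' c' p' q' r' =
    B.N (b + b') (c + c') (p + p' + B.κ c c' + B.δ * (b' * r)) (q + q') (r + r') := by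
  unfold N
  calc B.ws b * B.w1 c * B.E p q r * (B.ws b' * B.w1 c' * B.E p' q' r')
      = B.ws b * B.w1 c * (B.E p q r * (B.ws b' * (B.w1 c' * B.E p' q' r'))) := by simp only [mul_assoc]
    _ = B.ws b * (B.w1 c * B.ws b') * B.w1 c' *
          (B.E (p + B.δ * (b' * r)) q r * B.E p' q' r') := by rw [E_ws', E_w1']; simp only [mul_assoc]
    _ = (B.ws b * B.ws b') * (B.w1 c * B.w1 c') *
          (B.E (p + B.δ * (b' * r) + p') (q + q') (r + r')) := by
        rw [← (B.ws_w1 b' c).eq, E_mul]; simp only [mul_assoc]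
    _ = B.ws (b + b') * (B.w1 (c + c') * (B.x1 (B.κ c c') *
          (B.E (p + B.δ * (b' * r) + p') (q + q') (r + r')))) := by
        rw [B.w1_mul, B.ws_add]; simp only [mul_assoc]
    _ = _ := by
        rw [x1_eq', E_mul]; simp only [mul_assoc]
        exact congrArg _ (congrArg _ (B.E_congr (by ring) (by ring) (by ring)))

theorem N_zero : B.N 0 0 0 0 0 = 1 := by rw [N, B.w1_zero, ws_zero, E_zero, mul_one, mul_one]

theorem N_one (p q r : F) : B.N 0 0 p q r = B.E p q r := by rw [N, B.w1_zero, ws_zero, one_mul, one_mul]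

theorem N_ext {b c p q r p' q' r' : F} (h : B.N b c p q r = B.N b c p' q' r') : p = p' ∧ q = q' ∧ r = r' :=
  B.E_ext (mul_left_cancel h)

/-- the subgroup of the `N b c p q r` -/
def Q3 : Subgroup G where
  carrier := {g | ∃ b c p q r, g = B.N b c p q r}
  one_mem' := ⟨0, 0, 0, 0, 0, B.N_zero.symm⟩
  mul_mem' := by
    rintro x y ⟨b, c, p, q, r, rfl⟩ ⟨b', c', p', q', r', rfl⟩
    exact ⟨_, _, _, _, _, B.N_mul ..⟩
  inv_mem' := by
    rintro x ⟨b, c, p, q, r, rfl⟩
    refine ⟨b, c, p + (B.κ c c + B.δ * (b * r)), q, r, ?_⟩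
    rw [inv_eq_iff_mul_eq_one, N_mul, B.add_self, B.add_self, B.add_self, B.add_self]
    have e1 : p + (p + (B.κ c c + B.δ * (b * r))) + B.κ c c + B.δ * (b * r) = 0 := by
      linear_combination (p + B.κ c c + B.δ * (b * r)) * B.two
    rw [e1, N_zero]

theorem mem_Q3 (b c p q r : F) : B.N b c p q r ∈ B.Q3 := ⟨b, c, p, q, r, rfl⟩

theorem E_mem_Q3 (p q r : F) : B.E p q r ∈ B.Q3 := by rw [← N_one]; exact B.mem_Q3 ..

theorem w1_mem_Q3 (b : F) : B.w1 b ∈ B.Q3 := ⟨0, b, 0, 0, 0, by rw [N, ws_zero, E_zero, mul_one, one_mul]⟩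

theorem ws_mem_Q3 (b : F) : B.ws b ∈ B.Q3 := ⟨b, 0, 0, 0, 0, by rw [N, B.w1_zero, E_zero, mul_one, mul_one]⟩

theorem N_t (b c p q r : F) : B.t * B.N b c p q r * B.t = B.N b c (p + c) (q + b) r := by
  unfold N
  rw [conj3 B.tt, B.w1_t, B.ws_t, conj_of_comm B.tt (B.t_E p q r), x1_eq', s_eq']
  calc B.ws b * B.E 0 b 0 * (B.w1 c * B.E c 0 0) * B.E p q r
      = B.ws b * (B.E 0 b 0 * (B.w1 c * (B.E c 0 0 * B.E p q r))) := by simp only [mul_assoc]
    _ = B.ws b * B.w1 c * (B.E 0 b 0 * (B.E c 0 0 * B.E p q r)) := by rw [E_w1']; simp only [mul_assoc]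
    _ = _ := by
        rw [E_mul, E_mul]
        exact congrArg _ (B.E_congr (by ring) (by ring) (by ring))

theorem w1_conj_x2 (c v : F) : B.x2 v * B.w1 c * B.x2 v = B.w1 c * B.E 0 (B.γ * B.rt (c * v)) 0 := by
  rw [mul_assoc, B.w1_x2, ← s_eq', mul_assoc, B.ff' B.x2_add]

theorem N_x2 (b c p q r v : F) : B.x2 v * B.N b c p q r * B.x2 v =
    B.N b c (p + r * r * v) (q + B.γ * B.rt (c * v) + r * v) r := by
  unfold N
  rw [conj3 (B.ff B.x2_add v), conj_of_comm (B.ff B.x2_add v) (B.ws_x2 b v).symm, w1_conj_x2, E_x2]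
  simp only [mul_assoc, E_mul]
  exact congrArg _ (congrArg _ (B.E_congr (by ring) (by ring) (by ring)))

theorem t_not_mem_Q3 : B.t ∉ B.Q3 := by
  rintro ⟨b, c, p, q, r, h⟩
  have h1 := congrArg (fun g => B.t * g * B.t) h
  simp only [N_t, B.tt, one_mul] at h1
  rw [h] at h1
  have h2 := B.N_ext h1
  have hc : c = 0 := left_eq_add.mp h2.1
  have hb : b = 0 := left_eq_add.mp h2.2.1
  rw [hb, hc, N_one] at h
  exact B.t_ne' _ _ _ h

theorem t_conj_mem_Q3 {g : G} (h : g ∈ B.Q3) : B.t * g * B.t ∈ B.Q3 := by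
  obtain ⟨b, c, p, q, r, rfl⟩ := h
  rw [N_t]; exact B.mem_Q3 ..

theorem x2_conj_mem_Q3 {g : G} (h : g ∈ B.Q3) (v : F) : B.x2 v * g * B.x2 v ∈ B.Q3 := by
  obtain ⟨b, c, p, q, r, rfl⟩ := h
  rw [N_x2]; exact B.mem_Q3 ..

/-- first form of (8.3) -/
theorem conj_wd (u v : F) : ∃ p q r,
    B.x2 v * B.wd u * B.x2 v = B.wd u * B.N (u * v) ((1 + B.δ) * (u * u * v)) p q r ∨
    B.x2 v * B.wd u * B.x2 v = B.wd u * (B.ws (u * v) * B.w1 ((1 + B.δ) * (u * u * v)) * (B.t * B.E p q r)) := by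
  set y := u * v with hy
  set z := (1 + B.δ) * (u * u * v) with hz
  set g := B.wd u * B.ws y * B.w1 z with hg
  set g1 := B.x2 v * B.wd u * B.x2 v with hg1
  have xx := B.ff B.x2_add v
  have xx' : ∀ x, B.x2 v * (B.x2 v * x) = x := B.ff' B.x2_add v
  have cx1 : ∀ a, Commute (g⁻¹ * g1) (B.x1 a) := fun a => by
    refine Commute.mul_left (Commute.inv_left ?_) ?_
    · exact ((B.wd_x1 u a).mul_left (B.ws_x1 y a)).mul_left (B.w1_x1 z a)
    · exact (((B.x1_x2 a v).symm).mul_left (B.wd_x1 u a)).mul_left (B.x1_x2 a v).symm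
  have cs : ∀ a, Commute (g⁻¹ * g1) (B.s a) := fun a => comm_of_eq (x' := B.s a * B.x1 (B.δ * (u * a)))
    (by
      calc g * B.s a = B.wd u * B.ws y * (B.w1 z * B.s a) := by rw [hg]; simp only [mul_assoc]
        _ = B.wd u * (B.ws y * B.s a) * B.w1 z := by rw [(B.w1_s z a).eq]; simp only [mul_assoc]
        _ = (B.wd u * B.s a) * B.ws y * B.w1 z := by rw [(B.ws_s y a).eq]; simp only [mul_assoc]
        _ = B.s a * (B.wd u * B.x1 (B.δ * (u * a))) * B.ws y * B.w1 z := by rw [B.wd_s]; simp only [mul_assoc]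
        _ = _ := by rw [(B.wd_x1 u _).eq, hg]; simp only [mul_assoc])
    (by
      calc g1 * B.s a = B.x2 v * B.wd u * (B.x2 v * B.s a) := by rw [hg1]; simp only [mul_assoc]
        _ = B.x2 v * (B.wd u * B.s a) * B.x2 v := by rw [(B.x2_s v a).eq]; simp only [mul_assoc]
        _ = (B.x2 v * B.s a) * (B.wd u * B.x1 (B.δ * (u * a))) * B.x2 v := by rw [B.wd_s]; simp only [mul_assoc]
        _ = B.s a * (B.x2 v * B.x1 (B.δ * (u * a))) * B.wd u * B.x2 v := by
            rw [(B.x2_s v a).eq, (B.wd_x1 u _).eq]; simp only [mul_assoc]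
        _ = _ := by rw [← (B.x1_x2 _ v).eq, hg1]; simp only [mul_assoc])
  have cd : ∀ a, Commute (g⁻¹ * g1) (B.d a) := fun a => comm_of_eq (x' := B.d a * B.x1 (B.δ * (y * a)))
    (by
      calc g * B.d a = B.wd u * B.ws y * (B.w1 z * B.d a) := by rw [hg]; simp only [mul_assoc]
        _ = B.wd u * (B.ws y * B.d a) * B.w1 z := by rw [(B.w1_d z a).eq]; simp only [mul_assoc]
        _ = (B.wd u * B.d a) * (B.ws y * B.x1 (B.δ * (y * a))) * B.w1 z := by rw [B.ws_d]; simp only [mul_assoc]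
        _ = B.d a * (B.wd u * B.x1 (B.δ * (y * a))) * B.ws y * B.w1 z := by
            rw [(B.wd_d u a).eq, (B.ws_x1 y _).eq]; simp only [mul_assoc]
        _ = _ := by rw [(B.wd_x1 u _).eq, hg]; simp only [mul_assoc])
    (by
      have h1 := B.d_conj_x2 a v
      have e1 : B.x2 v * B.d a = B.E (a * a * v) (a * v) a * B.x2 v := by
        rw [← h1]; simp only [mul_assoc, xx, mul_one]
      have e2 : B.x2 v * B.E (a * a * v) (a * v) a = B.d a * B.x2 v := by
        rw [← h1]; simp only [mul_assoc, xx']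
      have e3 : B.wd u * B.E (a * a * v) (a * v) a = B.E (a * a * v) (a * v) a * (B.wd u * B.x1 (B.δ * (y * a))) := by
        unfold E
        calc B.wd u * (B.x1 (a * a * v) * B.s (a * v) * B.d a)
            = (B.wd u * B.x1 (a * a * v)) * B.s (a * v) * B.d a := by simp only [mul_assoc]
          _ = B.x1 (a * a * v) * (B.wd u * B.s (a * v)) * B.d a := by rw [(B.wd_x1 u _).eq]; simp only [mul_assoc]
          _ = B.x1 (a * a * v) * B.s (a * v) * B.wd u * (B.x1 (B.δ * (u * (a * v))) * B.d a) := by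
              rw [B.wd_s]; simp only [mul_assoc]
          _ = B.x1 (a * a * v) * B.s (a * v) * (B.wd u * B.d a) * B.x1 (B.δ * (u * (a * v))) := by
              rw [← (B.d_x1 a _).eq]; simp only [mul_assoc]
          _ = _ := by
              have e4 : u * (a * v) = y * a := by rw [hy]; ring
              rw [(B.wd_d u a).eq, e4]; simp only [mul_assoc]
      calc g1 * B.d a = B.x2 v * B.wd u * (B.x2 v * B.d a) := by rw [hg1]; simp only [mul_assoc]
        _ = B.x2 v * (B.wd u * B.E (a * a * v) (a * v) a) * B.x2 v := by rw [e1]; simp only [mul_assoc]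
        _ = (B.x2 v * B.E (a * a * v) (a * v) a) * (B.wd u * B.x1 (B.δ * (y * a))) * B.x2 v := by
            rw [e3]; simp only [mul_assoc]
        _ = B.d a * (B.x2 v * B.x1 (B.δ * (y * a))) * B.wd u * B.x2 v := by
            rw [e2, (B.wd_x1 u _).eq]; simp only [mul_assoc]
        _ = _ := by rw [← (B.x1_x2 _ v).eq, hg1]; simp only [mul_assoc])
  obtain ⟨p, q, r, hk⟩ := B.centQ (g⁻¹ * g1) (by
      apply comm_t_of B.tt (X := B.E (u * u * v) (u * v) u) _ _ (B.comm_E cx1 cs cd _ _ _)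
      · rw [hg, conj3 B.tt, B.wd_t, B.ws_t, B.w1_t, d_eq', s_eq', x1_eq']
        calc B.wd u * B.E 0 0 u * (B.ws y * B.E 0 y 0) * (B.w1 z * B.E z 0 0)
            = B.wd u * (B.E 0 0 u * (B.ws y * (B.E 0 y 0 * (B.w1 z * B.E z 0 0)))) := by simp only [mul_assoc]
          _ = B.wd u * B.ws y * B.w1 z * (B.E (0 + B.δ * (y * u)) 0 u * (B.E 0 y 0 * B.E z 0 0)) := by
              rw [E_ws', E_w1', E_w1']; simp only [mul_assoc]
          _ = _ := by
              rw [E_mul, E_mul]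
              refine congrArg _ (B.E_congr ?_ (by rw [hy]; ring) (by ring))
              rw [hz, hy]; linear_combination B.δ * (u * u * v) * B.two
      · rw [hg1, conj3 B.tt, B.wd_t, conj_of_comm B.tt (B.t_x2 v)]
        calc B.x2 v * (B.wd u * B.d u) * B.x2 v
            = B.x2 v * B.wd u * B.x2 v * (B.x2 v * B.d u * B.x2 v) := by simp only [mul_assoc, xx']
          _ = _ := by rw [d_conj_x2])
    cx1 cs cd
    (fun j a => by
      refine Commute.mul_left (Commute.inv_left ?_) ?_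
      · exact ((B.P_wd j a u).symm.mul_left (B.P_ws j a y).symm).mul_left (B.P_w1 j a z).symm
      · exact ((B.P_x2 j a v).symm.mul_left (B.P_wd j a u).symm).mul_left (B.P_x2 j a v).symm)
    (fun x hx => by
      refine Commute.mul_left (Commute.inv_left ?_) ?_
      · exact ((B.Hr_w x hx u).2.2.symm.mul_left (B.Hr_w x hx y).2.1.symm).mul_left (B.Hr_w x hx z).1.symm
      · exact ((B.Hr_x x hx v).symm.mul_left (B.Hr_w x hx u).2.2.symm).mul_left (B.Hr_x x hx v).symm)
  refine ⟨p, q, r, ?_⟩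
  have e : g1 = g * (g⁻¹ * g1) := by rw [mul_inv_cancel_left]
  rcases hk with hk | hk
  · left; rw [e, hk, hg, N, E]; simp only [mul_assoc]
  · right; rw [e, hk, hg, E]; simp only [mul_assoc]

/-- `T` is trivial -/
theorem conj_wd' (u v : F) : ∃ p q r,
    B.x2 v * B.wd u * B.x2 v = B.wd u * B.N (u * v) ((1 + B.δ) * (u * u * v)) p q r := by
  obtain ⟨p, q, r, h | h⟩ := B.conj_wd u v
  · exact ⟨p, q, r, h⟩
  exfalso
  -- torus
  have hh : ∀ a : F, a ≠ 0 → ∃ x ∈ B.Q3, B.x2 (a * v) * B.wd u * B.x2 (a * v) = B.wd u * (B.t * x) := fun a ha => by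
    have hb : B.rt a ≠ 0 := fun h0 => ha (by rw [← B.rt_sq a, h0, zero_mul])
    set m := Units.mk0 (B.rt a) hb with hm
    have e := congrArg (fun g => B.h m m * g * (B.h m m)⁻¹) h
    have c : ∀ x y, B.h m m * (x * y) * (B.h m m)⁻¹ = (B.h m m * x * (B.h m m)⁻¹) * (B.h m m * y * (B.h m m)⁻¹) :=
      fun x y => by group
    have ct : B.h m m * B.t * (B.h m m)⁻¹ = B.t := by rw [(B.h_t m m).eq, mul_inv_cancel_right]
    have mm : (m : F) * m = a := by rw [hm, Units.val_mk0, B.rt_sq]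
    have mi : (m : F) * (m⁻¹ : Fˣ) = 1 := Units.mul_inv m
    simp only [c, B.h_ws, B.h_w1, B.h_x2, B.h_wd, B.E_h, ct, mm, mi, one_mul] at e
    refine ⟨B.t * (B.ws (a * (u * v)) * B.w1 (a * ((1 + B.δ) * (u * u * v)))) * B.t *
      B.E (a * p) (a * q) r, mul_mem (B.t_conj_mem_Q3 (mul_mem (B.ws_mem_Q3 _) (B.w1_mem_Q3 _)))
      (B.E_mem_Q3 _ _ _), ?_⟩
    rw [e]
    simp only [mul_assoc, B.tt']
  obtain ⟨a, ha0, ha1⟩ := B.big
  obtain ⟨x, hx, hx'⟩ := hh 1 one_ne_zero
  obtain ⟨y, hy, hy'⟩ := hh a ha0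
  have hs : 1 + a ≠ 0 := fun h0 => ha1 (B.add_eq_zero_iff' h0).symm
  obtain ⟨z, hz, hz'⟩ := hh (1 + a) hs
  simp only [one_mul] at hx'
  have dd' : ∀ x, B.x2 v * (B.x2 v * x) = x := B.ff' B.x2_add v
  have hab : (1 + a) * v = v + a * v := by ring
  rw [hab] at hz'
  have e : B.x2 (v + a * v) * B.wd u * B.x2 (v + a * v) = B.wd u * (B.t * x) * (B.t * (B.x2 v * y * B.x2 v)) := by
    have e1 : B.x2 (v + a * v) * B.wd u * B.x2 (v + a * v) =
        B.x2 v * (B.x2 (a * v) * B.wd u * B.x2 (a * v)) * B.x2 v := by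
      nth_rw 2 [add_comm]
      rw [B.x2_add, B.x2_add]; simp only [mul_assoc]
    have e2 : B.x2 v * B.t = B.t * B.x2 v := (B.t_x2 v).eq.symm
    rw [e1, hy']
    calc B.x2 v * (B.wd u * (B.t * y)) * B.x2 v
        = (B.x2 v * B.wd u * B.x2 v) * (B.x2 v * B.t) * y * B.x2 v := by simp only [mul_assoc, dd']
      _ = _ := by rw [hx', e2]; simp only [mul_assoc]
  rw [e, mul_assoc] at hz'
  have h3 := mul_left_cancel hz'
  apply B.t_not_mem_Q3
  have h4 : B.t = (B.t * x * B.t) * (B.x2 v * y * B.x2 v) * z⁻¹ := by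
    rw [eq_mul_inv_iff_mul_eq, ← h3]; simp only [mul_assoc]
  rw [h4]
  exact mul_mem (mul_mem (B.t_conj_mem_Q3 hx) (B.x2_conj_mem_Q3 hy v)) (inv_mem hz)

/-- **(8.3)** -/
theorem main_short : B.γ * (1 + B.δ) = 0 ∧ B.δ * (1 + B.γ) * (1 + B.δ) = 0 ∧ ∃ c1 c2 : F, ∀ u v,
    B.x2 v * B.wd u * B.x2 v = B.wd u * B.N (u * v) ((1 + B.δ) * (u * u * v)) (c1 * (u * u * v)) (c2 * (u * v)) 0 := by
  obtain ⟨hκ, -⟩ := B.main_conj
  choose p q r h using B.conj_wd'
  -- torus
  have hh : ∀ (l m : Fˣ) (u v : F), p (l * (m⁻¹ : Fˣ) * u) (m * m * v) = l * l * p u v ∧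
      q (l * (m⁻¹ : Fˣ) * u) (m * m * v) = l * m * q u v ∧
      r (l * (m⁻¹ : Fˣ) * u) (m * m * v) = l * (m⁻¹ : Fˣ) * r u v := fun l m u v => by
    have e := congrArg (fun g => B.h l m * g * (B.h l m)⁻¹) (h u v)
    have c : ∀ x y, B.h l m * (x * y) * (B.h l m)⁻¹ = (B.h l m * x * (B.h l m)⁻¹) * (B.h l m * y * (B.h l m)⁻¹) :=
      fun x y => by group
    simp only [c, N, B.h_ws, B.h_w1, B.h_wd, B.h_x2, B.E_h] at e
    rw [h] at e
    have e := mul_left_cancel e
    have m0 : (m : F) ≠ 0 := m.ne_zero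
    have e1 : (l : F) * (m⁻¹ : Fˣ) * u * (m * m * v) = l * m * (u * v) := by
      rw [Units.val_inv_eq_inv_val]; field_simp
    have e2 : (1 + B.δ) * ((l : F) * (m⁻¹ : Fˣ) * u * (l * (m⁻¹ : Fˣ) * u) * (m * m * v)) =
        l * l * ((1 + B.δ) * (u * u * v)) := by
      rw [Units.val_inv_eq_inv_val]; field_simp
    rw [e1, e2] at e
    exact B.N_ext e
  -- additivity in `v`
  have hadd : ∀ u v v', r u (v + v') = r u v + r u v' ∧
      q u (v + v') = q u v + q u v' + B.γ * B.rt ((1 + B.δ) * (u * u * v') * v) + r u v' * v ∧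
      p u (v + v') = p u v + p u v' + r u v' * r u v' * v + B.κ ((1 + B.δ) * (u * u * v)) ((1 + B.δ) * (u * u * v')) +
        B.δ * (u * v' * r u v) := fun u v v' => by
    have e1 : B.x2 (v + v') * B.wd u * B.x2 (v + v') =
        B.x2 v * (B.x2 v' * B.wd u * B.x2 v') * B.x2 v := by
      nth_rw 2 [add_comm]
      rw [B.x2_add, B.x2_add]; simp only [mul_assoc]
    rw [h u v', conj2 (B.ff B.x2_add v), h u v, N_x2, mul_assoc (B.wd u), N_mul, h] at e1
    have e2 := mul_left_cancel e1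
    have i1 : u * (v + v') = u * v + u * v' := by ring
    have i2 : (1 + B.δ) * (u * u * (v + v')) = (1 + B.δ) * (u * u * v) + (1 + B.δ) * (u * u * v') := by ring
    rw [i1, i2] at e2
    obtain ⟨j1, j2, j3⟩ := B.N_ext e2
    refine ⟨j3, ?_, ?_⟩
    · rw [j2]; ring
    · rw [j1]; ring
  have hh1 : ∀ a : F, a ≠ 0 → ∀ u v, p u (a * v) = a * p u v ∧ q u (a * v) = a * q u v ∧ r u (a * v) = r u v :=
    fun a ha u v => by
      have hb : B.rt a ≠ 0 := fun h0 => ha (by rw [← B.rt_sq a, h0, zero_mul])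
      have := hh (Units.mk0 (B.rt a) hb) (Units.mk0 (B.rt a) hb) u v
      rw [Units.mul_inv, Units.val_mk0, B.rt_sq, one_mul, one_mul] at this
      exact this
  have hr : ∀ u v, r u v = 0 := fun u v =>
    eq_zero_of_inv B.big (fun v => r u v) (fun v v' => (hadd u v v').1) (fun a ha v => (hh1 a ha u v).2.2) v
  simp only [hr, mul_zero, zero_mul, add_zero] at hadd
  have h0 : ∀ u, p u 0 = 0 ∧ q u 0 = 0 := fun u => by
    have h1 := h u 0
    simp only [f0 B.x2_add, one_mul, mul_one, mul_zero, hr] at h1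
    have h2 := left_eq_mul.mp h1
    rw [N_one] at h2
    exact ⟨(B.E_inj h2).1, (B.E_inj h2).2.1⟩
  have hpq : ∀ u v, p u v = v * p u 1 ∧ q u v = v * q u 1 := fun u v => by
    by_cases hv : v = 0
    · rw [hv, (h0 u).1, (h0 u).2]; simp
    · have := hh1 v hv u 1
      rw [mul_one] at this
      exact ⟨this.1, this.2.1⟩
  have h1 := hadd 1 1 1
  rw [(hpq 1 (1 + 1)).1, (hpq 1 (1 + 1)).2, hκ, mul_one, mul_one, mul_one] at h1
  rw [B.rt_mul_self] at h1
  simp only [mul_one] at h1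
  have k1 : B.γ * B.rt (1 + B.δ) = 0 := by linear_combination -h1.2.1
  have k2 : B.δ * (1 + B.γ) * (1 + B.δ) = 0 := by linear_combination -h1.2.2
  have k1' : B.γ * (1 + B.δ) = 0 := by
    rw [← B.rt_sq (1 + B.δ), ← mul_assoc, k1, zero_mul]
  refine ⟨k1', k2, p 1 1, q 1 1, fun u v => ?_⟩
  rw [h u v, hr]
  refine congrArg _ ?_
  by_cases hu : u = 0
  · subst hu
    have h1 := h 0 v
    simp only [wd_zero, mul_one, B.ff B.x2_add, one_mul, hr, zero_mul, mul_zero] at h1
    rw [N_one] at h1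
    have h2 := B.E_inj h1.symm
    rw [h2.1, h2.2.1]; simp
  · have h1 := hh (Units.mk0 u hu) 1 1 1
    simp only [Units.val_mk0, Units.val_one, mul_one, inv_one] at h1
    have e1 : p u v = p 1 1 * (u * u * v) := by rw [(hpq u v).1, h1.1]; ring
    have e2 : q u v = q 1 1 * (u * v) := by rw [(hpq u v).2, h1.2.1]; ring
    rw [e1, e2]

/-- **(8.4)** and the conclusion of section 8: `γ = 0`, `δ ∈ {0, 1}` -/
theorem gamma_delta (hwd : ∀ u v, Commute (B.wd u) (B.w1 v)) : B.γ = 0 ∧ (B.δ = 0 ∨ B.δ = 1) := by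
  obtain ⟨hκ, -⟩ := B.main_conj
  obtain ⟨k1, k2, c1, c2, h⟩ := B.main_short
  have e := congrArg (fun g => B.x2 1 * g * B.x2 1) (hwd 1 1).eq
  simp only [conj2 (B.ff B.x2_add 1), h, w1_conj_x2] at e
  have w11 : ∀ u v, Commute (B.w1 u) (B.w1 v) := fun u v => by
    show _ = _
    rw [B.w1_mul, B.w1_mul, hκ, hκ, add_comm, mul_comm u v]
  have cN : ∀ b c p q, Commute (B.N b c p q 0) (B.w1 1) := fun b c p q =>
    ((B.ws_w1 b 1).mul_left (w11 c 1)).mul_left (B.w1_E 1 p q 0).symm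
  have cN2 : ∀ b c p q a, Commute (B.N b c p q 0) (B.E 0 a 0) := fun b c p q a => by
    refine Commute.mul_left (Commute.mul_left ?_ (B.w1_E c _ _ _)) ?_
    · rw [← s_eq']; exact B.ws_s b a
    · show _ = _
      rw [E_mul, E_mul, add_comm p, add_comm q, add_comm (0 : F) 0]
  rw [mul_assoc (B.wd 1), ← mul_assoc _ (B.w1 1), (cN _ _ _ _).eq, mul_assoc (B.w1 1), (cN2 _ _ _ _ _).eq,
    ← mul_assoc (B.wd 1), (hwd 1 1).eq] at e
  simp only [mul_assoc] at e
  have e := mul_left_cancel e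
  rw [← mul_assoc, ← mul_assoc (B.E _ _ _)] at e
  have e := mul_right_cancel e
  rw [← s_eq', B.wd_s] at e
  have e := mul_eq_left.mp e
  rw [x1_eq'] at e
  have k3 := (B.E_inj e).1
  simp only [one_mul, mul_one, map_one] at k3
  have hγ : B.γ = 0 := by linear_combination k1 - k3
  refine ⟨hγ, ?_⟩
  rw [hγ, add_zero, mul_one] at k2
  rcases mul_eq_zero.mp k2 with h0 | h0
  · exact Or.inl h0
  · exact Or.inr (B.add_eq_zero_iff' h0).symm

end Cfsg.Agent.OddHalf.SpN.Both.P2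

end

-- merged: Cfsg.Agent.OddHalf.SpN.BothFun
section

/-!
# ODD D7, `K = Sp_2n(q)`: equivariant sections of the doubled root groups (helper780)

* `wf hT χ g0 u` : the conjugate of `g0` by a torus element with `χ = u` (`1` if `u = 0`); `wf_add`: if the doubled group
  is elementary abelian, the section is additive (semisimplicity of the torus, two lines with squares).
* `hi i μ` : the torus element with value `μ` at `i` and `1` elsewhere; `rtF`: the square root.
-/

set_option autoImplicit false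

namespace Cfsg.Agent.OddHalf.SpN

section wf

variable {F : Type*} [Field F] {G : Type*} [Group G] {T : Type*} [CommGroup T] (hT : T →* G) (χ : T →* Fˣ) (g0 : G)

open Classical in
/-- the equivariant section -/
noncomputable def wf (u : F) : G :=
  if h : ∃ τ, (χ τ : F) = u then hT h.choose * g0 * (hT h.choose)⁻¹ else 1

theorem wf_eq (h1 : ∀ τ, χ τ = 1 → Commute (hT τ) g0) {τ : T} {u : F} (h : (χ τ : F) = u) :
    wf hT χ g0 u = hT τ * g0 * (hT τ)⁻¹ := by
  have h' : ∃ τ, (χ τ : F) = u := ⟨τ, h⟩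
  rw [wf, dif_pos h']
  have hs := h'.choose_spec
  set σ := h'.choose
  have e : χ (τ⁻¹ * σ) = 1 := by
    rw [map_mul, map_inv, inv_mul_eq_one]
    exact Units.ext (h.trans hs.symm)
  have c := h1 _ e
  rw [map_mul, map_inv] at c
  calc hT σ * g0 * (hT σ)⁻¹ = hT τ * (((hT τ)⁻¹ * hT σ) * g0) * (hT σ)⁻¹ := by group
    _ = _ := by rw [c.eq]; group

theorem wf_zero : wf hT χ g0 0 = 1 := by
  rw [wf, dif_neg]
  rintro ⟨τ, h⟩
  exact (χ τ).ne_zero h

theorem h_wf (h1 : ∀ τ, χ τ = 1 → Commute (hT τ) g0) (τ : T) (u : F) :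
    hT τ * wf hT χ g0 u * (hT τ)⁻¹ = wf hT χ g0 (χ τ * u) := by
  by_cases h : ∃ σ, (χ σ : F) = u
  · obtain ⟨σ, h⟩ := h
    rw [wf_eq hT χ g0 h1 h, wf_eq hT χ g0 h1 (τ := τ * σ) (by rw [map_mul, Units.val_mul, h]), map_mul]
    group
  · rw [wf, dif_neg h, wf, dif_neg, mul_one, mul_inv_cancel]
    rintro ⟨σ, h2⟩
    refine h ⟨τ⁻¹ * σ, ?_⟩
    rw [map_mul, map_inv, Units.val_mul, h2, Units.inv_mul_cancel_left]

/-- the hypotheses on a doubled root group -/
structure Ln (hT : T →* G) (χ : T →* Fˣ) (t : G) (X : F → G) (W : Subgroup G) : Prop where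
  surj : ∀ μ, ∃ τ, χ τ = μ
  t_h : ∀ τ, Commute (hT τ) t
  X_add : ∀ u v, X (u + v) = X u * X v
  X_mem : ∀ u, X u ∈ W
  h_X : ∀ τ u, hT τ * X u * (hT τ)⁻¹ = X (χ τ * u)
  comm : ∀ g ∈ W, ∀ g' ∈ W, g * g' = g' * g
  torus : ∀ g ∈ W, ∀ τ, hT τ * g * (hT τ)⁻¹ ∈ W
  one : ∀ g ∈ W, ∀ τ, χ τ = 1 → Commute (hT τ) g
  ker : ∀ g ∈ W, t * g * t = g → ∃ a, g = X a
  tt : t * t = 1

variable {hT χ g0} {t : G} {X : F → G} {W : Subgroup G}

namespace Ln

variable (L : Ln hT χ t X W)
include L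

theorem wf_mem (hg : g0 ∈ W) (u : F) : wf hT χ g0 u ∈ W := by
  by_cases h : ∃ σ, (χ σ : F) = u
  · obtain ⟨σ, h⟩ := h
    rw [wf_eq hT χ g0 (L.one g0 hg) h]
    exact L.torus _ hg _
  · rw [wf, dif_neg h]; exact one_mem _

theorem X_zero : X 0 = 1 := by
  have := L.X_add 0 0
  rw [add_zero] at this
  exact left_eq_mul.mp this

theorem wf_t (hg : g0 ∈ W) (h0 : t * g0 * t = g0 * X 1) (u : F) : t * wf hT χ g0 u * t = wf hT χ g0 u * X u := by
  by_cases hu : u = 0
  · rw [hu, wf_zero, L.X_zero, mul_one, mul_one, L.tt]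
  · obtain ⟨σ, h⟩ := L.surj (Units.mk0 u hu)
    have h' : (χ σ : F) = u := by rw [h]; rfl
    rw [wf_eq hT χ g0 (L.one g0 hg) h']
    have c := L.t_h σ
    have e := L.h_X σ 1
    rw [h', mul_one] at e
    have ti : t⁻¹ = t := inv_eq_of_mul_eq_one_right L.tt
    calc t * (hT σ * g0 * (hT σ)⁻¹) * t = (t * hT σ) * g0 * ((hT σ)⁻¹ * t) := by group
      _ = (hT σ * t) * g0 * (t * (hT σ)⁻¹) := by rw [c.eq, c.inv_left.eq]
      _ = hT σ * (t * g0 * t) * (hT σ)⁻¹ := by group
      _ = _ := by rw [h0, ← e]; group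

theorem eq_mul (g g' : G) (hg : g ∈ W) (hg' : g' ∈ W) {u : F} (h : t * g * t = g * X u) (h' : t * g' * t = g' * X u) :
    ∃ a, g = g' * X a := by
  have ti : t⁻¹ = t := inv_eq_of_mul_eq_one_right L.tt
  obtain ⟨a, ha⟩ := L.ker (g'⁻¹ * g) (mul_mem (inv_mem hg') hg) (by
    calc t * (g'⁻¹ * g) * t = (t * g' * t)⁻¹ * (t * g * t) := by
          rw [mul_inv_rev, mul_inv_rev, ti]
          calc t * (g'⁻¹ * g) * t = t * (g'⁻¹ * 1 * g) * t := by group
            _ = _ := by rw [← L.tt]; group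
      _ = (X u)⁻¹ * ((g'⁻¹ * g) * X u) := by rw [h, h', mul_inv_rev]; group
      _ = _ := by rw [L.comm _ (mul_mem (inv_mem hg') hg) _ (L.X_mem u), inv_mul_cancel_left])
  exact ⟨a, by rw [← ha, mul_inv_cancel_left]⟩

/-- heights add -/
theorem t_mul {g g' : G} (hg : g ∈ W) (hg' : g' ∈ W) {u v : F} (h : t * g * t = g * X u) (h' : t * g' * t = g' * X v) :
    t * (g * g') * t = (g * g') * X (u + v) := by
  calc t * (g * g') * t = (t * g * t) * (t * g' * t) := by
        calc t * (g * g') * t = t * g * 1 * g' * t := by group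
          _ = _ := by rw [← L.tt]; group
    _ = g * (X u * g') * X v := by rw [h, h']; group
    _ = _ := by rw [L.comm _ (L.X_mem u) _ hg', L.X_add]; group

/-- the section is multiplicative up to `X` -/
theorem wf_mul (hg : g0 ∈ W) (h0 : t * g0 * t = g0 * X 1) (u v : F) :
    ∃ c, wf hT χ g0 u * wf hT χ g0 v = wf hT χ g0 (u + v) * X c :=
  L.eq_mul _ _ (mul_mem (L.wf_mem hg u) (L.wf_mem hg v)) (L.wf_mem hg _)
    (L.t_mul (L.wf_mem hg u) (L.wf_mem hg v) (L.wf_t hg h0 u) (L.wf_t hg h0 v)) (L.wf_t hg h0 _)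

/-- **elementary abelian ⇒ the equivariant section is additive** -/
theorem wf_add (hg : g0 ∈ W) (h0 : t * g0 * t = g0 * X 1) (two : (2 : F) = 0) (sq : ∀ a : F, ∃ b, b * b = a)
    (el : ∀ g ∈ W, g * g = 1) (u v : F) : wf hT χ g0 (u + v) = wf hT χ g0 u * wf hT χ g0 v := by
  obtain ⟨a, rfl⟩ := sq u
  obtain ⟨b, rfl⟩ := sq v
  have aa : ∀ x : F, x + x = 0 := fun x => by rw [← two_mul, two, zero_mul]
  by_cases ha : a = 0
  · rw [ha]; simp [wf_zero]
  by_cases hb : b = 0
  · rw [hb]; simp [wf_zero]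
  have mem := L.wf_mem hg
  by_cases hab : a + b = 0
  · have e : a = b := by
      have := add_assoc a b b
      rw [hab, aa, zero_add, add_zero] at this; exact this.symm
    rw [e, aa, wf_zero, el _ (mem _)]
  obtain ⟨σ, hσ⟩ := L.surj (Units.mk0 a ha)
  obtain ⟨τ, hτ⟩ := L.surj (Units.mk0 b hb)
  obtain ⟨ρ, hρ⟩ := L.surj (Units.mk0 (a + b) hab)
  have one := L.one g0 hg
  have s1 : ∀ u, hT σ * wf hT χ g0 u * (hT σ)⁻¹ = wf hT χ g0 (a * u) := fun u => by
    rw [h_wf hT χ g0 one, hσ]; rfl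
  have s2 : ∀ u, hT τ * wf hT χ g0 u * (hT τ)⁻¹ = wf hT χ g0 (b * u) := fun u => by
    rw [h_wf hT χ g0 one, hτ]; rfl
  have s3 : ∀ u, hT ρ * wf hT χ g0 u * (hT ρ)⁻¹ = wf hT χ g0 ((a + b) * u) := fun u => by
    rw [h_wf hT χ g0 one, hρ]; rfl
  have x1 : ∀ u, hT σ * X u * (hT σ)⁻¹ = X (a * u) := fun u => by rw [L.h_X, hσ]; rfl
  have x2 : ∀ u, hT τ * X u * (hT τ)⁻¹ = X (b * u) := fun u => by rw [L.h_X, hτ]; rfl
  have x3 : ∀ u, hT ρ * X u * (hT ρ)⁻¹ = X ((a + b) * u) := fun u => by rw [L.h_X, hρ]; rfl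
  have cj : ∀ h x y : G, h * (x * y) * h⁻¹ = (h * x * h⁻¹) * (h * y * h⁻¹) := fun h x y => by group
  obtain ⟨c, hc⟩ := L.wf_mul hg h0 a b
  -- the two ways
  have e1 := congrArg (fun g => hT σ * g * (hT σ)⁻¹) hc
  have e2 := congrArg (fun g => hT τ * g * (hT τ)⁻¹) hc
  have e3 := congrArg (fun g => hT ρ * g * (hT ρ)⁻¹) hc
  simp only [cj, s1, s2, s3, x1, x2, x3] at e1 e2 e3
  -- e1 : w(aa) w(ab) = w(a(a+b)) X(ac), e2 : w(ba) w(bb) = w(b(a+b)) X(bc), e3 : w((a+b)a) w((a+b)b) = w((a+b)(a+b)) X((a+b)c)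
  have XX : X ((a + b) * c) * X ((a + b) * c) = 1 := by rw [← L.X_add, aa, L.X_zero]
  have l1 : wf hT χ g0 (a * a) * wf hT χ g0 (b * b) =
      (wf hT χ g0 (a * a) * wf hT χ g0 (a * b)) * (wf hT χ g0 (b * a) * wf hT χ g0 (b * b)) := by
    rw [mul_comm b a]
    calc wf hT χ g0 (a * a) * wf hT χ g0 (b * b)
        = wf hT χ g0 (a * a) * (wf hT χ g0 (a * b) * wf hT χ g0 (a * b)) * wf hT χ g0 (b * b) := by
          rw [el _ (mem _), mul_one]
      _ = _ := by group
  have l2 : wf hT χ g0 (a * a) * wf hT χ g0 (b * b) = wf hT χ g0 ((a + b) * (a + b)) := by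
    rw [l1, e1, e2]
    have m1 := mem (a * (a + b))
    have m2 := mem (b * (a + b))
    calc wf hT χ g0 (a * (a + b)) * X (a * c) * (wf hT χ g0 (b * (a + b)) * X (b * c))
        = wf hT χ g0 (a * (a + b)) * (X (a * c) * wf hT χ g0 (b * (a + b))) * X (b * c) := by group
      _ = (wf hT χ g0 ((a + b) * a) * wf hT χ g0 ((a + b) * b)) * (X (a * c) * X (b * c)) := by
          rw [L.comm _ (L.X_mem _) _ m2, mul_comm a (a + b), mul_comm b (a + b)]; group
      _ = wf hT χ g0 ((a + b) * (a + b)) * (X ((a + b) * c) * X ((a + b) * c)) := by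
          rw [e3, ← L.X_add, ← add_mul]; group
      _ = _ := by rw [XX, mul_one]
  rw [l2]
  congr 1
  linear_combination -(a * b) * two

end Ln

end wf

section torus

variable {n : ℕ} {F : Type*} [Field F]

/-- torus element with value `μ` at `i` -/
def hi (i : Ix n) (μ : Fˣ) : Fin n → Fˣ := Sum.elim (fun k => Pi.mulSingle k μ) (fun k => Pi.mulSingle k μ⁻¹) i

theorem ev_hi_self (i : Ix n) (μ : Fˣ) : ev (hi i μ) i = μ := by
  rcases i with i | i <;> simp [hi, ev]

theorem ev_hi_of {i l : Ix n} (h : Dj i l) (μ : Fˣ) : ev (hi i μ) l = 1 := by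
  rcases i with i | i <;> rcases l with l | l
  · have : l ≠ i := fun e => h.1 (by rw [e])
    simp [hi, ev, Pi.mulSingle_eq_of_ne this]
  · have : l ≠ i := fun e => h.2 (by rw [e]; rfl)
    simp [hi, ev, Pi.mulSingle_eq_of_ne this]
  · have : l ≠ i := fun e => h.2 (by rw [e]; rfl)
    simp [hi, ev, Pi.mulSingle_eq_of_ne this]
  · have : l ≠ i := fun e => h.1 (by rw [e])
    simp [hi, ev, Pi.mulSingle_eq_of_ne this]

theorem ev_mul_apply (l m : Fin n → Fˣ) (k : Ix n) : ev (l * m) k = ev l k * ev m k := by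
  rcases k with k | k <;> simp [ev, mul_comm]

/-- the character of a short root -/
def chs (i j : Ix n) : (Fin n → Fˣ) →* Fˣ where
  toFun lam := ev lam i * ev lam j
  map_one' := by
    have : ∀ k : Ix n, ev (1 : Fin n → Fˣ) k = 1 := fun k => by rcases k with k | k <;> simp [ev]
    rw [this, this, one_mul]
  map_mul' l m := by rw [ev_mul_apply, ev_mul_apply]; exact mul_mul_mul_comm _ _ _ _

theorem chs_apply (i j : Ix n) (lam : Fin n → Fˣ) : chs i j lam = ev lam i * ev lam j := rfl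

theorem chs_symm (i j : Ix n) : (chs i j : (Fin n → Fˣ) →* Fˣ) = chs j i :=
  MonoidHom.ext fun lam => by rw [chs_apply, chs_apply, mul_comm]

theorem chs_surj_short {i j : Ix n} (h : Dj i j) (μ : Fˣ) : ∃ lam : Fin n → Fˣ, chs i j lam = μ :=
  ⟨hi i μ, by rw [chs_apply, ev_hi_self, ev_hi_of h, mul_one]⟩

end torus

section root

variable (F : Type*) [Field F] [Finite F] [CharP F 2]

/-- the square root -/
noncomputable def rtF : F →+* F := ((frobeniusEquiv F 2).symm : F ≃+* F)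

theorem rt_sq (a : F) : rtF F a * rtF F a = a := by
  rw [← pow_two]
  exact frobeniusEquiv_symm_pow_p F 2 a

theorem rt_mul_self (a : F) : rtF F (a * a) = a := by
  rw [map_mul, rt_sq]

theorem rt_ne {a : F} (h : a ≠ 0) : rtF F a ≠ 0 := fun h0 => h (by rw [← rt_sq F a, h0, zero_mul])

variable {F} {n : ℕ}

theorem chs_surj_long (i : Ix n) (μ : Fˣ) : ∃ lam : Fin n → Fˣ, chs i i lam = μ :=
  ⟨hi i (Units.mk0 (rtF F μ) (rt_ne F μ.ne_zero)), by
    rw [chs_apply, ev_hi_self]; ext; simp [rt_sq]⟩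

end root

section torus

variable {n : ℕ} {F : Type*} [Field F]

end torus

end Cfsg.Agent.OddHalf.SpN

end

-- merged: Cfsg.Agent.OddHalf.SpN.BothInst
section

/-!
# ODD D7, `K = Sp_2n(q)`, pattern ALL: the frame `P2` of a pair from `DS`, `DL` (helper780)
-/

set_option autoImplicit false

namespace Cfsg.Agent.OddHalf.SpN

open scoped commutatorElement

variable {n : ℕ} {F : Type*} [Field F] [CharP F 2] {G : Type*} [Group G]

namespace DS

variable {R : Frame n F G} {δ : F} (D : DS R δ)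

/-- an element of height one -/
noncomputable def g0 (i j : Ix n) : G := Classical.epsilon fun g => g ∈ D.W i j ∧ R.t * g * R.t = g * R.x i j 1

theorem g0_spec {i j : Ix n} (h : Dj i j) : D.g0 i j ∈ D.W i j ∧ R.t * D.g0 i j * R.t = D.g0 i j * R.x i j 1 :=
  Classical.epsilon_spec (p := fun g => g ∈ D.W i j ∧ R.t * g * R.t = g * R.x i j 1) (D.onto i j h 1)

/-- the equivariant section -/
noncomputable def ws (i j : Ix n) (u : F) : G := wf R.h (chs i j) (D.g0 i j) u

theorem ln {i j : Ix n} (h : Dj i j) : Ln R.h (chs i j) R.t (R.x i j) (D.W i j) where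
  surj := chs_surj_short h
  t_h := R.h_t
  X_add := R.x_add i j
  X_mem := D.x_mem i j
  h_X := fun τ u => by rw [R.h_x, chs_apply, Units.val_mul]
  comm := D.comm i j h
  torus := D.torus i j h
  one := fun g hg τ hτ => D.torus_one i j h g hg τ hτ
  ker := D.ker i j h
  tt := R.tt

theorem ws_symm (i j : Ix n) (u : F) : D.ws i j u = D.ws j i u := by
  have e : D.g0 i j = D.g0 j i := by
    unfold g0
    congr 1
    funext g
    rw [D.symm i j, R.x_symm i j]
  rw [ws, ws, e, chs_symm]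

theorem ws_mem {i j : Ix n} (h : Dj i j) (u : F) : D.ws i j u ∈ D.W i j := (D.ln h).wf_mem (D.g0_spec h).1 u

theorem ws_t {i j : Ix n} (h : Dj i j) (u : F) : R.t * D.ws i j u * R.t = D.ws i j u * R.x i j u :=
  (D.ln h).wf_t (D.g0_spec h).1 (D.g0_spec h).2 u

theorem h_ws {i j : Ix n} (h : Dj i j) (lam : Fin n → Fˣ) (u : F) :
    R.h lam * D.ws i j u * (R.h lam)⁻¹ = D.ws i j (ev lam i * ev lam j * u) := by
  rw [ws, h_wf _ _ _ ((D.ln h).one _ (D.g0_spec h).1), chs_apply, Units.val_mul]; rfl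

theorem ws_add [Finite F] (el : ∀ i j, Dj i j → ∀ g ∈ D.W i j, g * g = 1) {i j : Ix n} (h : Dj i j) (u v : F) :
    D.ws i j (u + v) = D.ws i j u * D.ws i j v :=
  (D.ln h).wf_add (D.g0_spec h).1 (D.g0_spec h).2 CharTwo.two_eq_zero (fun a => ⟨rtF F a, rt_sq F a⟩) (el i j h) u v

/-- an element is determined by its height up to `X` -/
theorem eq_mul {i j : Ix n} (h : Dj i j) {g g' : G} (hg : g ∈ D.W i j) (hg' : g' ∈ D.W i j) {u : F}
    (e : R.t * g * R.t = g * R.x i j u) (e' : R.t * g' * R.t = g' * R.x i j u) : ∃ a, g = g' * R.x i j a :=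
  (D.ln h).eq_mul _ _ hg hg' e e'

/-- partners, in the form of `P2` -/
theorem ws_par {i j : Ix n} (h : Dj i j) (u v : F) :
    D.ws i j u * R.x i (neg j) v = R.x i (neg j) v * D.ws i j u * R.y i (δ * (u * v)) := by
  have e := D.par i j h _ (D.ws_mem h u) u (D.ws_t h u) v
  have c1 : Commute (D.ws i j u) (R.y i (δ * (u * v))) := D.cy i j h _ (D.ws_mem h u) i _ (ne_neg i) h.2
  have c2 : Commute (R.x i (neg j) v) (R.y i (δ * (u * v))) :=
    (R.y_x_comm (ne_neg i) (fun e => h.1 (neg_inj.mp e).symm) _ _).symm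
  rw [commutatorElement_def, mul_assoc δ] at e
  calc D.ws i j u * R.x i (neg j) v
      = (D.ws i j u * R.x i (neg j) v * (D.ws i j u)⁻¹ * (R.x i (neg j) v)⁻¹) * (R.x i (neg j) v * D.ws i j u) := by
        group
    _ = R.x i (neg j) v * (R.y i (δ * (u * v)) * D.ws i j u) := by rw [e, ← mul_assoc, ← c2.eq, mul_assoc]
    _ = _ := by rw [← c1.eq, mul_assoc]

end DS

namespace DL

variable {R : Frame n F G} {γ : F} (V : DL R γ)

/-- an element of height one -/
noncomputable def g0 (i : Ix n) : G := Classical.epsilon fun g => g ∈ V.V i ∧ R.t * g * R.t = g * R.y i 1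

theorem g0_spec (i : Ix n) : V.g0 i ∈ V.V i ∧ R.t * V.g0 i * R.t = V.g0 i * R.y i 1 :=
  Classical.epsilon_spec (p := fun g => g ∈ V.V i ∧ R.t * g * R.t = g * R.y i 1) (V.onto i 1)

/-- the equivariant section -/
noncomputable def wl (i : Ix n) (u : F) : G := wf R.h (chs i i) (V.g0 i) u

variable [Finite F]

theorem ln (i : Ix n) : Ln R.h (chs i i) R.t (R.y i) (V.V i) where
  surj := chs_surj_long i
  t_h := R.h_t
  X_add := R.y_add i
  X_mem := V.y_mem i
  h_X := fun τ u => by rw [R.h_y, chs_apply, Units.val_mul, pow_two]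
  comm := V.comm i
  torus := V.torus i
  one := fun g hg τ hτ => V.torus_one i g hg τ (by
    have h1 : (ev τ i : F) * ev τ i = 1 := by
      have := congrArg (fun u : Fˣ => (u : F)) hτ
      simpa [chs_apply] using this
    apply Units.ext
    have h2 := congrArg (rtF F) h1
    rw [rt_mul_self, map_one] at h2
    rw [h2, Units.val_one])
  ker := V.ker i
  tt := R.tt

theorem wl_mem (i : Ix n) (u : F) : V.wl i u ∈ V.V i := (V.ln i).wf_mem (V.g0_spec i).1 u

theorem wl_t (i : Ix n) (u : F) : R.t * V.wl i u * R.t = V.wl i u * R.y i u :=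
  (V.ln i).wf_t (V.g0_spec i).1 (V.g0_spec i).2 u

omit [Finite F] in
theorem wl_zero (i : Ix n) : V.wl i 0 = 1 := wf_zero _ _ _

theorem h_wl (i : Ix n) (lam : Fin n → Fˣ) (u : F) :
    R.h lam * V.wl i u * (R.h lam)⁻¹ = V.wl i (ev lam i * ev lam i * u) := by
  rw [wl, h_wf _ _ _ ((V.ln i).one _ (V.g0_spec i).1), chs_apply, Units.val_mul]; rfl

theorem wl_mul (i : Ix n) (u v : F) : ∃ c, V.wl i u * V.wl i v = V.wl i (u + v) * R.y i c :=
  (V.ln i).wf_mul (V.g0_spec i).1 (V.g0_spec i).2 u v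

theorem eq_mul (i : Ix n) {g g' : G} (hg : g ∈ V.V i) (hg' : g' ∈ V.V i) {u : F}
    (e : R.t * g * R.t = g * R.y i u) (e' : R.t * g' * R.t = g' * R.y i u) : ∃ a, g = g' * R.y i a :=
  (V.ln i).eq_mul _ _ hg hg' e e'

/-- the exceptional relation, in the form of `P2` -/
theorem par_rt {i k : Ix n} (h : Dj i k) {g : G} (hg : g ∈ V.V i) {u : F} (hu : R.t * g * R.t = g * R.y i u) (v : F) :
    g * R.y k v = R.y k v * g * R.x i k (γ * rtF F (u * v)) := by
  have e := V.par i k h _ hg (rtF F u) (by rw [hu, pow_two, rt_sq]) (rtF F v)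
  have c1 : Commute g (R.x i k (γ * rtF F (u * v))) := V.cx i _ hg i k _ (ne_neg i) (fun e => h.2 (by rw [e, neg_neg]))
  have c2 : Commute (R.y k v) (R.x i k (γ * rtF F (u * v))) := R.y_x_comm h.2 (ne_neg k) _ _
  rw [commutatorElement_def, pow_two, rt_sq, mul_assoc γ, ← map_mul] at e
  calc g * R.y k v = (g * R.y k v * g⁻¹ * (R.y k v)⁻¹) * (R.y k v * g) := by group
    _ = R.y k v * (R.x i k (γ * rtF F (u * v)) * g) := by rw [e, ← mul_assoc, ← c2.eq, mul_assoc]
    _ = _ := by rw [← c1.eq, mul_assoc]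

end DL

/-! ### The transposition -/

theorem tr_i {i j : Ix n} (h : Dj i j) : tr j i i = j := by
  rw [tr, Equiv.Perm.mul_apply, Equiv.swap_apply_of_ne_of_ne h.2 (ne_neg i), Equiv.swap_apply_right]

theorem tr_j {i j : Ix n} (h : Dj i j) : tr j i j = i := by
  rw [tr, Equiv.Perm.mul_apply, Equiv.swap_apply_of_ne_of_ne (ne_neg j) h.symm.2, Equiv.swap_apply_left]

theorem tr_of {i j k : Ix n} (hik : Dj i k) (hjk : Dj j k) : tr j i k = k := by
  have h1 : k ≠ neg i := fun e => hik.2 (by rw [e, neg_neg])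
  have h2 : k ≠ neg j := fun e => hjk.2 (by rw [e, neg_neg])
  rw [tr, Equiv.Perm.mul_apply, Equiv.swap_apply_of_ne_of_ne h2 h1, Equiv.swap_apply_of_ne_of_ne hjk.1.symm hik.1.symm]

theorem cases5 (i j k : Ix n) : k = i ∨ k = j ∨ k = neg i ∨ k = neg j ∨ (Dj i k ∧ Dj j k) := by
  by_cases h1 : k = i
  · exact Or.inl h1
  by_cases h2 : k = j
  · exact Or.inr (Or.inl h2)
  by_cases h3 : k = neg i
  · exact Or.inr (Or.inr (Or.inl h3))
  by_cases h4 : k = neg j
  · exact Or.inr (Or.inr (Or.inr (Or.inl h4)))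
  exact Or.inr (Or.inr (Or.inr (Or.inr ⟨⟨Ne.symm h1, fun e => h3 (by rw [e, neg_neg])⟩,
    ⟨Ne.symm h2, fun e => h4 (by rw [e, neg_neg])⟩⟩)))

theorem tr_tr {i j : Ix n} (h : Dj i j) : tr j i * tr j i = 1 := by
  have hn : ∀ k, tr j i (neg k) = neg (tr j i k) := tr_mem h.symm
  refine Equiv.Perm.ext fun k => ?_
  rw [Equiv.Perm.mul_apply, Equiv.Perm.one_apply]
  rcases cases5 i j k with rfl | rfl | rfl | rfl | ⟨h1, h2⟩
  · rw [tr_i h, tr_j h]
  · rw [tr_j h, tr_i h]
  · rw [hn, tr_i h, hn, tr_j h]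
  · rw [hn, tr_j h, hn, tr_i h]
  · rw [tr_of h1 h2, tr_of h1 h2]

/-- the torus of the indices `i`, `j` -/
def hp (i j : Ix n) (l m : Fˣ) : Fin n → Fˣ := hi i l * hi j m

omit [CharP F 2] in
theorem ev_hp_i {i j : Ix n} (h : Dj i j) (l m : Fˣ) : ev (hp i j l m) i = l := by
  rw [hp, ev_mul_apply, ev_hi_self, ev_hi_of h.symm, mul_one]

omit [CharP F 2] in
theorem ev_hp_j {i j : Ix n} (h : Dj i j) (l m : Fˣ) : ev (hp i j l m) j = m := by
  rw [hp, ev_mul_apply, ev_hi_self, ev_hi_of h, one_mul]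

omit [CharP F 2] in
theorem ev_hp_k {i j k : Ix n} (hik : Dj i k) (hjk : Dj j k) (l m : Fˣ) : ev (hp i j l m) k = 1 := by
  rw [hp, ev_mul_apply, ev_hi_of hik, ev_hi_of hjk, one_mul]

section frame

variable {R : Frame n F G}

/-- the Weyl element of `e_i - e_j` -/
noncomputable def Frame.N (R : Frame n F G) {i j : Ix n} (h : Dj i j) : G := R.w ⟨tr j i, tr_mem h.symm⟩

theorem N_eq (R : Frame n F G) {i j : Ix n} (h : Dj i j) :
    R.x (neg i) j 1 * R.x i (neg j) 1 * R.x (neg i) j 1 = R.N h := by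
  rw [Frame.N, R.w_tr h.symm, R.x_symm j (neg i), R.x_symm (neg j) i]

theorem NN (R : Frame n F G) {i j : Ix n} (h : Dj i j) : R.N h * R.N h = 1 := by
  have e : (⟨tr j i, tr_mem h.symm⟩ : SpN.W n) * ⟨tr j i, tr_mem h.symm⟩ = 1 := Subtype.ext (tr_tr h)
  rw [Frame.N, ← map_mul, e, map_one]

theorem N_inv (R : Frame n F G) {i j : Ix n} (h : Dj i j) : (R.N h)⁻¹ = R.N h :=
  inv_eq_of_mul_eq_one_right (NN R h)

theorem N_x (R : Frame n F G) {i j : Ix n} (h : Dj i j) (k l : Ix n) (a : F) :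
    R.N h * R.x k l a * R.N h = R.x (tr j i k) (tr j i l) a := by
  have := R.w_x ⟨tr j i, tr_mem h.symm⟩ k l a
  have e := N_inv R h
  rw [Frame.N] at e ⊢
  rw [e] at this
  exact this

theorem N_y (R : Frame n F G) {i j : Ix n} (h : Dj i j) (k : Ix n) (a : F) :
    R.N h * R.y k a * R.N h = R.y (tr j i k) a := by
  have := R.w_y ⟨tr j i, tr_mem h.symm⟩ k a
  have e := N_inv R h
  rw [Frame.N] at e ⊢
  rw [e] at this
  exact this

theorem N_t (R : Frame n F G) {i j : Ix n} (h : Dj i j) : Commute (R.N h) R.t := R.w_t _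

theorem N_h (R : Frame n F G) {i j : Ix n} (h : Dj i j) (l m : Fˣ) :
    R.h (hp i j l m) * R.N h = R.N h * R.h (hp i j m l) := by
  have hn : ∀ k, tr j i (neg k) = neg (tr j i k) := tr_mem h.symm
  have := R.w_h ⟨tr j i, tr_mem h.symm⟩ (hp i j m l) (hp i j l m) (fun k => by
    change ev (hp i j l m) (tr j i k) = _
    rcases cases5 i j k with rfl | rfl | rfl | rfl | ⟨h1, h2⟩
    · rw [tr_i h, ev_hp_j h, ev_hp_i h]
    · rw [tr_j h, ev_hp_j h, ev_hp_i h]
    · rw [hn, tr_i h, ev_neg, ev_neg, ev_hp_j h, ev_hp_i h]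
    · rw [hn, tr_j h, ev_neg, ev_neg, ev_hp_j h, ev_hp_i h]
    · rw [tr_of h1 h2, ev_hp_k h1 h2, ev_hp_k h1 h2])
  rw [Frame.N, ← this]; group

variable {γ : F} (V : DL R γ)

/-- `w₂ = w₁ ^ n` -/
noncomputable def DL.w2 {i j : Ix n} (h : Dj i j) (u : F) : G := R.N h * V.wl i u * R.N h

variable [Finite F]

theorem DL.w2_mem {i j : Ix n} (h : Dj i j) (u : F) : V.w2 h u ∈ V.V j := by
  have := V.weyl i _ (V.wl_mem i u) ⟨tr j i, tr_mem h.symm⟩
  change _ ∈ V.V (tr j i i) at this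
  rw [tr_i h] at this
  have e := N_inv R h
  rw [Frame.N] at e
  rw [e] at this
  exact this

theorem DL.w2_t {i j : Ix n} (h : Dj i j) (u : F) : R.t * V.w2 h u * R.t = V.w2 h u * R.y j u := by
  have c := N_t R h
  have n2 : ∀ g, R.N h * (R.N h * g) = g := fun g => by rw [← mul_assoc, NN R h, one_mul]
  have e := N_y R h i u
  rw [tr_i h] at e
  have e1 := V.wl_t i u
  calc R.t * V.w2 h u * R.t = (R.t * R.N h) * V.wl i u * (R.N h * R.t) := by rw [DL.w2]; group
    _ = (R.N h * R.t) * V.wl i u * (R.t * R.N h) := congrArg₂ (fun a b => a * V.wl i u * b) c.eq.symm c.eq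
    _ = R.N h * (R.t * V.wl i u * R.t) * R.N h := by group
    _ = (R.N h * V.wl i u * R.N h) * (R.N h * R.y i u * R.N h) := by
        rw [e1]; simp only [mul_assoc, n2]
    _ = _ := by rw [e, DL.w2]

theorem DL.h_w2 {i j : Ix n} (h : Dj i j) (l m : Fˣ) (u : F) :
    R.h (hp i j l m) * V.w2 h u * (R.h (hp i j l m))⁻¹ = V.w2 h (m * m * u) := by
  have e := N_h R h l m
  have e' : R.N h * (R.h (hp i j l m))⁻¹ = (R.h (hp i j m l))⁻¹ * R.N h := by
    have := N_h R h m l
    rw [mul_inv_eq_iff_eq_mul, mul_assoc, ← this, inv_mul_cancel_left]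
  have e2 := V.h_wl i (hp i j m l) u
  rw [ev_hp_i h] at e2
  calc R.h (hp i j l m) * V.w2 h u * (R.h (hp i j l m))⁻¹
      = (R.h (hp i j l m) * R.N h) * V.wl i u * (R.N h * (R.h (hp i j l m))⁻¹) := by rw [DL.w2]; group
    _ = R.N h * (R.h (hp i j m l) * V.wl i u * (R.h (hp i j m l))⁻¹) * R.N h := by rw [e, e']; group
    _ = _ := by rw [e2, DL.w2]

/-- the constant `ε` -/
theorem DL.exists_eps (h4 : ∀ i j, Dj i j → ∀ g ∈ V.V i, ∀ g' ∈ V.V j, ∃ a, g * g' = g' * g * R.x i j a)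
    {i j : Ix n} (h : Dj i j) : ∃ ε : F, ∀ u v,
      V.wl i u * V.w2 h v = V.w2 h v * V.wl i u * R.x i j (ε * rtF F (u * v)) := by
  choose a ha using fun u v => h4 i j h _ (V.wl_mem i u) _ (V.w2_mem h v)
  have tor : ∀ (l m : Fˣ) u v, a (l * l * u) (m * m * v) = l * m * a u v := fun l m u v => by
    have e := congrArg (fun g => R.h (hp i j l m) * g * (R.h (hp i j l m))⁻¹) (ha u v)
    have c : ∀ x y, R.h (hp i j l m) * (x * y) * (R.h (hp i j l m))⁻¹ =
      (R.h (hp i j l m) * x * (R.h (hp i j l m))⁻¹) * (R.h (hp i j l m) * y * (R.h (hp i j l m))⁻¹) :=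
      fun x y => by group
    simp only [c, V.h_wl, V.h_w2, R.h_x, ev_hp_i h, ev_hp_j h] at e
    rw [ha] at e
    exact R.x_inj h (mul_left_cancel e)
  refine ⟨a 1 1, fun u v => ?_⟩
  rw [ha u v]
  congr 2
  by_cases hu : u = 0
  · subst hu
    have e := ha 0 v
    rw [V.wl_zero, one_mul, mul_one] at e
    rw [R.x_eq_one h (left_eq_mul.mp e)]; simp
  by_cases hv : v = 0
  · subst hv
    have e := ha u 0
    have w0 : V.w2 h 0 = 1 := by rw [DL.w2, V.wl_zero, mul_one, NN]
    rw [w0, one_mul, mul_one] at e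
    rw [R.x_eq_one h (left_eq_mul.mp e)]; simp
  have e := tor (Units.mk0 _ (rt_ne F hu)) (Units.mk0 _ (rt_ne F hv)) 1 1
  simp only [Units.val_mk0, mul_one, rt_sq] at e
  rw [e, map_mul]; ring

end frame

end Cfsg.Agent.OddHalf.SpN

end

private theorem dce_c2f6c7f0d0cf : _root_.True := by
  try have : _root_.True := by simp only [_root_.Cfsg.Agent.OddHalf.SpN.DL.w2.eq_1]
  try have : _root_.True := by simp only [_root_.Cfsg.Agent.OddHalf.SpN.hp.eq_1]
  try have : _root_.True := by simp only [_root_.Cfsg.Agent.OddHalf.SpN.Both.P2.A.eq_1]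
  try have : _root_.True := by simp only [_root_.Cfsg.Agent.OddHalf.SpN.hi.eq_1]
  try have : _root_.True := by simp only [_root_.Cfsg.Agent.OddHalf.SpN.Frame.N.congr_simp]
  try have : _root_.True := by simp only [_root_.Cfsg.Agent.OddHalf.SpN.DL.w2.congr_simp]
  try have : _root_.True := by simp only [_root_.Cfsg.Agent.OddHalf.SpN.wf.eq_1]
  try have : _root_.True := by simp only [_root_.Cfsg.Agent.OddHalf.SpN.DL.wl.eq_1]
  try have : _root_.True := by simp only [_root_.Cfsg.Agent.OddHalf.SpN.DS.ws.eq_1]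
  try have : _root_.True := by simp only [_root_.Cfsg.Agent.OddHalf.SpN.Both.P2.E.eq_1]
  try have : _root_.True := by simp only [_root_.Cfsg.Agent.OddHalf.SpN.Both.P2.N.eq_1]
  try have : _root_.True := by simp only [_root_.Cfsg.Agent.OddHalf.SpN.Frame.w.congr_simp]
  try have : _root_.True := by simp only [_root_.Cfsg.Agent.OddHalf.SpN.Frame.N.eq_1]
  try have : _root_.True := by simp only [_root_.Cfsg.Agent.OddHalf.SpN.rtF.congr_simp]
  try have : _root_.True := by simp only [_root_.Cfsg.Agent.OddHalf.SpN.Both.P2.M.eq_1]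
  exact _root_.True.intro
end

-- part: OddHalf/D4/Rk2/Start
section
prune_inst 0x400000
set_option linter.all false
open scoped Cfsg.Agent.FastGrp

/-!
# D4, `K = L₂(q)`: existence of a full pair

`Fr.exists_pr`: the setup `Fr` gives `Pr`.
-/

set_option autoImplicit false
set_option linter.unusedSectionVars false

namespace Cfsg.Agent.OddHalf.D4.Rk2

open Subgroup Cfsg.Agent.StdL2.Frame Cfsg.Agent.StdL2.Field
open Cfsg.Agent.StdL2.FrameFT (VV mem_VV up_mem_VV VV_le VV_sq card_VV)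
open Cfsg.Agent.Lib.SL2Mat Cfsg.Agent.Lib.AutSL2
open Cfsg.Agent.OddHalf.D4.CommConj (cj mem_cj cj_mul card_cj cj_eq_of_mem_normalizer mem_normalizer_of_cj_eq
  mem_cj_mul Tight)
open Cfsg.Agent.OddHalf.D4.Basic (IsSyl exists_isSyl orderOf_conj)
open Cfsg.Agent.OddHalf.D4.EvenPair (H1173 exists_even)
open Cfsg.Agent.OddHalf.D4 (FullPair)

local notation "SL2" => Matrix.SpecialLinearGroup (Fin 2)

universe u

variable {F : Type*} [Field F] {G : Type u} [Group G] {A T : Subgroup G} {π : SL2 F →* G}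

/-- Sylow 2-subgroups are conjugate -/
theorem exists_cj_eq [Finite G] {T T' M : Subgroup G} (h : IsSyl T M) (h' : IsSyl T' M) :
    ∃ m ∈ M, cj m T' = T := by
  obtain ⟨m, hm, hmT⟩ := h.conj_into h'.two h'.le
  refine ⟨m, hm, ?_⟩
  have h1 : cj m T' ≤ T := by
    rintro _ ⟨t, ht, rfl⟩
    exact hmT t ht
  have h2 : cj m M = M := cj_eq_of_mem_normalizer (le_normalizer hm)
  have h3 : IsSyl (cj m T') M := by
    have := isSyl_cj h' m
    rwa [h2] at this
  exact le_antisymm h1 (h3.max T h.two h1 h.le)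

theorem commutator_self_le (A : Subgroup G) : ⁅A, A⁆ ≤ A := by
  rw [commutator_le]
  intro x hx y hy
  exact mul_mem (mul_mem (mul_mem hx hy) (inv_mem hx)) (inv_mem hy)

namespace Fr

variable [Finite F] [CharP F 2] [Finite G] (H : Fr A T π)
include H

theorem ne_bot : A ≠ ⊥ := by
  have := H.simple.toNontrivial
  rintro rfl
  exact not_subsingleton ↥(⊥ : Subgroup G) inferInstance

theorem perfect : ⁅A, A⁆ = A := by
  have := H.simple
  have hn : (⁅A, A⁆.subgroupOf A).Normal := by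
    refine ⟨fun x hx g => ?_⟩
    rw [mem_subgroupOf] at hx ⊢
    have hg : (g : G) ∈ normalizer (A : Set G) := le_normalizer g.2
    have h1 : cj (g : G) ⁅A, A⁆ = ⁅A, A⁆ := by
      show (⁅A, A⁆).map _ = _
      rw [Subgroup.map_commutator]
      have h2 : A.map (MulAut.conj (g : G)).toMonoidHom = A := cj_eq_of_mem_normalizer hg
      rw [h2]
    have h2 : (g : G) * x * (g : G)⁻¹ ∈ cj (g : G) ⁅A, A⁆ := mem_cj_mul hx
    rw [h1] at h2
    exact h2
  rcases hn.eq_bot_or_eq_top with h | h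
  · exfalso
    obtain ⟨b, hb⟩ : ∃ b : F, b ≠ 0 := ⟨1, one_ne_zero⟩
    have hcomm : ∀ x ∈ A, ∀ y ∈ A, x * y = y * x := by
      intro x hx y hy
      have h1 : x * y * x⁻¹ * y⁻¹ ∈ ⁅A, A⁆ := commutator_mem_commutator hx hy
      have h2 : (⟨x * y * x⁻¹ * y⁻¹, commutator_self_le A h1⟩ : A) ∈ ⁅A, A⁆.subgroupOf A := h1
      rw [h, mem_bot] at h2
      have h3 : x * y * x⁻¹ * y⁻¹ = 1 := congrArg Subtype.val h2
      rw [mul_inv_eq_one, mul_inv_eq_iff_eq_mul] at h3
      exact h3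
    have h1 : π (up b) = 1 := eq_one_of_cent H.P (VV_le H.P (up_mem_VV b))
      (mem_cent.2 fun x hx => hcomm _ (VV_le H.P (up_mem_VV b)) x hx)
    rw [← map_one π] at h1
    have h2 := H.P.inj h1
    rw [← up_zero] at h2
    exact hb (up_inj h2)
  · refine le_antisymm (commutator_self_le A) ?_
    intro x hx
    have : (⟨x, hx⟩ : A) ∈ ⁅A, A⁆.subgroupOf A := by rw [h]; trivial
    exact this

theorem even : Even (Nat.card ↥(centralizer (A : Set G))) := by
  obtain ⟨r, hr, -, -, hr2, -⟩ := H.two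
  have h1 : orderOf (⟨r, hr.2⟩ : centralizer (A : Set G)) ∣ Nat.card ↥(centralizer (A : Set G)) :=
    orderOf_dvd_natCard _
  rw [Subgroup.orderOf_mk, hr2] at h1
  exact (even_iff_two_dvd).2 h1

/-- elements of a Sylow 2-subgroup `T'` of `N(A)` centralizing `T' ∩ A` -/
theorem innerSyl : ∀ T' : Subgroup G, IsSyl T' (normalizer (A : Set G)) → ∀ y ∈ T',
    (∀ s ∈ T', s ∈ A → s * y = y * s) →
      ∃ k ∈ centralizer (A : Set G), ∃ s ∈ T', s ∈ A ∧ (∀ u ∈ T', u ∈ A → u * s = s * u) ∧ y = k * s := by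
  intro T' hT' y hy hc
  obtain ⟨m, hm, hmT⟩ := exists_cj_eq H.syl hT'
  have hyT : m * y * m⁻¹ ∈ T := by rw [← hmT]; exact mem_cj_mul hy
  have hmem : ∀ v ∈ VV π, m⁻¹ * v * m ∈ T' ∧ m⁻¹ * v * m ∈ A := by
    intro v hv
    refine ⟨?_, ?_⟩
    · have h1 : v ∈ cj m T' := by rw [hmT]; exact H.VT hv
      rwa [mem_cj] at h1
    · have := (mem_normalizer_iff''.mp hm v).mp (VV_le H.P hv)
      exact this
  have hcV : ∀ v ∈ VV π, (m * y * m⁻¹) * v = v * (m * y * m⁻¹) := by
    intro v hv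
    have h1 := hc _ (hmem v hv).1 (hmem v hv).2
    calc (m * y * m⁻¹) * v = m * (y * (m⁻¹ * v * m)) * m⁻¹ := by group
      _ = v * (m * y * m⁻¹) := by rw [← h1]; group
  obtain ⟨r, hr, v, hv, hrv⟩ := H.cent hyT hcV
  refine ⟨m⁻¹ * r * m, ?_, m⁻¹ * v * m, (hmem v hv).1, (hmem v hv).2, ?_, ?_⟩
  · have := H.tight.norm m⁻¹ (inv_mem hm) r hr.2
    rwa [inv_inv] at this
  · intro u hu huA
    have h1 : m * u * m⁻¹ ∈ VV π := by
      apply H.mem_VV_of_mem_T
      · rw [← hmT]; exact mem_cj_mul hu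
      · exact (mem_normalizer_iff.mp hm u).mp huA
    have h2 : (m * u * m⁻¹) * v = v * (m * u * m⁻¹) := by
      obtain ⟨a, ha⟩ := mem_VV.1 h1
      obtain ⟨b, rfl⟩ := mem_VV.1 hv
      rw [← ha, ← map_mul, ← map_mul, up_mul, up_mul, add_comm]
    calc u * (m⁻¹ * v * m) = m⁻¹ * ((m * u * m⁻¹) * v) * m := by group
      _ = m⁻¹ * v * m * u := by rw [h2]; group
  · have : y = m⁻¹ * (m * y * m⁻¹) * m := by group
    rw [this, hrv]; group

/-- **the full pair** -/
theorem exists_full [IsSimpleGroup G] (h1173 : H1173 G) :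
    ∃ a, a ∉ normalizer (A : Set G) ∧ cj a (RR A T) ≤ T := by
  have hcomm : ∀ k ∈ A, ∀ c ∈ centralizer (A : Set G), k * c = c * k :=
    fun k hk c hc => mem_centralizer_iff.mp hc k hk
  obtain ⟨g, hg, r, hr, hr2, hrg⟩ := exists_even h1173 H.tight H.even H.ne_bot H.perfect hcomm
  obtain ⟨E, hE⟩ := H.tight.exists_maxE hg hr hr2 hrg
  obtain ⟨L, Q, U, hF, -, -⟩ := Exists.fullPair_of_maxE H.tight
    (fun x hx hxc => eq_one_of_cent H.P hx hxc) H.innerSyl hE
  obtain ⟨a, ha, rfl⟩ := hF.conj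
  -- `Q U` is a 2-subgroup of `N(A)`
  have hQU : U ≤ normalizer (Q : Set G) := by
    intro u hu
    rw [mem_normalizer_iff]
    intro q
    have key : ∀ q ∈ Q, u * q * u⁻¹ = q := fun q hq => by
      rw [← hF.comm q hq u hu, mul_inv_cancel_right]
    constructor
    · intro hq
      rw [key q hq]; exact hq
    · intro hq
      have h1 := key _ hq
      have h2 : u * q * u⁻¹ = q := by
        have := mul_left_cancel (mul_right_cancel h1 : u * (u * q * u⁻¹) = u * q)
        exact this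
      rw [← h2]; exact hq
  have hUM : U ≤ normalizer (A : Set G) := by
    intro u hu
    obtain ⟨q, hq, hq2⟩ := exists_inv_syl hF.sylQ H.even
    apply H.tight.tight u q (hF.sylQ.le hq) hq2
    rw [← hF.comm q hq u hu, mul_inv_cancel_right]
    exact hF.sylQ.le hq
  have h2 : IsPGroup 2 (Q ⊔ U : Subgroup G) :=
    Cfsg.Agent.StdL2.FieldStart.isPGroup_sup hF.sylQ.two hF.sylU.two hQU
  obtain ⟨m, hm, hmT⟩ := H.syl.conj_into h2 (sup_le (hF.sylQ.le.trans H.tight.le) hUM)
  -- `U` is conjugate to `cj a R`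
  have h3 : IsSyl (cj a (RR A T)) (centralizer ((cj a A : Subgroup G) : Set G)) := by
    rw [centralizer_cj]
    exact isSyl_cj H.sylR a
  obtain ⟨c, hc, hcU⟩ := exists_cj_eq hF.sylU h3
  rw [centralizer_cj, mem_cj] at hc
  refine ⟨m * c * a, ?_, ?_⟩
  · intro h
    apply ha
    have h4 : c * a ∈ normalizer (A : Set G) := by
      have := mul_mem (inv_mem hm) h
      have e : m⁻¹ * (m * c * a) = c * a := by group
      rwa [e] at this
    have h5 : a = (c * a) * (a⁻¹ * c * a)⁻¹ := by group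
    rw [h5]
    exact mul_mem h4 (inv_mem (H.tight.le hc))
  · have e : cj (m * c * a) (RR A T) = cj m U := by
      rw [mul_assoc, cj_mul, cj_mul, hcU]
    rw [e]
    rintro _ ⟨u, hu, rfl⟩
    exact hmT u (mem_sup_right hu)

/-- **`Fr` gives `Pr`** -/
theorem pr [IsSimpleGroup G] (h1173 : H1173 G) : Pr A T π := ⟨H, H.exists_full h1173⟩

end Fr

end Cfsg.Agent.OddHalf.D4.Rk2
end

-- part: OddHalf/D8/JTwo/Large_mg
section
prune_inst 0x200000000012000000000280002000000000000000000101000200020040200d00a000000000000800000000000000000000100000000000000000000100009022400003000104040009801000000000000000000000000000000000000000000000000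
set_option linter.all false
open scoped Cfsg.Agent.FastGrp

-- part: OddHalf/D8/JTwo/Large
section
-- merged: Cfsg.Agent.OddHalf.D8.JTwo.Glue
section

/-!
# ODD half, D8, type (E) without the `y`-trick: from the sheet of `K` to `G` (helper915, helper826)

Copies of `GlueE.EmbE.mem_of_trivial` and `MainE.data` for `SheetX`.
-/

set_option autoImplicit false

namespace Cfsg.Agent.OddHalf.D8.JTwo.Glue

open Subgroup Cfsg Cfsg.Agent.OddHalf.Front.FE Cfsg.Agent.OddHalf.D8.Sheet Cfsg.Agent.OddHalf.D8.GlueE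
  Cfsg.Agent.OddHalf.D8.Front Cfsg.Agent.OddHalf.D8.MainE Cfsg.Agent.OddHalf.D8.JTwo.Sheet

universe u

variable {G : Type u} [Group G]

/-- the data -/
structure EmbX (K : Subgroup G) (t q : G) (z : K) (P R : Subgroup K) : Prop where
  st : Start K t q
  sh : SheetX z P R

namespace EmbX

variable {K : Subgroup G} {t q : G} {z : K} {P R : Subgroup K}

theorem emb [Finite G] (h : EmbX K t q z P R) : Emb K t q z P := ⟨h.st, h.sh.basic⟩

/-- 2-elements of `N` trivial on `P/R` -/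
theorem mem_of_trivial [Finite G] (h : EmbX K t q z P R) {x : G} (hx2 : IsPGroup 2 (zpowers x))
    (hxt : x * t = t * x) (hxz : x * z = z * x)
    (hx : ∀ p ∈ P.map K.subtype, p⁻¹ * (x * p * x⁻¹) ∈ R.map K.subtype) :
    ∃ r ∈ R.map K.subtype, r⁻¹ * x ∈ zpowers q := by
  have hE := h.emb
  obtain ⟨r, hr, e⟩ := h.sh.aut (K.normalizerMonoidHom ⟨x, hE.nor hxt⟩)
    (isPGroup_nmh (hE.nor hxt) hx2) (hE.aut_z hxt hxz) (by
    intro p hp
    have h1 := hx p ⟨p, hp, rfl⟩
    obtain ⟨h2, h3⟩ := Emb.mem_map.1 h1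
    convert h3 using 1
    apply Subtype.ext
    rw [Subgroup.coe_mul, nmh_apply]
    rfl)
  refine ⟨r, ⟨r, hr, rfl⟩, ?_⟩
  apply h.st.cK
  · have h4 := h.st.Kt (r : G)⁻¹ (K.inv_mem r.2)
    calc (r : G)⁻¹ * x * t = (r : G)⁻¹ * (x * t) := by group
      _ = ((r : G)⁻¹ * t) * x := by rw [hxt]; group
      _ = t * ((r : G)⁻¹ * x) := by rw [h4]; group
  · exact exists_of_conj (hE.nor hxt) e

end EmbX

/-- the data of type (E) in `G` -/
theorem data (C : Iface.Ctx G) {K : Subgroup G} {t q : G} {z : K} {P R : Subgroup K}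
    (o : Out K t q z P) (sh : SheetX z P R)
    (hM : ∀ M : Subgroup ↥(centralizer ({(z : G)} : Set G)), ¬ IsComponent M) :
    TypeE.Data t (z : G) (centralizer ({t} : Set G) ⊓ centralizer ({(z : G)} : Set G))
      (P.map K.subtype) (R.map K.subtype)
      ((pCore 2 ↥(centralizer ({(z : G)} : Set G))).map (centralizer ({(z : G)} : Set G)).subtype) := by
  have hfin := C.fin
  have h := o.emb
  have hE : EmbX K t q z P R := ⟨h.st, sh⟩
  have hbot := core_eq_bot C (orderOf_z h)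
  have hlay : layer ↥(centralizer ({(z : G)} : Set G)) = ⊥ := by
    unfold layer
    rw [sSup_eq_bot]
    intro M hMc
    exact absurd hMc (hM M)
  have hself := (Cfsg.Agent.SignalizersComponents.PConstrained.centralizer_pCore_le_iff_layer_eq_bot 2
    hbot).2 hlay
  have hPz : ∀ p ∈ P.map K.subtype, p * (z : G) = z * p := by
    rintro _ ⟨p, hp, rfl⟩
    exact congrArg Subtype.val (sh.cen p hp)
  have hPt : ∀ p ∈ P.map K.subtype, p * t = t * p := by
    rintro _ ⟨p, -, rfl⟩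
    exact h.st.Kt p p.2
  -- subgroups of `P`
  have hsub : ∀ Y : Subgroup G, Y ≤ P.map K.subtype →
      (∀ n ∈ centralizer ({t} : Set G) ⊓ centralizer ({(z : G)} : Set G), ∀ y ∈ Y, n * y * n⁻¹ ∈ Y) →
      Y.subgroupOf K ≤ P ∧ (∀ x ∈ P, ∀ b ∈ Y.subgroupOf K, x * b * x⁻¹ ∈ Y.subgroupOf K) ∧
      (Y.subgroupOf K).map K.subtype = Y := by
    intro Y hY hn
    refine ⟨?_, ?_, ?_⟩
    · intro y hy
      obtain ⟨_, h2⟩ := Emb.mem_map.1 (hY (mem_subgroupOf.1 hy))
      exact h2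
    · intro x hx b hb
      rw [mem_subgroupOf] at hb ⊢
      exact hn x ⟨mem_centralizer_singleton_iff.2 (h.st.Kt x x.2),
        mem_centralizer_singleton_iff.2 (congrArg Subtype.val (sh.cen x hx))⟩ b hb
    · rw [subgroupOf_map_subtype, inf_eq_left]
      exact hY.trans (map_subtype_le _)
  exact
    { tt := h.st.tt
      zz := h.zz
      z1 := h.z1
      comm := h.comm
      pF := (Cfsg.Agent.Lib.Cores.pCore_isPGroup 2).map _
      leF := by
        rintro _ ⟨x, -, rfl⟩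
        exact mem_centralizer_singleton_iff.1 x.2
      norF := by
        rintro g hg _ ⟨x, hx, rfl⟩
        exact ⟨(⟨g, mem_centralizer_singleton_iff.2 hg⟩ * x * ⟨g, mem_centralizer_singleton_iff.2 hg⟩⁻¹ :),
          (Cfsg.Agent.Lib.Cores.pCore_normal 2).conj_mem x hx _, rfl⟩
      selfF := by
        intro g hg hc
        refine ⟨⟨g, mem_centralizer_singleton_iff.2 hg⟩, hself ?_, rfl⟩
        rw [mem_centralizer_iff]
        intro x hx
        exact Subtype.ext (hc x ⟨x, hx, rfl⟩).symm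
      hN := by
        intro n hn
        refine ⟨mem_centralizer_singleton_iff.1 hn.2, Or.inl ?_⟩
        rw [mem_centralizer_singleton_iff.1 hn.1]; group
      cN := fun n h1 h2 => ⟨mem_centralizer_singleton_iff.2 h1, mem_centralizer_singleton_iff.2 h2⟩
      Pt := hPt
      Pz := hPz
      norP := fun n hn p hp => h.conj_P (mem_centralizer_singleton_iff.1 hn.1)
        (mem_centralizer_singleton_iff.1 hn.2) hp
      perf := by rw [← map_commutator, sh.perf]
      zP := ⟨z, sh.zP, rfl⟩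
      RP := map_mono sh.RP
      core := by
        intro Y hY hY2 hn
        obtain ⟨h1, h2, h3⟩ := hsub Y hY hn
        rw [← h3]
        refine map_mono (sh.Rmax _ h1 ?_ h2)
        exact hY2.comap_of_injective K.subtype K.subtype_injective
      irr := by
        intro Y hY hn
        obtain ⟨h1, h2, h3⟩ := hsub Y (hY.trans (map_mono sh.RP)) hn
        have h4 : Y.subgroupOf K ≤ R := by
          intro y hy
          obtain ⟨_, h5⟩ := Emb.mem_map.1 (hY (mem_subgroupOf.1 hy))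
          exact h5
        rcases sh.Rmin _ h4 h2 with h5 | h5
        · left
          intro y hy
          rw [← h3] at hy
          obtain ⟨b, hb, rfl⟩ := hy
          rcases h5 b hb with e | e
          · exact Or.inl (congrArg Subtype.val e)
          · exact Or.inr (congrArg Subtype.val e)
        · right
          rw [← h3, h5]
      nab := by
        obtain ⟨a, ha, b, hb, hab⟩ := sh.Rna
        exact ⟨a, ⟨a, ha, rfl⟩, b, ⟨b, hb, rfl⟩, fun e => hab (Subtype.ext e)⟩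
      out := by
        intro n hn2 hnt hnz hc
        obtain ⟨r, hr, hrn⟩ := hE.mem_of_trivial hn2 hnt hnz (by
          intro p hp
          have h1 := hc p hp
          have h2 : p⁻¹ * (n * p * n⁻¹) = p⁻¹ * (n * p * n⁻¹ * p⁻¹) * p⁻¹⁻¹ := by group
          rw [h2]
          obtain ⟨p', hp', rfl⟩ := hp
          obtain ⟨r', hr', e⟩ := h1
          refine ⟨p'⁻¹ * r' * p'⁻¹⁻¹, sh.Rn _ (P.inv_mem hp') r' hr', ?_⟩
          have e' : (r' : G) = n * (p' : G) * n⁻¹ * (p' : G)⁻¹ := e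
          show (p' : G)⁻¹ * r' * (p' : G)⁻¹⁻¹ = _
          rw [e']
          rfl)
        rcases o.Q2 _ hrn with e | e
        · left
          have : n = r := (inv_mul_eq_one.1 e).symm
          rw [this]; exact hr
        · right
          have h1 : n = r * t := by rw [← e]; group
          have h2 : r * t = t * r := by
            obtain ⟨r', -, rfl⟩ := hr
            exact h.st.Kt r' r'.2
          have h3 : t * n = r := by rw [h1, h2, ← mul_assoc, h.st.tt, one_mul]
          rw [h3]; exact hr }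

end Cfsg.Agent.OddHalf.D8.JTwo.Glue

end

-- merged: Cfsg.Agent.OddHalf.D8.JTwo.Small
section

/-!
# ODD half, D8, row `J₂`: the case `t ∈ O₂(C(z))`, part 1 (helper826)

`notMem`: if `⟨t, z⟩` is normal in `C_G(z)`, then `t` is not in the commutator subgroup of `C_G(z)`.
-/

set_option autoImplicit false

namespace Cfsg.Agent.OddHalf.D8.JTwo.Small

open Subgroup Cfsg Cfsg.Agent.OddHalf.Front.FE Cfsg.Agent.OddHalf.D8.Sheet Cfsg.Agent.OddHalf.D8.GlueE
  Cfsg.Agent.OddHalf.D8.Front Cfsg.Agent.OddHalf.D8.MainE Cfsg.Agent.OddHalf.D8.JTwo.Sheet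
  Cfsg.Agent.OddHalf.D8.JTwo.Glue Cfsg.Agent.J2Type.Model Cfsg.Agent.J2Type.SPFacts Cfsg.Agent.J2Type.CStruct
  Cfsg.Agent.J3Type.OneClass Cfsg.Agent.J2Type.Base Cfsg.Agent.KFacts.J2.Basic Cfsg.Agent.KFacts.J2.Facts
  Cfsg.Agent.KFacts.J2.SheetX

universe u

variable {G : Type u} [Group G]

/-- `α(R) ≤ R` for automorphisms fixing `z` -/
theorem map_R {K : Type*} [Group K] {z : K} {P R : Subgroup K} (h : SheetX z P R) (α : MulAut K) (hα : α z = z)
    {x : K} (hx : x ∈ R) : α x ∈ R := by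
  have hP : ∀ x ∈ P, α x ∈ P := fun x hx => map_P h.perf h.cen h.der α hα hx
  have hα' : α⁻¹ z = z := by
    calc α⁻¹ z = α⁻¹ (α z) := by rw [hα]
      _ = z := MulAut.inv_apply_self _ _ _
  have hP' : ∀ x ∈ P, α⁻¹ x ∈ P := fun x hx => map_P h.perf h.cen h.der α⁻¹ hα' hx
  have h1 : R.map α.toMonoidHom ≤ R := by
    apply h.Rmax
    · rintro _ ⟨r, hr, rfl⟩
      exact hP r (h.RP hr)
    · exact h.R2.map _
    · rintro x hx _ ⟨r, hr, rfl⟩
      refine ⟨α⁻¹ x * r * (α⁻¹ x)⁻¹, h.Rn _ (hP' x hx) r hr, ?_⟩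
      change α (α⁻¹ x * r * (α⁻¹ x)⁻¹) = x * α r * x⁻¹
      rw [map_mul, map_mul, map_inv, MulAut.apply_inv_self]
  exact h1 ⟨x, hx, rfl⟩

/-- the `XHyp` of type (E) -/
theorem xhyp {K : Subgroup G} {t q : G} {z : K} {P R : Subgroup K} {F : Subgroup G} (o : Out K t q z P)
    (sh : SheetX z P R)
    (D : TypeE.Data t (z : G) (centralizer ({t} : Set G) ⊓ centralizer ({(z : G)} : Set G))
      (P.map K.subtype) (R.map K.subtype) F) (htF : t ∈ F) :
    CaseX.XHyp t (z : G) (P.map K.subtype) (R.map K.subtype) F := by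
  have hmem : ∀ {n : G}, n ∈ centralizer ({t} : Set G) ⊓ centralizer ({(z : G)} : Set G) →
      n * t = t * n ∧ n * z = z * n := fun h =>
    ⟨mem_centralizer_singleton_iff.1 h.1, mem_centralizer_singleton_iff.1 h.2⟩
  have hN : ∀ n, n * t = t * n → n * z = z * n → n ∈ centralizer ({t} : Set G) ⊓ centralizer ({(z : G)} : Set G) :=
    fun n h1 h2 => ⟨mem_centralizer_singleton_iff.2 h1, mem_centralizer_singleton_iff.2 h2⟩
  exact
    { tt := D.tt
      zz := D.zz
      z1 := D.z1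
      comm := D.comm
      F2 := D.pF
      Fz := D.leF
      Fn := D.norF
      Fc := D.selfF
      tF := htF
      Pt := D.Pt
      Pz := D.Pz
      Pn := fun n h1 h2 => D.norP n (D.cN n h1 h2)
      Pp := D.perf
      RP := D.RP
      hR := fun B hB h2 hn => D.core B hB h2 fun n hn' => hn n (hmem hn').1 (hmem hn').2
      Rn := by
        intro n hnt hnz
        rintro _ ⟨r, hr, rfl⟩
        refine ⟨K.normalizerMonoidHom ⟨n, o.emb.nor hnt⟩ r, map_R sh _ (o.emb.aut_z hnt hnz) hr, ?_⟩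
        exact nmh_apply _ r
      hmin := fun B hB hn => D.irr B hB fun n hn' => hn n (hmem hn').1 (hmem hn').2
      hna := D.nab
      hC := D.out
      hx := by
        obtain ⟨x, -, hxt, hxz⟩ := o.swap
        exact ⟨x, mul_inv_eq_iff_eq_mul.1 hxz, hxt⟩ }

section

variable {K : Subgroup G} {t q : G} {z u : K} {Q : Subgroup (centralizer ({z} : Set K))}
  {v : Fin 5 → centralizer ({z} : Set K)} {ρ : centralizer ({z} : Set K) →* SP}

/-- `P = C_K(z)` as a subgroup of `G` -/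
abbrev PP (z : K) : Subgroup G := (centralizer ({z} : Set K)).map K.subtype

/-- `R` as a subgroup of `G` -/
abbrev RR (Q : Subgroup (centralizer ({z} : Set K))) : Subgroup G :=
  (Q.map (centralizer ({z} : Set K)).subtype).map K.subtype

theorem mem_PP {x : G} : x ∈ PP z ↔ x ∈ K ∧ x * z = z * x := by
  rw [PP, Emb.mem_map]
  constructor
  · rintro ⟨hx, h⟩
    exact ⟨hx, congrArg Subtype.val (mem_cent.1 h)⟩
  · rintro ⟨hx, h⟩
    exact ⟨hx, mem_cent.2 (Subtype.ext h)⟩

theorem coe_mem_PP (y : centralizer ({z} : Set K)) : ((y : K) : G) ∈ PP z := ⟨(y : K), y.2, rfl⟩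

theorem coe_mem_RR {y : centralizer ({z} : Set K)} (hy : y ∈ Q) : ((y : K) : G) ∈ RR Q :=
  ⟨(y : K), ⟨y, hy, rfl⟩, rfl⟩

/-- elements of `N` inducing inner automorphisms -/
theorem mem_of_inner (o : Out K t q z (centralizer ({z} : Set K))) {n : G} (hnt : n * t = t * n)
    (hnz : n * z = z * n)
    (h : K.normalizerMonoidHom ⟨n, o.emb.nor hnt⟩ ∈ (MulAut.conj : K →* MulAut K).range) :
    n ∈ PP z ∨ t * n ∈ PP z := by
  obtain ⟨k, hk⟩ := h
  have h2 := exists_of_conj (o.emb.nor hnt) hk.symm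
  have hkt : (k : G) * t = t * k := o.emb.st.Kt k k.2
  have hkz : (k : G) * z = z * k → (k : G) ∈ PP z := fun e => mem_PP.2 ⟨k.2, e⟩
  have h3 : (k : G)⁻¹ * n ∈ zpowers q := by
    apply o.emb.st.cK
    · have h4 := o.emb.st.Kt (k : G)⁻¹ (K.inv_mem k.2)
      calc (k : G)⁻¹ * n * t = (k : G)⁻¹ * (n * t) := by group
        _ = ((k : G)⁻¹ * t) * n := by rw [hnt]; group
        _ = t * ((k : G)⁻¹ * n) := by rw [h4]; group
    · exact h2
  rcases o.Q2 _ h3 with e | e
  · left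
    have e1 : n = k := (inv_mul_eq_one.1 e).symm
    rw [e1] at hnz ⊢
    exact hkz hnz
  · right
    have e1 : n = k * t := by rw [← e]; group
    have e2 : t * n = k := by rw [e1, hkt, ← mul_assoc, o.emb.st.tt, one_mul]
    rw [e2]
    apply hkz
    rw [← e2, mul_assoc, hnz, ← mul_assoc, o.emb.comm, mul_assoc]

/-- the automorphism of `C_K(z)` induced by an element normalising it -/
theorem exists_beta {g : G} (h1 : ∀ y ∈ PP z, g * y * g⁻¹ ∈ PP z) (h2 : ∀ y ∈ PP z, g⁻¹ * y * g ∈ PP z) :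
    ∃ β : MulAut (centralizer ({z} : Set K)), ∀ y : centralizer ({z} : Set K),
      (((β y : centralizer ({z} : Set K)) : K) : G) = g * ((y : K) : G) * g⁻¹ := by
  have f1 : ∀ y : centralizer ({z} : Set K), g * ((y : K) : G) * g⁻¹ ∈ PP z := fun y => h1 _ (coe_mem_PP y)
  have f2 : ∀ y : centralizer ({z} : Set K), g⁻¹ * ((y : K) : G) * g ∈ PP z := fun y => h2 _ (coe_mem_PP y)
  refine ⟨{ toFun := fun y => ⟨⟨g * ((y : K) : G) * g⁻¹, (Emb.mem_map.1 (f1 y)).1⟩, (Emb.mem_map.1 (f1 y)).2⟩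
            invFun := fun y => ⟨⟨g⁻¹ * ((y : K) : G) * g, (Emb.mem_map.1 (f2 y)).1⟩, (Emb.mem_map.1 (f2 y)).2⟩
            left_inv := ?_
            right_inv := ?_
            map_mul' := ?_ }, fun y => rfl⟩
  · intro y
    apply Subtype.ext
    apply Subtype.ext
    show g⁻¹ * (g * ((y : K) : G) * g⁻¹) * g = ((y : K) : G)
    group
  · intro y
    apply Subtype.ext
    apply Subtype.ext
    show g * (g⁻¹ * ((y : K) : G) * g) * g⁻¹ = ((y : K) : G)
    group
  · intro y w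
    apply Subtype.ext
    apply Subtype.ext
    show g * (((y : K) : G) * ((w : K) : G)) * g⁻¹ = (g * ((y : K) : G) * g⁻¹) * (g * ((w : K) : G) * g⁻¹)
    group

/-- `g` acts on the `v i` as the signed permutation `(σ, s)` -/
def Act (v : Fin 5 → centralizer ({z} : Set K)) (g : G) (σ : Equiv.Perm (Fin 5)) (s : Fin 5 → ZMod 2) : Prop :=
  ∀ i, g * ((v i : K) : G) * g⁻¹ = (((zp (zc z) (s i) * v (σ i) : centralizer ({z} : Set K)) : K) : G)

theorem exists_act_G [Finite G] (D : Dat z u Q v ρ) {g : G} (h1 : ∀ y ∈ PP z, g * y * g⁻¹ ∈ PP z)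
    (h2 : ∀ y ∈ PP z, g⁻¹ * y * g ∈ PP z) : ∃ σ s, Act v g σ s := by
  obtain ⟨β, hβ⟩ := exists_beta h1 h2
  obtain ⟨σ, s, h⟩ := exists_act_C D.M β
  refine ⟨σ, s, fun i => ?_⟩
  rw [← hβ, h]

/-- even elements act on `R` like elements of `P` -/
theorem exists_of_even [Finite G] (D : Dat z u Q v ρ) {g : G} (h1 : ∀ y ∈ PP z, g * y * g⁻¹ ∈ PP z)
    (h2 : ∀ y ∈ PP z, g⁻¹ * y * g ∈ PP z) {σ : Equiv.Perm (Fin 5)} {s : Fin 5 → ZMod 2} (h : Act v g σ s)
    (hσ : Equiv.Perm.sign σ = 1) : ∃ c ∈ PP z, ∀ r ∈ RR Q, g * r * g⁻¹ = c * r * c⁻¹ := by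
  obtain ⟨β, hβ⟩ := exists_beta h1 h2
  obtain ⟨c, hc⟩ := exists_conj_of_even D.M β σ s (fun i => by
    apply Subtype.ext
    apply Subtype.ext
    rw [hβ]; exact h i) hσ
  refine ⟨((c : K) : G), coe_mem_PP c, ?_⟩
  rintro _ ⟨_, ⟨r, hr, rfl⟩, rfl⟩
  show g * ((r : K) : G) * g⁻¹ = _
  rw [← hβ, hc r hr]
  rfl

/-- even elements of `N` -/
theorem mem_of_even [Finite G] (D : Dat z u Q v ρ) (o : Out K t q z (centralizer ({z} : Set K))) {n : G}
    (hnt : n * t = t * n) (hnz : n * z = z * n) {σ : Equiv.Perm (Fin 5)} {s : Fin 5 → ZMod 2}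
    (h : Act v n σ s) (hσ : Equiv.Perm.sign σ = 1) : n ∈ PP z ∨ t * n ∈ PP z := by
  apply mem_of_inner o hnt hnz
  obtain ⟨k, hk⟩ := D.inner_of_even (K.normalizerMonoidHom ⟨n, o.emb.nor hnt⟩) (o.emb.aut_z hnt hnz) σ s
    (fun i => by
      apply Subtype.ext
      rw [nmh_apply]
      exact h i) hσ
  exact ⟨k, hk.symm⟩

theorem act_mul (D : Dat z u Q v ρ) {g g' : G} {σ τ : Equiv.Perm (Fin 5)} {s r : Fin 5 → ZMod 2}
    (hg : Act v g σ s) (hgz : g * z = z * g) (hg' : Act v g' τ r) :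
    Act v (g * g') (σ * τ) (fun i => r i + s (τ i)) := by
  intro i
  have hzp : ∀ a : ZMod 2, g * (((zp (zc z) a : centralizer ({z} : Set K)) : K) : G) * g⁻¹ =
      (((zp (zc z) a : centralizer ({z} : Set K)) : K) : G) := by
    intro a
    rcases zmod2_cases a with h | h
    · rw [h, zp_zero]
      show g * (1 : G) * g⁻¹ = 1
      group
    · rw [h, zp_one]
      show g * (z : G) * g⁻¹ = z
      rw [hgz]; group
  calc g * g' * ((v i : K) : G) * (g * g')⁻¹ = g * (g' * ((v i : K) : G) * g'⁻¹) * g⁻¹ := by group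
    _ = g * ((((zp (zc z) (r i) : centralizer ({z} : Set K)) : K) : G) * ((v (τ i) : K) : G)) * g⁻¹ := by
        rw [hg' i]; rfl
    _ = (g * (((zp (zc z) (r i) : centralizer ({z} : Set K)) : K) : G) * g⁻¹) *
          (g * ((v (τ i) : K) : G) * g⁻¹) := by group
    _ = (((zp (zc z) (r i) * (zp (zc z) (s (τ i)) * v (σ (τ i))) : centralizer ({z} : Set K)) : K) : G) := by
        rw [hzp, hg (τ i)]; rfl
    _ = _ := by rw [← mul_assoc, ← zp_add (zc z) D.M.z_sq]; rfl

/-- elements of `N` centralising `R` -/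
theorem cent_RR [Finite G] (D : Dat z u Q v ρ) (o : Out K t q z (centralizer ({z} : Set K))) {n : G}
    (hnt : n * t = t * n) (hnz : n * z = z * n) (h : ∀ r ∈ RR Q, n * r = r * n) :
    n = 1 ∨ n = z ∨ n = t ∨ n = t * z := by
  have hact : Act v n 1 (fun _ => 0) := by
    intro i
    rw [h _ (coe_mem_RR (D.M.v_mem i)), mul_inv_cancel_right, zp_zero, one_mul]
    rfl
  have key : ∀ m : G, m ∈ PP z → (∀ r ∈ RR Q, m * r = r * m) → m = 1 ∨ m = z := by
    intro m hm hr
    obtain ⟨hmK, hmC⟩ := Emb.mem_map.1 hm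
    rcases Cfsg.Agent.KFacts.QMinus.cent_Q D.M (c := ⟨⟨m, hmK⟩, hmC⟩) (fun i => by
      apply Subtype.ext
      apply Subtype.ext
      exact hr _ (coe_mem_RR (D.M.v_mem i))) with e | e
    · left; exact congrArg (fun y : centralizer ({z} : Set K) => ((y : K) : G)) e
    · right; exact congrArg (fun y : centralizer ({z} : Set K) => ((y : K) : G)) e
  have hRt : ∀ r ∈ RR Q, t * r = r * t := by
    rintro _ ⟨r, -, rfl⟩
    exact (o.emb.st.Kt r r.2).symm
  rcases mem_of_even D o hnt hnz hact (by simp) with h1 | h1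
  · rcases key n h1 h with h2 | h2
    · exact Or.inl h2
    · exact Or.inr (Or.inl h2)
  · right; right
    rcases key _ h1 (fun r hr => by
      rw [mul_assoc, h r hr, ← mul_assoc, hRt r hr, mul_assoc]) with h2 | h2
    · left
      calc n = t * (t * n) := by rw [← mul_assoc, o.emb.st.tt, one_mul]
        _ = t := by rw [h2, mul_one]
    · right
      calc n = t * (t * n) := by rw [← mul_assoc, o.emb.st.tt, one_mul]
        _ = t * z := by rw [h2]

/-- commutators of `N` lie in `P` -/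
theorem comm_mem [Finite G] (D : Dat z u Q v ρ) (o : Out K t q z (centralizer ({z} : Set K))) {a b : G}
    (hat : a * t = t * a) (haz : a * z = z * a) (hbt : b * t = t * b) (hbz : b * z = z * b) :
    a * b * a⁻¹ * b⁻¹ ∈ PP z := by
  have hinv : ∀ {n y : G}, n * y = y * n → n⁻¹ * y = y * n⁻¹ := by
    intro n y h
    rw [inv_mul_eq_iff_eq_mul, ← mul_assoc, h]; group
  have hmul : ∀ {m n y : G}, m * y = y * m → n * y = y * n → m * n * y = y * (m * n) := by
    intro m n y h1 h2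
    rw [mul_assoc, h2, ← mul_assoc, h1, mul_assoc]
  -- `[e, n]` for `e ∈ P ∪ tP`
  have key : ∀ e n : G, e * t = t * e → e * z = z * e → n * t = t * n → n * z = z * n →
      (e ∈ PP z ∨ t * e ∈ PP z) → e * n * e⁻¹ * n⁻¹ ∈ PP z := by
    intro e n het hez hnt hnz he
    have h1 : ∀ p ∈ PP z, p * n * p⁻¹ * n⁻¹ ∈ PP z := by
      intro p hp
      have e1 : p * n * p⁻¹ * n⁻¹ = p * (n * p⁻¹ * n⁻¹) := by group
      rw [e1]
      exact (PP z).mul_mem hp (o.emb.conj_P hnt hnz ((PP z).inv_mem hp))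
    rcases he with h2 | h2
    · exact h1 e h2
    · have h3 := h1 _ h2
      have e2 : t * e * n * (t * e)⁻¹ * n⁻¹ = e * n * e⁻¹ * n⁻¹ := by
        calc t * e * n * (t * e)⁻¹ * n⁻¹ = (t * e) * n * e⁻¹ * (t⁻¹ * n⁻¹) := by group
          _ = (e * t) * n * e⁻¹ * (n⁻¹ * t⁻¹) := by
              rw [het]
              congr 1
              rw [← mul_inv_rev, ← mul_inv_rev, hnt]
          _ = e * (t * (n * e⁻¹ * n⁻¹)) * t⁻¹ := by group
          _ = e * ((n * e⁻¹ * n⁻¹) * t) * t⁻¹ := by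
              rw [hmul (hmul hnt (hinv het)) (hinv hnt)]
          _ = _ := by group
      rw [← e2]; exact h3
  rcases Cfsg.Agent.KFacts.J2.SheetX.index_le D with hi | hi
  · apply key a b hat haz hbt hbz
    apply mem_of_inner o hat haz
    rw [index_eq_one] at hi
    rw [hi]; exact mem_top _
  · by_cases ha : a ∈ PP z ∨ t * a ∈ PP z
    · exact key a b hat haz hbt hbz ha
    · -- `b a⁻¹` or `b` is even
      by_cases hb : b ∈ PP z ∨ t * b ∈ PP z
      · have h1 := key b a hbt hbz hat haz hb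
        have h2 := (PP z).inv_mem h1
        have e : (b * a * b⁻¹ * a⁻¹)⁻¹ = a * b * a⁻¹ * b⁻¹ := by group
        rwa [e] at h2
      · have hct : b * a⁻¹ * t = t * (b * a⁻¹) := hmul hbt (hinv hat)
        have hcz : b * a⁻¹ * z = z * (b * a⁻¹) := hmul hbz (hinv haz)
        have hc : b * a⁻¹ ∈ PP z ∨ t * (b * a⁻¹) ∈ PP z := by
          apply mem_of_inner o hct hcz
          have h1 : K.normalizerMonoidHom ⟨b * a⁻¹, o.emb.nor hct⟩ =
              K.normalizerMonoidHom ⟨b, o.emb.nor hbt⟩ * (K.normalizerMonoidHom ⟨a, o.emb.nor hat⟩)⁻¹ := by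
            rw [← map_inv, ← map_mul]; rfl
          rw [h1, mul_mem_iff_of_index_two hi]
          constructor
          · intro h2
            exact absurd (mem_of_inner o hbt hbz h2) hb
          · intro h2
            exact absurd (mem_of_inner o hat haz (inv_mem_iff.1 h2)) ha
        have h2 := (PP z).inv_mem (key _ a hct hcz hat haz hc)
        have e : (b * a⁻¹ * a * (b * a⁻¹)⁻¹ * a⁻¹)⁻¹ = a * b * a⁻¹ * b⁻¹ := by group
        rwa [e] at h2

/-- **`⟨t, z⟩` normal in `C_G(z)` is impossible** -/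
theorem notMem [Finite G] (D : Dat z u Q v ρ) (o : Out K t q z (centralizer ({z} : Set K))) {F : Subgroup G}
    (X : CaseX.XHyp t (z : G) (PP z) (RR Q) F)
    (hnor : ∀ g : G, g * z = z * g → g * t * g⁻¹ = t ∨ g * t * g⁻¹ = t * z) : False := by
  have hNN : ∀ a, a * t = t * a → a * z = z * a → ∀ b, b * t = t * b → b * z = z * b →
      a * b * a⁻¹ * b⁻¹ ∈ PP z := fun a h1 h2 b h3 h4 => comm_mem D o h1 h2 h3 h4
  have hzP : (z : G) ∈ PP z := mem_PP.2 ⟨z.2, rfl⟩
  obtain ⟨x, -, hxt, hxz0⟩ := o.swap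
  have hxz : x * z = z * x := mul_inv_eq_iff_eq_mul.1 hxz0
  have hxP : ∀ p ∈ PP z, x * p * x⁻¹ ∈ PP z := fun p hp => (o.emb.conj_P_swap hxt hxz0).1 hp
  have hxP' : ∀ p ∈ PP z, x⁻¹ * p * x ∈ PP z := by
    intro p hp
    apply (o.emb.conj_P_swap hxt hxz0).2
    have e : x * (x⁻¹ * p * x) * x⁻¹ = p := by group
    rw [e]; exact hp
  by_cases hin : ∀ n, n * t = t * n → n * z = z * n → n ∈ PP z ∨ t * n ∈ PP z
  · exact X.notMem_commutator hnor hNN hxz hxt (X.hxn_of_inner hxt hzP hxP hin) o.com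
  · push Not at hin
    obtain ⟨s, hst, hsz, hs1, hs2⟩ := hin
    have hsP : ∀ p ∈ PP z, s * p * s⁻¹ ∈ PP z := fun p hp => o.emb.conj_P hst hsz hp
    have hst' : s⁻¹ * t = t * s⁻¹ := by rw [inv_mul_eq_iff_eq_mul, ← mul_assoc, hst]; group
    have hsz' : s⁻¹ * z = z * s⁻¹ := by rw [inv_mul_eq_iff_eq_mul, ← mul_assoc, hsz]; group
    have hsP' : ∀ p ∈ PP z, s⁻¹ * p * s ∈ PP z := by
      intro p hp
      have := o.emb.conj_P hst' hsz' hp
      rwa [inv_inv] at this
    obtain ⟨σ, a, hσ⟩ := exists_act_G D hsP hsP'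
    have hσ1 : Equiv.Perm.sign σ = -1 := by
      refine (Int.units_eq_one_or _).resolve_left fun h1 => ?_
      rcases mem_of_even D o hst hsz hσ h1 with h2 | h2
      · exact hs1 h2
      · exact hs2 h2
    -- an even element `y` with `t ^ y = tz`
    obtain ⟨y, hyz, hyt, hyP, hyP', τ, b, hτ, hτ1⟩ : ∃ y : G, y * z = z * y ∧ y * t * y⁻¹ = t * z ∧
        (∀ p ∈ PP z, y * p * y⁻¹ ∈ PP z) ∧ (∀ p ∈ PP z, y⁻¹ * p * y ∈ PP z) ∧
        ∃ (τ : Equiv.Perm (Fin 5)) (b : Fin 5 → ZMod 2), Act v y τ b ∧ Equiv.Perm.sign τ = 1 := by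
      obtain ⟨τ, b, hτ⟩ := exists_act_G D hxP hxP'
      rcases Int.units_eq_one_or (Equiv.Perm.sign τ) with h1 | h1
      · exact ⟨x, hxz, hxt, hxP, hxP', τ, b, hτ, h1⟩
      · refine ⟨x * s, ?_, ?_, ?_, ?_, τ * σ, _, act_mul D hτ hxz hσ, ?_⟩
        · rw [mul_assoc, hsz, ← mul_assoc, hxz, mul_assoc]
        · calc x * s * t * (x * s)⁻¹ = x * (s * t * s⁻¹) * x⁻¹ := by group
            _ = t * z := by rw [hst, mul_inv_cancel_right, hxt]
        · intro p hp
          have e : x * s * p * (x * s)⁻¹ = x * (s * p * s⁻¹) * x⁻¹ := by group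
          rw [e]; exact hxP _ (hsP _ hp)
        · intro p hp
          have e : (x * s)⁻¹ * p * (x * s) = s⁻¹ * (x⁻¹ * p * x) * s := by group
          rw [e]; exact hsP' _ (hxP' _ hp)
        · rw [Equiv.Perm.sign_mul, h1, hσ1]; decide
    obtain ⟨c, hc, hcr⟩ := exists_of_even D hyP hyP' hτ hτ1
    obtain ⟨hcK, hcz⟩ := mem_PP.1 hc
    have hct : c * t = t * c := o.emb.st.Kt c hcK
    have hct' : c⁻¹ * t = t * c⁻¹ := by rw [inv_mul_eq_iff_eq_mul, ← mul_assoc, hct]; group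
    have hcz' : c⁻¹ * z = z * c⁻¹ := by rw [inv_mul_eq_iff_eq_mul, ← mul_assoc, hcz]; group
    have h1z : c⁻¹ * y * z = z * (c⁻¹ * y) := by
      rw [mul_assoc, hyz, ← mul_assoc, hcz', mul_assoc]
    have h1t : c⁻¹ * y * t * (c⁻¹ * y)⁻¹ = t * z := by
      calc c⁻¹ * y * t * (c⁻¹ * y)⁻¹ = c⁻¹ * (y * t * y⁻¹) * c := by group
        _ = (c⁻¹ * t) * z * c := by rw [hyt]; group
        _ = t * (c⁻¹ * z) * c := by rw [hct']; group
        _ = t * z := by rw [hcz']; group
    have h1R : ∀ r ∈ RR Q, c⁻¹ * y * r = r * (c⁻¹ * y) := by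
      intro r hr
      rw [← mul_inv_eq_iff_eq_mul]
      calc c⁻¹ * y * r * (c⁻¹ * y)⁻¹ = c⁻¹ * (y * r * y⁻¹) * c := by group
        _ = r := by rw [hcr r hr]; group
    exact X.notMem_commutator hnor hNN h1z h1t (X.hxn_of_cent h1z h1t hzP h1R
      (fun n h1 h2 h3 => cent_RR D o h1 h2 h3)) o.com

end

end Cfsg.Agent.OddHalf.D8.JTwo.Small

end

-- merged: Cfsg.Agent.OddHalf.D8.JTwo.Large
section

/-!
# ODD half, D8, row `J₂`: the case `t ∈ O₂(C(z))`, part 2 (helper826)

`not_large`: `O₂(C(z))` is not extraspecial of order `2 ^ 7`, by S1762 and Lagrange (`25` divides `|J₂|`).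
-/

set_option autoImplicit false

namespace Cfsg.Agent.OddHalf.D8.JTwo.Large

open Subgroup Cfsg Cfsg.Agent.OddHalf.D8.MainE

universe u

/-- `25` does not divide the order of `PSL(5, 2)` -/
theorem psl5 {F : Type*} [Field F] [Fintype F] (hF : Fintype.card F = 2) :
    ¬ 25 ∣ Nat.card (Matrix.ProjectiveSpecialLinearGroup (Fin 5) F) := by
  classical
  intro h
  have h1 : Nat.card (Matrix.ProjectiveSpecialLinearGroup (Fin 5) F) ∣
      Nat.card (Matrix.SpecialLinearGroup (Fin 5) F) := by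
    exact Subgroup.card_quotient_dvd_card _
  have h2 : Nat.card (Matrix.SpecialLinearGroup (Fin 5) F) ∣ Nat.card (GL (Fin 5) F) := by
    have hinj : Function.Injective (Matrix.SpecialLinearGroup.toGL : Matrix.SpecialLinearGroup (Fin 5) F →* GL (Fin 5) F) :=
      Matrix.SpecialLinearGroup.toGL_injective
    exact Subgroup.card_dvd_of_injective _ hinj
  have h3 := (h.trans h1).trans h2
  rw [Matrix.card_GL_field, hF] at h3
  simp only [Fin.prod_univ_succ, Fin.prod_univ_zero] at h3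
  norm_num at h3

/-- S1762 (without the hypothesis on symplectic type) -/
def H1762 : Prop :=
  ∀ (G : Type u) [Group G] [Finite G] [IsSimpleGroup G], ¬ IsMulCommutative G → ∀ z : G, orderOf z = 2 →
    IsExtraspecial 2 ↥(generalizedFittingSubgroup ↥(centralizer ({z} : Set G))) →
    Nat.card ↥(generalizedFittingSubgroup ↥(centralizer ({z} : Set G))) = 2 ^ 7 →
    (∃ (F : Type) (_ : Field F) (_ : Fintype F), Fintype.card F = 2 ∧ Nonempty (G ≃* Matrix.ProjectiveSpecialLinearGroup (Fin 5) F)) ∨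
      (∃ (F : Type) (_ : Field F) (_ : Fintype F), Fintype.card F = 4 ∧ Nonempty (G ≃* Cfsg.PSU 5 F 2)) ∨
      Cfsg.Spor.IsoM24 G ∨ Cfsg.Spor.IsoHe G ∨ Cfsg.Spor.IsoSuz G

/-- **S1762 does not apply** -/
theorem not_large (h1762 : H1762.{u}) {G : Type u} [Group G] (C : Iface.Ctx G) {z : G} (hz : orderOf z = 2)
    (hself : centralizer (pCore 2 ↥(centralizer ({z} : Set G)) : Set ↥(centralizer ({z} : Set G))) ≤
      pCore 2 ↥(centralizer ({z} : Set G)))
    (hex : IsExtraspecial 2 ↥((pCore 2 ↥(centralizer ({z} : Set G))).map (centralizer ({z} : Set G)).subtype))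
    (hcard : Nat.card ↥((pCore 2 ↥(centralizer ({z} : Set G))).map (centralizer ({z} : Set G)).subtype) = 2 ^ 7)
    (h25 : 25 ∣ Nat.card G) : False := by
  have hfin := C.fin
  have hsimp := C.simple
  have : Fact (Nat.Prime 2) := ⟨Nat.prime_two⟩
  have hF : generalizedFittingSubgroup ↥(centralizer ({z} : Set G)) = pCore 2 ↥(centralizer ({z} : Set G)) :=
    Cfsg.Agent.SignalizersComponents.CharP.genFitting_eq_pCore_iff.2 hself
  have e : ↥((pCore 2 ↥(centralizer ({z} : Set G))).map (centralizer ({z} : Set G)).subtype) ≃*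
      ↥(pCore 2 ↥(centralizer ({z} : Set G))) :=
    ((pCore 2 ↥(centralizer ({z} : Set G))).equivMapOfInjective _ (subtype_injective _)).symm
  have hE : IsExtraspecial 2 ↥(generalizedFittingSubgroup ↥(centralizer ({z} : Set G))) := by
    rw [hF]
    exact Cfsg.Agent.J2.ExtQuot.isExtraspecial_of_equiv e hex
  have hc : Nat.card ↥(generalizedFittingSubgroup ↥(centralizer ({z} : Set G))) = 2 ^ 7 := by
    rw [hF, ← hcard]
    exact (Nat.card_congr e.toEquiv).symm
  rcases h1762 G C.na z hz hE hc with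
    ⟨F, _, _, hF2, ⟨f⟩⟩ | ⟨F, _, _, hF4, ⟨f⟩⟩ | ⟨⟨f⟩⟩ | h | h
  · rw [Nat.card_congr f.toEquiv] at h25
    exact psl5 hF2 h25
  · rw [Nat.card_congr f.toEquiv, Cfsg.Agent.SylowU5.Iso.card_PSU hF4] at h25
    norm_num at h25
  · have h1 : Nat.card G = 244823040 := by
      rw [Nat.card_congr f.toEquiv]
      exact Cfsg.Agent.S0364.result
    rw [h1] at h25
    norm_num at h25
  · exact C.nc (by unfold Iface.Concl Small.Excl.Concl; simp only [h, true_or, or_true])
  · exact C.nc (by unfold Iface.Concl Small.Excl.Concl; simp only [h, true_or, or_true])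

end Cfsg.Agent.OddHalf.D8.JTwo.Large

end
end

-- part: OddHalf/D8/Fi23/Glue
section
-- merged: Cfsg.Agent.OddHalf.D8.Fi23.Dbl
section

/-!
# `H ⊔ ⟨t⟩` for an involution `t` centralizing `H` (helper907)
-/

set_option autoImplicit false

namespace Cfsg.Agent.OddHalf.D8.Fi23

open Subgroup

variable {G : Type*} [Group G]

/-- `H × ⟨t⟩` -/
def dbl (t : G) (H : Subgroup G) : Subgroup G := H ⊔ zpowers t

theorem le_dbl (t : G) (H : Subgroup G) : H ≤ dbl t H := le_sup_left

theorem t_mem_dbl (t : G) (H : Subgroup G) : t ∈ dbl t H :=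
  (le_sup_right : zpowers t ≤ _) (mem_zpowers t)

theorem mem_dbl {t : G} {H : Subgroup G} (tt : t * t = 1) (hc : ∀ h ∈ H, h * t = t * h) {x : G} :
    x ∈ dbl t H ↔ x ∈ H ∨ t * x ∈ H := by
  constructor
  · let M : Subgroup G :=
      { carrier := {x | x ∈ H ∨ t * x ∈ H}
        one_mem' := Or.inl H.one_mem
        mul_mem' := by
          rintro x y (hx | hx) (hy | hy)
          · exact Or.inl (H.mul_mem hx hy)
          · right
            have : t * (x * y) = x * (t * y) := by rw [← mul_assoc, ← hc x hx, mul_assoc]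
            rw [this]; exact H.mul_mem hx hy
          · right
            rw [← mul_assoc]; exact H.mul_mem hx hy
          · left
            have h1 : x * y = (t * x) * (t * y) := by
              have h2 : t * x * t = t * (t * x) := hc _ hx
              calc x * y = (t * t) * x * y := by rw [tt, one_mul]
                _ = t * (t * x) * y := by group
                _ = t * x * t * y := by rw [h2]
                _ = (t * x) * (t * y) := by group
            rw [h1]; exact H.mul_mem hx hy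
        inv_mem' := by
          rintro x (hx | hx)
          · exact Or.inl (H.inv_mem hx)
          · right
            have ht : t⁻¹ = t := inv_eq_of_mul_eq_one_left tt
            have h1 : (t * x)⁻¹ ∈ H := H.inv_mem hx
            have h2 : (t * x)⁻¹ = t * x⁻¹ := by
              have h3 := hc _ h1
              rw [mul_inv_rev, ht] at h3 ⊢
              calc x⁻¹ * t = x⁻¹ * t * (t * t) := by rw [tt, mul_one]
                _ = (x⁻¹ * t * t) * t := by group
                _ = (t * (x⁻¹ * t)) * t := by rw [h3]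
                _ = t * x⁻¹ * (t * t) := by group
                _ = t * x⁻¹ := by rw [tt, mul_one]
            rw [← h2]; exact h1 }
    have h1 : dbl t H ≤ M := by
      refine sup_le (fun x hx => Or.inl hx) ?_
      rw [zpowers_le]
      right
      show t * t ∈ H
      rw [tt]; exact H.one_mem
    exact fun hx => h1 hx
  · rintro (h | h)
    · exact le_dbl t H h
    · have h1 : x = t⁻¹ * (t * x) := by group
      rw [h1]
      exact (dbl t H).mul_mem ((dbl t H).inv_mem (t_mem_dbl t H)) (le_dbl t H h)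

theorem dbl_comm {t : G} {H : Subgroup G} (tt : t * t = 1) (hc : ∀ h ∈ H, h * t = t * h) {x : G}
    (hx : x ∈ dbl t H) : x * t = t * x := by
  rcases (mem_dbl tt hc).1 hx with h | h
  · exact hc x h
  · have h1 := hc _ h
    have h2 : t * (x * t) = t * (t * x) := by rw [← mul_assoc]; exact h1
    exact mul_left_cancel h2

theorem card_dbl [Finite G] {t : G} {H : Subgroup G} (tt : t * t = 1) (hc : ∀ h ∈ H, h * t = t * h)
    (ht : t ∉ H) : Nat.card (dbl t H) = 2 * Nat.card H := by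
  classical
  have h1 : (dbl t H : Set G) = (H : Set G) ∪ (fun x => t * x) '' (H : Set G) := by
    ext x
    rw [SetLike.mem_coe, mem_dbl tt hc, Set.mem_union, Set.mem_image]
    refine or_congr Iff.rfl ⟨fun h => ⟨t * x, h, ?_⟩, ?_⟩
    · rw [← mul_assoc, tt, one_mul]
    · rintro ⟨y, hy, rfl⟩
      rw [← mul_assoc, tt, one_mul]; exact hy
  have h2 : Disjoint (H : Set G) ((fun x => t * x) '' (H : Set G)) := by
    rw [Set.disjoint_left]
    rintro x hx ⟨y, hy, rfl⟩
    apply ht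
    have h3 : t = t * y * y⁻¹ := by group
    rw [h3]
    exact H.mul_mem hx (H.inv_mem hy)
  have e1 : Nat.card (dbl t H) = (dbl t H : Set G).ncard := rfl
  have e2 : Nat.card H = (H : Set G).ncard := rfl
  rw [e1, e2, h1, Set.ncard_union_eq h2 (Set.toFinite _) (Set.toFinite _),
    Set.ncard_image_of_injective _ (mul_right_injective t)]
  ring

theorem dbl_mono {t : G} {H L : Subgroup G} (h : H ≤ L) : dbl t H ≤ dbl t L := sup_le_sup_right h _

end Cfsg.Agent.OddHalf.D8.Fi23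

end

-- merged: Cfsg.Agent.OddHalf.D8.Fi23.Fr
section

/-!
# The frame `C_G(t) = ⟨t⟩ × K`, `K = Fi₂₃` (helper907)

`T = ⟨t⟩ × S`, `A* = ⟨t⟩ × A`: `t` is not conjugate to an element of `K`; `T` is a maximal 2-subgroup of `C(t)` and
`A*` the only elementary abelian subgroup of order `2¹²` of `T`.
-/

set_option autoImplicit false

namespace Cfsg.Agent.OddHalf.D8.Fi23

open Subgroup Cfsg
open scoped commutatorElement

/-- the frame -/
structure Fr {G : Type*} [Group G] (t : G) (K A S : Subgroup G) (a : Fin 23 → G) : Prop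
    extends Loc K A S a where
  tt : t * t = 1
  tK : t ∉ K
  com : ∀ k ∈ K, k * t = t * k
  cent : ∀ g, g * t = t * g → g ∈ K ∨ t * g ∈ K

section Loc

namespace Loc

variable {G : Type*} [Group G] {K A S : Subgroup G} {a : Fin 23 → G}

theorem AK (L : Loc K A S a) : A ≤ K := L.AS.trans L.SK

theorem aK (L : Loc K A S a) (i : Fin 23) : a i ∈ K := L.AK (L.mem i)

theorem J_perf (L : Loc K A S a) (i : Fin 23) :
    ⁅K ⊓ centralizer ({a i} : Set G), K ⊓ centralizer ({a i} : Set G)⁆ =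
      K ⊓ centralizer ({a i} : Set G) := by
  have := (L.qs i).1
  exact Subgroup.commutator_eq_self

theorem K_perf (L : Loc K A S a) : ⁅K, K⁆ = K := by
  apply le_antisymm (Subgroup.commutator_le_self K)
  refine (L.gen 0 1 (by decide)).trans (sup_le ?_ ?_)
  · rw [← L.J_perf 0]; exact commutator_mono inf_le_left inf_le_left
  · rw [← L.J_perf 1]; exact commutator_mono inf_le_left inf_le_left

theorem AJ (L : Loc K A S a) (i : Fin 23) : A ≤ K ⊓ centralizer ({a i} : Set G) := fun x hx =>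
  ⟨L.AK hx, mem_centralizer_singleton_iff.2 (L.comm hx (L.mem i))⟩

theorem two (L : Loc K A S a) {i j i' j' : Fin 23} (h1 : i ≠ j) (h2 : i' ≠ j') :
    ∃ n ∈ K, n ∈ normalizer (A : Set G) ∧ n * a i * n⁻¹ = a i' ∧ n * a j * n⁻¹ = a j' := by
  obtain ⟨k, h3, h4⟩ := exists_third i j
  obtain ⟨k', h5, h6⟩ := exists_third i' j'
  obtain ⟨n, hn, hn', e1, e2, -⟩ := L.three i j k i' j' k' h1 h3 h4 h2 h5 h6
  exact ⟨n, hn, hn', e1, e2⟩

theorem one (L : Loc K A S a) (i i' : Fin 23) :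
    ∃ n ∈ K, n ∈ normalizer (A : Set G) ∧ n * a i * n⁻¹ = a i' := by
  obtain ⟨j, -, h1, -⟩ := exists_two i
  obtain ⟨j', -, h2, -⟩ := exists_two i'
  obtain ⟨n, hn, hn', e1, -⟩ := L.two h1 h2
  exact ⟨n, hn, hn', e1⟩

/-- `C_K(K) = 1` -/
theorem center_K (L : Loc K A S a) {x : G} (hx : x ∈ K) (hc : ∀ y ∈ K, x * y = y * x) : x = 1 := by
  rcases L.cen 0 x hx (fun y hy _ => hc y hy) with h | h
  · exact h
  rcases L.cen 1 x hx (fun y hy _ => hc y hy) with h' | h'
  · exact h'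
  exact absurd (L.a_inj (h.symm.trans h')) (by decide)

end Loc

end Loc

namespace Fr

variable {G : Type*} [Group G] {t : G} {K A S : Subgroup G} {a : Fin 23 → G}

theorem t1 (F : Fr t K A S a) : t ≠ 1 := fun h => F.tK (h ▸ K.one_mem)

theorem t_inv (F : Fr t K A S a) : t⁻¹ = t := inv_eq_of_mul_eq_one_left F.tt

theorem comS (F : Fr t K A S a) : ∀ s ∈ S, s * t = t * s := fun s hs => F.com s (F.SK hs)

theorem comA (F : Fr t K A S a) : ∀ s ∈ A, s * t = t * s := fun s hs => F.com s (F.AK hs)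

theorem tS (F : Fr t K A S a) : t ∉ S := fun h => F.tK (F.SK h)

theorem tA (F : Fr t K A S a) : t ∉ A := fun h => F.tK (F.AK h)

theorem mem_cent (F : Fr t K A S a) {g : G} : g * t = t * g ↔ g ∈ dbl t K :=
  ⟨fun h => (mem_dbl F.tt F.com).2 (F.cent g h), fun h => dbl_comm F.tt F.com h⟩

theorem centralizer_eq (F : Fr t K A S a) : centralizer ({t} : Set G) = dbl t K := by
  ext g
  rw [mem_centralizer_singleton_iff]
  exact F.mem_cent

/-- commutators of `C(t)` lie in `K` -/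
theorem der_le (F : Fr t K A S a) : ⁅centralizer ({t} : Set G), centralizer ({t} : Set G)⁆ ≤ K := by
  rw [Subgroup.commutator_le]
  intro g hg h hh
  rw [F.centralizer_eq, mem_dbl F.tt F.com] at hg hh
  have key : ∀ x ∈ K, ∀ y ∈ K, ⁅x, y⁆ ∈ K := fun x hx y hy => by
    rw [commutatorElement_def]
    exact K.mul_mem (K.mul_mem (K.mul_mem hx hy) (K.inv_mem hx)) (K.inv_mem hy)
  have e1 : ∀ x ∈ K, ∀ z : G, z * t = t * z → ⁅t * x, z⁆ = ⁅x, z⁆ := by
    intro x hx z hz
    have h1 := F.com x hx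
    have hz' : z⁻¹ * t = t * z⁻¹ := by
      calc z⁻¹ * t = z⁻¹ * (t * z) * z⁻¹ := by group
        _ = z⁻¹ * (z * t) * z⁻¹ := by rw [hz]
        _ = t * z⁻¹ := by group
    have hx' : x⁻¹ * t = t * x⁻¹ := F.com _ (K.inv_mem hx)
    rw [commutatorElement_def, commutatorElement_def, mul_inv_rev, F.t_inv]
    calc t * x * z * (x⁻¹ * t) * z⁻¹ = t * x * z * x⁻¹ * (t * z⁻¹) := by group
      _ = t * x * z * x⁻¹ * (z⁻¹ * t) := by rw [hz']
      _ = t * (x * z * x⁻¹ * z⁻¹) * t := by group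
      _ = t * (t * (x * z * x⁻¹ * z⁻¹)) := by
          rw [mul_assoc]
          congr 1
          calc x * z * x⁻¹ * z⁻¹ * t = x * z * x⁻¹ * (z⁻¹ * t) := by group
            _ = x * z * (x⁻¹ * t) * z⁻¹ := by rw [hz']; group
            _ = x * (z * t) * x⁻¹ * z⁻¹ := by rw [hx']; group
            _ = (x * t) * z * x⁻¹ * z⁻¹ := by rw [hz]; group
            _ = t * (x * z * x⁻¹ * z⁻¹) := by rw [h1]; group
      _ = x * z * x⁻¹ * z⁻¹ := by rw [← mul_assoc, F.tt, one_mul]
  have e2 : ∀ x ∈ K, ∀ z : G, z * t = t * z → ⁅z, t * x⁆ = ⁅z, x⁆ := by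
    intro x hx z hz
    have h1 := e1 x hx z hz
    have h2 : ⁅z, t * x⁆ = ⁅t * x, z⁆⁻¹ := (commutatorElement_inv _ _).symm
    rw [h2, h1, commutatorElement_inv]
  have ht : ∀ x ∈ K, (t * x) * t = t * (t * x) := by
    intro x hx
    rw [mul_assoc, F.com x hx]
  have et : ∀ x : G, t * (t * x) = x := fun x => by rw [← mul_assoc, F.tt, one_mul]
  rcases hg with hg | hg <;> rcases hh with hh | hh
  · exact key g hg h hh
  · have := e2 (t * h) hh g (F.com g hg)
    rw [et] at this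
    rw [this]; exact key _ hg _ hh
  · have := e1 (t * g) hg h (F.com h hh)
    rw [et] at this
    rw [this]; exact key _ hg _ hh
  · have hh2 : h * t = t * h := by
      have := ht _ hh
      rw [et] at this; exact this
    have h3 := e1 (t * g) hg h hh2
    rw [et] at h3
    have h4 := e2 (t * h) hh (t * g) (F.com _ hg)
    rw [et] at h4
    rw [h3, h4]
    exact key _ hg _ hh

theorem der_eq (F : Fr t K A S a) : ⁅centralizer ({t} : Set G), centralizer ({t} : Set G)⁆ = K := by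
  apply le_antisymm F.der_le
  conv_lhs => rw [← F.K_perf]
  have : K ≤ centralizer ({t} : Set G) := fun k hk => mem_centralizer_singleton_iff.2 (F.com k hk)
  exact commutator_mono this this

/-- conjugation of centralizers -/
theorem map_cent (n x : G) : (centralizer ({x} : Set G)).map (MulAut.conj n).toMonoidHom =
    centralizer ({n * x * n⁻¹} : Set G) := Sheet.map_centralizer n x

theorem mem_der_conj {n x y : G} (hy : y ∈ ⁅centralizer ({x} : Set G), centralizer ({x} : Set G)⁆) :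
    n * y * n⁻¹ ∈ ⁅centralizer ({n * x * n⁻¹} : Set G), centralizer ({n * x * n⁻¹} : Set G)⁆ := by
  rw [← map_cent, ← Subgroup.map_commutator]
  exact ⟨y, hy, rfl⟩

/-- `t` is not conjugate to an element of `K` -/
theorem not_conj (F : Fr t K A S a) {x : G} (hx : x ∈ K) (g : G) : g * t * g⁻¹ ≠ x := by
  intro h
  have hsq : x * x = 1 := by
    rw [← h]
    calc g * t * g⁻¹ * (g * t * g⁻¹) = g * (t * t) * g⁻¹ := by group
      _ = 1 := by rw [F.tt]; group
  have hx1 : x ≠ 1 := by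
    intro h1
    rw [h1, mul_inv_eq_one] at h
    exact F.t1 (mul_eq_left.1 h)
  have h1 := F.der x hx hsq hx1
  have h2 : x ∈ ⁅centralizer ({x} : Set G), centralizer ({x} : Set G)⁆ :=
    commutator_mono inf_le_right inf_le_right h1
  have h3 := mem_der_conj (n := g⁻¹) h2
  have e : g⁻¹ * x * g⁻¹⁻¹ = t := by rw [← h]; group
  rw [e] at h3
  exact F.tK (F.der_le h3)

/-! ### `T` and `A*` -/

theorem mem_T (F : Fr t K A S a) {x : G} : x ∈ dbl t S ↔ x ∈ S ∨ t * x ∈ S := mem_dbl F.tt F.comS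

theorem mem_AA (F : Fr t K A S a) {x : G} : x ∈ dbl t A ↔ x ∈ A ∨ t * x ∈ A := mem_dbl F.tt F.comA

theorem et (F : Fr t K A S a) (x : G) : t * (t * x) = x := by rw [← mul_assoc, F.tt, one_mul]

theorem pT (F : Fr t K A S a) : IsPGroup 2 (dbl t S) := by
  have h1 : IsPGroup 2 (zpowers t) := by
    rintro ⟨x, hx⟩
    obtain ⟨i, rfl⟩ := mem_zpowers_iff.1 hx
    refine ⟨1, Subtype.ext ?_⟩
    show (t ^ i) ^ (2 ^ 1) = 1
    have h2 : t ^ (2 : ℤ) = 1 := by
      rw [show (2 : ℤ) = 1 + 1 by norm_num, zpow_add, zpow_one, F.tt]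
    rw [pow_one, pow_two, ← zpow_add, ← two_mul, zpow_mul, h2, one_zpow]
  apply F.pS.to_sup_of_normal_left' h1
  rw [zpowers_le, mem_normalizer_iff]
  intro x
  constructor
  · intro hx
    have : t * x * t⁻¹ = x := by rw [← F.comS x hx, mul_assoc, mul_inv_cancel, mul_one]
    rw [this]; exact hx
  · intro hx
    have h2 := F.comS _ hx
    have : x = t * x * t⁻¹ := by
      have h3 : t * x = t * (t * x * t⁻¹) := by rw [← h2]; group
      exact mul_left_cancel h3
    rw [this]; exact hx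

theorem cardT [Finite G] (F : Fr t K A S a) : Nat.card (dbl t S) = 2 ^ 19 := by
  rw [card_dbl F.tt F.comS F.tS, F.cardS]; norm_num

theorem cardAA [Finite G] (F : Fr t K A S a) : Nat.card (dbl t A) = 2 ^ 12 := by
  rw [card_dbl F.tt F.comA F.tA, F.cardA]; norm_num

theorem AA_sq (F : Fr t K A S a) {x : G} (hx : x ∈ dbl t A) : x * x = 1 := by
  have h1 := dbl_comm F.tt F.comA hx
  rcases F.mem_AA.1 hx with h | h
  · exact F.sq x h
  · calc x * x = (t * t) * (x * x) := by rw [F.tt, one_mul]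
      _ = t * (t * x) * x := by group
      _ = t * (x * t) * x := by rw [h1]
      _ = (t * x) * (t * x) := by group
      _ = 1 := F.sq _ h

theorem AA_inv (F : Fr t K A S a) {x : G} (hx : x ∈ dbl t A) : x⁻¹ = x :=
  inv_eq_of_mul_eq_one_left (F.AA_sq hx)

theorem AA_comm (F : Fr t K A S a) {x y : G} (hx : x ∈ dbl t A) (hy : y ∈ dbl t A) : x * y = y * x := by
  have h := F.AA_inv ((dbl t A).mul_mem hx hy)
  rw [mul_inv_rev, F.AA_inv hx, F.AA_inv hy] at h
  exact h.symm

/-- projection of a subgroup of `⟨t⟩ × K` to `K` -/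
def proj (t : G) (B : Subgroup G) : Subgroup G := dbl t B

/-- the projection to `K` -/
theorem exists_proj [Finite G] (F : Fr t K A S a) {B : Subgroup G} (hB : ∀ x ∈ B, x * t = t * x) :
    ∃ B' : Subgroup G, B' ≤ K ∧ (∀ x, x ∈ B' ↔ x ∈ K ∧ (x ∈ B ∨ t * x ∈ B)) ∧ B ≤ dbl t B' ∧
      Nat.card B ≤ 2 * Nat.card B' ∧ (IsPGroup 2 B → IsPGroup 2 B') := by
  have hB' : ∀ x, x ∈ dbl t B ↔ x ∈ B ∨ t * x ∈ B := fun x => mem_dbl F.tt hB
  have hm : ∀ x, x ∈ K ⊓ dbl t B ↔ x ∈ K ∧ (x ∈ B ∨ t * x ∈ B) := fun x => by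
    rw [mem_inf, hB']
  have hcK : ∀ k ∈ K ⊓ dbl t B, k * t = t * k := fun k hk => F.com k hk.1
  have hle : B ≤ dbl t (K ⊓ dbl t B) := by
    intro x hx
    rw [mem_dbl F.tt hcK]
    rcases F.cent x (hB x hx) with h | h
    · exact Or.inl ⟨h, le_dbl t B hx⟩
    · right
      refine ⟨h, (hB' _).2 (Or.inr ?_)⟩
      rw [F.et]; exact hx
  refine ⟨K ⊓ dbl t B, inf_le_left, hm, hle, ?_, ?_⟩
  · rw [← card_dbl F.tt hcK (fun h => F.tK h.1)]
    exact Nat.card_le_card_of_injective _ (inclusion_injective hle)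
  · intro hp
    rintro ⟨x, hxK, hx⟩
    have key : ∀ y ∈ B, ∃ k : ℕ, y ^ 2 ^ k = 1 := by
      intro y hy
      obtain ⟨k, hk⟩ := hp ⟨y, hy⟩
      exact ⟨k, congrArg Subtype.val hk⟩
    rcases (hB' x).1 hx with h | h
    · obtain ⟨k, hk⟩ := key x h
      exact ⟨k, Subtype.ext hk⟩
    · obtain ⟨k, hk⟩ := key _ h
      have hc : Commute t x := (F.com x hxK).symm
      refine ⟨k + 1, Subtype.ext ?_⟩
      show x ^ 2 ^ (k + 1) = 1
      rw [hc.mul_pow] at hk
      have h2 : (t ^ 2 ^ k) ^ 2 = 1 := by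
        rw [← pow_mul, mul_comm, pow_mul, pow_two, F.tt, one_pow]
      calc x ^ 2 ^ (k + 1) = (t ^ 2 ^ k) ^ 2 * (x ^ 2 ^ k) ^ 2 := by rw [h2, one_mul, pow_succ, pow_mul]
        _ = (t ^ 2 ^ k * x ^ 2 ^ k) ^ 2 := by
            rw [Commute.mul_pow (hc.pow_pow _ _)]
        _ = 1 := by rw [hk, one_pow]

/-- every 2-subgroup of `C(t)` is conjugate in `K` to a subgroup of `T` -/
theorem sylT [Finite G] (F : Fr t K A S a) {P : Subgroup G} (hp : IsPGroup 2 P)
    (hP : ∀ x ∈ P, x * t = t * x) : ∃ k ∈ K, ∀ x ∈ P, k * x * k⁻¹ ∈ dbl t S := by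
  obtain ⟨P', hPK, hm, hle, -, hp'⟩ := F.exists_proj hP
  obtain ⟨k, hk, hkS⟩ := F.sylow P' hPK (hp' hp)
  refine ⟨k, hk, fun x hx => ?_⟩
  rw [F.mem_T]
  rcases (mem_dbl F.tt (fun y hy => F.com y (hPK hy))).1 (hle hx) with h | h
  · exact Or.inl (hkS x h)
  · right
    have h1 := hkS _ h
    have h2 : t * (k * x * k⁻¹) = k * (t * x) * k⁻¹ := by
      calc t * (k * x * k⁻¹) = (t * k) * x * k⁻¹ := by group
        _ = (k * t) * x * k⁻¹ := by rw [F.com k hk]
        _ = k * (t * x) * k⁻¹ := by group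
    rw [h2]; exact h1

theorem card_le [Finite G] (F : Fr t K A S a) {P : Subgroup G} (hp : IsPGroup 2 P)
    (hP : ∀ x ∈ P, x * t = t * x) : Nat.card P ≤ Nat.card (dbl t S) := by
  obtain ⟨k, -, hk⟩ := F.sylT hp hP
  have h1 : P.map (MulAut.conj k).toMonoidHom ≤ dbl t S := by
    rintro _ ⟨x, hx, rfl⟩
    exact hk x hx
  rw [Nat.card_congr (P.equivMapOfInjective (MulAut.conj k).toMonoidHom (MulAut.conj k).injective).toEquiv]
  exact Nat.card_le_card_of_injective _ (inclusion_injective h1)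

theorem maxT [Finite G] (F : Fr t K A S a) {P : Subgroup G} (hp : IsPGroup 2 P)
    (hP : ∀ x ∈ P, x * t = t * x) (h : dbl t S ≤ P) : P = dbl t S :=
  (Subgroup.eq_of_le_of_card_ge h (F.card_le hp hP)).symm

/-- `A*` is the only elementary abelian subgroup of order `2¹²` of `T` -/
theorem uniqT [Finite G] (F : Fr t K A S a) {B : Subgroup G} (hB : B ≤ dbl t S)
    (hsq : ∀ x ∈ B, x * x = 1) (hc : 2 ^ 12 ≤ Nat.card B) : B = dbl t A := by
  have hBt : ∀ x ∈ B, x * t = t * x := fun x hx => dbl_comm F.tt F.comS (hB hx)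
  obtain ⟨B', hBK, hm, hle, hcard, -⟩ := F.exists_proj hBt
  have hBS : B' ≤ S := by
    intro x hx
    obtain ⟨hxK, h | h⟩ := (hm x).1 hx
    · rcases F.mem_T.1 (hB h) with h1 | h1
      · exact h1
      · exfalso
        apply F.tK
        have : t = t * x * x⁻¹ := by group
        rw [this]
        exact K.mul_mem (F.SK h1) (K.inv_mem hxK)
    · rcases F.mem_T.1 (hB h) with h1 | h1
      · exfalso
        apply F.tK
        have : t = t * x * x⁻¹ := by group
        rw [this]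
        exact K.mul_mem (F.SK h1) (K.inv_mem hxK)
      · rw [F.et] at h1; exact h1
  have hsq' : ∀ x ∈ B', x * x = 1 := by
    intro x hx
    obtain ⟨hxK, h | h⟩ := (hm x).1 hx
    · exact hsq x h
    · have h1 := hsq _ h
      have h2 := F.com x hxK
      calc x * x = (t * t) * (x * x) := by rw [F.tt, one_mul]
        _ = t * (t * x) * x := by group
        _ = t * (x * t) * x := by rw [h2]
        _ = (t * x) * (t * x) := by group
        _ = 1 := h1
  have h1 : B' = A := F.uniq B' hBS hsq' (by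
    have : 2 ^ 12 = 2 * 2 ^ 11 := by norm_num
    omega)
  rw [h1] at hle
  exact Subgroup.eq_of_le_of_card_ge hle (by rw [F.cardAA]; exact hc)

/-- `N_G(T) ≤ N_G(A*)` -/
theorem norm_le [Finite G] (F : Fr t K A S a) {y : G} (hy : y ∈ normalizer ((dbl t S : Subgroup G) : Set G)) :
    y ∈ normalizer ((dbl t A : Subgroup G) : Set G) := by
  have h1 : (dbl t A).map (MulAut.conj y).toMonoidHom = dbl t A := by
    apply F.uniqT
    · rintro _ ⟨x, hx, rfl⟩
      exact (mem_normalizer_iff.1 hy x).1 (dbl_mono F.AS hx)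
    · rintro _ ⟨x, hx, rfl⟩
      show y * x * y⁻¹ * (y * x * y⁻¹) = 1
      calc y * x * y⁻¹ * (y * x * y⁻¹) = y * (x * x) * y⁻¹ := by group
        _ = 1 := by rw [F.AA_sq hx]; group
    · rw [← F.cardAA]
      exact (Nat.card_congr ((dbl t A).equivMapOfInjective _ (MulAut.conj y).injective).toEquiv).le
  rw [mem_normalizer_iff]
  intro x
  constructor
  · intro hx
    rw [← h1]
    exact ⟨x, hx, rfl⟩
  · intro hx
    rw [← h1] at hx
    obtain ⟨z, hz, hzx⟩ := hx
    have : z = x := mul_left_cancel (mul_right_cancel (hzx : y * z * y⁻¹ = y * x * y⁻¹))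
    rwa [← this]

end Fr

end Cfsg.Agent.OddHalf.D8.Fi23

end

-- merged: Cfsg.Agent.OddHalf.D8.Fi23.Orb
section

/-!
# Orbits of conjugation (helper907)
-/

set_option autoImplicit false
set_option linter.style.haveILetI false

namespace Cfsg.Agent.OddHalf.D8.Fi23

open Subgroup

variable {G : Type*} [Group G]

/-- the `N`-conjugates of `x` -/
def orb (N : Subgroup G) (x : G) : Set G := {y | ∃ n ∈ N, n * x * n⁻¹ = y}

theorem self_mem_orb (N : Subgroup G) (x : G) : x ∈ orb N x := ⟨1, N.one_mem, by group⟩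

theorem orb_conj {N : Subgroup G} {x y n : G} (hy : y ∈ orb N x) (hn : n ∈ N) : n * y * n⁻¹ ∈ orb N x := by
  obtain ⟨m, hm, rfl⟩ := hy
  exact ⟨n * m, N.mul_mem hn hm, by group⟩

/-- the conjugation action of a subgroup -/
@[reducible] def cact (N : Subgroup G) : MulAction N G where
  smul n x := (n : G) * x * (n : G)⁻¹
  one_smul x := by show ((1 : N) : G) * x * ((1 : N) : G)⁻¹ = x; simp
  mul_smul m n x := by
    show ((m * n : N) : G) * x * ((m * n : N) : G)⁻¹ = (m : G) * ((n : G) * x * (n : G)⁻¹) * (m : G)⁻¹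
    rw [Subgroup.coe_mul]; group

theorem orb_card [Finite G] (N : Subgroup G) (x : G) :
    (orb N x).ncard * Nat.card ↥(N ⊓ centralizer ({x} : Set G)) = Nat.card N := by
  letI := cact N
  have h1 : (orb N x).ncard = Nat.card (MulAction.orbit N x) := by
    have : (MulAction.orbit N x : Set G) = orb N x := by
      ext y
      constructor
      · rintro ⟨n, rfl⟩
        exact ⟨n, n.2, rfl⟩
      · rintro ⟨n, hn, rfl⟩
        exact ⟨⟨n, hn⟩, rfl⟩
    rw [← this]; rfl
  have h2 : Nat.card ↥(N ⊓ centralizer ({x} : Set G)) = Nat.card (MulAction.stabilizer N x) := by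
    refine Nat.card_congr
      { toFun := fun y => ⟨⟨y, y.2.1⟩, ?_⟩
        invFun := fun y => ⟨y, y.1.2, ?_⟩
        left_inv := fun y => rfl
        right_inv := fun y => rfl }
    · show (y : G) * x * (y : G)⁻¹ = x
      rw [mem_centralizer_singleton_iff.1 y.2.2, mul_inv_cancel_right]
    · have h3 : (y : G) * x * (y : G)⁻¹ = x := y.2
      exact mem_centralizer_singleton_iff.2 (mul_inv_eq_iff_eq_mul.1 h3)
  rw [h1, h2, Nat.card_congr (MulAction.orbitEquivQuotientStabilizer N x),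
    ← Subgroup.card_eq_card_quotient_mul_card_subgroup]

end Cfsg.Agent.OddHalf.D8.Fi23

end

-- merged: Cfsg.Agent.OddHalf.D8.Fi23.Points
section

/-!
# The 24 conjugates of `t` in `A*` (helper907)

`N = N_G(A*)`. If the conjugates of `t` under `C_G(a i)` are among `t`, `t a_i` and `N_G(T)` moves `t`, then
`t^N = {t, t a_0, …, t a_22}`.
-/

set_option autoImplicit false

namespace Cfsg.Agent.OddHalf.D8.Fi23

open Subgroup Cfsg

namespace Fr

variable {G : Type*} [Group G] {t : G} {K A S : Subgroup G} {a : Fin 23 → G}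

/-- `N_G(A*)` -/
def NN (_ : Fr t K A S a) : Subgroup G := normalizer ((dbl t A : Subgroup G) : Set G)

theorem mem_NN (F : Fr t K A S a) {n : G} : n ∈ F.NN ↔ ∀ x, x ∈ dbl t A ↔ n * x * n⁻¹ ∈ dbl t A :=
  mem_normalizer_iff

theorem AA_K (F : Fr t K A S a) {x : G} (hx : x ∈ dbl t A) (hK : x ∈ K) : x ∈ A := by
  rcases F.mem_AA.1 hx with h | h
  · exact h
  · exfalso
    apply F.tK
    have : t = t * x * x⁻¹ := by group
    rw [this]
    exact K.mul_mem (F.AK h) (K.inv_mem hK)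

/-- `N ∩ K = N_K(A)` -/
theorem mem_NN_of_K (F : Fr t K A S a) {n : G} (hn : n ∈ K) :
    n ∈ F.NN ↔ n ∈ normalizer (A : Set G) := by
  have hnt : n * t * n⁻¹ = t := by rw [F.com n hn, mul_inv_cancel_right]
  constructor
  · intro h
    rw [mem_normalizer_iff]
    intro x
    constructor
    · intro hx
      exact F.AA_K ((F.mem_NN.1 h x).1 (le_dbl t A hx)) (K.mul_mem (K.mul_mem hn (F.AK hx)) (K.inv_mem hn))
    · intro hx
      refine F.AA_K ((F.mem_NN.1 h x).2 (le_dbl t A hx)) ?_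
      have e : x = n⁻¹ * (n * x * n⁻¹) * n := by group
      rw [e]
      exact K.mul_mem (K.mul_mem (K.inv_mem hn) (F.AK hx)) hn
  · intro h
    rw [F.mem_NN]
    intro x
    have e : t * (n * x * n⁻¹) = n * (t * x) * n⁻¹ := by
      calc t * (n * x * n⁻¹) = (t * n) * x * n⁻¹ := by group
        _ = (n * t) * x * n⁻¹ := by rw [F.com n hn]
        _ = n * (t * x) * n⁻¹ := by group
    rw [F.mem_AA, F.mem_AA, e]
    exact or_congr (mem_normalizer_iff.1 h x) (mem_normalizer_iff.1 h _)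

theorem t_mem_NN (F : Fr t K A S a) : t ∈ F.NN := by
  rw [F.mem_NN]
  intro x
  constructor
  · intro hx
    have : t * x * t⁻¹ = x := by rw [← dbl_comm F.tt F.comA hx, mul_inv_cancel_right]
    rw [this]; exact hx
  · intro hx
    have h1 := dbl_comm F.tt F.comA hx
    have : x = t * x * t⁻¹ := by
      have h3 : t * x = t * (t * x * t⁻¹) := by rw [← h1]; group
      exact mul_left_cancel h3
    rw [this]; exact hx

/-- `C_N(t) = ⟨t⟩ × N_K(A)` -/
theorem NN_cent (F : Fr t K A S a) : F.NN ⊓ centralizer ({t} : Set G) =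
    dbl t (K ⊓ normalizer (A : Set G)) := by
  have hc : ∀ x ∈ K ⊓ normalizer (A : Set G), x * t = t * x := fun x hx => F.com x hx.1
  ext x
  rw [mem_inf, mem_centralizer_singleton_iff, mem_dbl F.tt hc]
  constructor
  · rintro ⟨h1, h2⟩
    rcases F.cent x h2 with h | h
    · exact Or.inl ⟨h, (F.mem_NN_of_K h).1 h1⟩
    · exact Or.inr ⟨h, (F.mem_NN_of_K h).1 (F.NN.mul_mem F.t_mem_NN h1)⟩
  · rintro (h | h)
    · exact ⟨(F.mem_NN_of_K h.1).2 h.2, F.com x h.1⟩
    · have h1 := (F.mem_NN_of_K h.1).2 h.2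
      have h2 := F.com _ h.1
      refine ⟨?_, ?_⟩
      · have := F.NN.mul_mem F.t_mem_NN h1
        rwa [F.et] at this
      · have h3 : t * (x * t) = t * (t * x) := by rw [← mul_assoc]; exact h2
        exact mul_left_cancel h3

theorem card_NN_cent [Finite G] (F : Fr t K A S a) :
    Nat.card ↥(F.NN ⊓ centralizer ({t} : Set G)) = 2 ^ 12 * 10200960 := by
  have hc : ∀ x ∈ K ⊓ normalizer (A : Set G), x * t = t * x := fun x hx => F.com x hx.1
  have hn : t ∉ K ⊓ normalizer (A : Set G) := fun h => F.tK h.1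
  rw [F.NN_cent, card_dbl F.tt hc hn, F.cardN]
  norm_num

/-- conjugates of `t` in `A*` -/
theorem conj_AA (F : Fr t K A S a) {g : G} (h : g * t * g⁻¹ ∈ dbl t A) : t * (g * t * g⁻¹) ∈ A := by
  rcases F.mem_AA.1 h with h1 | h1
  · exact absurd rfl (F.not_conj (F.AK h1) g)
  · exact h1

theorem orb_sub (F : Fr t K A S a) {x : G} (hx : x ∈ orb F.NN t) : x ∈ dbl t A ∧ t * x ∈ A := by
  obtain ⟨n, hn, rfl⟩ := hx
  have h := (F.mem_NN.1 hn t).1 (t_mem_dbl t A)
  exact ⟨h, F.conj_AA h⟩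

/-- `N_K(A)`-stability of `t * P k` -/
theorem P_stable (F : Fr t K A S a) {k : ℕ} (hk : k ≤ 3) {x y : G} (hx : x ∈ F.P k) (hy : y ∈ F.P k)
    (h : t * x ∈ orb F.NN t) : t * y ∈ orb F.NN t := by
  have key : ∀ n ∈ K, n ∈ normalizer (A : Set G) → n * x * n⁻¹ = y → t * y ∈ orb F.NN t := by
    intro n hn hN e
    have h1 := orb_conj h ((F.mem_NN_of_K hn).2 hN)
    have e2 : n * (t * x) * n⁻¹ = t * y := by
      rw [← e]
      calc n * (t * x) * n⁻¹ = (n * t) * x * n⁻¹ := by group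
        _ = (t * n) * x * n⁻¹ := by rw [F.com n hn]
        _ = t * (n * x * n⁻¹) := by group
    rwa [e2] at h1
  have hk' : k = 0 ∨ k = 1 ∨ k = 2 ∨ k = 3 := by omega
  rcases hk' with rfl | rfl | rfl | rfl
  · rw [F.mem_P_zero.1 hy]; rw [F.mem_P_zero.1 hx] at h; exact h
  · obtain ⟨i, rfl⟩ := F.mem_P_one.1 hx
    obtain ⟨j, rfl⟩ := F.mem_P_one.1 hy
    obtain ⟨n, hn, hN, e⟩ := F.one i j
    exact key n hn hN e
  · obtain ⟨i, j, hij, rfl⟩ := F.mem_P_two.1 hx
    obtain ⟨i', j', hij', rfl⟩ := F.mem_P_two.1 hy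
    obtain ⟨n, hn, hN, e1, e2⟩ := F.two hij hij'
    exact key n hn hN (by rw [← e1, ← e2]; group)
  · obtain ⟨i, j, l, h1, h2, h3, rfl⟩ := F.mem_P_three.1 hx
    obtain ⟨i', j', l', h4, h5, h6, rfl⟩ := F.mem_P_three.1 hy
    obtain ⟨n, hn, hN, e1, e2, e3⟩ := F.three i j l i' j' l' h1 h2 h3 h4 h5 h6
    exact key n hn hN (by rw [← e1, ← e2, ← e3]; group)

/-- the part of `t^N` in `t * P k` -/
def part (F : Fr t K A S a) (k : ℕ) : Set G := {x | x ∈ F.P k ∧ t * x ∈ orb F.NN t}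

theorem pair_le (x y : G) : ({x, y} : Set G).ncard ≤ 2 := by
  calc ({x, y} : Set G).ncard ≤ ({y} : Set G).ncard + 1 := Set.ncard_insert_le _ _
    _ = 2 := by rw [Set.ncard_singleton]

theorem part_card [Finite G] (F : Fr t K A S a) {k : ℕ} (hk : k ≤ 3) :
    (F.part k).ncard = 0 ∧ (∀ x ∈ F.P k, t * x ∉ orb F.NN t) ∨
      (F.part k).ncard = Nat.choose 23 k ∧ ∀ x ∈ F.P k, t * x ∈ orb F.NN t := by
  by_cases h : ∃ x ∈ F.P k, t * x ∈ orb F.NN t
  · right
    obtain ⟨x, hx, hx'⟩ := h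
    have h1 : ∀ y ∈ F.P k, t * y ∈ orb F.NN t := fun y hy => F.P_stable hk hx hy hx'
    refine ⟨?_, h1⟩
    have : F.part k = F.P k := by
      ext y
      exact ⟨fun hy => hy.1, fun hy => ⟨hy, h1 y hy⟩⟩
    rw [this, F.ncard_P hk]
  · left
    push Not at h
    refine ⟨?_, h⟩
    have : F.part k = ∅ := by
      rw [Set.eq_empty_iff_forall_notMem]
      rintro y ⟨h1, h2⟩
      exact h y h1 h2
    rw [this, Set.ncard_empty]

theorem orb_ncard [Finite G] (F : Fr t K A S a) :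
    (orb F.NN t).ncard = (F.part 0).ncard + (F.part 1).ncard + (F.part 2).ncard + (F.part 3).ncard := by
  have h1 : orb F.NN t = (fun x => t * x) '' (F.part 0 ∪ F.part 1 ∪ F.part 2 ∪ F.part 3) := by
    ext x
    constructor
    · intro hx
      obtain ⟨-, h2⟩ := F.orb_sub hx
      have h3 : t * (t * x) ∈ orb F.NN t := by rw [F.et]; exact hx
      refine ⟨t * x, ?_, F.et x⟩
      rcases F.mem_P_of_mem h2 with h | h | h | h
      · exact Or.inl (Or.inl (Or.inl ⟨h, h3⟩))
      · exact Or.inl (Or.inl (Or.inr ⟨h, h3⟩))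
      · exact Or.inl (Or.inr ⟨h, h3⟩)
      · exact Or.inr ⟨h, h3⟩
    · rintro ⟨y, ((hy | hy) | hy) | hy, rfl⟩ <;> exact hy.2
  have hd : ∀ k l, k ≤ 3 → l ≤ 3 → k ≠ l → Disjoint (F.part k) (F.part l) := by
    intro k l hk hl hkl
    exact Disjoint.mono (fun x hx => hx.1) (fun x hx => hx.1) (F.disj_P hk hl hkl)
  rw [h1, Set.ncard_image_of_injective _ (mul_right_injective t),
    Set.ncard_union_eq _ (Set.toFinite _) (Set.toFinite _),
    Set.ncard_union_eq _ (Set.toFinite _) (Set.toFinite _),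
    Set.ncard_union_eq _ (Set.toFinite _) (Set.toFinite _)]
  · exact hd 0 1 (by norm_num) (by norm_num) (by norm_num)
  · rw [Set.disjoint_union_left]
    exact ⟨hd 0 2 (by norm_num) (by norm_num) (by norm_num), hd 1 2 (by norm_num) (by norm_num) (by norm_num)⟩
  · rw [Set.disjoint_union_left, Set.disjoint_union_left]
    exact ⟨⟨hd 0 3 (by norm_num) (by norm_num) (by norm_num), hd 1 3 (by norm_num) (by norm_num) (by norm_num)⟩,
      hd 2 3 (by norm_num) (by norm_num) (by norm_num)⟩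

/-- the count `23 |t^N| = k |a^N|`, `k ∈ {1, 2}` -/
theorem count [Finite G] (F : Fr t K A S a)
    (h3 : ∀ x, x * a 0 = a 0 * x → x * t * x⁻¹ = t ∨ x * t * x⁻¹ = t * a 0) :
    ∃ k l : ℕ, 23 * (orb F.NN t).ncard = k * l ∧ l ≤ 4095 ∧
      (k = 1 ∨ (k = 2 ∧ t * a 0 ∈ orb F.NN t)) := by
  have e1 := orb_card F.NN t
  have e2 := orb_card F.NN (a 0)
  have e3 := orb_card (F.NN ⊓ centralizer ({a 0} : Set G)) t
  have e4 := orb_card (F.NN ⊓ centralizer ({t} : Set G)) (a 0)
  have e5 : F.NN ⊓ centralizer ({a 0} : Set G) ⊓ centralizer ({t} : Set G) =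
      F.NN ⊓ centralizer ({t} : Set G) ⊓ centralizer ({a 0} : Set G) := by
    rw [inf_assoc, inf_assoc, inf_comm (centralizer ({a 0} : Set G))]
  rw [e5] at e3
  -- the orbit of `a 0` under `C_N(t)`
  have h4 : orb (F.NN ⊓ centralizer ({t} : Set G)) (a 0) = F.P 1 := by
    ext y
    rw [F.mem_P_one]
    constructor
    · have hc : ∀ x ∈ K ⊓ normalizer (A : Set G), x * t = t * x := fun x hx => F.com x hx.1
      rintro ⟨n, hn, rfl⟩
      rw [F.NN_cent, mem_dbl F.tt hc] at hn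
      rcases hn with hn | hn
      · exact F.perm n hn.1 hn.2 0
      · obtain ⟨j, hj⟩ := F.perm _ hn.1 hn.2 0
        refine ⟨j, ?_⟩
        have hj' := F.com _ (F.aK j)
        calc n * a 0 * n⁻¹ = t⁻¹ * ((t * n) * a 0 * (t * n)⁻¹) * t := by group
          _ = t⁻¹ * (a j * t) := by rw [hj, mul_assoc]
          _ = a j := by rw [hj']; group
    · rintro ⟨j, rfl⟩
      obtain ⟨n, hn, hN, e⟩ := F.one 0 j
      exact ⟨n, ⟨(F.mem_NN_of_K hn).2 hN, mem_centralizer_singleton_iff.2 (F.com n hn)⟩, e⟩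
  rw [h4, F.ncard_P (by norm_num), Nat.choose_one_right] at e4
  -- the orbit of `t` under `C_N(a 0)`
  set O := orb (F.NN ⊓ centralizer ({a 0} : Set G)) t with hO
  have hta : t * a 0 ≠ t := fun h => F.a_ne_one 0 (mul_eq_left.1 h)
  have hsub : O ⊆ {t, t * a 0} := by
    rintro _ ⟨n, hn, rfl⟩
    exact h3 n (mem_centralizer_singleton_iff.1 hn.2)
  have hO2 : O.ncard ≤ 2 := by
    calc O.ncard ≤ ({t, t * a 0} : Set G).ncard := Set.ncard_le_ncard hsub (Set.toFinite _)
      _ ≤ 2 := pair_le _ _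
  have hO1 : 1 ≤ O.ncard := by
    rw [Nat.one_le_iff_ne_zero, Ne, Set.ncard_eq_zero (Set.toFinite _)]
    exact Set.nonempty_iff_ne_empty.1 ⟨t, self_mem_orb _ _⟩
  -- the orbit of `a 0` under `N`
  have hl : (orb F.NN (a 0)).ncard ≤ 4095 := by
    have hs : orb F.NN (a 0) ⊆ (dbl t A : Set G) \ {1} := by
      rintro _ ⟨n, hn, rfl⟩
      refine ⟨(F.mem_NN.1 hn (a 0)).1 (le_dbl t A (F.mem 0)), ?_⟩
      intro h
      have h : n * a 0 * n⁻¹ = 1 := h
      rw [mul_inv_eq_one] at h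
      exact F.a_ne_one 0 (mul_eq_left.1 h)
    have h5 : ((dbl t A : Set G) \ {1}).ncard = 4095 := by
      have h6 : (dbl t A : Set G).ncard = 2 ^ 12 := F.cardAA
      rw [Set.ncard_sdiff_singleton_of_mem (dbl t A).one_mem, h6]
      norm_num
    rw [← h5]
    exact Set.ncard_le_ncard hs (Set.toFinite _)
  set m := Nat.card ↥(F.NN ⊓ centralizer ({t} : Set G) ⊓ centralizer ({a 0} : Set G)) with hm
  have hm0 : 0 < m := Nat.card_pos
  refine ⟨O.ncard, (orb F.NN (a 0)).ncard, ?_, hl, ?_⟩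
  · apply Nat.eq_of_mul_eq_mul_right hm0
    calc 23 * (orb F.NN t).ncard * m = (orb F.NN t).ncard * (23 * m) := by ring
      _ = Nat.card F.NN := by rw [e4, e1]
      _ = (orb F.NN (a 0)).ncard * (O.ncard * m) := by rw [e3, e2]
      _ = O.ncard * (orb F.NN (a 0)).ncard * m := by ring
  · have : O.ncard = 1 ∨ O.ncard = 2 := by omega
    rcases this with h | h
    · exact Or.inl h
    · right
      refine ⟨h, ?_⟩
      have h6 : ({t, t * a 0} : Set G) ⊆ O := by
        rw [Set.eq_of_subset_of_ncard_le hsub (by rw [h]; exact pair_le _ _) (Set.toFinite _)]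
      obtain ⟨n, hn, e⟩ := h6 (Set.mem_insert_of_mem _ rfl)
      exact ⟨n, hn.1, e⟩

/-- **the 24 points** -/
theorem points [Finite G] (F : Fr t K A S a)
    (h3 : ∀ x, x * a 0 = a 0 * x → x * t * x⁻¹ = t ∨ x * t * x⁻¹ = t * a 0)
    (hy : ∃ y ∈ F.NN, y * t * y⁻¹ ≠ t) :
    (∀ x, x ∈ orb F.NN t ↔ x = t ∨ ∃ i, x = t * a i) ∧ (orb F.NN t).ncard = 24 := by
  obtain ⟨k, l, e, hl, hk⟩ := F.count h3
  have hsum := F.orb_ncard
  have h0 : (F.part 0).ncard = 1 := by
    rcases F.part_card (k := 0) (by norm_num) with ⟨-, h⟩ | ⟨h, -⟩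
    · exfalso
      apply h 1 (F.mem_P_zero.2 rfl)
      rw [mul_one]; exact self_mem_orb _ _
    · rw [h]; rfl
  have hne : (orb F.NN t).ncard ≠ 1 := by
    intro h
    rw [Set.ncard_eq_one] at h
    obtain ⟨x, hx⟩ := h
    obtain ⟨y, hy, hyt⟩ := hy
    have h1 : t ∈ orb F.NN t := self_mem_orb _ _
    have h2 : y * t * y⁻¹ ∈ orb F.NN t := ⟨y, hy, rfl⟩
    rw [hx, Set.mem_singleton_iff] at h1 h2
    exact hyt (h2.trans h1.symm)
  have c2 : Nat.choose 23 2 = 253 := by decide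
  have c3 : Nat.choose 23 3 = 1771 := by decide
  have c1 : Nat.choose 23 1 = 23 := by decide
  have p1 := F.part_card (k := 1) (by norm_num)
  have p2 := F.part_card (k := 2) (by norm_num)
  have p3 := F.part_card (k := 3) (by norm_num)
  rw [c1] at p1
  rw [c2] at p2
  rw [c3] at p3
  have hk1 : k = 2 → (F.part 1).ncard = 23 := by
    intro hk2
    rcases p1 with ⟨-, h⟩ | ⟨h, -⟩
    · exfalso
      apply h (a 0) (F.mem_P_one.2 ⟨0, rfl⟩)
      rcases hk with h' | h'
      · omega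
      · exact h'.2
    · exact h
  have hk' : k = 1 ∨ k = 2 := hk.imp id And.left
  have n1 : (F.part 1).ncard = 0 ∨ (F.part 1).ncard = 23 := p1.imp And.left And.left
  have n2 : (F.part 2).ncard = 0 ∨ (F.part 2).ncard = 253 := p2.imp And.left And.left
  have n3 : (F.part 3).ncard = 0 ∨ (F.part 3).ncard = 1771 := p3.imp And.left And.left
  have hconc : (F.part 1).ncard = 23 ∧ (F.part 2).ncard = 0 ∧ (F.part 3).ncard = 0 := by
    rcases hk' with rfl | rfl
    · rcases n1 with h1 | h1 <;> rcases n2 with h2 | h2 <;> rcases n3 with h3' | h3' <;> (clear * - F hsum h0 hne p1 p2 p3 hk hk1 h1 h2 h3' hl e; omega)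
    · have h1 := hk1 rfl
      rcases n2 with h2 | h2 <;> rcases n3 with h3' | h3' <;> (clear * - h1 h2 h3' hsum h0 e hl; omega)
  obtain ⟨q1, q2, q3⟩ := hconc
  have r1 : ∀ x ∈ F.P 1, t * x ∈ orb F.NN t := by
    rcases p1 with ⟨h, -⟩ | ⟨-, h⟩
    · omega
    · exact h
  have r2 : ∀ x ∈ F.P 2, t * x ∉ orb F.NN t := by
    rcases p2 with ⟨-, h⟩ | ⟨h, -⟩
    · exact h
    · omega
  have r3 : ∀ x ∈ F.P 3, t * x ∉ orb F.NN t := by
    rcases p3 with ⟨-, h⟩ | ⟨h, -⟩
    · exact h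
    · omega
  refine ⟨fun x => ⟨fun hx => ?_, ?_⟩, by omega⟩
  · obtain ⟨-, h2⟩ := F.orb_sub hx
    have hx' : t * (t * x) ∈ orb F.NN t := by rw [F.et]; exact hx
    rcases F.mem_P_of_mem h2 with h | h | h | h
    · left
      have := F.mem_P_zero.1 h
      calc x = t * (t * x) := (F.et x).symm
        _ = t := by rw [this, mul_one]
    · right
      obtain ⟨i, hi⟩ := F.mem_P_one.1 h
      exact ⟨i, by rw [← hi, F.et]⟩
    · exact absurd hx' (r2 _ h)
    · exact absurd hx' (r3 _ h)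
  · rintro (rfl | ⟨i, rfl⟩)
    · exact self_mem_orb _ _
    · exact r1 _ (F.mem_P_one.2 ⟨i, rfl⟩)

end Fr

end Cfsg.Agent.OddHalf.D8.Fi23

end

-- merged: Cfsg.Agent.OddHalf.D8.Fi23.Ext
section

/-!
# Gluing homomorphisms of point stabilizers (helper907)

`N` acts on `Ω`; `lam i` is multiplicative on the stabilizer of `i`, the family is equivariant and `lam i n = lam j n`
if `n` fixes `i` and `j`. If the stabilizers of points are 2-transitive on the other points and any four points miss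
another point, then there is one homomorphism `N →* A` extending all `lam i`.
-/

set_option autoImplicit false

namespace Cfsg.Agent.OddHalf.D8.Fi23.Ext

open MulAction

/-- the hypotheses -/
structure Fam (N Ω A : Type*) [Group N] [MulAction N Ω] [CommGroup A] (lam : Ω → N → A) : Prop where
  mul : ∀ (i : Ω) (m n : N), m • i = i → n • i = i → lam i (m * n) = lam i m * lam i n
  eqv : ∀ (g : N) (i : Ω) (n : N), n • i = i → lam (g • i) (g * n * g⁻¹) = lam i n
  coh : ∀ (i j : Ω) (n : N), n • i = i → n • j = j → lam i n = lam j n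
  tr1 : ∀ k i j : Ω, i ≠ k → j ≠ k → ∃ m : N, m • k = k ∧ m • i = j
  tr2 : ∀ k i i' j j' : Ω, i ≠ k → i' ≠ k → j ≠ k → j' ≠ k → i ≠ i' → j ≠ j' →
    ∃ m : N, m • k = k ∧ m • i = j ∧ m • i' = j'
  big : ∀ i i' j j' : Ω, ∃ k : Ω, k ≠ i ∧ k ≠ i' ∧ k ≠ j ∧ k ≠ j'

namespace Fam

variable {N Ω A : Type*} [Group N] [MulAction N Ω] [CommGroup A] {lam : Ω → N → A}

theorem one (F : Fam N Ω A lam) (i : Ω) : lam i 1 = 1 := by
  have h := F.mul i 1 1 (one_smul _ _) (one_smul _ _)
  rw [mul_one] at h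
  exact mul_eq_left.1 h.symm

theorem inv_smul_eq {m : N} {i j : Ω} (h : m • i = j) : m⁻¹ • j = i := by
  rw [← h, inv_smul_smul]

/-- the value through `(i, k, m)` -/
def V (lam : Ω → N → A) (n : N) (i k : Ω) (m : N) : A := lam k m * lam i (m⁻¹ * n)

/-- admissible triples -/
def Adm (n : N) (i k : Ω) (m : N) : Prop := k ≠ i ∧ k ≠ n • i ∧ m • k = k ∧ m • i = n • i

theorem fix_of_adm {n : N} {i k : Ω} {m : N} (h : Adm n i k m) : (m⁻¹ * n) • i = i := by
  rw [mul_smul, ← h.2.2.2, inv_smul_smul]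

theorem indep_m (F : Fam N Ω A lam) {n : N} {i k : Ω} {m m' : N} (h : Adm n i k m) (h' : Adm n i k m') :
    V lam n i k m = V lam n i k m' := by
  have hk : (m⁻¹ * m') • k = k := by rw [mul_smul, h'.2.2.1, inv_smul_eq h.2.2.1]
  have hi : (m⁻¹ * m') • i = i := by rw [mul_smul, h'.2.2.2, ← h.2.2.2, inv_smul_smul]
  have e1 : m' = m * (m⁻¹ * m') := by group
  have e2 : m⁻¹ * n = (m⁻¹ * m') * (m'⁻¹ * n) := by group
  have h1 : lam k m' = lam k m * lam k (m⁻¹ * m') := by
    conv_lhs => rw [e1]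
    exact F.mul k _ _ h.2.2.1 hk
  have h2 : lam i (m⁻¹ * n) = lam i (m⁻¹ * m') * lam i (m'⁻¹ * n) := by
    rw [e2]; exact F.mul i _ _ hi (fix_of_adm h')
  unfold V
  rw [h1, h2, F.coh k i _ hk hi, mul_assoc]

theorem indep_k (F : Fam N Ω A lam) {n : N} {i k k' : Ω} {m m' : N} (h : Adm n i k m)
    (h' : Adm n i k' m') : V lam n i k m = V lam n i k' m' := by
  by_cases hkk : k = k'
  · subst hkk; exact F.indep_m h h'
  obtain ⟨c, hc1, hc2, hc3⟩ := F.tr2 k k' i k' (n • i) (Ne.symm hkk) h.1.symm (Ne.symm hkk)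
    (Ne.symm h.2.1) h'.1 h'.2.1
  have a1 : Adm n i k c := ⟨h.1, h.2.1, hc1, hc3⟩
  have a2 : Adm n i k' c := ⟨h'.1, h'.2.1, hc2, hc3⟩
  rw [F.indep_m h a1, F.indep_m h' a2]
  unfold V
  rw [F.coh k k' c hc1 hc2]

theorem exists_adm (F : Fam N Ω A lam) (n : N) (i : Ω) : ∃ k m, Adm n i k m := by
  obtain ⟨k, h1, h2, -, -⟩ := F.big i (n • i) i i
  obtain ⟨m, h3, h4⟩ := F.tr1 k i (n • i) h1.symm h2.symm
  exact ⟨k, m, h1, h2, h3, h4⟩

theorem indep (F : Fam N Ω A lam) {n : N} {i i' k k' : Ω} {m m' : N} (h : Adm n i k m)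
    (h' : Adm n i' k' m') : V lam n i k m = V lam n i' k' m' := by
  by_cases hii : i = i'
  · subst hii; exact F.indep_k h h'
  obtain ⟨c, h1, h2, h3, h4⟩ := F.big i i' (n • i) (n • i')
  have hne : n • i ≠ n • i' := fun e => hii (smul_left_cancel n e)
  obtain ⟨x, hx1, hx2, hx3⟩ := F.tr2 c i i' (n • i) (n • i') h1.symm h2.symm h3.symm h4.symm hii hne
  have a1 : Adm n i c x := ⟨h1, h3, hx1, hx2⟩
  have a2 : Adm n i' c x := ⟨h2, h4, hx1, hx3⟩
  rw [F.indep_k h a1, F.indep_k h' a2]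
  unfold V
  rw [F.coh i i' _ (fix_of_adm a1) (fix_of_adm a2)]

/-- the extension, pointwise -/
theorem exists_fun (F : Fam N Ω A lam) [Nonempty Ω] :
    ∃ f : N → A, ∀ n i k m, Adm n i k m → f n = V lam n i k m := by
  obtain ⟨i0⟩ := ‹Nonempty Ω›
  choose k m h using fun n => F.exists_adm n i0
  exact ⟨fun n => V lam n i0 (k n) (m n), fun n i k' m' h' => F.indep (h n) h'⟩

/-- **the extension** -/
theorem exists_hom (F : Fam N Ω A lam) [Nonempty Ω] :
    ∃ f : N →* A, ∀ (i : Ω) (n : N), n • i = i → f n = lam i n := by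
  obtain ⟨f, hf⟩ := F.exists_fun
  have hfix : ∀ (i : Ω) (n : N), n • i = i → f n = lam i n := by
    intro i n hn
    obtain ⟨k, h1, -, -, -⟩ := F.big i i i i
    have a : Adm n i k (1 : N) := ⟨h1, by rw [hn]; exact h1, one_smul _ _, by rw [one_smul, hn]⟩
    rw [hf n i k 1 a]
    unfold V
    rw [F.one, one_mul, inv_one, one_mul]
  have hmul : ∀ n n' : N, f (n * n') = f n * f n' := by
    intro n n'
    obtain ⟨i⟩ := ‹Nonempty Ω›
    obtain ⟨k, h1, h2, h3, -⟩ := F.big i (n' • i) (n • n' • i) i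
    obtain ⟨m', hm1, hm2⟩ := F.tr1 k i (n' • i) h1.symm h2.symm
    obtain ⟨m, hm3, hm4⟩ := F.tr1 k (n' • i) (n • n' • i) h2.symm h3.symm
    have a1 : Adm n' i k m' := ⟨h1, h2, hm1, hm2⟩
    have a2 : Adm n (n' • i) k m := ⟨h2, h3, hm3, hm4⟩
    have a3 : Adm (n * n') i k (m * m') := by
      refine ⟨h1, ?_, ?_, ?_⟩
      · rw [mul_smul]; exact h3
      · rw [mul_smul, hm1, hm3]
      · rw [mul_smul, hm2, hm4, mul_smul]
    rw [hf _ _ _ _ a1, hf _ _ _ _ a2, hf _ _ _ _ a3]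
    unfold V
    have e : (m * m')⁻¹ * (n * n') = (m'⁻¹ * (m⁻¹ * n) * m'⁻¹⁻¹) * (m'⁻¹ * n') := by group
    have hx : (m⁻¹ * n) • (n' • i) = n' • i := fix_of_adm a2
    have hfix1 : (m'⁻¹ * (m⁻¹ * n) * m'⁻¹⁻¹) • i = i := by
      rw [mul_smul, mul_smul, inv_inv, hm2, hx, inv_smul_eq hm2]
    rw [e, F.mul i _ _ hfix1 (fix_of_adm a1), F.mul k _ _ hm3 hm1]
    have h5 := F.eqv m'⁻¹ (n' • i) (m⁻¹ * n) hx
    rw [inv_smul_eq hm2] at h5
    rw [h5]
    exact mul_mul_mul_comm _ _ _ _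
  refine ⟨{ toFun := f, map_one' := ?_, map_mul' := hmul }, hfix⟩
  have h := hmul 1 1
  rw [mul_one] at h
  exact mul_eq_left.1 h.symm

end Fam

end Cfsg.Agent.OddHalf.D8.Fi23.Ext

end

-- merged: Cfsg.Agent.OddHalf.D8.Fi23.Glue
section

/-!
# A homomorphism `N_G(A*) → {±1}` with value `-1` at `t` (helper907)

On `C(θ) = ⟨θ⟩ × K_θ` (`θ` a conjugate of `t`) there is the homomorphism with kernel `K_θ = C(θ)'`. They agree on
intersections, so they glue to `N = N_G(A*)`, which acts on the 24 conjugates of `t` in `A*`.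
-/

set_option autoImplicit false
set_option linter.style.haveILetI false

namespace Cfsg.Agent.OddHalf.D8.Fi23

open Subgroup Cfsg

section Sg

variable {G : Type*} [Group G]

open Classical in
/-- the sign on `C(θ)` -/
noncomputable def sg (θ n : G) : ℤˣ :=
  if n ∈ ⁅centralizer ({θ} : Set G), centralizer ({θ} : Set G)⁆ then 1 else -1

theorem sg_conj (θ n g : G) : sg (g * θ * g⁻¹) (g * n * g⁻¹) = sg θ n := by
  unfold sg
  have h : g * n * g⁻¹ ∈ ⁅centralizer ({g * θ * g⁻¹} : Set G), centralizer ({g * θ * g⁻¹} : Set G)⁆ ↔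
      n ∈ ⁅centralizer ({θ} : Set G), centralizer ({θ} : Set G)⁆ := by
    constructor
    · intro h
      have h1 := Fr.mem_der_conj (n := g⁻¹) h
      have e1 : g⁻¹ * (g * n * g⁻¹) * g⁻¹⁻¹ = n := by group
      have e2 : g⁻¹ * (g * θ * g⁻¹) * g⁻¹⁻¹ = θ := by group
      rw [e1, e2] at h1
      exact h1
    · intro h; exact Fr.mem_der_conj h
  by_cases hc : n ∈ ⁅centralizer ({θ} : Set G), centralizer ({θ} : Set G)⁆
  · rw [if_pos hc, if_pos (h.2 hc)]
  · rw [if_neg hc, if_neg (fun h' => hc (h.1 h'))]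

end Sg

namespace Fr

variable {G : Type*} [Group G] {t : G} {K A S : Subgroup G} {a : Fin 23 → G}

theorem sg_t (F : Fr t K A S a) (n : G) [Decidable (n ∈ K)] : sg t n = if n ∈ K then 1 else -1 := by
  unfold sg
  rw [F.der_eq]
  congr

theorem sg_mul (F : Fr t K A S a) {θ m n : G} (hθ : ∃ g : G, g * t * g⁻¹ = θ) (hm : m * θ = θ * m)
    (hn : n * θ = θ * n) : sg θ (m * n) = sg θ m * sg θ n := by
  classical
  -- reduce to `θ = t`
  have key : ∀ x y : G, x * t = t * x → y * t = t * y → sg t (x * y) = sg t x * sg t y := by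
    intro x y hx hy
    rw [F.sg_t, F.sg_t, F.sg_t]
    rcases F.cent x hx with h | h <;> rcases F.cent y hy with h' | h'
    · rw [if_pos h, if_pos h', if_pos (K.mul_mem h h'), one_mul]
    · have h1 : y ∉ K := fun hh => F.tK (by
        have : t = t * y * y⁻¹ := by group
        rw [this]; exact K.mul_mem h' (K.inv_mem hh))
      have h2 : x * y ∉ K := fun hh => h1 (by
        have : y = x⁻¹ * (x * y) := by group
        rw [this]; exact K.mul_mem (K.inv_mem h) hh)
      rw [if_pos h, if_neg h1, if_neg h2, one_mul]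
    · have h1 : x ∉ K := fun hh => F.tK (by
        have : t = t * x * x⁻¹ := by group
        rw [this]; exact K.mul_mem h (K.inv_mem hh))
      have h2 : x * y ∉ K := fun hh => h1 (by
        have : x = (x * y) * y⁻¹ := by group
        rw [this]; exact K.mul_mem hh (K.inv_mem h'))
      rw [if_neg h1, if_pos h', if_neg h2, mul_one]
    · have h1 : x ∉ K := fun hh => F.tK (by
        have : t = t * x * x⁻¹ := by group
        rw [this]; exact K.mul_mem h (K.inv_mem hh))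
      have h1' : y ∉ K := fun hh => F.tK (by
        have : t = t * y * y⁻¹ := by group
        rw [this]; exact K.mul_mem h' (K.inv_mem hh))
      have h2 : x * y ∈ K := by
        have e : x * y = (t * x) * (t * y) := by
          calc x * y = (t * t) * x * y := by rw [F.tt, one_mul]
            _ = t * (t * x) * y := by group
            _ = t * (x * t) * y := by rw [hx]
            _ = (t * x) * (t * y) := by group
        rw [e]; exact K.mul_mem h h'
      rw [if_neg h1, if_neg h1', if_pos h2]; decide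
  obtain ⟨g, rfl⟩ := hθ
  have hc : ∀ x : G, x * (g * t * g⁻¹) = g * t * g⁻¹ * x → (g⁻¹ * x * g) * t = t * (g⁻¹ * x * g) := by
    intro x hx
    calc (g⁻¹ * x * g) * t = g⁻¹ * (x * (g * t * g⁻¹)) * g := by group
      _ = g⁻¹ * (g * t * g⁻¹ * x) * g := by rw [hx]
      _ = t * (g⁻¹ * x * g) := by group
  have e : ∀ x : G, sg (g * t * g⁻¹) x = sg t (g⁻¹ * x * g) := by
    intro x
    have := sg_conj t (g⁻¹ * x * g) g
    rw [← this]
    congr 1
    group
  rw [e, e, e, ← key _ _ (hc m hm) (hc n hn)]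
  congr 1
  group

/-- agreement on `C(t) ∩ C(t a_i)` -/
theorem sg_coh_t (F : Fr t K A S a) {i : Fin 23} (hi : ∃ g : G, g * t * g⁻¹ = t * a i) {n : G}
    (hn : n * t = t * n) (hn' : n * (t * a i) = t * a i * n) : sg t n = sg (t * a i) n := by
  classical
  have hna : n * a i = a i * n := by
    have h1 : t * (n * a i) = t * (a i * n) := by
      calc t * (n * a i) = (t * n) * a i := by group
        _ = (n * t) * a i := by rw [hn]
        _ = n * (t * a i) := by group
        _ = t * a i * n := hn'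
        _ = t * (a i * n) := by group
    exact mul_left_cancel h1
  set J := K ⊓ centralizer ({a i} : Set G) with hJ
  set C := centralizer ({t * a i} : Set G) with hC
  have hJC : J ≤ C := by
    rintro x ⟨h1, h2'⟩
    have h2 : x * a i = a i * x := mem_centralizer_singleton_iff.1 h2'
    rw [hC, mem_centralizer_singleton_iff]
    calc x * (t * a i) = (x * t) * a i := by group
      _ = (t * x) * a i := by rw [F.com x h1]
      _ = t * (x * a i) := by group
      _ = t * a i * x := by rw [h2]; group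
  have hJD : J ≤ ⁅C, C⁆ := by
    conv_lhs => rw [hJ, ← F.J_perf i]
    exact commutator_mono hJC hJC
  have haJ : a i ∈ J := ⟨F.aK i, mem_centralizer_singleton_iff.2 rfl⟩
  rcases F.cent n hn with h | h
  · have h1 : n ∈ J := ⟨h, mem_centralizer_singleton_iff.2 hna⟩
    rw [F.sg_t, if_pos h]
    unfold sg
    rw [if_pos (hJD h1)]
  · have h1 : t * n ∈ J := by
      refine ⟨h, mem_centralizer_singleton_iff.2 ?_⟩
      calc t * n * a i = t * (n * a i) := by group
        _ = (t * a i) * n := by rw [hna]; group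
        _ = (a i * t) * n := by rw [F.com _ (F.aK i)]
        _ = a i * (t * n) := by group
    have h2 : n ∉ K := fun hh => F.tK (by
      have : t = t * n * n⁻¹ := by group
      rw [this]; exact K.mul_mem h (K.inv_mem hh))
    rw [F.sg_t, if_neg h2]
    unfold sg
    rw [if_neg]
    intro h3
    -- `t ∈ C'`, so `t a_i ∈ C'`
    have h4 : t ∈ ⁅C, C⁆ := by
      have : t = (t * n) * n⁻¹ := by group
      rw [this]
      exact (⁅C, C⁆ : Subgroup G).mul_mem (hJD h1) ((⁅C, C⁆ : Subgroup G).inv_mem h3)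
    have h5 : t * a i ∈ ⁅C, C⁆ := (⁅C, C⁆ : Subgroup G).mul_mem h4 (hJD haJ)
    obtain ⟨g, hg⟩ := hi
    have h6 := mem_der_conj (n := g⁻¹) h5
    have e : g⁻¹ * (t * a i) * g⁻¹⁻¹ = t := by rw [← hg]; group
    rw [e] at h6
    exact F.tK (F.der_le h6)

/-- the action of `N` on the points -/
@[reducible] def pact (F : Fr t K A S a) : MulAction F.NN (orb F.NN t) where
  smul n θ := ⟨(n : G) * θ * (n : G)⁻¹, orb_conj θ.2 n.2⟩
  one_smul θ := by
    apply Subtype.ext
    show ((1 : F.NN) : G) * θ * ((1 : F.NN) : G)⁻¹ = θ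
    simp only [_root_.OneMemClass.coe_one, _root_.one_mul, _root_.inv_one, _root_.mul_one]
  mul_smul m n θ := by
    apply Subtype.ext
    show ((m * n : F.NN) : G) * θ * ((m * n : F.NN) : G)⁻¹ = (m : G) * ((n : G) * θ * (n : G)⁻¹) * (m : G)⁻¹
    rw [Subgroup.coe_mul]; group

theorem glue [Finite G] (F : Fr t K A S a) (hp : ∀ x, x ∈ orb F.NN t ↔ x = t ∨ ∃ i, x = t * a i)
    (h24 : (orb F.NN t).ncard = 24) :
    ∃ f : F.NN →* ℤˣ, f ⟨t, F.t_mem_NN⟩ = -1 := by
  classical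
  letI := F.pact
  have hsm : ∀ (n : F.NN) (θ : orb F.NN t), ((n • θ : orb F.NN t) : G) = (n : G) * θ * (n : G)⁻¹ :=
    fun _ _ => rfl
  have hfixc : ∀ (n : F.NN) (θ : orb F.NN t), n • θ = θ → (n : G) * θ = θ * n := by
    intro n θ h
    have h1 := congrArg Subtype.val h
    rw [hsm] at h1
    exact mul_inv_eq_iff_eq_mul.1 h1
  have hfixc' : ∀ (n : F.NN) (θ : orb F.NN t), (n : G) * θ = θ * n → n • θ = θ := by
    intro n θ h
    apply Subtype.ext
    rw [hsm]
    exact mul_inv_eq_iff_eq_mul.2 h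
  have hcj : ∀ θ : orb F.NN t, ∃ g : G, g * t * g⁻¹ = θ := by
    rintro ⟨_, n, -, rfl⟩
    exact ⟨n, rfl⟩
  set t0 : orb F.NN t := ⟨t, self_mem_orb _ _⟩ with ht0
  have htr : ∀ θ : orb F.NN t, ∃ n : F.NN, n • t0 = θ := by
    rintro ⟨_, n, hn, rfl⟩
    exact ⟨⟨n, hn⟩, rfl⟩
  have hne : ∀ θ : orb F.NN t, θ ≠ t0 → ∃ i, (θ : G) = t * a i := by
    intro θ h
    rcases (hp θ).1 θ.2 with h1 | h1
    · exact absurd (Subtype.ext h1) h
    · exact h1
  -- moving points with `N_K(A)`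
  have hmv : ∀ (i j i' j' : orb F.NN t), i ≠ t0 → j ≠ t0 → i' ≠ t0 → j' ≠ t0 → i ≠ i' → j ≠ j' →
      ∃ m : F.NN, m • t0 = t0 ∧ m • i = j ∧ m • i' = j' := by
    intro i j i' j' h1 h2 h3 h4 h5 h6
    obtain ⟨p, hp1⟩ := hne i h1
    obtain ⟨q, hq1⟩ := hne j h2
    obtain ⟨p', hp2⟩ := hne i' h3
    obtain ⟨q', hq2⟩ := hne j' h4
    have hpp : p ≠ p' := fun e => h5 (Subtype.ext (by rw [hp1, hp2, e]))
    have hqq : q ≠ q' := fun e => h6 (Subtype.ext (by rw [hq1, hq2, e]))
    obtain ⟨n, hn, hN, e1, e2⟩ := F.two hpp hqq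
    have hc : n * t * n⁻¹ = t := by rw [F.com n hn, mul_inv_cancel_right]
    have hm : ∀ r s : Fin 23, n * a r * n⁻¹ = a s → n * (t * a r) * n⁻¹ = t * a s := by
      intro r s e
      calc n * (t * a r) * n⁻¹ = (n * t) * a r * n⁻¹ := by group
        _ = (t * n) * a r * n⁻¹ := by rw [F.com n hn]
        _ = t * (n * a r * n⁻¹) := by group
        _ = t * a s := by rw [e]
    refine ⟨⟨n, (F.mem_NN_of_K hn).2 hN⟩, Subtype.ext hc, Subtype.ext ?_, Subtype.ext ?_⟩
    · rw [hsm, hp1, hq1]; exact hm _ _ e1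
    · rw [hsm, hp2, hq2]; exact hm _ _ e2
  have hbig : ∀ i i' j j' : orb F.NN t, ∃ k : orb F.NN t, k ≠ i ∧ k ≠ i' ∧ k ≠ j ∧ k ≠ j' := by
    intro i i' j j'
    by_contra hcon
    push Not at hcon
    have h1 : orb F.NN t ⊆ {(i : G), (i' : G), (j : G), (j' : G)} := by
      intro x hx
      have h2 := hcon ⟨x, hx⟩
      by_cases e1 : (⟨x, hx⟩ : orb F.NN t) = i
      · left; exact congrArg Subtype.val e1
      by_cases e2 : (⟨x, hx⟩ : orb F.NN t) = i'
      · right; left; exact congrArg Subtype.val e2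
      by_cases e3 : (⟨x, hx⟩ : orb F.NN t) = j
      · right; right; left; exact congrArg Subtype.val e3
      · right; right; right; exact congrArg Subtype.val (h2 e1 e2 e3)
    have h3 := Set.ncard_le_ncard h1 (Set.toFinite _)
    have h4 : ({(i : G), (i' : G), (j : G), (j' : G)} : Set G).ncard ≤ 4 := by
      refine (Set.ncard_insert_le _ _).trans ?_
      have h5 : ({(i' : G), (j : G), (j' : G)} : Set G).ncard ≤ 3 := by
        refine (Set.ncard_insert_le _ _).trans ?_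
        have := pair_le (j : G) (j' : G)
        omega
      omega
    omega
  have Fm : Ext.Fam F.NN (orb F.NN t) ℤˣ (fun θ n => sg (θ : G) (n : G)) := by
    refine ⟨?_, ?_, ?_, ?_, ?_, hbig⟩
    · intro i m n hm hn
      exact F.sg_mul (hcj i) (hfixc m i hm) (hfixc n i hn)
    · intro g i n _
      exact sg_conj _ _ _
    · intro i j n hi hj
      obtain ⟨c, hc⟩ := htr i
      by_cases hij : i = j
      · rw [hij]
      have hi' : (c⁻¹ * n * c) • t0 = t0 := by
        rw [mul_smul, mul_smul, hc, hi, ← hc, inv_smul_smul]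
      have hj' : (c⁻¹ * n * c) • (c⁻¹ • j) = c⁻¹ • j := by
        rw [mul_smul, mul_smul, smul_inv_smul, hj]
      have hjt : c⁻¹ • j ≠ t0 := by
        intro e
        apply hij
        rw [← hc, ← e, smul_inv_smul]
      obtain ⟨q, hq⟩ := hne _ hjt
      have h1 := hfixc _ _ hi'
      have h2 := hfixc _ _ hj'
      rw [hq] at h2
      have hcq : ∃ g : G, g * t * g⁻¹ = t * a q := by
        obtain ⟨g, hg⟩ := hcj (c⁻¹ • j)
        exact ⟨g, by rw [hg, hq]⟩
      have h3 := F.sg_coh_t hcq h1 h2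
      have e1 : sg (i : G) (n : G) = sg t ((c⁻¹ * n * c : F.NN) : G) := by
        rw [← hc, hsm, ← sg_conj t _ (c : G)]
        congr 1
        simp only [Subgroup.coe_mul, Subgroup.coe_inv]
        group
      have e2 : sg (j : G) (n : G) = sg (t * a q) ((c⁻¹ * n * c : F.NN) : G) := by
        rw [← hq, ← sg_conj _ ((c⁻¹ * n * c : F.NN) : G) (c : G), hsm]
        congr 1
        · simp only [Subgroup.coe_inv]; group
        · simp only [Subgroup.coe_mul, Subgroup.coe_inv]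
          group
      show sg (i : G) (n : G) = sg (j : G) (n : G)
      rw [e1, e2]
      exact h3
    · intro k i j hi hj
      obtain ⟨c, hc⟩ := htr k
      obtain ⟨k', -, -, -, -⟩ := hbig k i j j
      have hi' : c⁻¹ • i ≠ t0 := fun e => hi (by rw [← hc, ← e, smul_inv_smul])
      have hj' : c⁻¹ • j ≠ t0 := fun e => hj (by rw [← hc, ← e, smul_inv_smul])
      obtain ⟨x, hx1, hx2, -, -⟩ := hbig t0 (c⁻¹ • i) t0 t0
      obtain ⟨y, hy1, hy2, -, -⟩ := hbig t0 (c⁻¹ • j) t0 t0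
      obtain ⟨m, h1, h2, -⟩ := hmv (c⁻¹ • i) (c⁻¹ • j) x y hi' hj' hx1 hy1 hx2.symm hy2.symm
      refine ⟨c * m * c⁻¹, ?_, ?_⟩
      · rw [mul_smul, mul_smul, ← hc, inv_smul_smul, h1]
      · rw [mul_smul, mul_smul, h2, smul_inv_smul]
    · intro k i i' j j' hi hi' hj hj' hii hjj
      obtain ⟨c, hc⟩ := htr k
      have g1 : c⁻¹ • i ≠ t0 := fun e => hi (by rw [← hc, ← e, smul_inv_smul])
      have g2 : c⁻¹ • i' ≠ t0 := fun e => hi' (by rw [← hc, ← e, smul_inv_smul])
      have g3 : c⁻¹ • j ≠ t0 := fun e => hj (by rw [← hc, ← e, smul_inv_smul])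
      have g4 : c⁻¹ • j' ≠ t0 := fun e => hj' (by rw [← hc, ← e, smul_inv_smul])
      obtain ⟨m, h1, h2, h3⟩ := hmv _ _ _ _ g1 g3 g2 g4 (fun e => hii (smul_left_cancel _ e))
        (fun e => hjj (smul_left_cancel _ e))
      refine ⟨c * m * c⁻¹, ?_, ?_, ?_⟩
      · rw [mul_smul, mul_smul, ← hc, inv_smul_smul, h1]
      · rw [mul_smul, mul_smul, h2, smul_inv_smul]
      · rw [mul_smul, mul_smul, h3, smul_inv_smul]
  haveI : Nonempty (orb F.NN t) := ⟨t0⟩
  obtain ⟨f, hf⟩ := Fm.exists_hom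
  refine ⟨f, ?_⟩
  have h1 : (⟨t, F.t_mem_NN⟩ : F.NN) • t0 = t0 := hfixc' _ _ rfl
  rw [hf t0 _ h1]
  show sg t t = -1
  rw [F.sg_t, if_neg F.tK]

end Fr

end Cfsg.Agent.OddHalf.D8.Fi23

end
end

-- part: OddHalf/D9/Outer
section
/-!
# Parity of the outer conjugates of `z`

`H = C_G(z)`, `l : H →* ℤˣ`. For a conjugate `a = g z g⁻¹` and `y ∈ C_G(a)` put
`Lam l a y := l (g⁻¹ y g)`. If `G` has no subgroup of index two, then for every `x` (no power `x^k`, `1 ≠ k ∣ orderOf x`,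
has a conjugate in `H` outside `ker l`) and every `2`-subgroup `D ≤ C_G(x)` with `x ∈ D` the number of
conjugates `a` of `z` in `C_G(D)` with `Lam l a x = -1` is even.
-/

set_option autoImplicit false

namespace Cfsg.Agent.OddHalf.D9.Outer

open MulAction Subgroup Cfsg.Agent.OddHalf.D9.TransferGen

variable {G : Type*} [Group G]

/-- The value of the conjugate character. -/
noncomputable def Lam {z : G} (l : centralizer ({z} : Set G) →* ℤˣ) (a y : G) : ℤˣ := by
  classical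
  exact if h : ∃ g : G, g * z * g⁻¹ = a ∧ g⁻¹ * y * g ∈ centralizer ({z} : Set G) then
    l ⟨h.choose⁻¹ * y * h.choose, h.choose_spec.2⟩ else 1

theorem Lam_eq {z : G} (l : centralizer ({z} : Set G) →* ℤˣ) {a y g : G} (hg : g * z * g⁻¹ = a)
    (hy : g⁻¹ * y * g ∈ centralizer ({z} : Set G)) : Lam l a y = l ⟨g⁻¹ * y * g, hy⟩ := by
  classical
  have h : ∃ g : G, g * z * g⁻¹ = a ∧ g⁻¹ * y * g ∈ centralizer ({z} : Set G) := ⟨g, hg, hy⟩
  unfold Lam
  rw [dif_pos h]
  set c := h.choose with hc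
  have h1 : c * z * c⁻¹ = a := h.choose_spec.1
  have hk : c⁻¹ * g ∈ centralizer ({z} : Set G) := by
    rw [mem_centralizer_singleton_iff]
    have h2 : z = c⁻¹ * (g * z * g⁻¹) * c := by rw [hg, ← h1]; group
    calc c⁻¹ * g * z = c⁻¹ * (g * z * g⁻¹) * c * (c⁻¹ * g) := by group
      _ = z * (c⁻¹ * g) := by rw [← h2]
  have h3 : (⟨g⁻¹ * y * g, hy⟩ : centralizer ({z} : Set G)) =
      (⟨c⁻¹ * g, hk⟩)⁻¹ * ⟨c⁻¹ * y * c, h.choose_spec.2⟩ * ⟨c⁻¹ * g, hk⟩ := by
    apply Subtype.ext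
    change g⁻¹ * y * g = (c⁻¹ * g)⁻¹ * (c⁻¹ * y * c) * (c⁻¹ * g)
    group
  rw [h3, map_mul, map_mul, map_inv, mul_comm (l ⟨c⁻¹ * g, hk⟩)⁻¹, inv_mul_cancel_right]

theorem conj_mem {z a y g : G} (hg : g * z * g⁻¹ = a) (hy : y * a = a * y) :
    g⁻¹ * y * g ∈ centralizer ({z} : Set G) := by
  rw [mem_centralizer_singleton_iff]
  calc g⁻¹ * y * g * z = g⁻¹ * (y * (g * z * g⁻¹)) * g := by group
    _ = g⁻¹ * (y * a) * g := by rw [hg]
    _ = g⁻¹ * (a * y) * g := by rw [hy]
    _ = g⁻¹ * (g * z * g⁻¹ * y) * g := by rw [hg]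
    _ = z * (g⁻¹ * y * g) := by group

/-- The set of conjugates of `z` centralizing `D` at which `x` has the sign `-1`. -/
def Neg {z : G} (l : centralizer ({z} : Set G) →* ℤˣ) (D : Subgroup G) (x : G) : Set G :=
  {a | IsConj z a ∧ (∀ d ∈ D, d * a = a * d) ∧ Lam l a x = -1}

open Classical in
/-- **Parity**: the transfer to `G` of `l`, at `x`. -/
theorem transfer_neg [Finite G] {z : G} (l : centralizer ({z} : Set G) →* ℤˣ) (x : G)
    (hx : ∀ k, k ∣ orderOf x → k ≠ 1 → ∀ g : G, ∀ h : g⁻¹ * x ^ k * g ∈ centralizer ({z} : Set G),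
      l ⟨g⁻¹ * x ^ k * g, h⟩ = 1)
    (D : Subgroup G) (hD : IsPGroup 2 D) (hxD : x ∈ D) (hDx : ∀ d ∈ D, d * x = x * d) :
    MonoidHom.transfer l x = (-1) ^ (Neg l D x).ncard := by
  have : Fintype (G ⧸ centralizer ({z} : Set G)) := Fintype.ofFinite _
  rw [transfer_eq_D (centralizer ({z} : Set G)) l x hx D hD hxD hDx]
  set s := Finset.univ.filter (fun q : G ⧸ centralizer ({z} : Set G) => ∀ d ∈ D, d • q = q) with hs
  have h1 : ∀ q : G ⧸ centralizer ({z} : Set G), val (centralizer ({z} : Set G)) l x q =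
      if val (centralizer ({z} : Set G)) l x q = -1 then -1 else 1 := by
    intro q
    split_ifs with h
    · exact h
    · rcases Int.units_eq_one_or (val (centralizer ({z} : Set G)) l x q) with h' | h'
      · exact h'
      · exact absurd h' h
  rw [Finset.prod_congr rfl (fun q _ => h1 q), Finset.prod_ite, Finset.prod_const_one, mul_one,
    Finset.prod_const]
  congr 1
  rw [← Set.ncard_coe_finset]
  refine Set.ncard_congr (fun q _ => q.out * z * q.out⁻¹) ?_ ?_ ?_
  · intro q hq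
    rw [Finset.mem_coe, Finset.mem_filter, hs, Finset.mem_filter] at hq
    obtain ⟨⟨-, hq1⟩, hq2⟩ := hq
    have hd : ∀ d ∈ D, q.out⁻¹ * d * q.out ∈ centralizer ({z} : Set G) := by
      intro d hd
      rw [← smul_mk_eq, QuotientGroup.out_eq']
      exact hq1 d hd
    refine ⟨isConj_iff.2 ⟨q.out, rfl⟩, ?_, ?_⟩
    · intro d hd'
      have := mem_centralizer_singleton_iff.1 (hd d hd')
      calc d * (q.out * z * q.out⁻¹) = q.out * (q.out⁻¹ * d * q.out * z) * q.out⁻¹ := by group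
        _ = q.out * (z * (q.out⁻¹ * d * q.out)) * q.out⁻¹ := by rw [this]
        _ = q.out * z * q.out⁻¹ * d := by group
    · rw [Lam_eq l rfl (hd x hxD), ← hq2]
      unfold val
      rw [dif_pos (hd x hxD)]
  · intro q r hq hr h
    have h2 : q.out * z * q.out⁻¹ = r.out * z * r.out⁻¹ := h
    have h3 : r.out⁻¹ * q.out ∈ centralizer ({z} : Set G) := by
      rw [mem_centralizer_singleton_iff]
      calc r.out⁻¹ * q.out * z = r.out⁻¹ * (q.out * z * q.out⁻¹) * q.out := by group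
        _ = r.out⁻¹ * (r.out * z * r.out⁻¹) * q.out := by rw [h2]
        _ = z * (r.out⁻¹ * q.out) := by group
    rw [← QuotientGroup.out_eq' q, ← QuotientGroup.out_eq' r]
    exact (QuotientGroup.eq.2 h3).symm
  · rintro a ⟨ha, hc, hL⟩
    obtain ⟨g, hg⟩ := isConj_iff.1 ha
    have hd : ∀ d ∈ D, g⁻¹ * d * g ∈ centralizer ({z} : Set G) := fun d hd => conj_mem hg (hc d hd)
    refine ⟨(g : G ⧸ centralizer ({z} : Set G)), ?_, ?_⟩
    · rw [Finset.mem_coe, Finset.mem_filter, hs, Finset.mem_filter]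
      refine ⟨⟨Finset.mem_univ _, fun d hd' => (smul_mk_eq _ d g).2 (hd d hd')⟩, ?_⟩
      rw [val_mk _ _ _ _ (hd x hxD), ← hL, Lam_eq l hg (hd x hxD)]
    · have h2 : g⁻¹ * (g : G ⧸ centralizer ({z} : Set G)).out ∈ centralizer ({z} : Set G) := by
        rw [← QuotientGroup.eq, QuotientGroup.out_eq']
      have h3 := mem_centralizer_singleton_iff.1 h2
      set o := (g : G ⧸ centralizer ({z} : Set G)).out with ho
      change o * z * o⁻¹ = a
      rw [← hg]
      calc o * z * o⁻¹ = g * (g⁻¹ * o * z) * o⁻¹ := by group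
        _ = g * (z * (g⁻¹ * o)) * o⁻¹ := by rw [h3]
        _ = g * z * g⁻¹ := by group

theorem hom_units_eq_one [Finite G] (hG : ∀ N : Subgroup G, N.index ≠ 2) (f : G →* ℤˣ) (x : G) :
    f x = 1 := by
  by_contra h
  apply hG f.ker
  rw [Subgroup.index_ker]
  have h1 : f x = -1 := (Int.units_eq_one_or (f x)).resolve_left h
  have h2 : f.range = ⊤ := by
    rw [eq_top_iff]
    intro y _
    rcases Int.units_eq_one_or y with rfl | rfl
    · exact one_mem _
    · exact ⟨x, h1⟩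
  rw [h2]
  simp only [Nat.card_eq_fintype_card, _root_.Subgroup.mem_top, _root_.Fintype.card_subtype_true, _root_.Fintype.card_units_int]

/-- If `G` has no subgroup of index `2`, the number of conjugates `a` of `z` in `C_G(D)` with
`Lam l a x = -1` is even. -/
theorem even_neg [Finite G] (hG : ∀ N : Subgroup G, N.index ≠ 2) {z : G}
    (l : centralizer ({z} : Set G) →* ℤˣ) (x : G)
    (hx : ∀ k, k ∣ orderOf x → k ≠ 1 → ∀ g : G, ∀ h : g⁻¹ * x ^ k * g ∈ centralizer ({z} : Set G),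
      l ⟨g⁻¹ * x ^ k * g, h⟩ = 1)
    (D : Subgroup G) (hD : IsPGroup 2 D) (hxD : x ∈ D) (hDx : ∀ d ∈ D, d * x = x * d) :
    Even (Neg l D x).ncard := by
  have h1 := transfer_neg l x hx D hD hxD hDx
  rw [hom_units_eq_one hG] at h1
  by_contra h2
  rw [Nat.not_even_iff_odd] at h2
  rw [h2.neg_one_pow] at h1
  exact absurd h1 (by decide)

/-- The conjugates of `z` different from `z` that centralize `D`. -/
def Out (z : G) (D : Subgroup G) : Set G :=
  {a | IsConj z a ∧ a ≠ z ∧ ∀ d ∈ D, d * a = a * d}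

end Cfsg.Agent.OddHalf.D9.Outer
end

-- part: OddHalf/D8/Fi23/Pump
section
-- merged: Cfsg.Agent.OddHalf.Orders.PSLFi23
section

/-!
# Order engine: `PSL_n(q)`, instance `(|Fi₂₂|, |Fi₂₃| / 2)` (helper907)
-/

set_option autoImplicit false

namespace Cfsg.Agent.OddHalf.Orders

open Cfsg

theorem psl_box {n q c Q : ℕ} (hq : 2 ≤ q) (hn : 2 ≤ n) (h : glDen n q * c = gl n q)
    (h0 : 64561751654400 ∣ c) (hN : c ≤ 2044735236646502400)
    (hQ : n * 2044735236646502400 < Q ^ ((n - 1) * n - 1))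
    (hall : allEx 64561751654400 2044735236646502400 (gl n) (glDen n) Q = true) : False :=
  no hall hq (lt_of_pow (bound_psl hq hn h) hN hQ) h h0 hN

theorem allEx_of63 {n0 N : ℕ} {f den : ℕ → ℕ} (g : ℕ → ℕ) (hg : ∀ q, f q = g q) (Q : ℕ)
    (h : ((List.range Q).all fun q => Bool.rec true (decide (q < 2) || ex n0 N f den q)
      (Nat.beq (Nat.mod (g q) n0) 0)) = true) : allEx n0 N f den Q = true := by
  refine List.all_eq_true.2 fun q hq => ?_
  replace h := List.all_eq_true.1 h q hq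
  cases h1 : Nat.beq (Nat.mod (g q) n0) 0
  · refine Bool.or_eq_true_iff.2 (Or.inr (Bool.or_eq_true_iff.2 (Or.inl (bne_iff_ne.2 fun h2 => ?_))))
    have h3 : g q % n0 = 0 := Nat.mod_eq_zero_of_dvd (hg q ▸ (Dvd.intro _ rfl).trans (Nat.dvd_of_mod_eq_zero h2))
    exact Nat.ne_of_beq_eq_false h1 h3
  · rw [h1] at h
    exact h

theorem chk3 : allEx 64561751654400 2044735236646502400 (gl 3) (glDen 3) 5750 = true :=
  allEx_of63 (fun q => Nat.mul (Nat.sub (Nat.pow q 3) 1) (Nat.mul (Nat.sub (Nat.pow q 3) q)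
    (Nat.sub (Nat.pow q 3) (Nat.pow q 2)))) (fun q => by
      show (q ^ 3 - q ^ 0) * ((q ^ 3 - q ^ 1) * ((q ^ 3 - q ^ 2) * 1)) = (q ^ 3 - 1) * ((q ^ 3 - q) * (q ^ 3 - q ^ 2))
      rw [pow_zero, pow_one, mul_one]) 5750 (by decide +kernel)

theorem chk4 : allEx 64561751654400 2044735236646502400 (gl 4) (glDen 4) 60 = true := by
  decide +kernel

theorem chk5 : allEx 64561751654400 2044735236646502400 (gl 5) (glDen 5) 12 = true := by
  decide +kernel

theorem chk6 : allEx 64561751654400 2044735236646502400 (gl 6) (glDen 6) 6 = true := by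
  decide +kernel

theorem chk7 : allEx 64561751654400 2044735236646502400 (gl 7) (glDen 7) 4 = true := by
  decide +kernel

theorem chk8 : allEx 64561751654400 2044735236646502400 (gl 8) (glDen 8) 3 = true := by
  decide +kernel

theorem two_pow_lt {n : ℕ} (hn : 9 ≤ n) : n * 2044735236646502400 < 2 ^ ((n - 1) * n - 1) := by
  have h1 : n < 2 ^ n := Nat.lt_two_pow_self
  have h2 : 2044735236646502400 < 2 ^ 61 := by norm_num
  have h3 : n + 61 ≤ (n - 1) * n - 1 := by
    obtain ⟨m, rfl⟩ := Nat.exists_eq_add_of_le hn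
    have : (9 + m - 1) * (9 + m) = 72 + 17 * m + m * m := by
      have : 9 + m - 1 = 8 + m := by omega
      rw [this]; ring
    rw [this]
    have : 0 ≤ m * m := Nat.zero_le _
    omega
  calc n * 2044735236646502400 < 2 ^ n * 2 ^ 61 := Nat.mul_lt_mul'' h1 h2
    _ = 2 ^ (n + 61) := (pow_add _ _ _).symm
    _ ≤ 2 ^ ((n - 1) * n - 1) := Nat.pow_le_pow_right (by norm_num) h3

theorem psl_three {q n c : ℕ} (hq : 2 ≤ q) (hn : 3 ≤ n) (h : glDen n q * c = gl n q)
    (h0 : 64561751654400 ∣ c) (hN : c ≤ 2044735236646502400) : False := by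
  by_cases h9 : 9 ≤ n
  · have h1 := lt_of_pow (bound_psl hq (by omega) h) hN (two_pow_lt h9)
    omega
  · have : n = 3 ∨ n = 4 ∨ n = 5 ∨ n = 6 ∨ n = 7 ∨ n = 8 := by omega
    rcases this with rfl | rfl | rfl | rfl | rfl | rfl
    · exact psl_box hq (by norm_num) h h0 hN (by norm_num) chk3
    · exact psl_box hq (by norm_num) h h0 hN (by norm_num) chk4
    · exact psl_box hq (by norm_num) h h0 hN (by norm_num) chk5
    · exact psl_box hq (by norm_num) h h0 hN (by norm_num) chk6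
    · exact psl_box hq (by norm_num) h h0 hN (by norm_num) chk7
    · exact psl_box hq (by norm_num) h h0 hN (by norm_num) chk8

/-! ### `PSL_2(q)` -/

theorem gl_two {q c : ℕ} (hq : 2 ≤ q) (h : glDen 2 q * c = gl 2 q) :
    Nat.gcd 2 (q - 1) * c = q * ((q - 1) * (q + 1)) := by
  obtain ⟨m, rfl⟩ := Nat.exists_eq_add_of_le hq
  have h1 : gl 2 (2 + m) = (m + 1) * ((2 + m) * ((m + 1) * (m + 3))) := by
    have e : gl 2 (2 + m) = ((2 + m) ^ 2 - 1) * ((2 + m) ^ 2 - (2 + m)) := by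
      simp only [gl, List.range_succ, _root_.List.range_zero, _root_.List.nil_append, _root_.List.cons_append, _root_.List.map_cons, _root_.pow_zero, _root_.pow_one, _root_.List.map_nil, _root_.List.prod_cons, _root_.List.prod_nil, _root_.mul_one]
    have e1 : (2 + m) ^ 2 - 1 = (m + 1) * (m + 3) := by
      have : (2 + m) ^ 2 = (m + 1) * (m + 3) + 1 := by ring
      omega
    have e2 : (2 + m) ^ 2 - (2 + m) = (m + 1) * (2 + m) := by
      have : (2 + m) ^ 2 = (m + 1) * (2 + m) + (2 + m) := by ring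
      omega
    rw [e, e1, e2]; ring
  have h2 : glDen 2 (2 + m) = Nat.gcd 2 (2 + m - 1) * (m + 1) := by
    unfold glDen
    have : 2 + m - 1 = m + 1 := by omega
    rw [this]
  rw [h1, h2] at h
  have h3 : (m + 1) * (Nat.gcd 2 (2 + m - 1) * c) = (m + 1) * ((2 + m) * ((m + 1) * (m + 3))) := by
    rw [← h]; ring
  have h4 := Nat.eq_of_mul_eq_mul_left (by omega) h3
  rw [h4]
  have : 2 + m - 1 = m + 1 := by omega
  rw [this, show 2 + m + 1 = m + 3 by omega]

theorem lt_two {q c : ℕ} (hq : 2 ≤ q) (h : glDen 2 q * c = gl 2 q)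
    (hN : c ≤ 2044735236646502400) : q < 1600001 := by
  have h1 := gl_two hq h
  have h2 : Nat.gcd 2 (q - 1) ≤ 2 := Nat.gcd_le_left _ (by norm_num)
  have h3 : q * ((q - 1) * (q + 1)) ≤ 4089470473293004800 := by
    rw [← h1]
    calc Nat.gcd 2 (q - 1) * c ≤ 2 * 2044735236646502400 := Nat.mul_le_mul h2 hN
      _ = 4089470473293004800 := by norm_num
  by_contra hlt
  push Not at hlt
  have h4 : 1600001 * (1600000 * 1600002) ≤ q * ((q - 1) * (q + 1)) :=
    Nat.mul_le_mul hlt (Nat.mul_le_mul (by omega) (by omega))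
  have h5 : 4089470473293004800 < 1600001 * (1600000 * 1600002) := by norm_num
  omega

theorem chkE : ((List.range 22).all fun k => ex 64561751654400 2044735236646502400
    (fun k => gl 2 (2 ^ (k + 1))) (fun k => glDen 2 (2 ^ (k + 1))) k) = true := by
  decide +kernel

theorem chkP : ((List.range 13).all fun k => ex 64561751654400 2044735236646502400
    (fun k => gl 2 (131072 * (k + 1) + 1)) (fun k => glDen 2 (131072 * (k + 1) + 1)) k) = true := by
  decide +kernel

theorem chkM : ((List.range 13).all fun k => ex 64561751654400 2044735236646502400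
    (fun k => gl 2 (131072 * (k + 1) - 1)) (fun k => glDen 2 (131072 * (k + 1) - 1)) k) = true := by
  decide +kernel

theorem no' {n0 N : ℕ} {f den : ℕ → ℕ} {Q k c : ℕ}
    (hall : ((List.range Q).all fun k => ex n0 N f den k) = true)
    (hQ : k < Q) (h : den k * c = f k) (h0 : n0 ∣ c) (hN : c ≤ N) : False := by
  rw [List.all_eq_true] at hall
  have h1 := hall k (List.mem_range.2 hQ)
  rw [ex_eq_false h h0 hN] at h1
  exact absurd h1 (by decide)

theorem psl_two {q c : ℕ} (hq : 2 ≤ q) (hpp : Even q → ∃ k, q = 2 ^ k) (h : glDen 2 q * c = gl 2 q)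
    (h0 : 64561751654400 ∣ c) (hN : c ≤ 2044735236646502400) : False := by
  have hlt := lt_two hq h hN
  rcases Nat.even_or_odd q with he | ho
  · obtain ⟨k, rfl⟩ := hpp he
    have hk0 : k ≠ 0 := by
      rintro rfl
      omega
    obtain ⟨j, rfl⟩ := Nat.exists_eq_succ_of_ne_zero hk0
    have hj : j < 22 := by
      by_contra hj
      push Not at hj
      have h1 : 2 ^ 22 ≤ 2 ^ j.succ := Nat.pow_le_pow_right (by norm_num) (by omega)
      have h2 : (2 : ℕ) ^ 22 = 4194304 := by norm_num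
      omega
    exact no' chkE hj h h0 hN
  · have h1 := gl_two hq h
    have h2 : Nat.gcd 2 (q - 1) = 2 := by
      apply Nat.gcd_eq_left
      obtain ⟨m, rfl⟩ := ho
      exact ⟨m, by omega⟩
    rw [h2] at h1
    obtain ⟨m, rfl⟩ := ho
    have h3 : c = (2 * m + 1) * (2 * (m * (m + 1))) := by
      have e1 : 2 * m + 1 - 1 = 2 * m := by omega
      rw [e1] at h1
      have : 2 * c = 2 * ((2 * m + 1) * (2 * (m * (m + 1)))) := by rw [h1]; ring
      exact Nat.eq_of_mul_eq_mul_left (by norm_num) this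
    have h4 : 2 ^ 17 ∣ (2 * m + 1) * (2 * (m * (m + 1))) := by
      rw [← h3]; exact (by norm_num : 2 ^ 17 ∣ 64561751654400).trans h0
    have h5 : 2 ^ 17 ∣ 2 * (m * (m + 1)) := by
      apply Nat.Coprime.dvd_of_dvd_mul_left _ h4
      apply Nat.Coprime.pow_left
      rw [Nat.coprime_two_left]
      exact ⟨m, rfl⟩
    have h6 : 2 ^ 16 ∣ m * (m + 1) := by
      have : 2 * 2 ^ 16 ∣ 2 * (m * (m + 1)) := by
        have e : 2 * 2 ^ 16 = 2 ^ 17 := by norm_num
        rw [e]; exact h5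
      exact Nat.dvd_of_mul_dvd_mul_left (by norm_num) this
    have h7 : 2 ^ 16 ∣ m ∨ 2 ^ 16 ∣ m + 1 := by
      rcases Nat.even_or_odd m with he | ho
      · left
        apply Nat.Coprime.dvd_of_dvd_mul_right _ h6
        apply Nat.Coprime.pow_left
        rw [Nat.coprime_two_left]
        exact he.add_one
      · right
        apply Nat.Coprime.dvd_of_dvd_mul_left _ h6
        apply Nat.Coprime.pow_left
        rw [Nat.coprime_two_left]
        exact ho
    rcases h7 with ⟨k, rfl⟩ | ⟨k, hk⟩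
    · have hk0 : k ≠ 0 := by
        rintro rfl
        omega
      obtain ⟨j, rfl⟩ := Nat.exists_eq_succ_of_ne_zero hk0
      have e : 2 * (2 ^ 16 * j.succ) + 1 = 131072 * (j + 1) + 1 := by
        rw [Nat.succ_eq_add_one]; ring
      rw [e] at h
      exact no' chkP (by omega) h h0 hN
    · have hk0 : k ≠ 0 := by
        rintro rfl
        omega
      obtain ⟨j, rfl⟩ := Nat.exists_eq_succ_of_ne_zero hk0
      have e : 2 * m + 1 = 131072 * (j + 1) - 1 := by
        rw [Nat.succ_eq_add_one] at hk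
        (clear * - hk; omega)
      rw [e] at h
      exact no' chkM (by omega) h h0 hN

theorem psl_fi23 {X : Type*} [Group X] (hX : IsPSL X) (h0 : 64561751654400 ∣ Nat.card X)
    (hN : Nat.card X ≤ 2044735236646502400) : False := by
  obtain ⟨F, _, _, n, hn, h4, ⟨e⟩⟩ := hX
  have h := card_psl (F := F) n hn
  rw [← Nat.card_congr e.toEquiv] at h
  have hq : 2 ≤ Fintype.card F := Fintype.one_lt_card
  by_cases h2 : n = 2
  · subst h2
    refine psl_two hq (fun he => ?_) h h0 hN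
    obtain ⟨p, hp⟩ := CharP.exists F
    obtain ⟨k, hp', hk⟩ := FiniteField.card F p
    have h2 : 2 ∣ p := by
      have : 2 ∣ p ^ (k : ℕ) := by rw [← hk]; exact he.two_dvd
      exact Nat.prime_two.dvd_of_dvd_pow this
    have : p = 2 := ((Nat.prime_dvd_prime_iff_eq Nat.prime_two hp').1 h2).symm
    exact ⟨k, by rw [hk, this]⟩
  · exact psl_three hq (by omega) h h0 hN

end Cfsg.Agent.OddHalf.Orders

end

-- merged: Cfsg.Agent.OddHalf.Orders.Box
section

/-!
# Order engine: boxes for two-parameter families (helper286)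

A family has groups of order `c` with `den n q * c = f n q`; `core`: if `n0 ∣ c ≤ N` then `(n, q)` is in the list `E`
of survivors, by a kernel computation over a finite box.
-/

set_option autoImplicit false

namespace Cfsg.Agent.OddHalf.Orders.Box

/-- the check of one pair -/
def ok (n0 N num den : ℕ) : Bool := num % (n0 * den) != 0 || Nat.blt (N * den) num

/-- the check of one value of `n`, all `q < Q` -/
def row (n0 N : ℕ) (E : List (ℕ × ℕ)) (f den : ℕ → ℕ → ℕ) (e D : ℕ → ℕ) (n Q : ℕ) : Bool :=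
  Nat.blt (D n * N) (Q ^ e n) &&
    (List.range Q).all fun q => Nat.blt q 2 || decide ((n, q) ∈ E) || ok n0 N (f n q) (den n q)

/-- the check of the box -/
def box (n0 N : ℕ) (E : List (ℕ × ℕ)) (f den : ℕ → ℕ → ℕ) (e D : ℕ → ℕ) (lo : ℕ) (Qs : List ℕ) : Bool :=
  (List.range Qs.length).all fun i => row n0 N E f den e D (lo + i) (Qs.getD i 0)

theorem ok_false {n0 N c num den : ℕ} (h : den * c = num) (h0 : n0 ∣ c) (hN : c ≤ N) (hok : ok n0 N num den = true) :
    False := by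
  rw [ok, Bool.or_eq_true, bne_iff_ne, Nat.blt_eq] at hok
  rcases hok with h1 | h1
  · apply h1
    obtain ⟨k, rfl⟩ := h0
    rw [← h, show den * (n0 * k) = n0 * den * k by ring]
    exact Nat.mul_mod_right _ _
  · rw [← h, Nat.mul_comm N den] at h1
    exact absurd (Nat.mul_le_mul_left den hN) (not_le.2 h1)

theorem core {n0 N c n q lo : ℕ} {E : List (ℕ × ℕ)} {f den : ℕ → ℕ → ℕ} {e D : ℕ → ℕ} {Qs : List ℕ}
    (hbox : box n0 N E f den e D lo Qs = true) (hlo : lo ≤ n) (hq : 2 ≤ q) (hc : den n q * c = f n q)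
    (hlow : q ^ e n ≤ D n * c) (hbig : ∀ n, lo + Qs.length ≤ n → D n * N < 2 ^ e n)
    (h0 : n0 ∣ c) (hN : c ≤ N) : (n, q) ∈ E := by
  have h1 : q ^ e n ≤ D n * N := hlow.trans (Nat.mul_le_mul_left _ hN)
  have h2 : n < lo + Qs.length := by
    by_contra hcon
    exact absurd (h1.trans_lt (hbig n (not_lt.1 hcon))) (not_lt.2 (Nat.pow_le_pow_left hq _))
  rw [box, List.all_eq_true] at hbox
  have h3 := hbox (n - lo) (List.mem_range.2 (by omega))
  rw [show lo + (n - lo) = n by omega, row, Bool.and_eq_true, Nat.blt_eq, List.all_eq_true] at h3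
  obtain ⟨h4, h5⟩ := h3
  have h6 : q < Qs.getD (n - lo) 0 := by
    by_contra hcon
    exact absurd (Nat.pow_le_pow_left (not_lt.1 hcon) (e n)) (not_le.2 (h1.trans_lt h4))
  have h7 := h5 q (List.mem_range.2 h6)
  rw [Bool.or_eq_true, Bool.or_eq_true, Nat.blt_eq, decide_eq_true_iff] at h7
  rcases h7 with (h7 | h7) | h7
  · omega
  · exact h7
  · exact (ok_false hc h0 hN h7).elim

/-- constant denominators bound -/
theorem big_of_mono {N D m0 : ℕ} {e : ℕ → ℕ} (he : Monotone e) (h : D * N < 2 ^ e m0) :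
    ∀ n, m0 ≤ n → D * N < 2 ^ e n := fun _ hn =>
  h.trans_le (Nat.pow_le_pow_right (by norm_num) (he hn))

end Cfsg.Agent.OddHalf.Orders.Box

end

-- merged: Cfsg.Agent.OddHalf.Orders.PSU
section

/-!
# Order engine: the unitary groups (helper286)
-/

set_option autoImplicit false

namespace Cfsg.Agent.OddHalf.Orders.PSU

open Cfsg Cfsg.Agent.OddHalf.Orders.Box

/-- the product -/
def pr (q : ℕ) : ℕ → ℕ
  | 0 => 1
  | i + 1 => pr q i * (if Nat.beq (i % 2) 0 then q ^ (i + 1) + 1 else q ^ (i + 1) - 1)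

theorem pr_eq (q n : ℕ) :
    ∏ i ∈ Finset.range n, (if Even i then q ^ (i + 1) + 1 else q ^ (i + 1) - 1) = pr q n := by
  induction n with
  | zero => rfl
  | succ n ih =>
    rw [Finset.prod_range_succ, ih, pr]
    congr 1
    by_cases h : Even n
    · rw [if_pos h, if_pos]
      rw [Nat.beq_eq]
      exact Nat.even_iff.1 h
    · rw [if_neg h, if_neg]
      rw [Nat.beq_eq, ← Nat.even_iff]
      exact h

/-- numerator of the order -/
def f (n q : ℕ) : ℕ := q ^ (n * (n - 1) / 2) * pr q n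

/-- denominator of the order -/
def den (n q : ℕ) : ℕ := Nat.gcd n (q + 1) * (q + 1)

/-- exponent of the lower bound -/
def e (n : ℕ) : ℕ := n * (n - 1)

theorem le_pr {q : ℕ} (hq : 2 ≤ q) : ∀ n : ℕ, (q + 1) * q ^ (n * (n + 1) / 2) ≤ pr q (n + 1)
  | 0 => by simp [pr]
  | n + 1 => by
    have ih := le_pr hq n
    rw [pr]
    have h1 : (n + 1) * (n + 1 + 1) / 2 = n * (n + 1) / 2 + (n + 1) := by
      have : (n + 1) * (n + 1 + 1) = n * (n + 1) + (n + 1) * 2 := by ring
      rw [this, Nat.add_mul_div_right _ _ (by norm_num)]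
    rw [h1, pow_add, ← mul_assoc]
    apply Nat.mul_le_mul ih
    have h2 : q ^ (n + 1) + 1 ≤ q ^ (n + 1 + 1) := by
      rw [pow_succ q (n + 1)]
      have : 1 ≤ q ^ (n + 1) := Nat.one_le_pow _ _ (by omega)
      nlinarith only [hq, this]
    split_ifs <;> omega

theorem low {q c n : ℕ} (hq : 2 ≤ q) (hn : 2 ≤ n) (hc : den n q * c = f n q) : q ^ e n ≤ n * c := by
  obtain ⟨m, rfl⟩ : ∃ m, n = m + 1 := ⟨n - 1, by omega⟩
  have h1 := le_pr hq m
  have h2 : (q + 1) * q ^ e (m + 1) ≤ f (m + 1) q := by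
    rw [f, e]
    have h3 : (m + 1) * (m + 1 - 1) = (m + 1) * (m + 1 - 1) / 2 + m * (m + 1) / 2 := by
      rw [Nat.add_sub_cancel, mul_comm (m + 1) m, ← two_mul]
      exact (Nat.two_mul_div_two_of_even (Nat.even_mul_succ_self m)).symm
    rw [h3, pow_add]
    calc (q + 1) * (q ^ ((m + 1) * (m + 1 - 1) / 2) * q ^ (m * (m + 1) / 2))
        = q ^ ((m + 1) * (m + 1 - 1) / 2) * ((q + 1) * q ^ (m * (m + 1) / 2)) := by ring
      _ ≤ _ := by
        rw [← h3]
        exact Nat.mul_le_mul_left _ h1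
  rw [← hc, den] at h2
  have h3 : Nat.gcd (m + 1) (q + 1) ≤ m + 1 := Nat.gcd_le_left _ (by omega)
  have h4 : (q + 1) * q ^ e (m + 1) ≤ (q + 1) * ((m + 1) * c) :=
    h2.trans (by
      rw [mul_comm (Nat.gcd _ _) (q + 1), mul_assoc]
      exact Nat.mul_le_mul_left _ (Nat.mul_le_mul_right _ h3))
  exact Nat.le_of_mul_le_mul_left h4 (by omega)

theorem big {N m : ℕ} (h : N < 2 ^ (m * m)) (n : ℕ) (hn : m + 1 ≤ n) : n * N < 2 ^ e n := by
  have h1 : n ≤ 2 ^ (n - 1) := by
    have := Nat.lt_two_pow_self (n := n - 1)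
    omega
  calc n * N < n * 2 ^ (m * m) := Nat.mul_lt_mul_of_pos_left h (by omega)
    _ ≤ 2 ^ (n - 1) * 2 ^ (m * m) := Nat.mul_le_mul_right _ h1
    _ = 2 ^ (n - 1 + m * m) := (pow_add _ _ _).symm
    _ ≤ 2 ^ e n := by
      apply Nat.pow_le_pow_right (by norm_num)
      rw [e]
      obtain ⟨k, rfl⟩ : ∃ k, n = m + 1 + k := ⟨n - (m + 1), by omega⟩
      rw [show m + 1 + k - 1 = m + k by omega]
      nlinarith only []

/-- **the unitary groups** with `n0 ∣ |X| ≤ N`: only the survivors `E` -/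
theorem psu {n0 N : ℕ} {E : List (ℕ × ℕ)} {Qs : List ℕ} (hbox : box n0 N E f den e id 3 Qs = true)
    (hN2 : N < 2 ^ ((2 + Qs.length) * (2 + Qs.length))) {X : Type*} [Group X] (h : IsPSU X)
    (h0 : n0 ∣ Nat.card X) (hN : Nat.card X ≤ N) :
    ∃ (F : Type) (_ : Field F) (_ : Fintype F) (n q : ℕ), (n, q) ∈ E ∧ Fintype.card F = q ^ 2 ∧
      Nonempty (X ≃* PSU n F q) := by
  obtain ⟨F, i1, i2, n, q, hF, hn, -, ⟨g⟩⟩ := h
  have hq : 2 ≤ q := by
    have h1 : 1 < q ^ 2 := hF ▸ Fintype.one_lt_card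
    by_contra hcon
    interval_cases q <;> norm_num at h1
  rw [Nat.card_congr g.toEquiv] at h0 hN
  refine ⟨F, i1, i2, n, q, ?_, hF, ⟨g⟩⟩
  have hc : den n q * Nat.card (PSU n F q) = f n q := by
    rw [den, f, mul_assoc, ← pr_eq]
    exact S0280.result hF n (by omega)
  exact core hbox hn hq hc (low hq (by omega) hc) (fun k hk => big hN2 k (by omega)) h0 hN

end Cfsg.Agent.OddHalf.Orders.PSU

end

-- merged: Cfsg.Agent.OddHalf.Orders.POmega
section

/-!
# Order engine: the orthogonal groups (helper286)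
-/

set_option autoImplicit false

namespace Cfsg.Agent.OddHalf.Orders.POmega

open Cfsg Cfsg.Agent.OddHalf.Orders.Box

/-- the product -/
def pr (q : ℕ) : ℕ → ℕ
  | 0 => 1
  | i + 1 => pr q i * (q ^ (2 * (i + 1)) - 1)

theorem pr_eq (q n : ℕ) : ∏ i ∈ Finset.range n, (q ^ (2 * (i + 1)) - 1) = pr q n := by
  induction n with
  | zero => rfl
  | succ n ih => rw [Finset.prod_range_succ, ih, pr]

theorem pow_le {q : ℕ} (hq : 2 ≤ q) (k : ℕ) : q ^ k ≤ q ^ (k + 1) - 1 := by
  have h1 : 1 ≤ q ^ k := Nat.one_le_pow _ _ (by omega)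
  have h2 : q ^ k + 1 ≤ q ^ (k + 1) := by
    rw [pow_succ]
    nlinarith
  omega

theorem le_pr {q : ℕ} (hq : 2 ≤ q) : ∀ n : ℕ, q ^ (n * n) ≤ pr q n
  | 0 => by simp [pr]
  | n + 1 => by
    have ih := le_pr hq n
    rw [pr, show (n + 1) * (n + 1) = n * n + (2 * n + 1) by ring, pow_add]
    exact Nat.mul_le_mul ih (pow_le hq (2 * n + 1))

/-! ### Odd dimension -/

/-- numerator of the order -/
def fO (m q : ℕ) : ℕ := q ^ (m ^ 2) * pr q m

/-- exponent of the lower bound -/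
def eO (m : ℕ) : ℕ := 2 * (m * m)

theorem lowO {q c m : ℕ} (hq : 2 ≤ q) (hc : 2 * c = fO m q) : q ^ eO m ≤ 2 * c := by
  rw [hc, fO, eO, two_mul, pow_add, pow_two m]
  exact Nat.mul_le_mul_left _ (le_pr hq m)

theorem eO_mono : Monotone eO := fun a b h => Nat.mul_le_mul_left _ (Nat.mul_le_mul h h)

/-- **the orthogonal groups of odd dimension** with `n0 ∣ |X| ≤ N`: only the survivors `E` -/
theorem odd {n0 N : ℕ} {E : List (ℕ × ℕ)} {Qs : List ℕ}
    (hbox : box n0 N E fO (fun _ _ => 2) eO (fun _ => 2) 3 Qs = true)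
    (hN2 : 2 * N < 2 ^ eO (3 + Qs.length)) {X : Type*} [Group X] (h : IsPOmegaOdd X)
    (h0 : n0 ∣ Nat.card X) (hN : Nat.card X ≤ N) :
    ∃ (F : Type) (_ : Field F) (_ : Fintype F) (m : ℕ), (m, Fintype.card F) ∈ E ∧ Odd (Fintype.card F) ∧
      Nonempty (X ≃* POmega F (quadFormOdd m F)) := by
  obtain ⟨F, i1, i2, m, hm, hodd, ⟨g⟩⟩ := h
  have hq : 2 ≤ Fintype.card F := Fintype.one_lt_card
  rw [Nat.card_congr g.toEquiv] at h0 hN
  refine ⟨F, i1, i2, m, ?_, hodd, ⟨g⟩⟩
  have hc : 2 * Nat.card (POmega F (quadFormOdd m F)) = fO m (Fintype.card F) := by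
    rw [fO, ← pr_eq]
    exact S0292.result rfl hodd m hm
  exact core (D := fun _ => 2) (den := fun _ _ => 2) hbox hm hq hc (lowO hq hc)
    (big_of_mono (D := 2) eO_mono hN2) h0 hN

/-! ### Even dimension -/

/-- exponent of the lower bound -/
def eP (m : ℕ) : ℕ := 2 * (m * (m - 1))

theorem eP_mono : Monotone eP := fun a b h =>
  Nat.mul_le_mul_left _ (Nat.mul_le_mul h (Nat.sub_le_sub_right h 1))

/-- numerator of the order, plus type -/
def fP (m q : ℕ) : ℕ := q ^ (m * (m - 1)) * (q ^ m - 1) * pr q (m - 1)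

/-- denominator of the order, plus type -/
def dP (m q : ℕ) : ℕ := Nat.gcd 4 (q ^ m - 1)

/-- numerator of the order, minus type -/
def fM (m q : ℕ) : ℕ := q ^ (m * (m - 1)) * (q ^ m + 1) * pr q (m - 1)

/-- denominator of the order, minus type -/
def dM (m q : ℕ) : ℕ := Nat.gcd 4 (q ^ m + 1)

theorem low_aux {q m a : ℕ} (hq : 2 ≤ q) (hm : 1 ≤ m) (ha : q ^ (m - 1) ≤ a) :
    q ^ eP m ≤ q ^ (m * (m - 1)) * a * pr q (m - 1) := by
  obtain ⟨k, rfl⟩ : ∃ k, m = k + 1 := ⟨m - 1, by omega⟩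
  rw [Nat.add_sub_cancel] at *
  calc q ^ eP (k + 1) = q ^ ((k + 1) * k) * q ^ k * q ^ (k * k) := by
        rw [← pow_add, ← pow_add, eP, Nat.add_sub_cancel]
        congr 1
        ring
    _ ≤ _ := Nat.mul_le_mul (Nat.mul_le_mul_left _ ha) (le_pr hq k)

theorem lowP {q c m : ℕ} (hq : 2 ≤ q) (hm : 1 ≤ m) (hc : dP m q * c = fP m q) : q ^ eP m ≤ 4 * c := by
  have h1 : q ^ eP m ≤ dP m q * c := by
    rw [hc]
    refine low_aux hq hm ?_
    have := pow_le hq (m - 1)
    rwa [show m - 1 + 1 = m by omega] at this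
  exact h1.trans (Nat.mul_le_mul_right _ (Nat.gcd_le_left _ (by norm_num)))

theorem lowM {q c m : ℕ} (hq : 2 ≤ q) (hm : 1 ≤ m) (hc : dM m q * c = fM m q) : q ^ eP m ≤ 4 * c := by
  have h1 : q ^ eP m ≤ dM m q * c := by
    rw [hc]
    refine low_aux hq hm ?_
    exact (Nat.pow_le_pow_right (by omega) (Nat.sub_le m 1)).trans (Nat.le_succ _)
  exact h1.trans (Nat.mul_le_mul_right _ (Nat.gcd_le_left _ (by norm_num)))

/-- **the orthogonal groups of plus type** with `n0 ∣ |X| ≤ N`: only the survivors `E` -/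
theorem plus {n0 N : ℕ} {E : List (ℕ × ℕ)} {Qs : List ℕ} (hbox : box n0 N E fP dP eP (fun _ => 4) 4 Qs = true)
    (hN2 : 4 * N < 2 ^ eP (4 + Qs.length)) {X : Type*} [Group X] (h : IsPOmegaPlus X)
    (h0 : n0 ∣ Nat.card X) (hN : Nat.card X ≤ N) :
    ∃ (F : Type) (_ : Field F) (_ : Fintype F) (m : ℕ), (m, Fintype.card F) ∈ E ∧
      Nonempty (X ≃* POmega F (quadFormPlus m F)) := by
  obtain ⟨F, i1, i2, m, hm, ⟨g⟩⟩ := h
  have hq : 2 ≤ Fintype.card F := Fintype.one_lt_card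
  rw [Nat.card_congr g.toEquiv] at h0 hN
  refine ⟨F, i1, i2, m, ?_, ⟨g⟩⟩
  have hc : dP m (Fintype.card F) * Nat.card (POmega F (quadFormPlus m F)) = fP m (Fintype.card F) := by
    rw [dP, fP, ← pr_eq]
    exact S0293.result rfl m hm
  exact core (D := fun _ => 4) hbox hm hq hc (lowP hq (by omega) hc) (big_of_mono (D := 4) eP_mono hN2) h0 hN

/-- **the orthogonal groups of minus type** with `n0 ∣ |X| ≤ N`: only the survivors `E` -/
theorem minus {n0 N : ℕ} {E : List (ℕ × ℕ)} {Qs : List ℕ} (hbox : box n0 N E fM dM eP (fun _ => 4) 4 Qs = true)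
    (hN2 : 4 * N < 2 ^ eP (4 + Qs.length)) {X : Type*} [Group X] (h : IsPOmegaMinus X)
    (h0 : n0 ∣ Nat.card X) (hN : Nat.card X ≤ N) :
    ∃ (F : Type) (_ : Field F) (_ : Fintype F) (m : ℕ) (a b : F), (m, Fintype.card F) ∈ E ∧
      (∀ z₁ z₂ : F, z₁ ^ 2 + a * z₁ * z₂ + b * z₂ ^ 2 = 0 → z₁ = 0 ∧ z₂ = 0) ∧
      Nonempty (X ≃* POmega F (quadFormMinus (m - 1) F a b)) := by
  obtain ⟨F, i1, i2, m, a, b, hm, hab, ⟨g⟩⟩ := h
  have hq : 2 ≤ Fintype.card F := Fintype.one_lt_card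
  rw [Nat.card_congr g.toEquiv] at h0 hN
  refine ⟨F, i1, i2, m, a, b, ?_, hab, ⟨g⟩⟩
  have hc : dM m (Fintype.card F) * Nat.card (POmega F (quadFormMinus (m - 1) F a b)) = fM m (Fintype.card F) := by
    rw [dM, fM, ← pr_eq]
    exact S0294.result rfl m hm a b hab
  exact core (D := fun _ => 4) hbox hm hq hc (lowM hq (by omega) hc) (big_of_mono (D := 4) eP_mono hN2) h0 hN

end Cfsg.Agent.OddHalf.Orders.POmega

end

-- merged: Cfsg.Agent.OddHalf.Orders.ClsInst
section

/-!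
# Order engine: unitary and orthogonal groups, instances (helper286)

`(n0, N) = (|Fi22|, |Fi23|/2)` and `(|U6(2)|, |Fi22|/2)`.
-/

set_option autoImplicit false
set_option maxRecDepth 100000

namespace Cfsg.Agent.OddHalf.Orders.ClsInst

open Cfsg Cfsg.Agent.OddHalf.Orders.Box

/-! ### `|Fi22|` and `|Fi23| / 2` -/

theorem u_box23 : box 64561751654400 2044735236646502400 [] PSU.f PSU.den PSU.e id 3
    [1353, 38, 9, 5, 3, 3] = true := by decide +kernel

theorem o_box23 : box 64561751654400 2044735236646502400 [] POmega.fO (fun _ _ => 2) POmega.eO (fun _ => 2) 3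
    [11, 4, 3] = true := by decide +kernel

theorem p_box23 : box 64561751654400 2044735236646502400 [] POmega.fP POmega.dP POmega.eP (fun _ => 4) 4
    [7, 3, 3] = true := by decide +kernel

theorem m_box23 : box 64561751654400 2044735236646502400 [] POmega.fM POmega.dM POmega.eP (fun _ => 4) 4
    [7, 3, 3] = true := by decide +kernel

variable {X : Type*} [Group X]

theorem psu_fi23 (h : IsPSU X) (h0 : 64561751654400 ∣ Nat.card X) (hN : Nat.card X ≤ 2044735236646502400) :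
    False := by
  obtain ⟨F, _, _, n, q, h, -⟩ := PSU.psu u_box23 (by norm_num) h h0 hN
  exact absurd h (by simp)

theorem pomegaOdd_fi23 (h : IsPOmegaOdd X) (h0 : 64561751654400 ∣ Nat.card X)
    (hN : Nat.card X ≤ 2044735236646502400) : False := by
  obtain ⟨F, _, _, n, h, -⟩ := POmega.odd o_box23 (by norm_num [POmega.eO]) h h0 hN
  exact absurd h (by simp)

theorem pomegaPlus_fi23 (h : IsPOmegaPlus X) (h0 : 64561751654400 ∣ Nat.card X)
    (hN : Nat.card X ≤ 2044735236646502400) : False := by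
  obtain ⟨F, _, _, n, h, -⟩ := POmega.plus p_box23 (by norm_num [POmega.eP]) h h0 hN
  exact absurd h (by simp)

theorem pomegaMinus_fi23 (h : IsPOmegaMinus X) (h0 : 64561751654400 ∣ Nat.card X)
    (hN : Nat.card X ≤ 2044735236646502400) : False := by
  obtain ⟨F, _, _, n, a, b, h, -⟩ := POmega.minus m_box23 (by norm_num [POmega.eP]) h h0 hN
  exact absurd h (by simp)

/-! ### `|U6(2)|` and `|Fi22| / 2` -/

end Cfsg.Agent.OddHalf.Orders.ClsInst

end

-- merged: Cfsg.Agent.OddHalf.Orders.KnownFi23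
section

/-!
# Order engine: instance `(|Fi₂₂|, |Fi₂₃| / 2)` (helper907)

`spor_of_fi23`: a known simple group `X` with `|Fi₂₂| ∣ |X| ≤ |Fi₂₃| / 2` is sporadic.
-/

set_option autoImplicit false

namespace Cfsg.Agent.OddHalf.Orders

open Cfsg

universe u

variable {X : Type u} [Group X]

theorem tits_fi23 (h : Lie.IsoTits X) (h0 : 64561751654400 ∣ Nat.card X) : False := by
  obtain ⟨e⟩ := h
  have h1 := S1068.result (K := ZMod 2) (m := 0) (by rw [ZMod.card]; norm_num)
  have h2 : Nat.card ↥(Lie.twistedF4 (ZMod 2) 1) = 35942400 := by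
    rw [show (1 : ℕ) = 2 ^ 0 from rfl, h1]
    norm_num
  have hfin : Finite ↥(Lie.twistedF4 (ZMod 2) 1) := Nat.finite_of_card_ne_zero (by rw [h2]; norm_num)
  have h3 : Nat.card X ∣ 35942400 := by
    rw [Nat.card_congr e.toEquiv, ← h2]
    exact Subgroup.card_subgroup_dvd_card _
  exact absurd (h0.trans h3) (by norm_num)

theorem alt_nat_fi23 {n : ℕ} (h5 : 5 ≤ n) (h0 : 64561751654400 ∣ n.factorial / 2)
    (hN : n.factorial / 2 ≤ 2044735236646502400) : False := by
  rcases Nat.lt_or_ge n 21 with hn | hn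
  · interval_cases n <;> revert h0 <;> decide
  · have h1 : (21).factorial ≤ n.factorial := Nat.factorial_le hn
    have h2 : (21).factorial / 2 ≤ n.factorial / 2 := Nat.div_le_div_right h1
    have h3 : 2044735236646502400 < (21).factorial / 2 := by decide
    omega

/-- alternating groups -/
theorem alt_fi23 (h : IsAlternating X) (h0 : 64561751654400 ∣ Nat.card X)
    (hN : Nat.card X ≤ 2044735236646502400) : False := by
  obtain ⟨n, hn, ⟨e⟩⟩ := h
  have : Nontrivial (Fin n) := ⟨⟨0, by omega⟩, ⟨1, by omega⟩, by simp⟩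
  have h1 := Nat.card_congr e.toEquiv
  rw [nat_card_alternatingGroup, Nat.card_fin] at h1
  rw [h1] at h0 hN
  exact alt_nat_fi23 hn h0 hN

/-- **only sporadic groups** -/
theorem spor_of_fi23 (h : IsKnownSimple' X) (hna : ¬ IsMulCommutative X) (h0 : 64561751654400 ∣ Nat.card X)
    (hN : Nat.card X ≤ 2044735236646502400) : IsSporadicGroup X := by
  rcases h with h | h | h | h | h | h | h | h | h | h
  · exfalso
    apply hna
    have h1 : Fact (Nat.card X).Prime := ⟨h⟩
    have h2 : IsCyclic X := isCyclic_of_prime_card (p := Nat.card X) rfl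
    infer_instance
  · exact (alt_fi23 h h0 hN).elim
  · exact (psl_fi23 h h0 hN).elim
  · exact (psp_fi23 h h0 hN).elim
  · exact (ClsInst.psu_fi23 h h0 hN).elim
  · exact (ClsInst.pomegaOdd_fi23 h h0 hN).elim
  · exact (ClsInst.pomegaPlus_fi23 h h0 hN).elim
  · exact (ClsInst.pomegaMinus_fi23 h h0 hN).elim
  · rcases h with h | h | h | h | h | h | h | h | h | h | h
    · exact (g2_fi23 h h0 hN).elim
    · exact (f4_fi23 h h0 hN).elim
    · exact (e6_fi23 h hN).elim
    · exact (e7_fi23 h hN).elim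
    · exact (e8_fi23 h hN).elim
    · exact (e26_fi23 h hN).elim
    · exact (d4_fi23 h h0 hN).elim
    · exact (sz_fi23 h h0 hN).elim
    · exact (ree_fi23 h h0 hN).elim
    · exact (f42_fi23 h h0 hN).elim
    · exact (tits_fi23 h h0).elim
  · exact h

end Cfsg.Agent.OddHalf.Orders

end

-- merged: Cfsg.Agent.OddHalf.D8.Fi23.Pump
section

/-!
# ODD half, D8, row `K = Fi₂₃` (helper907): the pump-up of `2.Fi₂₂` by orders
-/

set_option autoImplicit false

namespace Cfsg.Agent.OddHalf.D8.Fi23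

open scoped commutatorElement
open Subgroup Cfsg Cfsg.Agent.OddHalf.Iface Cfsg.Agent.OddHalf.D9.Cut

universe u

/-- the orders of the sporadic groups with even multiplier: only `Fi₂₂` -/
def SporOrd : Prop := ∀ (X : Type u) [Group X], (Spor.IsoM12 X ∨ Spor.IsoJ2 X ∨
  Spor.IsoHS X ∨ Spor.IsoSuz X ∨ Spor.IsoRu X ∨ Spor.IsoFi22 X ∨ Spor.IsoCo1 X ∨ Spor.IsoB X ∨ Spor.IsoM22 X) →
    64561751654400 ∣ Nat.card X → Nat.card X ≤ 2044735236646502400 → Nat.card X = 64561751654400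

theorem exc2_fi23 (O : SporOrd.{u}) {X : Type u} [Group X] (h : Exc2 X) (h0 : 64561751654400 ∣ Nat.card X)
    (hp : 0 < Nat.card X) (hN : Nat.card X ≤ 2044735236646502400) : Nat.card X = 64561751654400 := by
  have hlt : ∀ {c : ℕ}, Nat.card X = c → c < 64561751654400 → False := by
    intro c h1 h2
    have := Nat.le_of_dvd hp h0
    omega
  rcases h with h | h | h | h | h | h | h | h | h | h | h | h | h | h
  · exact (hlt (Fi22.OrdEven.card_u62 h) (by norm_num)).elim
  · exact (hlt (Fi22.OrdEven.card_sp62 h) (by norm_num)).elim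
  · exact (hlt (Fi22.OrdEven.card_o82 h) (by norm_num)).elim
  · exact (hlt (Fi22.OrdEven.card_g24 h) (by norm_num)).elim
  · rw [Fi22.OrdEven.card_f42 h] at h0
    exact absurd h0 (by norm_num)
  · obtain ⟨F, i1, i2, hF, he⟩ := h
    exact (Orders.e26_fi23 ⟨F, i1, i2, 2, Nat.prime_two.isPrimePow, by rw [hF]; norm_num, he⟩ hN).elim
  · exact O X (by simp only [h, true_or, or_true]) h0 hN
  · exact O X (by simp only [h, true_or, or_true]) h0 hN
  · exact O X (by simp only [h, true_or, or_true]) h0 hN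
  · exact O X (by simp only [h, true_or, or_true]) h0 hN
  · exact O X (by simp only [h, true_or, or_true]) h0 hN
  · exact O X (by simp only [h, true_or, or_true]) h0 hN
  · exact O X (by simp only [h, true_or, or_true]) h0 hN
  · exact O X (by simp only [h, true_or, or_true]) h0 hN

theorem exc4_fi23 (O : SporOrd.{u}) {X : Type u} [Group X] (h : Exc4 X) (h0 : 64561751654400 ∣ Nat.card X)
    (hp : 0 < Nat.card X) (hN : Nat.card X ≤ 2044735236646502400) : Nat.card X = 64561751654400 := by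
  rcases h with h | h
  · have := Nat.le_of_dvd hp h0
    rw [Fi22.OrdEven.card_l34 h] at this
    omega
  · exact O X (by simp only [h, true_or, or_true]) h0 hN

/-- **the pump-up of `2.Fi₂₂`** -/
theorem pump (M : Mult.{u}) (O : SporOrd.{u}) {G : Type u} [Group G] (C : Ctx G) {K : Subgroup G} (S : Std G K)
    (hK : Nat.card K = 4089470473293004800) {a : G} {D J : Subgroup G} (ha : orderOf a = 2) (hD : CompOf a D)
    (hJD : J < D) (haJ : a ∈ J) (hJp : ⁅J, J⁆ = J)
    (hJz : ∀ x ∈ J, (∀ y ∈ J, x * y = y * x) → x = 1 ∨ x = a) (hJc : Nat.card J = 129123503308800) : False := by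
  obtain ⟨Y, _, hY, hcen, hk, hna, h0, hN, hne⟩ := Orders.Quo.exists_cover C S (n := 64561751654400)
    (N := 2044735236646502400) (by rw [hK]; norm_num) ha hD hJD.le hJD.ne haJ hJp hJz (by rw [hJc])
  have := hY.1
  have hp : 0 < Nat.card (Y ⧸ center Y) := Nat.card_pos
  have hs := Orders.spor_of_fi23 hk hna h0 hN
  exact hcen (M.spor Y hY hs (fun h => hne (exc2_fi23 O h h0 hp hN)) fun h => hne (exc4_fi23 O h h0 hp hN))

end Cfsg.Agent.OddHalf.D8.Fi23

end
end

-- part: OddHalf/D8/Fi23/Row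
section
-- merged: Cfsg.Agent.OddHalf.D8.Fi23.SheetMap
section

/-!
# ODD half, D8, row `K = Fi₂₃` (helper907): the facts are invariant under isomorphisms
-/

set_option autoImplicit false

namespace Cfsg.Agent.OddHalf.D8.Fi23

open scoped commutatorElement
open Subgroup

section

variable {K L : Type*} [Group K] [Group L] (g : L ≃* K)

theorem mem_comap_equiv {A : Subgroup K} {x : L} : x ∈ A.comap g.toMonoidHom ↔ g x ∈ A := Iff.rfl

theorem card_comap_equiv (A : Subgroup K) : Nat.card (A.comap g.toMonoidHom) = Nat.card A :=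
  Nat.card_congr (Equiv.subtypeEquiv g.toEquiv fun _ => Iff.rfl)

theorem mem_normalizer_comap {A : Subgroup K} {n : L} :
    n ∈ normalizer (A.comap g.toMonoidHom : Set L) ↔ g n ∈ normalizer (A : Set K) := by
  rw [mem_normalizer_iff, mem_normalizer_iff]
  constructor
  · intro h x
    have h1 := h (g.symm x)
    rw [mem_comap_equiv, mem_comap_equiv, map_mul, map_mul, map_inv, g.apply_symm_apply] at h1
    exact h1
  · intro h x
    rw [mem_comap_equiv, mem_comap_equiv, map_mul, map_mul, map_inv]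
    exact h (g x)

theorem normalizer_comap_equiv (A : Subgroup K) :
    normalizer (A.comap g.toMonoidHom : Set L) = (normalizer (A : Set K)).comap g.toMonoidHom := by
  ext n; exact mem_normalizer_comap g

theorem mem_centralizer_comap {b : K} {x : L} :
    x ∈ centralizer ({g.symm b} : Set L) ↔ g x ∈ centralizer ({b} : Set K) := by
  rw [mem_centralizer_singleton_iff, mem_centralizer_singleton_iff]
  constructor
  · intro h
    have h1 := congrArg g h
    rwa [map_mul, map_mul, g.apply_symm_apply] at h1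
  · intro h
    apply g.injective
    rw [map_mul, map_mul, g.apply_symm_apply, h]

theorem centralizer_comap_equiv (b : K) :
    centralizer ({g.symm b} : Set L) = (centralizer ({b} : Set K)).comap g.toMonoidHom := by
  ext x; exact mem_centralizer_comap g

theorem commutator_comap_equiv (A : Subgroup K) :
    ⁅A.comap g.toMonoidHom, A.comap g.toMonoidHom⁆ = ⁅A, A⁆.comap g.toMonoidHom := by
  have e : ∀ B : Subgroup K, B.comap g.toMonoidHom = B.map g.symm.toMonoidHom := fun B =>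
    Subgroup.comap_equiv_eq_map_symm' g B
  rw [e, e, Subgroup.map_commutator]

end

/-- **Transport of the facts** -/
theorem Sheet.comap {K L : Type*} [Group K] [Group L] (g : L ≃* K) {A : Subgroup K} {S : Sylow 2 K}
    {a : Fin 23 → K} (h : Sheet K A S a) : ∃ T : Sylow 2 L, Sheet L (A.comap g.toMonoidHom) T
      (fun i => g.symm (a i)) := by
  have hr : (S : Subgroup K) ≤ g.toMonoidHom.range := by
    intro x _
    exact ⟨g.symm x, g.apply_symm_apply x⟩
  refine ⟨S.comapOfInjective g.toMonoidHom g.injective hr, ?_⟩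
  have hS : ((S.comapOfInjective g.toMonoidHom g.injective hr : Sylow 2 L) : Subgroup L) =
      (S : Subgroup K).comap g.toMonoidHom := rfl
  have hconj : ∀ {x : L} {b : K}, IsConj (g x) b → IsConj x (g.symm b) := by
    intro x b hx
    obtain ⟨c, hc⟩ := isConj_iff.1 hx
    exact isConj_iff.2 ⟨g.symm c, by rw [← hc, map_mul, map_mul, map_inv, g.symm_apply_apply]⟩
  exact
    { sq := fun x hx => g.injective (by rw [map_mul, map_one]; exact h.sq _ hx)
      cardA := by rw [card_comap_equiv, h.cardA]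
      self := fun x hx => by
        apply h.self
        intro y hy
        have h1 := congrArg g (hx (g.symm y) (by rw [mem_comap_equiv, g.apply_symm_apply]; exact hy))
        rwa [map_mul, map_mul, g.apply_symm_apply] at h1
      mem := fun i => by rw [mem_comap_equiv, g.apply_symm_apply]; exact h.mem i
      shape := fun x hx => by
        rcases h.shape (g x) hx with h1 | ⟨i, h1⟩ | ⟨i, j, h1⟩ | ⟨i, j, k, h1⟩
        · exact Or.inl (g.injective (by rw [h1, map_one]))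
        · exact Or.inr (Or.inl ⟨i, by rw [← h1, g.symm_apply_apply]⟩)
        · exact Or.inr (Or.inr (Or.inl ⟨i, j, by rw [← map_mul, ← h1, g.symm_apply_apply]⟩))
        · exact Or.inr (Or.inr (Or.inr ⟨i, j, k, by rw [← map_mul, ← map_mul, ← h1, g.symm_apply_apply]⟩))
      perm := fun n hn i => by
        obtain ⟨j, hj⟩ := h.perm _ ((mem_normalizer_comap g).1 hn) i
        refine ⟨j, ?_⟩
        show n * g.symm (a i) * n⁻¹ = g.symm (a j)
        rw [← hj, map_mul, map_mul, map_inv, g.symm_apply_apply]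
      three := fun i j k i' j' k' h1 h2 h3 h4 h5 h6 => by
        obtain ⟨n, hn, e1, e2, e3⟩ := h.three i j k i' j' k' h1 h2 h3 h4 h5 h6
        refine ⟨g.symm n, (mem_normalizer_comap g).2 (by rw [g.apply_symm_apply]; exact hn), ?_, ?_, ?_⟩
        · show g.symm n * g.symm (a i) * (g.symm n)⁻¹ = g.symm (a i')
          rw [← e1, map_mul, map_mul, map_inv]
        · show g.symm n * g.symm (a j) * (g.symm n)⁻¹ = g.symm (a j')
          rw [← e2, map_mul, map_mul, map_inv]
        · show g.symm n * g.symm (a k) * (g.symm n)⁻¹ = g.symm (a k')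
          rw [← e3, map_mul, map_mul, map_inv]
      fix := fun n hn h8 => by
        apply h.fix _ ((mem_normalizer_comap g).1 hn)
        refine h8.trans (Set.ncard_le_ncard ?_ (Set.toFinite _))
        intro i hi
        have h0 : n * g.symm (a i) = g.symm (a i) * n := hi
        have h1 := congrArg g h0
        rw [map_mul, map_mul, g.apply_symm_apply] at h1
        exact h1
      cardN := by rw [normalizer_comap_equiv, card_comap_equiv, h.cardN]
      AS := fun x hx => h.AS hx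
      cardS := by rw [hS, card_comap_equiv, h.cardS]
      uniq := fun B hB hB2 hB3 => by
        have h1 := h.uniq (B.comap g.symm.toMonoidHom) ?_ ?_ ?_
        · rw [← h1]
          ext x
          show x ∈ B ↔ g.symm (g x) ∈ B
          rw [g.symm_apply_apply]
        · intro x hx
          have h2 : g.symm x ∈ (S : Subgroup K).comap g.toMonoidHom := hB hx
          rw [mem_comap_equiv, g.apply_symm_apply] at h2
          exact h2
        · intro x hx
          apply g.symm.injective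
          rw [map_mul, map_one]
          exact hB2 _ hx
        · rw [card_comap_equiv g.symm]; exact hB3
      inv := fun x h1 h2 => by
        have h3 : g x * g x = 1 := by rw [← map_mul, h1, map_one]
        have h4 : g x ≠ 1 := fun h5 => h2 (g.injective (by rw [h5, map_one]))
        rcases h.inv _ h3 h4 with h5 | h5 | h5
        · exact Or.inl (hconj h5)
        · refine Or.inr (Or.inl ?_)
          show IsConj x (g.symm (a 0) * g.symm (a 1))
          rw [← map_mul]; exact hconj h5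
        · refine Or.inr (Or.inr ?_)
          show IsConj x (g.symm (a 0) * g.symm (a 1) * g.symm (a 2))
          rw [← map_mul, ← map_mul]; exact hconj h5
      der2 := by
        show g.symm (a 0) * g.symm (a 1) ∈ ⁅centralizer ({g.symm (a 0) * g.symm (a 1)} : Set L),
          centralizer ({g.symm (a 0) * g.symm (a 1)} : Set L)⁆
        rw [← map_mul, centralizer_comap_equiv, commutator_comap_equiv, mem_comap_equiv, g.apply_symm_apply]
        exact h.der2
      der3 := by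
        show g.symm (a 0) * g.symm (a 1) * g.symm (a 2) ∈
          ⁅centralizer ({g.symm (a 0) * g.symm (a 1) * g.symm (a 2)} : Set L),
          centralizer ({g.symm (a 0) * g.symm (a 1) * g.symm (a 2)} : Set L)⁆
        rw [← map_mul, ← map_mul, centralizer_comap_equiv, commutator_comap_equiv, mem_comap_equiv,
          g.apply_symm_apply]
        exact h.der3
      qs := by
        show Cfsg.IsQuasisimple ↥(centralizer ({g.symm (a 0)} : Set L))
        rw [centralizer_comap_equiv, Subgroup.comap_equiv_eq_map_symm']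
        exact Cfsg.Agent.SignalizersComponents.PLayerAut.isQuasisimple_of_equiv (g.symm.subgroupMap _) h.qs
      cen := fun x hx => by
        rcases h.cen (g x) (fun y hy => by
          have h1 := hx (g.symm y) (by rw [← map_mul, hy, map_mul])
          have h2 := congrArg g h1
          rwa [map_mul, map_mul, g.apply_symm_apply] at h2) with h1 | h1
        · exact Or.inl (g.injective (by rw [h1, map_one]))
        · exact Or.inr (by rw [← h1, g.symm_apply_apply])
      thirteen := by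
        show 13 ∣ Nat.card ↥(centralizer ({g.symm (a 0)} : Set L))
        rw [centralizer_comap_equiv, card_comap_equiv]; exact h.thirteen
      gen := by
        show centralizer ({g.symm (a 0)} : Set L) ⊔ centralizer ({g.symm (a 1)} : Set L) = ⊤
        rw [centralizer_comap_equiv, centralizer_comap_equiv, Subgroup.comap_equiv_eq_map_symm',
          Subgroup.comap_equiv_eq_map_symm', ← Subgroup.map_sup, h.gen]
        exact Subgroup.map_top_of_surjective _ g.symm.surjective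
      c2 := by
        show ¬ 13 ∣ Nat.card ↥(centralizer ({g.symm (a 0) * g.symm (a 1)} : Set L))
        rw [← map_mul, centralizer_comap_equiv, card_comap_equiv]; exact h.c2
      c3 := by
        show ¬ 13 ∣ Nat.card ↥(centralizer ({g.symm (a 0) * g.symm (a 1) * g.symm (a 2)} : Set L))
        rw [← map_mul, ← map_mul, centralizer_comap_equiv, card_comap_equiv]; exact h.c3 }

end Cfsg.Agent.OddHalf.D8.Fi23

end

-- merged: Cfsg.Agent.OddHalf.D8.Fi23.QTwo
section

/-!
# `C_G(t) = Q × K` with `Q` a cyclic 2-group: `|Q| = 2` and `t` moves in `N_G(T)` (helper907)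
-/

set_option autoImplicit false

namespace Cfsg.Agent.OddHalf.D8.Fi23

open Subgroup Cfsg Cfsg.Agent.OddHalf
open scoped commutatorElement

universe u

/-- `C_G(t) = Q × K` -/
structure Pre {G : Type u} [Group G] (t q : G) (K A S : Subgroup G) (a : Fin 23 → G) : Prop where
  st : Front.FE.Start K t q
  loc : Loc K A S a
  cent : ∀ g, g * t = t * g → ∃ y ∈ zpowers q, y * g ∈ K

namespace Pre

variable {G : Type u} [Group G] {t q : G} {K A S : Subgroup G} {a : Fin 23 → G}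

theorem QK (P : Pre t q K A S a) {x y : G} (hx : x ∈ K) (hy : y ∈ zpowers q) : x * y = y * x :=
  P.st.toStart0.QK y hy x hx

theorem QQ {x y : G} (hx : x ∈ zpowers q) (hy : y ∈ zpowers q) : x * y = y * x := by
  obtain ⟨i, rfl⟩ := mem_zpowers_iff.1 hx
  obtain ⟨j, rfl⟩ := mem_zpowers_iff.1 hy
  rw [← zpow_add, ← zpow_add, add_comm]

theorem inter (P : Pre t q K A S a) {x : G} (hx : x ∈ K) (hq : x ∈ zpowers q) : x = 1 :=
  P.st.cen x hx fun _ hy => P.QK hy hq

theorem com (P : Pre t q K A S a) : ∀ k ∈ K, k * t = t * k := fun _ hk => P.QK hk P.st.tQ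

theorem tK (P : Pre t q K A S a) : t ∉ K := fun h => P.st.t1 (P.inter h P.st.tQ)

theorem Qt (P : Pre t q K A S a) : ∀ y ∈ zpowers q, y * t = t * y := fun _ hy => QQ hy P.st.tQ

/-- decomposition of the elements of `C(t)` -/
theorem dec (P : Pre t q K A S a) {g : G} (hg : g * t = t * g) : ∃ y ∈ zpowers q, ∃ k ∈ K, g = y * k := by
  obtain ⟨y, hy, hk⟩ := P.cent g hg
  exact ⟨y⁻¹, (zpowers q).inv_mem hy, y * g, hk, by group⟩

/-- commutators of `C(t)` lie in `K` -/
theorem der_le (P : Pre t q K A S a) : ⁅centralizer ({t} : Set G), centralizer ({t} : Set G)⁆ ≤ K := by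
  rw [Subgroup.commutator_le]
  intro g hg h hh
  obtain ⟨u, hu, k, hk, rfl⟩ := P.dec (mem_centralizer_singleton_iff.1 hg)
  obtain ⟨v, hv, l, hl, rfl⟩ := P.dec (mem_centralizer_singleton_iff.1 hh)
  have e : ⁅u * k, v * l⁆ = ⁅k, l⁆ := by
    have hu' := (zpowers q).inv_mem hu
    have hv' := (zpowers q).inv_mem hv
    rw [commutatorElement_def, commutatorElement_def, mul_inv_rev, mul_inv_rev]
    calc u * k * (v * l) * (k⁻¹ * u⁻¹) * (l⁻¹ * v⁻¹)
        = u * (k * v) * l * k⁻¹ * u⁻¹ * (l⁻¹ * v⁻¹) := by group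
      _ = u * v * (k * l * k⁻¹ * u⁻¹) * (l⁻¹ * v⁻¹) := by rw [P.QK hk hv]; group
      _ = u * v * (u⁻¹ * (k * l * k⁻¹)) * (l⁻¹ * v⁻¹) := by
          rw [P.QK (K.mul_mem (K.mul_mem hk hl) (K.inv_mem hk)) hu']
      _ = (u * v) * u⁻¹ * ((k * l * k⁻¹ * l⁻¹) * v⁻¹) := by group
      _ = (v * u) * u⁻¹ * (v⁻¹ * (k * l * k⁻¹ * l⁻¹)) := by
          rw [QQ hu hv, P.QK (K.mul_mem (K.mul_mem (K.mul_mem hk hl) (K.inv_mem hk)) (K.inv_mem hl)) hv']
      _ = k * l * k⁻¹ * l⁻¹ := by group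
  rw [e, commutatorElement_def]
  exact K.mul_mem (K.mul_mem (K.mul_mem hk hl) (K.inv_mem hk)) (K.inv_mem hl)

/-- `t` is not conjugate to an element of `K` -/
theorem not_conj (P : Pre t q K A S a) {x : G} (hx : x ∈ K) (g : G) : g * t * g⁻¹ ≠ x := by
  intro h
  have tt := P.st.tt
  have hsq : x * x = 1 := by
    rw [← h]
    calc g * t * g⁻¹ * (g * t * g⁻¹) = g * (t * t) * g⁻¹ := by group
      _ = 1 := by rw [tt]; group
  have hx1 : x ≠ 1 := by
    intro h1
    rw [h1, mul_inv_eq_one] at h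
    exact P.st.t1 (mul_eq_left.1 h)
  have h1 := P.loc.der x hx hsq hx1
  have h2 : x ∈ ⁅centralizer ({x} : Set G), centralizer ({x} : Set G)⁆ :=
    commutator_mono inf_le_right inf_le_right h1
  have h3 := Fr.mem_der_conj (n := g⁻¹) h2
  have e : g⁻¹ * x * g⁻¹⁻¹ = t := by rw [← h]; group
  rw [e] at h3
  exact P.tK (P.der_le h3)

/-- a conjugate of `t` in `C(t)` lies in `t K` -/
theorem conj_mem (P : Pre t q K A S a) [Finite G] {g : G} (h : g * t * g⁻¹ * t = t * (g * t * g⁻¹)) :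
    t * (g * t * g⁻¹) ∈ K := by
  have tt := P.st.tt
  obtain ⟨y, hy, k, hk, he⟩ := P.dec h
  have hsq : g * t * g⁻¹ * (g * t * g⁻¹) = 1 := by
    calc g * t * g⁻¹ * (g * t * g⁻¹) = g * (t * t) * g⁻¹ := by group
      _ = 1 := by rw [tt]; group
  rw [he] at hsq
  have h1 : (y * y) * (k * k) = 1 := by
    calc (y * y) * (k * k) = y * (y * k) * k := by group
      _ = y * (k * y) * k := by rw [P.QK hk hy]
      _ = y * k * (y * k) := by group
      _ = 1 := hsq
  have h2 : y * y = 1 := by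
    apply P.inter
    · have : y * y = (k * k)⁻¹ := eq_inv_of_mul_eq_one_left h1
      rw [this]; exact K.inv_mem (K.mul_mem hk hk)
    · exact (zpowers q).mul_mem hy hy
  by_cases hy1 : y = 1
  · exfalso
    rw [hy1, one_mul] at he
    exact P.not_conj hk g he
  · have h3 := P.st.toStart0.uniq hy h2 hy1
    rw [he, h3, ← mul_assoc, tt, one_mul]
    exact hk

/-- the index of `C(t)` is even -/
theorem even_index [Finite G] (P : Pre t q K A S a) (hG : commutator G = ⊤) :
    2 ∣ (centralizer ({t} : Set G)).index := by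
  classical
  have tt := P.st.tt
  set C := centralizer ({t} : Set G) with hC
  have htC : t ∈ C := mem_centralizer_singleton_iff.2 rfl
  have hKC : K ≤ C := fun k hk => mem_centralizer_singleton_iff.2 (P.com k hk)
  have : Fact (Nat.Prime 2) := ⟨Nat.prime_two⟩
  have : Fintype (G ⧸ C) := Fintype.ofFinite _
  let φ : C →* Abelianization C := Abelianization.of
  have hmap : (commutator C).map C.subtype = ⁅C, C⁆ := by
    rw [commutator_def, Subgroup.map_commutator, ← MonoidHom.range_eq_map, Subgroup.range_subtype]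
  have hφK : ∀ k : C, (k : G) ∈ K → φ k = 1 := by
    intro k hk
    rw [← MonoidHom.mem_ker, Abelianization.ker_of]
    rw [← P.loc.K_perf] at hk
    have h1 : (k : G) ∈ ⁅C, C⁆ := commutator_mono hKC hKC hk
    rw [← hmap] at h1
    obtain ⟨y, hy, hyk⟩ := h1
    have : y = k := Subtype.ext hyk
    rwa [← this]
  have hφt : φ ⟨t, htC⟩ ≠ 1 := by
    intro h
    rw [← MonoidHom.mem_ker, Abelianization.ker_of] at h
    apply P.tK
    apply P.der_le
    rw [← hC, ← hmap]
    exact ⟨_, h, rfl⟩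
  have hV : MonoidHom.transfer φ t = 1 := by
    have h1 := Abelianization.commutator_subset_ker (MonoidHom.transfer φ)
    rw [hG] at h1
    exact h1 (mem_top t)
  have ho : orderOf t = 2 := orderOf_eq_prime (by rw [pow_two, tt]) P.st.t1
  rw [D9.TransferGen.transfer_eq C φ t (by
    intro k hk hk1 g h
    rw [ho] at hk
    have hk2 : k = 2 := by
      have : k ≤ 2 := Nat.le_of_dvd (by norm_num) hk
      interval_cases k <;> simp_all only [_root_.Subtype.forall, _root_.ne_eq, _root_.zero_dvd_iff, _root_.OfNat.ofNat_ne_zero, _root_.isUnit_iff_eq_one, _root_.IsUnit.dvd, _root_.not_true_eq_false, _root_.dvd_refl, _root_.OfNat.ofNat_ne_one, _root_.not_false_eq_true, _root_.Std.le_refl]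
    subst hk2
    have e : (⟨g⁻¹ * t ^ 2 * g, h⟩ : C) = 1 := by
      apply Subtype.ext
      show g⁻¹ * t ^ 2 * g = 1
      rw [pow_two, tt]; group
    rw [e, map_one])] at hV
  have hval : ∀ x ∈ Finset.univ.filter (fun x : G ⧸ C => t • x = x),
      D9.TransferGen.val C φ t x = φ ⟨t, htC⟩ := by
    intro x hx
    rw [Finset.mem_filter] at hx
    obtain ⟨g, rfl⟩ := QuotientGroup.mk_surjective x
    have h1 := (D9.TransferGen.smul_mk_eq C t g).1 hx.2
    rw [D9.TransferGen.val_mk C φ t g h1]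
    have h2 : g⁻¹ * t * g⁻¹⁻¹ = g⁻¹ * t * g := by group
    have h3 := P.conj_mem (g := g⁻¹) (by
      rw [h2]
      exact mem_centralizer_singleton_iff.1 h1)
    rw [h2] at h3
    have h4 : (⟨g⁻¹ * t * g, h1⟩ : C) = ⟨t, htC⟩ * ⟨t * (g⁻¹ * t * g), hKC h3⟩ := by
      apply Subtype.ext
      show g⁻¹ * t * g = t * (t * (g⁻¹ * t * g))
      rw [← mul_assoc t t, tt, one_mul]
    rw [h4, map_mul, hφK ⟨t * (g⁻¹ * t * g), hKC h3⟩ h3, mul_one]
  rw [Finset.prod_congr rfl hval, Finset.prod_const] at hV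
  set n := (Finset.univ.filter (fun x : G ⧸ C => t • x = x)).card with hn
  have hn2 : 2 ∣ n := by
    have h1 : φ ⟨t, htC⟩ ^ 2 = 1 := by
      rw [← map_pow]
      have : (⟨t, htC⟩ : C) ^ 2 = 1 := Subtype.ext (by show t ^ 2 = 1; rw [pow_two, tt])
      rw [this, map_one]
    have h2 : orderOf (φ ⟨t, htC⟩) = 2 := orderOf_eq_prime h1 hφt
    rw [← h2]
    exact orderOf_dvd_of_pow_eq_one hV
  have hp : IsPGroup 2 (zpowers t) := by
    rintro ⟨x, hx⟩
    obtain ⟨i, rfl⟩ := mem_zpowers_iff.1 hx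
    refine ⟨1, Subtype.ext ?_⟩
    show (t ^ i) ^ (2 ^ 1) = 1
    have h2 : t ^ (2 : ℤ) = 1 := by
      rw [show (2 : ℤ) = 1 + 1 by norm_num, zpow_add, zpow_one, tt]
    rw [pow_one, pow_two, ← zpow_add, ← two_mul, zpow_mul, h2, one_zpow]
  have h1 := hp.card_modEq_card_fixedPoints (G ⧸ C)
  have h2 : Nat.card (MulAction.fixedPoints (zpowers t) (G ⧸ C)) = n := by
    rw [hn, ← Set.ncard_coe_finset, ← Nat.card_coe_set_eq]
    congr 1
    apply congrArg
    ext x
    rw [MulAction.mem_fixedPoints, Finset.coe_filter, Set.mem_ofPred_eq]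
    constructor
    · intro h
      exact ⟨Finset.mem_univ _, h ⟨t, mem_zpowers t⟩⟩
    · rintro ⟨-, h⟩ ⟨y, hy⟩
      have h3 : zpowers t ≤ MulAction.stabilizer G x := by
        rw [zpowers_le]; exact h
      exact h3 hy
  rw [h2] at h1
  have h3 : C.index = Nat.card (G ⧸ C) := rfl
  rw [h3]
  exact (Nat.ModEq.dvd_iff h1 dvd_rfl).2 hn2

/-! ### Growth -/

theorem mem_sup_comm {H L : Subgroup G} (hc : ∀ x ∈ H, ∀ k ∈ L, k * x = x * k) {y : G} :
    y ∈ H ⊔ L ↔ ∃ x ∈ H, ∃ k ∈ L, y = x * k := by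
  constructor
  · intro hy
    let M : Subgroup G :=
      { carrier := {y | ∃ x ∈ H, ∃ k ∈ L, y = x * k}
        one_mem' := ⟨1, one_mem _, 1, one_mem _, by group⟩
        mul_mem' := by
          rintro _ _ ⟨x, ha, k, hk, rfl⟩ ⟨b, hb, l, hl, rfl⟩
          refine ⟨x * b, mul_mem ha hb, k * l, mul_mem hk hl, ?_⟩
          calc x * k * (b * l) = x * (k * b) * l := by group
            _ = x * (b * k) * l := by rw [hc b hb k hk]
            _ = x * b * (k * l) := by group
        inv_mem' := by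
          rintro _ ⟨x, ha, k, hk, rfl⟩
          refine ⟨x⁻¹, inv_mem ha, k⁻¹, inv_mem hk, ?_⟩
          rw [mul_inv_rev, hc x⁻¹ (inv_mem ha) k⁻¹ (inv_mem hk)] }
    have h1 : H ⊔ L ≤ M := by
      rw [sup_le_iff]
      exact ⟨fun x ha => ⟨x, ha, 1, one_mem _, by group⟩, fun k hk => ⟨1, one_mem _, k, hk, by group⟩⟩
    exact h1 hy
  · rintro ⟨x, ha, k, hk, rfl⟩
    exact mul_mem ((le_sup_left : H ≤ _) ha) ((le_sup_right : L ≤ _) hk)

theorem mem_QS (P : Pre t q K A S a) {x : G} :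
    x ∈ zpowers q ⊔ S ↔ ∃ u ∈ zpowers q, ∃ s ∈ S, x = u * s :=
  mem_sup_comm fun _ hu _ hs => P.QK (P.loc.SK hs) hu

theorem QS_comm (P : Pre t q K A S a) {x y : G} (hx : x ∈ zpowers q ⊔ S) (hy : y ∈ zpowers q) :
    x * y = y * x := by
  obtain ⟨u, hu, s, hs, rfl⟩ := P.mem_QS.1 hx
  calc u * s * y = u * (s * y) := by group
    _ = (u * y) * s := by rw [P.QK (P.loc.SK hs) hy]; group
    _ = y * (u * s) := by rw [QQ hu hy]; group

theorem pQS (P : Pre t q K A S a) : IsPGroup 2 ↥(zpowers q ⊔ S) := by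
  apply P.st.pQ.to_sup_of_normal_right' P.loc.pS
  intro x hx
  rw [mem_normalizer_iff]
  intro y
  constructor
  · intro hy
    have : x * y * x⁻¹ = y := by rw [← P.QK (P.loc.SK hy) hx]; group
    rw [this]; exact hy
  · intro hy
    have h2 := P.QK (P.loc.SK hy) hx
    have : y = x * y * x⁻¹ := by
      have h3 : x * y = x * (x * y * x⁻¹) := by rw [← h2]; group
      exact mul_left_cancel h3
    rw [this]; exact hy

/-- `Q S` is a maximal 2-subgroup of `C(t)` -/
theorem maxQS [Finite G] (P : Pre t q K A S a) {R : Subgroup G} (hR : IsPGroup 2 R)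
    (hRt : ∀ x ∈ R, x * t = t * x) (hle : zpowers q ⊔ S ≤ R) : R ≤ zpowers q ⊔ S := by
  intro x hx
  obtain ⟨u, hu, k, hk, rfl⟩ := P.dec (hRt x hx)
  have hSR : S ≤ R ⊓ K := le_inf (le_sup_right.trans hle) P.loc.SK
  have h2 : S = R ⊓ K := by
    apply Subgroup.eq_of_le_of_card_ge hSR
    obtain ⟨c, hc, hcS⟩ := P.loc.sylow (R ⊓ K) inf_le_right (hR.to_le inf_le_left)
    have h3 : (R ⊓ K).map (MulAut.conj c).toMonoidHom ≤ S := by
      rintro _ ⟨y, hy, rfl⟩
      exact hcS y hy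
    rw [Nat.card_congr ((R ⊓ K).equivMapOfInjective (MulAut.conj c).toMonoidHom
      (MulAut.conj c).injective).toEquiv]
    exact Nat.card_le_card_of_injective _ (inclusion_injective h3)
  have hkR : k ∈ R := by
    have h3 := R.mul_mem (R.inv_mem (hle ((le_sup_left : zpowers q ≤ _) hu))) hx
    have e : u⁻¹ * (u * k) = k := by group
    rwa [e] at h3
  have hkS : k ∈ S := by rw [h2]; exact ⟨hkR, hk⟩
  exact P.mem_QS.2 ⟨u, hu, k, hkS, rfl⟩

/-- `t` moves in `N_G(Q S)` -/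
theorem exists_mover [Finite G] (P : Pre t q K A S a) (hG : commutator G = ⊤) :
    ∃ y, y ∈ normalizer ((zpowers q ⊔ S : Subgroup G) : Set G) ∧ y * t * y⁻¹ ≠ t := by
  have : Fact (Nat.Prime 2) := ⟨Nat.prime_two⟩
  obtain ⟨R, hR⟩ := P.pQS.exists_le_sylow
  have hTt : ∀ x ∈ zpowers q ⊔ S, x * t = t * x := fun x hx => P.QS_comm hx P.st.tQ
  have hlt : zpowers q ⊔ S < (R : Subgroup G) := by
    refine lt_of_le_of_ne hR fun h => ?_
    have h0 : (R : Subgroup G) ≤ centralizer ({t} : Set G) := by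
      rw [← h]
      exact fun x hx => mem_centralizer_singleton_iff.2 (hTt x hx)
    exact R.not_dvd_index ((P.even_index hG).trans (index_dvd_of_le h0))
  have : Group.IsNilpotent (R : Subgroup G) := R.isPGroup'.isNilpotent
  obtain ⟨y, hyR, hyT, hyN⟩ :=
    Cfsg.Agent.Transfer.FrobeniusFusion.exists_mem_normalizer_notMem hlt
  refine ⟨y, hyN, fun h => hyT ?_⟩
  have h1 : IsPGroup 2 ↥((zpowers q ⊔ S) ⊔ zpowers y) :=
    R.isPGroup'.to_le (sup_le hR (zpowers_le.2 hyR))
  have h2 : (zpowers q ⊔ S) ⊔ zpowers y ≤ centralizer ({t} : Set G) := by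
    refine sup_le (fun x hx => mem_centralizer_singleton_iff.2 (hTt x hx)) (zpowers_le.2 ?_)
    exact mem_centralizer_singleton_iff.2 (mul_inv_eq_iff_eq_mul.1 h)
  exact P.maxQS h1 (fun x hx => mem_centralizer_singleton_iff.1 (h2 hx)) le_sup_left
    (mem_sup_right (mem_zpowers y))

theorem q_sq [Finite G] (P : Pre t q K A S a) (hG : commutator G = ⊤) : q * q = 1 := by
  obtain ⟨y, hyN, hyt⟩ := P.exists_mover hG
  by_contra hne
  have hqq : q * q ∈ zpowers q := (zpowers q).mul_mem (mem_zpowers q) (mem_zpowers q)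
  have h1 : t ∈ zpowers (q * q) := by
    have hle : zpowers (q * q) ≤ zpowers q := by rw [zpowers_le]; exact hqq
    obtain ⟨s, hs, hss, hs1⟩ := Front.FE.exists_involution hne (P.st.pQ.to_le hle)
    rw [← P.st.toStart0.uniq (hle hs) hss hs1]; exact hs
  have h2 : y * q * y⁻¹ ∈ zpowers q ⊔ S :=
    (mem_normalizer_iff.1 hyN q).1 (mem_sup_left (mem_zpowers q))
  obtain ⟨u, hu, s, hs, he⟩ := P.mem_QS.1 h2
  have h3 : ∀ x ∈ A, s * x = x * s := by
    intro x hx
    have hxT : x ∈ zpowers q ⊔ S := mem_sup_right (P.loc.AS hx)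
    have h4 : y⁻¹ * x * y ∈ zpowers q ⊔ S := by
      apply (mem_normalizer_iff.1 hyN _).2
      have : y * (y⁻¹ * x * y) * y⁻¹ = x := by group
      rw [this]; exact hxT
    have h5 := P.QS_comm h4 (mem_zpowers q)
    have h6 : x * (y * q * y⁻¹) = y * q * y⁻¹ * x := by
      calc x * (y * q * y⁻¹) = y * (y⁻¹ * x * y * q) * y⁻¹ := by group
        _ = y * (q * (y⁻¹ * x * y)) * y⁻¹ := by rw [h5]
        _ = y * q * y⁻¹ * x := by group
    rw [he] at h6
    have h7 : x * u = u * x := P.QK (P.loc.AK hx) hu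
    have h8 : u * (x * s) = u * (s * x) := by
      calc u * (x * s) = (u * x) * s := by group
        _ = (x * u) * s := by rw [h7]
        _ = x * (u * s) := by group
        _ = u * s * x := h6
        _ = u * (s * x) := by group
    exact (mul_left_cancel h8).symm
  have h4 : s ∈ A := P.loc.self s (P.loc.SK hs) h3
  have h5 : s * s = 1 := P.loc.sq s h4
  have h6 : y * (q * q) * y⁻¹ = u * u := by
    calc y * (q * q) * y⁻¹ = (y * q * y⁻¹) * (y * q * y⁻¹) := by group
      _ = u * s * (u * s) := by rw [he]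
      _ = u * (s * u) * s := by group
      _ = u * (u * s) * s := by rw [P.QK (P.loc.SK hs) hu]
      _ = u * u * (s * s) := by group
      _ = u * u := by rw [h5, mul_one]
  obtain ⟨i, hi⟩ := mem_zpowers_iff.1 h1
  have h7 : y * t * y⁻¹ = (u * u) ^ i := by
    rw [← h6, ← hi]
    have := map_zpow (MulAut.conj y) (q * q) i
    simpa [MulAut.conj_apply] using this
  have h8 : y * t * y⁻¹ ∈ zpowers q := by
    rw [h7]; exact (zpowers q).zpow_mem ((zpowers q).mul_mem hu hu) i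
  apply hyt
  apply P.st.toStart0.uniq h8
  · calc y * t * y⁻¹ * (y * t * y⁻¹) = y * (t * t) * y⁻¹ := by group
      _ = 1 := by rw [P.st.tt]; group
  · intro h
    rw [mul_inv_eq_one] at h
    exact P.st.t1 (mul_eq_left.1 h)

theorem q_eq [Finite G] (P : Pre t q K A S a) (hG : commutator G = ⊤) : q = t := by
  apply P.st.toStart0.uniq (mem_zpowers q) (P.q_sq hG)
  rintro rfl
  have h := P.st.tQ
  rw [zpowers_one_eq_bot, mem_bot] at h
  exact P.st.t1 h

/-- **`C_G(t) = ⟨t⟩ × K`**, and `t` moves in `N_G(A*)` -/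
theorem main [Finite G] (P : Pre t q K A S a) (hG : commutator G = ⊤) :
    Fr t K A S a ∧ ∃ y ∈ normalizer ((dbl t A : Subgroup G) : Set G), y * t * y⁻¹ ≠ t := by
  have hq := P.q_eq hG
  obtain ⟨y, hyN, hyt⟩ := P.exists_mover hG
  subst hq
  have F : Fr q K A S a :=
    { toLoc := P.loc
      tt := P.st.tt
      tK := P.tK
      com := P.com
      cent := by
        intro g hg
        obtain ⟨y, hy, hk⟩ := P.cent g hg
        by_cases hy1 : y = 1
        · left; rwa [hy1, one_mul] at hk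
        · right
          have hyy : y * y = 1 := by
            obtain ⟨i, rfl⟩ := mem_zpowers_iff.1 hy
            rw [← zpow_add, ← two_mul, zpow_mul]
            have : q ^ (2 : ℤ) = 1 := by
              rw [show (2 : ℤ) = 1 + 1 by norm_num, zpow_add, zpow_one, P.st.tt]
            rw [this, one_zpow]
          have := P.st.toStart0.uniq hy hyy hy1
          rwa [this] at hk }
  refine ⟨F, y, ?_, hyt⟩
  apply F.norm_le
  have : dbl q S = zpowers q ⊔ S := sup_comm _ _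
  rw [this]; exact hyN

end Pre

end Cfsg.Agent.OddHalf.D8.Fi23

end

-- merged: Cfsg.Agent.OddHalf.D8.Fi23.SwapBase
section

/-!
# Components of `C(w)` swapped by an involution (helper907)

* `cj g N = g N g⁻¹`;
* `Dg t N`: `N` quasisimple, commuting with `N^t`; `P = {n n^t : n ∈ N}` is perfect, non-trivial, centralizes `t`;
* `sgn w : C(w) → ±1`: the sign of the permutation of the components of `C(w)` of order divisible by 13.
-/

set_option autoImplicit false

namespace Cfsg.Agent.OddHalf.D8.Fi23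

open Subgroup Cfsg Cfsg.Agent.OddHalf.Iface
open Cfsg.Agent.SignalizersComponents
open scoped commutatorElement

universe u

section Cj

variable {G : Type*} [Group G]

/-- `g N g⁻¹` -/
def cj (g : G) (N : Subgroup G) : Subgroup G := N.map (MulAut.conj g).toMonoidHom

theorem conj_mem_cj {g x : G} {N : Subgroup G} (hx : x ∈ N) : g * x * g⁻¹ ∈ cj g N := ⟨x, hx, rfl⟩

theorem mem_cj {g x : G} {N : Subgroup G} : x ∈ cj g N ↔ g⁻¹ * x * g ∈ N := by
  constructor
  · rintro ⟨y, hy, rfl⟩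
    have : g⁻¹ * (MulAut.conj g).toMonoidHom y * g = y := by
      show g⁻¹ * (g * y * g⁻¹) * g = y
      group
    rw [this]; exact hy
  · intro h
    have := conj_mem_cj (g := g) h
    have e : g * (g⁻¹ * x * g) * g⁻¹ = x := by group
    rwa [e] at this

theorem cj_mul (g h : G) (N : Subgroup G) : cj g (cj h N) = cj (g * h) N := by
  ext x
  rw [mem_cj, mem_cj, mem_cj]
  have : h⁻¹ * (g⁻¹ * x * g) * h = (g * h)⁻¹ * x * (g * h) := by group
  rw [this]

theorem cj_one (N : Subgroup G) : cj 1 N = N := by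
  ext x
  rw [mem_cj]
  simp

theorem cj_inv_cj (g : G) (N : Subgroup G) : cj g⁻¹ (cj g N) = N := by
  rw [cj_mul, inv_mul_cancel, cj_one]

theorem cj_cj_inv (g : G) (N : Subgroup G) : cj g (cj g⁻¹ N) = N := by
  rw [cj_mul, mul_inv_cancel, cj_one]

theorem cj_inj {g : G} {N L : Subgroup G} (h : cj g N = cj g L) : N = L := by
  rw [← cj_inv_cj g N, h, cj_inv_cj]

theorem card_cj (g : G) (N : Subgroup G) : Nat.card (cj g N) = Nat.card N :=
  (Nat.card_congr (N.equivMapOfInjective (MulAut.conj g).toMonoidHom (MulAut.conj g).injective).toEquiv).symm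

theorem cj_eq {g : G} {N : Subgroup G} (h : ∀ x ∈ N, g * x * g⁻¹ ∈ N) (h' : ∀ x ∈ N, g⁻¹ * x * g ∈ N) :
    cj g N = N := by
  ext x
  rw [mem_cj]
  constructor
  · intro hx
    have := h _ hx
    have e : g * (g⁻¹ * x * g) * g⁻¹ = x := by group
    rwa [e] at this
  · exact h' x

/-- an element commuting with `N` -/
theorem cj_eq_of_comm {g : G} {N : Subgroup G} (h : ∀ x ∈ N, g * x = x * g) : cj g N = N := by
  apply cj_eq
  · intro x hx
    rw [h x hx, mul_inv_cancel_right]; exact hx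
  · intro x hx
    have : g⁻¹ * x * g = x := by rw [mul_assoc, ← h x hx, inv_mul_cancel_left]
    rw [this]; exact hx

theorem cj_eq_of_mem {g : G} {N : Subgroup G} (h : g ∈ N) : cj g N = N :=
  cj_eq (fun _ hx => N.mul_mem (N.mul_mem h hx) (N.inv_mem h))
    (fun _ hx => N.mul_mem (N.mul_mem (N.inv_mem h) hx) h)

end Cj

section Comp

variable {G : Type u} [Group G]

theorem compOf_cj {w : G} {N : Subgroup G} (h : CompOf w N) (g : G) :
    CompOf (g * w * g⁻¹) (cj g N) := by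
  have h1 := DistinctComponents.isComponent_subgroupOf_conj h.1 h.2 g
  rw [DistinctComponents.map_conj_centralizer_singleton] at h1
  refine ⟨?_, h1⟩
  rw [← DistinctComponents.map_conj_centralizer_singleton]
  exact map_mono h.1

theorem compOf_cj' {w g : G} (hg : g * w = w * g) {N : Subgroup G} (h : CompOf w N) :
    CompOf w (cj g N) := by
  have h1 := compOf_cj h g
  rwa [mul_inv_eq_iff_eq_mul.2 hg] at h1

theorem compOf_comm [Finite G] {w : G} {N L : Subgroup G} (hN : CompOf w N) (hL : CompOf w L)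
    (hne : N ≠ L) : ∀ x ∈ N, ∀ y ∈ L, x * y = y * x := by
  have hne' : N.subgroupOf (centralizer ({w} : Set G)) ≠ L.subgroupOf (centralizer ({w} : Set G)) := by
    intro h
    apply hne
    have := congrArg (Subgroup.map (centralizer ({w} : Set G)).subtype) h
    rwa [subgroupOf_map_subtype, subgroupOf_map_subtype, inf_of_le_left hN.1, inf_of_le_left hL.1] at this
  have h1 := Components.component_le_centralizer_of_ne hN.2 hL.2 hne'
  intro x hx y hy
  have h2 := h1 (show (⟨x, hN.1 hx⟩ : centralizer ({w} : Set G)) ∈ N.subgroupOf _ from hx)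
  have h3 := mem_centralizer_iff.1 h2 ⟨y, hL.1 hy⟩ hy
  exact (congrArg Subtype.val h3).symm

/-- members of a component normalize every component -/
theorem compOf_cj_eq [Finite G] {w : G} {N L : Subgroup G} (hN : CompOf w N) (hL : CompOf w L) {x : G}
    (hx : x ∈ N) : cj x L = L := by
  by_cases h : N = L
  · subst h; exact cj_eq_of_mem hx
  · exact cj_eq_of_comm fun y hy => compOf_comm hN hL h x hx y hy

end Comp

section QS

variable {G : Type*} [Group G]

theorem qs_perf {J : Subgroup G} (hJ : IsQuasisimple J) : ⁅J, J⁆ = J := by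
  have := hJ.1
  exact Subgroup.commutator_eq_self

theorem qs_dich {J R : Subgroup G} (hJ : IsQuasisimple J) (hR : R ≤ J)
    (hn : ∀ j ∈ J, ∀ r ∈ R, j * r * j⁻¹ ∈ R) : R = J ∨ ∀ r ∈ R, ∀ j ∈ J, j * r = r * j := by
  have h1 : (R.subgroupOf J).Normal := ⟨fun n hn' g => hn g g.2 n hn'⟩
  rcases Components.quasisimple_normal hJ (R.subgroupOf J) h1 with h | h
  · left
    exact le_antisymm hR (subgroupOf_eq_top.1 h)
  · right
    intro r hr j hj
    have h2 := mem_center_iff.1 (h (show (⟨r, hR hr⟩ : J) ∈ R.subgroupOf J from hr)) ⟨j, hj⟩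
    exact congrArg Subtype.val h2

/-- a perfect subgroup which is commutative is trivial -/
theorem perf_comm {P : Subgroup G} (hP : ⁅P, P⁆ = P) (hc : ∀ x ∈ P, ∀ y ∈ P, x * y = y * x) : P = ⊥ := by
  rw [← hP, eq_bot_iff, Subgroup.commutator_le]
  intro x hx y hy
  rw [mem_bot, commutatorElement_eq_one_iff_mul_comm]
  exact hc x hx y hy

/-- `Z₂ = Z` in a perfect group -/
theorem perf_two {J : Subgroup G} (hJ : ⁅J, J⁆ = J) {x : G} (hx : x ∈ J)
    (h : ∀ y ∈ J, ∀ z ∈ J, ⁅x, y⁆ * z = z * ⁅x, y⁆) : ∀ y ∈ J, x * y = y * x := by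
  -- `C_J(x)` contains the commutators
  have hmul : ∀ y ∈ J, ∀ z ∈ J, ⁅x, y * z⁆ = ⁅x, y⁆ * ⁅x, z⁆ := by
    intro y hy z hz
    have h1 : ⁅x, z⁆ ∈ J := by
      rw [commutatorElement_def]
      exact J.mul_mem (J.mul_mem (J.mul_mem hx hz) (J.inv_mem hx)) (J.inv_mem hz)
    have h2 := h z hz y hy
    calc ⁅x, y * z⁆ = ⁅x, y⁆ * (y * ⁅x, z⁆ * y⁻¹) := by
          simp only [commutatorElement_def]; group
      _ = ⁅x, y⁆ * (⁅x, z⁆ * y * y⁻¹) := by rw [h2]
      _ = ⁅x, y⁆ * ⁅x, z⁆ := by group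
  have hinv : ∀ y ∈ J, ⁅x, y⁻¹⁆ = ⁅x, y⁆⁻¹ := by
    intro y hy
    have h1 := hmul y hy y⁻¹ (J.inv_mem hy)
    rw [mul_inv_cancel, commutatorElement_one_right] at h1
    exact (inv_eq_of_mul_eq_one_right h1.symm).symm
  have key : ⁅J, J⁆ ≤ centralizer ({x} : Set G) := by
    rw [Subgroup.commutator_le]
    intro y hy z hz
    rw [mem_centralizer_singleton_iff]
    have hy' := J.inv_mem hy
    have hz' := J.inv_mem hz
    have h1 : ⁅x, ⁅y, z⁆⁆ = 1 := by
      rw [commutatorElement_def y z, hmul _ (J.mul_mem (J.mul_mem hy hz) hy') _ hz',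
        hmul _ (J.mul_mem hy hz) _ hy', hmul _ hy _ hz, hinv y hy, hinv z hz]
      have h2 : ⁅x, z⁆ ∈ J := by
        rw [commutatorElement_def]
        exact J.mul_mem (J.mul_mem (J.mul_mem hx hz) (J.inv_mem hx)) (J.inv_mem hz)
      have h3 := h y hy _ h2
      calc ⁅x, y⁆ * ⁅x, z⁆ * ⁅x, y⁆⁻¹ * ⁅x, z⁆⁻¹ = ⁅x, z⁆ * ⁅x, y⁆ * ⁅x, y⁆⁻¹ * ⁅x, z⁆⁻¹ := by rw [h3]
        _ = 1 := by group
    rw [commutatorElement_eq_one_iff_mul_comm] at h1
    exact h1.symm
  intro y hy
  rw [← hJ] at hy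
  exact (mem_centralizer_singleton_iff.1 (key hy)).symm

end QS

/-- `N` is quasisimple and commutes with `N^t`, `t` an involution -/
structure Dg {G : Type*} [Group G] (t : G) (N : Subgroup G) : Prop where
  tt : t * t = 1
  qs : IsQuasisimple N
  comm : ∀ x ∈ N, ∀ y ∈ N, x * (t * y * t⁻¹) = t * y * t⁻¹ * x

namespace Dg

variable {G : Type*} [Group G] {t : G} {N : Subgroup G}

/-- `n ↦ n n^t` -/
def hom (D : Dg t N) : N →* G where
  toFun n := n * (t * n * t⁻¹)
  map_one' := by simp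
  map_mul' x y := by
    have h := D.comm y y.2 x x.2
    show (x : G) * y * (t * (x * y) * t⁻¹) = x * (t * x * t⁻¹) * (y * (t * y * t⁻¹))
    calc (x : G) * y * (t * (x * y) * t⁻¹) = x * (y * (t * x * t⁻¹)) * (t * y * t⁻¹) := by group
      _ = x * (t * x * t⁻¹ * y) * (t * y * t⁻¹) := by rw [h]
      _ = x * (t * x * t⁻¹) * (y * (t * y * t⁻¹)) := by group

theorem hom_apply (D : Dg t N) (n : N) : D.hom n = n * (t * n * t⁻¹) := rfl

/-- `P = {n n^t}` -/
def P (D : Dg t N) : Subgroup G := D.hom.range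

theorem mem_P (D : Dg t N) {x : G} : x ∈ D.P ↔ ∃ n ∈ N, n * (t * n * t⁻¹) = x := by
  constructor
  · rintro ⟨n, rfl⟩
    exact ⟨n, n.2, rfl⟩
  · rintro ⟨n, hn, rfl⟩
    exact ⟨⟨n, hn⟩, rfl⟩

theorem P_perf (D : Dg t N) : ⁅D.P, D.P⁆ = D.P := by
  have := D.qs.1
  have h1 : ⁅(⊤ : Subgroup N), (⊤ : Subgroup N)⁆ = ⊤ := Group.IsPerfect.commutator_eq_top
  unfold P
  rw [MonoidHom.range_eq_map, ← Subgroup.map_commutator, h1]

theorem t_inv (D : Dg t N) : t⁻¹ = t := inv_eq_of_mul_eq_one_left D.tt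

theorem conj_conj (D : Dg t N) (x : G) : t * (t * x * t⁻¹) * t⁻¹ = x := by
  have h1 := D.t_inv
  calc t * (t * x * t⁻¹) * t⁻¹ = (t * t) * x * (t⁻¹ * t⁻¹) := by group
    _ = (t * t) * x * (t * t) := by rw [h1]
    _ = x := by rw [D.tt]; group

theorem P_comm (D : Dg t N) {x : G} (hx : x ∈ D.P) : x * t = t * x := by
  obtain ⟨n, hn, rfl⟩ := D.mem_P.1 hx
  have h1 := D.comm n hn n hn
  have h2 := D.t_inv
  have h3 : t * (n * (t * n * t⁻¹)) * t⁻¹ = n * (t * n * t⁻¹) := by
    calc t * (n * (t * n * t⁻¹)) * t⁻¹ = (t * n * t⁻¹) * (t * (t * n * t⁻¹) * t⁻¹) := by group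
      _ = (t * n * t⁻¹) * n := by rw [D.conj_conj]
      _ = n * (t * n * t⁻¹) := h1.symm
  exact (mul_inv_eq_iff_eq_mul.1 h3).symm

/-- the kernel of `n ↦ n n^t` is central -/
theorem ker_le (D : Dg t N) : D.hom.ker ≤ center N := by
  intro n hn
  rw [MonoidHom.mem_ker, hom_apply] at hn
  rw [mem_center_iff]
  intro m
  apply Subtype.ext
  show (m : G) * n = n * m
  have h1 : t * (n : G) * t⁻¹ = (n : G)⁻¹ := eq_inv_of_mul_eq_one_right hn
  have h2 := D.comm m m.2 n n.2
  rw [h1] at h2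
  calc (m : G) * n = n * ((n : G)⁻¹ * m) * n := by group
    _ = n * (m * (n : G)⁻¹) * n := by rw [h2]
    _ = n * m := by group

theorem P_ne_bot (D : Dg t N) : D.P ≠ ⊥ := by
  intro h
  have h1 : D.hom.ker = ⊤ := by
    have h0 : D.hom = 1 := MonoidHom.range_eq_bot_iff.1 h
    rw [h0, MonoidHom.ker_one]
  have h2 := D.ker_le
  rw [h1, top_le_iff] at h2
  exact Components.quasisimple_center_ne_top D.qs h2

/-- a prime dividing `|N|` divides `|P|` if `Z(N)` is a 2-group -/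
theorem dvd_P [Finite G] (D : Dg t N) (hZ : IsPGroup 2 (center N)) {p : ℕ} (hp : p.Prime) (hp2 : p ≠ 2)
    (hd : p ∣ Nat.card N) : p ∣ Nat.card D.P := by
  have h1 := D.hom.ker.card_mul_index
  rw [Subgroup.index_ker] at h1
  rw [← h1] at hd
  rcases hp.dvd_mul.1 hd with h | h
  · exfalso
    have h2 : IsPGroup 2 D.hom.ker := hZ.to_le D.ker_le
    have : Fact (Nat.Prime 2) := ⟨Nat.prime_two⟩
    obtain ⟨k, hk⟩ := IsPGroup.iff_card.1 h2
    rw [hk] at h
    exact hp2 ((Nat.prime_dvd_prime_iff_eq hp Nat.prime_two).1 (hp.dvd_of_dvd_pow h))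
  · exact h

/-- the centre of `P` comes from the centre of `N` -/
theorem cen_P (D : Dg t N) {n : G} (hn : n ∈ N)
    (hc : ∀ x ∈ D.P, n * (t * n * t⁻¹) * x = x * (n * (t * n * t⁻¹))) : ∀ m ∈ N, n * m = m * n := by
  apply perf_two (qs_perf D.qs) hn
  intro m hm z hz
  -- `[n, m]` is in `N ∩ N^t`
  have e0 : ∀ x ∈ N, ∀ y ∈ N, t * x * t⁻¹ * y = y * (t * x * t⁻¹) := fun x hx y hy => (D.comm y hy x hx).symm
  have h1 := hc _ (D.mem_P.2 ⟨m, hm, rfl⟩)
  have h2 : n * m * (t * (n * m) * t⁻¹) = m * n * (t * (m * n) * t⁻¹) := by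
    calc n * m * (t * (n * m) * t⁻¹) = n * (m * (t * n * t⁻¹)) * (t * m * t⁻¹) := by group
      _ = n * (t * n * t⁻¹ * m) * (t * m * t⁻¹) := by rw [D.comm m hm n hn]
      _ = n * (t * n * t⁻¹) * (m * (t * m * t⁻¹)) := by group
      _ = m * (t * m * t⁻¹) * (n * (t * n * t⁻¹)) := h1
      _ = m * (t * m * t⁻¹ * n) * (t * n * t⁻¹) := by group
      _ = m * (n * (t * m * t⁻¹)) * (t * n * t⁻¹) := by rw [D.comm n hn m hm]
      _ = m * n * (t * (m * n) * t⁻¹) := by group
  -- `(m n)⁻¹ (n m) = (t m n t⁻¹) (t n m t⁻¹)⁻¹`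
  have h3 : (m * n)⁻¹ * (n * m) = t * ((m * n) * (n * m)⁻¹) * t⁻¹ := by
    calc (m * n)⁻¹ * (n * m) = (m * n)⁻¹ * (n * m * (t * (n * m) * t⁻¹)) * (t * (n * m) * t⁻¹)⁻¹ := by group
      _ = (m * n)⁻¹ * (m * n * (t * (m * n) * t⁻¹)) * (t * (n * m) * t⁻¹)⁻¹ := by rw [h2]
      _ = t * ((m * n) * (n * m)⁻¹) * t⁻¹ := by group
  have hmn : (m * n) * (n * m)⁻¹ ∈ N := N.mul_mem (N.mul_mem hm hn) (N.inv_mem (N.mul_mem hn hm))
  -- so `c = (m n)⁻¹ (n m)` is central in `N`
  have h4 : ∀ y ∈ N, (m * n)⁻¹ * (n * m) * y = y * ((m * n)⁻¹ * (n * m)) := by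
    intro y hy
    rw [h3]
    exact e0 _ hmn y hy
  have h5 : ⁅n, m⁆ = (m * n)⁻¹ * (n * m) := by
    have h6 := h4 (m * n) (N.mul_mem hm hn)
    calc ⁅n, m⁆ = (n * m) * (m * n)⁻¹ := by rw [commutatorElement_def]; group
      _ = (m * n) * ((m * n)⁻¹ * (n * m)) * (m * n)⁻¹ := by group
      _ = ((m * n)⁻¹ * (n * m) * (m * n)) * (m * n)⁻¹ := by rw [h6]
      _ = (m * n)⁻¹ * (n * m) := by group
  rw [h5]
  exact h4 z hz

end Dg

end Cfsg.Agent.OddHalf.D8.Fi23

end

-- merged: Cfsg.Agent.OddHalf.D8.Fi23.Sgn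
section

/-!
# The sign of the permutation of the components of order divisible by 13 (helper907)
-/

set_option autoImplicit false

namespace Cfsg.Agent.OddHalf.D8.Fi23

open Subgroup Cfsg Cfsg.Agent.OddHalf.Iface
open Cfsg.Agent.OddHalf

universe u

variable {G : Type u} [Group G]

/-- a component of `C(w)` of order divisible by 13 -/
def Big (w : G) (N : Subgroup G) : Prop := CompOf w N ∧ 13 ∣ Nat.card N

theorem Big.cj {w : G} {N : Subgroup G} (h : Big w N) (g : G) : Big (g * w * g⁻¹) (cj g N) :=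
  ⟨compOf_cj h.1 g, by rw [card_cj]; exact h.2⟩

theorem Big.cj' {w g : G} (hg : g * w = w * g) {N : Subgroup G} (h : Big w N) : Big w (Fi23.cj g N) :=
  ⟨compOf_cj' hg h.1, by rw [card_cj]; exact h.2⟩

/-- the set of these components -/
def Om (w : G) : Type u := {N : Subgroup G // Big w N}

instance (w : G) [Finite G] : Finite (Om w) := by
  unfold Om; infer_instance

instance (w : G) : MulAction (centralizer ({w} : Set G)) (Om w) where
  smul g N := ⟨cj (g : G) N.1, Big.cj' (mem_centralizer_singleton_iff.1 g.2) N.2⟩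
  one_smul N := Subtype.ext (cj_one N.1)
  mul_smul g h N := Subtype.ext (cj_mul (g : G) (h : G) N.1).symm

open Classical in
/-- the sign character -/
noncomputable def sgn [Finite G] (w : G) : centralizer ({w} : Set G) →* ℤˣ :=
  letI : Fintype (Om w) := Fintype.ofFinite _
  (Equiv.Perm.sign).comp (MulAction.toPermHom (centralizer ({w} : Set G)) (Om w))

open Classical in
theorem sgn_eq_one [Finite G] {w : G} (g : centralizer ({w} : Set G))
    (h : ∀ N, Big w N → cj (g : G) N = N) : sgn w g = 1 := by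
  let _ : Fintype (Om w) := Fintype.ofFinite _
  show Equiv.Perm.sign (MulAction.toPermHom (centralizer ({w} : Set G)) (Om w) g) = 1
  have h1 : MulAction.toPermHom (centralizer ({w} : Set G)) (Om w) g = 1 := by
    apply Equiv.ext
    intro N
    exact (show g • N = N from Subtype.ext (h N.1 N.2))
  rw [h1, Equiv.Perm.sign_one]

open Classical in
theorem sgn_eq_neg [Finite G] {w : G} (g : centralizer ({w} : Set G)) {M M' : Subgroup G}
    (hM : Big w M) (hM' : Big w M') (hne : M ≠ M') (h1 : cj (g : G) M = M') (h2 : cj (g : G) M' = M)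
    (h : ∀ N, Big w N → N ≠ M → N ≠ M' → cj (g : G) N = N) : sgn w g = -1 := by
  let _ : Fintype (Om w) := Fintype.ofFinite _
  show Equiv.Perm.sign (MulAction.toPermHom (centralizer ({w} : Set G)) (Om w) g) = -1
  let m : Om w := ⟨M, hM⟩
  let m' : Om w := ⟨M', hM'⟩
  have hmm : m ≠ m' := fun e => hne (congrArg Subtype.val e)
  have h3 : MulAction.toPermHom (centralizer ({w} : Set G)) (Om w) g = Equiv.swap m m' := by
    apply Equiv.ext
    intro N
    show g • N = Equiv.swap m m' N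
    by_cases e1 : N = m
    · subst e1
      rw [Equiv.swap_apply_left]
      exact Subtype.ext h1
    by_cases e2 : N = m'
    · subst e2
      rw [Equiv.swap_apply_right]
      exact Subtype.ext h2
    rw [Equiv.swap_apply_of_ne_of_ne e1 e2]
    exact Subtype.ext (h N.1 N.2 (fun e => e1 (Subtype.ext e)) (fun e => e2 (Subtype.ext e)))
  rw [h3, Equiv.Perm.sign_swap hmm]

/-- the transported sign, no swapped component -/
theorem Lam_eq_one [Finite G] {z w x : G} (hw : IsConj z w) (hx : x * w = w * x)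
    (h : ∀ N, Big w N → cj x N = N) : D9.Outer.Lam (sgn z) w x = 1 := by
  obtain ⟨g, hg⟩ := isConj_iff.1 hw
  have h1 := D9.Outer.conj_mem hg hx
  rw [D9.Outer.Lam_eq (sgn z) hg h1]
  apply sgn_eq_one
  intro N hN
  show cj (g⁻¹ * x * g) N = N
  have h2 : Big w (cj g N) := by
    have := hN.cj g
    rwa [hg] at this
  have h3 := h _ h2
  rw [cj_mul] at h3
  rw [mul_assoc, ← cj_mul, h3, cj_inv_cj]

/-- the transported sign, one swapped pair -/
theorem Lam_eq_neg [Finite G] {z w x : G} (hw : IsConj z w) (hx : x * w = w * x) {M : Subgroup G}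
    (hM : Big w M) (hxx : x * x = 1) (hne : cj x M ≠ M)
    (h : ∀ N, Big w N → N ≠ M → N ≠ cj x M → cj x N = N) : D9.Outer.Lam (sgn z) w x = -1 := by
  obtain ⟨g, hg⟩ := isConj_iff.1 hw
  have h1 := D9.Outer.conj_mem hg hx
  have hg' : g⁻¹ * w * g⁻¹⁻¹ = z := by rw [← hg]; group
  rw [D9.Outer.Lam_eq (sgn z) hg h1]
  have hback : ∀ N, Big w N → Big z (cj g⁻¹ N) := by
    intro N hN
    have := hN.cj g⁻¹
    rwa [hg'] at this
  have key : ∀ N : Subgroup G, cj (g⁻¹ * x * g) (cj g⁻¹ N) = cj g⁻¹ (cj x N) := by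
    intro N
    rw [cj_mul, cj_mul]
    congr 1
    group
  refine sgn_eq_neg (M := cj g⁻¹ M) (M' := cj g⁻¹ (cj x M)) _ (hback _ hM) (hback _ (hM.cj' hx))
    (fun e => hne (cj_inj e).symm) (key M) ?_ ?_
  · show cj (g⁻¹ * x * g) (cj g⁻¹ (cj x M)) = cj g⁻¹ M
    rw [key, cj_mul x x, hxx, cj_one]
  · intro N hN e1 e2
    have h2 : Big w (cj g N) := by
      have := hN.cj g
      rwa [hg] at this
    have h3 := h _ h2 (by rintro rfl; exact e1 (cj_inv_cj g N).symm)
      (by intro e; rw [← e, cj_inv_cj] at e2; exact e2 rfl)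
    show cj (g⁻¹ * x * g) N = N
    rw [mul_assoc, ← cj_mul, ← cj_mul, h3, cj_inv_cj]

end Cfsg.Agent.OddHalf.D8.Fi23

end

-- merged: Cfsg.Agent.OddHalf.D8.Fi23.Swap
section

/-!
# `K = Fi₂₃`: no diagonal components (helper907)

`Diag t K (a 0)`: `C(a 0)` has a component `M ≠ M^t` with `C_K(a 0) = {m m^t : m ∈ M}`. Then the transfer to `G` of the
sign of the permutation of the components of `C(a 0)` of order divisible by 13 is `-1` at `t`.
-/

set_option autoImplicit false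

namespace Cfsg.Agent.OddHalf.D8.Fi23

open Subgroup Cfsg Cfsg.Agent.OddHalf.Iface
open Cfsg.Agent.OddHalf
open scoped commutatorElement

universe u

/-- the diagonal case at `b` -/
def Diag {G : Type u} [Group G] (t : G) (K : Subgroup G) (b : G) : Prop :=
  ∃ M : Subgroup G, CompOf b M ∧ cj t M ≠ M ∧
    ∀ x, x ∈ K ⊓ centralizer ({b} : Set G) ↔ ∃ m ∈ M, m * (t * m * t⁻¹) = x

namespace Fr

variable {G : Type u} [Group G] {t : G} {K A S : Subgroup G} {a : Fin 23 → G}

/-- a perfect subgroup of `C(t)` lies in `K` -/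
theorem perf_le_K (F : Fr t K A S a) {P : Subgroup G} (hP : ⁅P, P⁆ = P)
    (hPt : ∀ x ∈ P, x * t = t * x) : P ≤ K := by
  have h1 : P ≤ centralizer ({t} : Set G) := fun x hx => mem_centralizer_singleton_iff.2 (hPt x hx)
  calc P = ⁅P, P⁆ := hP.symm
    _ ≤ ⁅centralizer ({t} : Set G), centralizer ({t} : Set G)⁆ := commutator_mono h1 h1
    _ ≤ K := F.der_le

/-- a moved component gives `Dg` -/
theorem dg [Finite G] (F : Fr t K A S a) {w : G} (hw : w * t = t * w) {N : Subgroup G}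
    (hN : CompOf w N) (hne : cj t N ≠ N) : Dg t N :=
  ⟨F.tt, Soft.CompOf.quasisimple hN, fun x hx y hy =>
    compOf_comm hN (compOf_cj' hw.symm hN) hne.symm x hx _ (conj_mem_cj hy)⟩

theorem dg_le_K [Finite G] (F : Fr t K A S a) {N : Subgroup G} (D : Dg t N) : D.P ≤ K :=
  F.perf_le_K D.P_perf fun _ hx => D.P_comm hx

theorem dg_le_cent [Finite G] {w : G} (hw : w * t = t * w) {N : Subgroup G}
    (hN : CompOf w N) (D : Dg t N) {x : G} (hx : x ∈ D.P) : x * w = w * x := by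
  obtain ⟨n, hn, rfl⟩ := D.mem_P.1 hx
  have h1 : n ∈ centralizer ({w} : Set G) := hN.1 hn
  have h2 : t ∈ centralizer ({w} : Set G) := mem_centralizer_singleton_iff.2 hw.symm
  exact mem_centralizer_singleton_iff.1 (mul_mem h1 (mul_mem (mul_mem h2 h1) (inv_mem h2)))

/-- no big component of `C(w)` is moved if `13` does not divide `|C_K(w')|` -/
theorem noswap [Finite G] (F : Fr t K A S a)
    (bal : ∀ y : G, orderOf y = 2 → centralizerPPrimeCore 2 y = ⊥) {w w' : G} (hw2 : orderOf w = 2)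
    (hw' : w' ∈ K) (hww : w = w' ∨ w = t * w')
    (h13 : ¬ 13 ∣ Nat.card ↥(K ⊓ centralizer ({w'} : Set G))) :
    ∀ N, Big w N → cj t N = N := by
  intro N hN
  by_contra hne
  have hwt : w * t = t * w := by
    rcases hww with rfl | rfl
    · exact F.com _ hw'
    · rw [mul_assoc, F.com _ hw']
  have D := F.dg hwt hN.1 hne
  apply h13
  have h1 := D.dvd_P (Soft.CompOf.center_isPGroup (bal w hw2) hN.1) (by norm_num : Nat.Prime 13)
    (by norm_num) hN.2
  refine h1.trans (Subgroup.card_dvd_of_le (le_inf (F.dg_le_K D) fun x hx => ?_))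
  have h2 := dg_le_cent hwt hN.1 D hx
  rw [mem_centralizer_singleton_iff]
  rcases hww with rfl | rfl
  · exact h2
  · have h3 := D.P_comm hx
    have h4 : t * (x * w') = t * (w' * x) := by
      calc t * (x * w') = (t * x) * w' := by group
        _ = (x * t) * w' := by rw [h3]
        _ = x * (t * w') := by group
        _ = t * w' * x := h2
        _ = t * (w' * x) := by group
    exact mul_left_cancel h4

/-- no component of `C(t a_i)` is moved -/
theorem noswap_ta [Finite G] (F : Fr t K A S a) (i : Fin 23) {N : Subgroup G}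
    (hN : CompOf (t * a i) N) : cj t N = N := by
  by_contra hne
  have hai := F.com _ (F.aK i)
  have hwt : t * a i * t = t * (t * a i) := by rw [mul_assoc, hai]
  have D := F.dg hwt hN hne
  set J : Subgroup G := K ⊓ centralizer ({a i} : Set G) with hJ
  have hJw : ∀ j ∈ J, j * (t * a i) = t * a i * j := by
    intro j hj
    have h1 := mem_centralizer_singleton_iff.1 hj.2
    calc j * (t * a i) = (j * t) * a i := by group
      _ = t * (j * a i) := by rw [F.com j hj.1]; group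
      _ = t * a i * j := by rw [h1]; group
  have hPJ : D.P ≤ J := by
    refine le_inf (F.dg_le_K D) fun x hx => ?_
    rw [mem_centralizer_singleton_iff]
    have h2 := dg_le_cent hwt hN D hx
    have h3 := D.P_comm hx
    have h4 : t * (x * a i) = t * (a i * x) := by
      calc t * (x * a i) = (t * x) * a i := by group
        _ = (x * t) * a i := by rw [h3]
        _ = x * (t * a i) := by group
        _ = t * a i * x := h2
        _ = t * (a i * x) := by group
    exact mul_left_cancel h4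
  have hPne : ¬ ∀ r ∈ D.P, ∀ j ∈ J, j * r = r * j := fun h =>
    D.P_ne_bot (perf_comm D.P_perf fun x hx y hy => (h x hx y (hPJ hy)).symm)
  -- the subgroup of `J` normalizing all the components
  let R : Subgroup G :=
    { carrier := {x | x ∈ J ∧ ∀ L, CompOf (t * a i) L → cj x L = L}
      one_mem' := ⟨J.one_mem, fun L _ => cj_one L⟩
      mul_mem' := by
        rintro x y ⟨hx, hx'⟩ ⟨hy, hy'⟩
        refine ⟨J.mul_mem hx hy, fun L hL => ?_⟩
        rw [← cj_mul, hy' L hL, hx' L hL]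
      inv_mem' := by
        rintro x ⟨hx, hx'⟩
        refine ⟨J.inv_mem hx, fun L hL => ?_⟩
        conv_lhs => rw [← hx' L hL]
        exact cj_inv_cj x L }
  have hRJ : R ≤ J := fun x hx => hx.1
  have hRn : ∀ j ∈ J, ∀ r ∈ R, j * r * j⁻¹ ∈ R := by
    rintro j hj r ⟨hr, hr'⟩
    refine ⟨J.mul_mem (J.mul_mem hj hr) (J.inv_mem hj), fun L hL => ?_⟩
    have h1 : CompOf (t * a i) (cj j⁻¹ L) := compOf_cj' (hJw _ (J.inv_mem hj)) hL
    rw [← cj_mul, ← cj_mul, hr' _ h1, cj_cj_inv]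
  have hN' : CompOf (t * a i) (cj t N) := compOf_cj' hwt.symm hN
  have hPR : D.P ≤ R := by
    intro x hx
    refine ⟨hPJ hx, fun L hL => ?_⟩
    obtain ⟨n, hn, rfl⟩ := D.mem_P.1 hx
    rw [← cj_mul, compOf_cj_eq hN' hL (conj_mem_cj hn), compOf_cj_eq hN hL hn]
  have hRJ' : R = J := by
    rcases qs_dich (F.qs i) hRJ hRn with h | h
    · exact h
    · exact absurd (fun r hr j hj => h r (hPR hr) j hj) hPne
  -- `P` is normal in `J`
  have hPn : ∀ j ∈ J, ∀ r ∈ D.P, j * r * j⁻¹ ∈ D.P := by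
    intro j hj r hr
    obtain ⟨n, hn, rfl⟩ := D.mem_P.1 hr
    have hjR : j ∈ R := by rw [hRJ']; exact hj
    have h1 : j * n * j⁻¹ ∈ N := by
      have := conj_mem_cj (g := j) hn
      rwa [hjR.2 N hN] at this
    have hjt := F.com j hj.1
    have hjt' := F.com _ (K.inv_mem hj.1)
    have hjt2 : j * t⁻¹ = t⁻¹ * j := by rw [F.t_inv]; exact hjt
    refine D.mem_P.2 ⟨_, h1, ?_⟩
    calc j * n * j⁻¹ * (t * (j * n * j⁻¹) * t⁻¹) = j * n * j⁻¹ * ((t * j) * n * (j⁻¹ * t⁻¹)) := by group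
      _ = j * n * j⁻¹ * ((t * j) * n * (t⁻¹ * j⁻¹)) := by
          have : j⁻¹ * t⁻¹ = t⁻¹ * j⁻¹ := by rw [F.t_inv]; exact hjt'
          rw [this]
      _ = j * n * j⁻¹ * ((j * t) * n * (t⁻¹ * j⁻¹)) := by rw [hjt]
      _ = j * (n * (t * n * t⁻¹)) * j⁻¹ := by group
  have hPJ' : D.P = J := (qs_dich (F.qs i) hPJ hPn).resolve_right hPne
  have haJ : a i ∈ J := ⟨F.aK i, mem_centralizer_singleton_iff.2 rfl⟩
  rw [← hPJ'] at haJ
  obtain ⟨η, hη, hηa⟩ := D.mem_P.1 haJ
  have hc : ∀ m ∈ N, η * m = m * η := by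
    apply D.cen_P hη
    intro x hx
    rw [hηa]
    exact (mem_centralizer_singleton_iff.1 (hPJ hx).2).symm
  -- `η` commutes with `J`
  have hηJ : ∀ x ∈ J, η * x = x * η := by
    intro x hx
    rw [← hPJ'] at hx
    obtain ⟨n, hn, rfl⟩ := D.mem_P.1 hx
    have h1 := D.comm η hη n hn
    calc η * (n * (t * n * t⁻¹)) = (η * n) * (t * n * t⁻¹) := by group
      _ = n * (η * (t * n * t⁻¹)) := by rw [hc n hn]; group
      _ = n * (t * n * t⁻¹) * η := by rw [h1]; group
  have hηa' : η * a i = a i * η := hηJ _ (by rw [← hPJ']; exact haJ)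
  have hηt : η * t = t * η := by
    have h1 : η * (t * a i) = t * a i * η := mem_centralizer_singleton_iff.1 (hN.1 hη)
    have h2 : (η * t) * a i = (t * η) * a i := by
      calc (η * t) * a i = η * (t * a i) := by group
        _ = t * (a i * η) := by rw [h1]; group
        _ = (t * η) * a i := by rw [← hηa']; group
    exact mul_right_cancel h2
  have hsq : η * η = a i := by
    rw [← hηa, ← hηt, mul_inv_cancel_right]
  have key : ∀ x ∈ K, x * x = a i → (∀ y ∈ J, x * y = y * x) → False := by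
    intro x hx hxx hxJ
    apply F.a_ne_one i
    rcases F.cen i x hx (fun y hy hya => hxJ y ⟨hy, mem_centralizer_singleton_iff.2 hya⟩) with h | h
    · rw [← hxx, h, one_mul]
    · rw [h, F.sq _ (F.mem i)] at hxx
      exact hxx.symm
  rcases F.cent η hηt with h | h
  · exact key η h hsq hηJ
  · refine key (t * η) h ?_ ?_
    · calc t * η * (t * η) = t * (η * t) * η := by group
        _ = (t * t) * (η * η) := by rw [hηt]; group
        _ = a i := by rw [F.tt, one_mul, hsq]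
    · intro y hy
      calc t * η * y = t * (η * y) := by group
        _ = (t * y) * η := by rw [hηJ y hy]; group
        _ = y * (t * η) := by rw [← F.com y hy.1]; group

/-- exactly one pair of big components of `C(a_i)` is swapped -/
theorem oneswap [Finite G] (F : Fr t K A S a) {b : G} (hb : b ∈ K) {M : Subgroup G} (hM : CompOf b M)
    (hJ : ∀ x, x ∈ K ⊓ centralizer ({b} : Set G) ↔ ∃ m ∈ M, m * (t * m * t⁻¹) = x) {N : Subgroup G}
    (hN : CompOf b N) (h1 : N ≠ M) (h2 : N ≠ cj t M) : cj t N = N := by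
  by_contra hne
  have hbt := F.com b hb
  have D := F.dg hbt hN hne
  have hPJ : D.P ≤ K ⊓ centralizer ({b} : Set G) :=
    le_inf (F.dg_le_K D) fun x hx => mem_centralizer_singleton_iff.2 (dg_le_cent hbt hN D hx)
  have hN' : CompOf b (cj t N) := compOf_cj' hbt.symm hN
  have hM' : CompOf b (cj t M) := compOf_cj' hbt.symm hM
  have h3 : cj t N ≠ M := by
    intro e
    apply h2
    rw [← e, cj_mul, F.tt, cj_one]
  have h4 : cj t N ≠ cj t M := fun e => h1 (cj_inj e)
  apply D.P_ne_bot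
  apply perf_comm D.P_perf
  intro x hx y hy
  obtain ⟨n, hn, rfl⟩ := D.mem_P.1 hx
  obtain ⟨m, hm, rfl⟩ := (hJ y).1 (hPJ hy)
  have c1 := compOf_comm hN hM h1 n hn m hm
  have c2 := compOf_comm hN hM' h2 n hn _ (conj_mem_cj (g := t) hm)
  have c3 := compOf_comm hN' hM h3 _ (conj_mem_cj (g := t) hn) m hm
  have c4 := compOf_comm hN' hM' h4 _ (conj_mem_cj (g := t) hn) _ (conj_mem_cj (g := t) hm)
  have d1 : Commute n (m * (t * m * t⁻¹)) := (show Commute n m from c1).mul_right c2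
  have d2 : Commute (t * n * t⁻¹) (m * (t * m * t⁻¹)) := (show Commute (t * n * t⁻¹) m from c3).mul_right c4
  exact (d1.mul_left d2).eq

/-- the diagonal component is big -/
theorem big_of_diag [Finite G] (F : Fr t K A S a) {i : Fin 23} {M : Subgroup G} (hM : CompOf (a i) M)
    (hne : cj t M ≠ M)
    (hJ : ∀ x, x ∈ K ⊓ centralizer ({a i} : Set G) ↔ ∃ m ∈ M, m * (t * m * t⁻¹) = x) : Big (a i) M := by
  refine ⟨hM, ?_⟩
  have D := F.dg (F.com _ (F.aK i)) hM hne
  have h1 : D.P = K ⊓ centralizer ({a i} : Set G) := by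
    ext x
    rw [D.mem_P, hJ]
  have h2 := D.hom.ker.card_mul_index
  rw [Subgroup.index_ker] at h2
  have h3 : 13 ∣ Nat.card D.hom.range := by
    show 13 ∣ Nat.card D.P
    rw [h1]; exact F.thirteen i
  rw [← h2]
  exact h3.mul_left _

/-- conjugation of the diagonal case -/
theorem diag_conj [Finite G] (F : Fr t K A S a) {b n : G} (hn : n ∈ K) (h : Diag t K b) :
    Diag t K (n * b * n⁻¹) := by
  obtain ⟨M, hM, hne, hJ⟩ := h
  have hnt := F.com n hn
  have hnt' := F.com _ (K.inv_mem hn)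
  refine ⟨cj n M, compOf_cj hM n, ?_, ?_⟩
  · intro e
    apply hne
    rw [cj_mul, ← hnt, ← cj_mul] at e
    exact cj_inj e
  · have e1 : ∀ m : G, n * m * n⁻¹ * (t * (n * m * n⁻¹) * t⁻¹) = n * (m * (t * m * t⁻¹)) * n⁻¹ := by
      intro m
      have h1 : n⁻¹ * t⁻¹ = t⁻¹ * n⁻¹ := by rw [F.t_inv]; exact hnt'
      calc n * m * n⁻¹ * (t * (n * m * n⁻¹) * t⁻¹) = n * m * n⁻¹ * ((t * n) * m * (n⁻¹ * t⁻¹)) := by group
        _ = n * m * n⁻¹ * ((n * t) * m * (t⁻¹ * n⁻¹)) := by rw [h1, ← hnt]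
        _ = n * (m * (t * m * t⁻¹)) * n⁻¹ := by group
    intro x
    have h2 : x ∈ K ⊓ centralizer ({n * b * n⁻¹} : Set G) ↔ n⁻¹ * x * n ∈ K ⊓ centralizer ({b} : Set G) := by
      rw [mem_inf, mem_inf, mem_centralizer_singleton_iff, mem_centralizer_singleton_iff]
      constructor
      · rintro ⟨h3, h4⟩
        refine ⟨K.mul_mem (K.mul_mem (K.inv_mem hn) h3) hn, ?_⟩
        calc n⁻¹ * x * n * b = n⁻¹ * (x * (n * b * n⁻¹)) * n := by group
          _ = n⁻¹ * (n * b * n⁻¹ * x) * n := by rw [h4]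
          _ = b * (n⁻¹ * x * n) := by group
      · rintro ⟨h3, h4⟩
        refine ⟨?_, ?_⟩
        · have := K.mul_mem (K.mul_mem hn h3) (K.inv_mem hn)
          have e : n * (n⁻¹ * x * n) * n⁻¹ = x := by group
          rwa [e] at this
        · calc x * (n * b * n⁻¹) = n * (n⁻¹ * x * n * b) * n⁻¹ := by group
            _ = n * (b * (n⁻¹ * x * n)) * n⁻¹ := by rw [h4]
            _ = n * b * n⁻¹ * x := by group
    rw [h2, hJ]
    constructor
    · rintro ⟨m, hm, e⟩
      refine ⟨n * m * n⁻¹, conj_mem_cj hm, ?_⟩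
      rw [e1, e]; group
    · rintro ⟨m, hm, e⟩
      refine ⟨n⁻¹ * m * n, mem_cj.1 hm, ?_⟩
      have h3 := e1 (n⁻¹ * m * n)
      have h4 : n * (n⁻¹ * m * n) * n⁻¹ = m := by group
      rw [h4, e] at h3
      rw [h3]; group

end Fr

end Cfsg.Agent.OddHalf.D8.Fi23

end

-- merged: Cfsg.Agent.OddHalf.D8.Fi23.SwapEnd
section

/-!
# `K = Fi₂₃`: end of the diagonal case (helper907)
-/

set_option autoImplicit false

namespace Cfsg.Agent.OddHalf.D8.Fi23

open Subgroup Cfsg Cfsg.Agent.OddHalf.Iface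
open Cfsg.Agent.OddHalf

universe u

namespace Fr

variable {G : Type u} [Group G] {t : G} {K A S : Subgroup G} {a : Fin 23 → G}

/-- the elements of `S` normalize `A` -/
theorem S_norm [Finite G] (F : Fr t K A S a) {s : G} (hs : s ∈ S) : s ∈ normalizer (A : Set G) := by
  have h1 : cj s A = A := by
    apply F.uniq
    · rintro _ ⟨x, hx, rfl⟩
      exact S.mul_mem (S.mul_mem hs (F.AS hx)) (S.inv_mem hs)
    · rintro _ ⟨x, hx, rfl⟩
      show s * x * s⁻¹ * (s * x * s⁻¹) = 1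
      calc s * x * s⁻¹ * (s * x * s⁻¹) = s * (x * x) * s⁻¹ := by group
        _ = 1 := by rw [F.sq _ hx]; group
    · rw [card_cj, F.cardA]
  rw [mem_normalizer_iff]
  intro x
  constructor
  · intro hx
    have := conj_mem_cj (g := s) hx
    rwa [h1] at this
  · intro hx
    have : s * x * s⁻¹ ∈ cj s A := by rw [h1]; exact hx
    obtain ⟨y, hy, hyx⟩ := this
    have e : y = x := mul_left_cancel (mul_right_cancel (hyx : s * y * s⁻¹ = s * x * s⁻¹))
    rwa [← e]

/-- the number of the `a i` centralized by `S` is odd -/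
theorem odd_fixed [Finite G] (F : Fr t K A S a) :
    Odd {i : Fin 23 | ∀ s ∈ S, s * a i = a i * s}.ncard := by
  classical
  have : Fact (Nat.Prime 2) := ⟨Nat.prime_two⟩
  have hperm : ∀ s ∈ S, ∀ i, ∃ j, s * a i * s⁻¹ = a j := fun s hs i =>
    F.perm s (F.SK hs) (F.S_norm hs) i
  let X : Type u := {x : G // ∃ i, x = a i}
  let act : MulAction S X :=
    { smul := fun s x => ⟨s * x.1 * (s : G)⁻¹, by
        obtain ⟨i, hi⟩ := x.2
        obtain ⟨j, hj⟩ := hperm s s.2 i
        exact ⟨j, by rw [hi, hj]⟩⟩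
      one_smul := fun x => Subtype.ext (by show (1 : G) * x.1 * (1 : G)⁻¹ = x.1; group)
      mul_smul := fun s r x => Subtype.ext (by
        show (s * r : G) * x.1 * (s * r : G)⁻¹ = s * (r * x.1 * (r : G)⁻¹) * (s : G)⁻¹
        group) }
  have hval : ∀ (s : S) (x : X), (s • x).1 = s * x.1 * (s : G)⁻¹ := fun _ _ => rfl
  have h1 := F.pS.card_modEq_card_fixedPoints X
  have h2 : Nat.card X = 23 := by
    have e : Fin 23 ≃ X := Equiv.ofBijective (fun i => ⟨a i, i, rfl⟩)
      ⟨fun i j h => F.a_inj (congrArg Subtype.val h), fun x => by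
        obtain ⟨x, i, rfl⟩ := x
        exact ⟨i, rfl⟩⟩
    rw [← Nat.card_congr e, Nat.card_eq_fintype_card, Fintype.card_fin]
  have h3 : Nat.card (MulAction.fixedPoints S X) = {i : Fin 23 | ∀ s ∈ S, s * a i = a i * s}.ncard := by
    rw [← Nat.card_coe_set_eq]
    symm
    refine Nat.card_congr (Equiv.ofBijective (fun i => ⟨⟨a i.1, i.1, rfl⟩, ?_⟩) ⟨?_, ?_⟩)
    · intro s
      apply Subtype.ext
      rw [hval]
      exact mul_inv_eq_iff_eq_mul.2 (i.2 s s.2)
    · intro i j h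
      have := congrArg (fun x => (x : X).1) (congrArg Subtype.val h)
      exact Subtype.ext (F.a_inj this)
    · rintro ⟨⟨x, i, rfl⟩, hx⟩
      refine ⟨⟨i, fun s hs => ?_⟩, rfl⟩
      have := congrArg Subtype.val (hx ⟨s, hs⟩)
      rw [hval] at this
      exact mul_inv_eq_iff_eq_mul.1 this
  rw [h2, h3] at h1
  rw [Nat.odd_iff, ← h1]

/-- **No diagonal case.** -/
theorem swap [Finite G] (F : Fr t K A S a) (hG : ∀ N : Subgroup G, N.index ≠ 2)
    (bal : ∀ y : G, orderOf y = 2 → centralizerPPrimeCore 2 y = ⊥) (hD : Diag t K (a 0)) : False := by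
  have hDi : ∀ i, Diag t K (a i) := by
    intro i
    obtain ⟨n, hn, -, e⟩ := F.one 0 i
    rw [← e]; exact F.diag_conj hn hD
  have hord : ∀ x : G, x * x = 1 → x ≠ 1 → orderOf x = 2 := fun x h1 h2 =>
    orderOf_eq_prime (by rw [pow_two, h1]) h2
  have ho : orderOf t = 2 := hord t F.tt F.t1
  have h1 := D9.Outer.even_neg hG (sgn (a 0)) t (by
    intro k hk hk1 g h
    rw [ho] at hk
    have hk2 : k = 2 := by
      have : k ≤ 2 := Nat.le_of_dvd (by norm_num) hk
      interval_cases k <;> simp_all only [_root_.ne_eq, _root_.Fin.isValue, _root_.zero_dvd_iff, _root_.OfNat.ofNat_ne_zero, _root_.isUnit_iff_eq_one, _root_.IsUnit.dvd, _root_.not_true_eq_false, _root_.dvd_refl, _root_.OfNat.ofNat_ne_one, _root_.not_false_eq_true, _root_.Std.le_refl]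
    subst hk2
    have e : (⟨g⁻¹ * t ^ 2 * g, h⟩ : centralizer ({a 0} : Set G)) = 1 := by
      apply Subtype.ext
      show g⁻¹ * t ^ 2 * g = 1
      rw [pow_two, F.tt]; group
    rw [e, map_one]) (dbl t S) F.pT (t_mem_dbl t S) (fun d hd => dbl_comm F.tt F.comS hd)
  have h2 : D9.Outer.Neg (sgn (a 0)) (dbl t S) t = a '' {i : Fin 23 | ∀ s ∈ S, s * a i = a i * s} := by
    ext w
    constructor
    · rintro ⟨hw, hwT, hL⟩
      have hwt : w * t = t * w := (hwT t (t_mem_dbl t S)).symm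
      have hww : w * w = 1 := by
        obtain ⟨g, hg⟩ := isConj_iff.1 hw
        rw [← hg]
        calc g * a 0 * g⁻¹ * (g * a 0 * g⁻¹) = g * (a 0 * a 0) * g⁻¹ := by group
          _ = 1 := by rw [F.sq _ (F.mem 0)]; group
      have hw1 : w ≠ 1 := by
        rintro rfl
        obtain ⟨g, hg⟩ := isConj_iff.1 hw
        rw [mul_inv_eq_one] at hg
        exact F.a_ne_one 0 (mul_eq_left.1 hg)
      have hwo := hord w hww hw1
      have hone : (∀ N, Big w N → cj t N = N) → False := by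
        intro h
        have h3 := Lam_eq_one hw hwt.symm h
        rw [h3] at hL
        exact absurd hL (by decide)
      -- the part in `K`
      obtain ⟨x, hxK, hx⟩ : ∃ x ∈ K, w = x ∨ w = t * x := by
        rcases F.cent w hwt with h | h
        · exact ⟨w, h, Or.inl rfl⟩
        · exact ⟨t * w, h, Or.inr (F.et w).symm⟩
      have hxS : ∀ s ∈ S, s * x = x * s := by
        intro s hs
        have h3 := hwT s (le_dbl t S hs)
        rcases hx with rfl | rfl
        · exact h3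
        · have h4 : t * (s * x) = t * (x * s) := by
            calc t * (s * x) = (t * s) * x := by group
              _ = (s * t) * x := by rw [F.comS s hs]
              _ = s * (t * x) := by group
              _ = t * x * s := h3
              _ = t * (x * s) := by group
          exact mul_left_cancel h4
      have hxA : x ∈ A := F.self x hxK fun y hy => (hxS y (F.AS hy)).symm
      rcases F.toCode.mem_P_of_mem hxA with h | h | h | h
      · rw [Code.mem_P_zero] at h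
        exfalso
        rcases hx with h' | h'
        · exact hw1 (h'.trans h)
        · rw [h, mul_one] at h'
          obtain ⟨g, hg⟩ := isConj_iff.1 hw
          apply F.not_conj (F.aK 0) g⁻¹
          rw [← h', ← hg]; group
      · obtain ⟨i, rfl⟩ := (Code.mem_P_one _).1 h
        rcases hx with rfl | rfl
        · exact ⟨i, hxS, rfl⟩
        · exact (hone fun N hN => F.noswap_ta i hN.1).elim
      · obtain ⟨i, j, hij, rfl⟩ := (Code.mem_P_two _).1 h
        exact (hone (F.noswap bal hwo hxK hx (F.c2 i j hij))).elim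
      · obtain ⟨i, j, k, hij, hik, hjk, rfl⟩ := (Code.mem_P_three _).1 h
        exact (hone (F.noswap bal hwo hxK hx (F.c3 i j k hij hik hjk))).elim
    · rintro ⟨i, hi, rfl⟩
      have hc : IsConj (a 0) (a i) := by
        obtain ⟨n, -, -, e⟩ := F.one 0 i
        exact isConj_iff.2 ⟨n, e⟩
      refine ⟨hc, ?_, ?_⟩
      · intro d hd
        rcases F.mem_T.1 hd with h | h
        · exact hi d h
        · have h3 := hi _ h
          have h4 := F.com _ (F.aK i)
          have h5 : t * (d * a i) = t * (a i * d) := by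
            calc t * (d * a i) = t * d * a i := by group
              _ = a i * (t * d) := h3
              _ = (a i * t) * d := by group
              _ = (t * a i) * d := by rw [h4]
              _ = t * (a i * d) := by group
          exact mul_left_cancel h5
      · obtain ⟨M, hM, hne, hJ⟩ := hDi i
        exact Lam_eq_neg hc (F.com _ (F.aK i)).symm (F.big_of_diag hM hne hJ) F.tt hne
          fun N hN e1 e2 => F.oneswap (F.aK i) hM hJ hN.1 e1 e2
  rw [h2, Set.ncard_image_of_injective _ (fun i j h => F.a_inj h)] at h1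
  exact (Nat.not_even_iff_odd.2 F.odd_fixed) h1

end Fr

end Cfsg.Agent.OddHalf.D8.Fi23

end

-- merged: Cfsg.Agent.OddHalf.D8.Fi23.CentTwo
section

/-!
# A group `W` with an involution `t`, `C_W(t) = {1, t}` (helper907)
-/

set_option autoImplicit false

namespace Cfsg.Agent.OddHalf.D8.Fi23

open Subgroup

/-- `t` is an involution of `W` with `C_W(t) = ⟨t⟩` -/
structure CTwo {G : Type*} [Group G] (t : G) (W : Subgroup G) : Prop where
  tt : t * t = 1
  t1 : t ≠ 1
  tW : t ∈ W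
  cen : ∀ w ∈ W, w * t = t * w → w = 1 ∨ w = t

namespace CTwo

variable {G : Type*} [Group G] {t : G} {W : Subgroup G}

/-- a 2-subgroup of `W` containing `t` is `⟨t⟩` -/
theorem of_isPGroup [Finite G] (C : CTwo t W) {P : Subgroup W} (hP : IsPGroup 2 P)
    (ht : (⟨t, C.tW⟩ : W) ∈ P) {x : W} (hx : x ∈ P) : x = 1 ∨ x = ⟨t, C.tW⟩ := by
  have : Fact (Nat.Prime 2) := ⟨Nat.prime_two⟩
  have hnt : Nontrivial P := ⟨⟨⟨⟨t, C.tW⟩, ht⟩, 1, fun h => C.t1 (by
    have := congrArg (fun x : P => ((x : W) : G)) h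
    exact this)⟩⟩
  have hcn : Nontrivial (center P) := hP.center_nontrivial
  obtain ⟨⟨c, hc⟩, hc1⟩ := exists_ne (1 : center P)
  have h1 : (c : W) = 1 ∨ (c : W) = ⟨t, C.tW⟩ := by
    have h2 := mem_center_iff.1 hc ⟨⟨t, C.tW⟩, ht⟩
    have h3 : t * ((c : W) : G) = ((c : W) : G) * t :=
      congrArg (fun x : P => ((x : W) : G)) h2
    rcases C.cen _ (c : W).2 h3.symm with h | h
    · exact Or.inl (Subtype.ext h)
    · exact Or.inr (Subtype.ext h)
  rcases h1 with h1 | h1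
  · exfalso
    apply hc1
    apply Subtype.ext
    apply Subtype.ext
    exact h1
  · have h2 := mem_center_iff.1 hc ⟨x, hx⟩
    have h3 : (x : G) * ((c : W) : G) = ((c : W) : G) * x :=
      congrArg (fun x : P => ((x : W) : G)) h2
    rw [h1] at h3
    rcases C.cen _ x.2 h3 with h | h
    · exact Or.inl (Subtype.ext h)
    · exact Or.inr (Subtype.ext h)

/-- a Sylow 2-subgroup of `W` is `⟨t⟩` -/
theorem exists_sylow [Finite G] (C : CTwo t W) :
    ∃ P : Sylow 2 W, (⟨t, C.tW⟩ : W) ∈ P ∧ ∀ x ∈ P, x = 1 ∨ x = ⟨t, C.tW⟩ := by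
  have : Fact (Nat.Prime 2) := ⟨Nat.prime_two⟩
  have hp : IsPGroup 2 (zpowers (⟨t, C.tW⟩ : W)) := by
    rintro ⟨x, hx⟩
    obtain ⟨i, rfl⟩ := mem_zpowers_iff.1 hx
    refine ⟨1, Subtype.ext ?_⟩
    show ((⟨t, C.tW⟩ : W) ^ i) ^ (2 ^ 1) = 1
    have h2 : (⟨t, C.tW⟩ : W) ^ (2 : ℤ) = 1 := by
      rw [show (2 : ℤ) = 1 + 1 by norm_num, zpow_add, zpow_one]
      exact Subtype.ext C.tt
    rw [pow_one, pow_two, ← zpow_add, ← two_mul, zpow_mul, h2, one_zpow]
  obtain ⟨P, hP⟩ := hp.exists_le_sylow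
  have ht : (⟨t, C.tW⟩ : W) ∈ P := hP (mem_zpowers _)
  exact ⟨P, ht, fun x hx => C.of_isPGroup P.isPGroup' ht hx⟩

theorem card_sylow [Finite G] (C : CTwo t W) (P : Sylow 2 W) (ht : (⟨t, C.tW⟩ : W) ∈ P)
    (hP : ∀ x ∈ P, x = 1 ∨ x = ⟨t, C.tW⟩) : Nat.card (P : Subgroup W) = 2 := by
  have h1 : ((P : Subgroup W) : Set W) = {1, ⟨t, C.tW⟩} := by
    ext x
    constructor
    · intro hx; exact hP x hx
    · rintro (rfl | rfl)
      · exact one_mem (P : Subgroup W)
      · exact ht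
  have h2 : Nat.card (P : Subgroup W) = ((P : Subgroup W) : Set W).ncard := rfl
  rw [h2, h1, Set.ncard_pair]
  intro h
  exact C.t1 (congrArg Subtype.val h).symm

theorem not_four [Finite G] (C : CTwo t W) : ¬ 4 ∣ Nat.card W := by
  have : Fact (Nat.Prime 2) := ⟨Nat.prime_two⟩
  obtain ⟨P, ht, hP⟩ := C.exists_sylow
  intro h
  have h1 : 2 ^ 2 ∣ Nat.card W := h
  have h2 := P.pow_dvd_card_of_pow_dvd_card h1
  rw [C.card_sylow P ht hP] at h2
  norm_num at h2

/-- conjugates of `t` in `W` are conjugate in `W` -/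
theorem conj [Finite G] (C : CTwo t W) {r : G} (hr : r * t * r⁻¹ ∈ W) :
    ∃ w ∈ W, r * t * r⁻¹ = w * t * w⁻¹ := by
  have : Fact (Nat.Prime 2) := ⟨Nat.prime_two⟩
  obtain ⟨P, ht, hP⟩ := C.exists_sylow
  have hs : (⟨r * t * r⁻¹, hr⟩ : W) ^ 2 = 1 := by
    apply Subtype.ext
    show (r * t * r⁻¹) ^ 2 = 1
    rw [pow_two]
    calc r * t * r⁻¹ * (r * t * r⁻¹) = r * (t * t) * r⁻¹ := by group
      _ = 1 := by rw [C.tt]; group
  have hp : IsPGroup 2 (zpowers (⟨r * t * r⁻¹, hr⟩ : W)) := by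
    rintro ⟨x, hx⟩
    obtain ⟨i, rfl⟩ := mem_zpowers_iff.1 hx
    refine ⟨1, Subtype.ext ?_⟩
    show ((⟨r * t * r⁻¹, hr⟩ : W) ^ i) ^ (2 ^ 1) = 1
    rw [pow_one, ← zpow_natCast, ← zpow_mul, mul_comm, zpow_mul, zpow_natCast, hs, one_zpow]
  obtain ⟨Q, hQ⟩ := hp.exists_le_sylow
  obtain ⟨g, hg⟩ := MulAction.exists_smul_eq W Q P
  have h1 : (⟨r * t * r⁻¹, hr⟩ : W) ∈ Q := hQ (mem_zpowers _)
  have h2 : g * ⟨r * t * r⁻¹, hr⟩ * g⁻¹ ∈ P := by
    rw [← hg]
    exact Subgroup.smul_mem_pointwise_smul _ (MulAut.conj g) _ h1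
  rcases hP _ h2 with h | h
  · exfalso
    rw [mul_inv_eq_one] at h
    have h3 : (⟨r * t * r⁻¹, hr⟩ : W) = 1 := mul_eq_left.1 h
    have h4 : r * t * r⁻¹ = 1 := congrArg Subtype.val h3
    rw [mul_inv_eq_one] at h4
    exact C.t1 (mul_eq_left.1 h4)
  · refine ⟨(g : G)⁻¹, W.inv_mem g.2, ?_⟩
    have h3 : (g : G) * (r * t * r⁻¹) * (g : G)⁻¹ = t := congrArg Subtype.val h
    conv_rhs => rw [← h3]
    group

/-- the normal 2-complement of `W` -/
theorem exists_compl [Finite G] (C : CTwo t W) : ∃ N : Subgroup G, N ≤ W ∧ Odd (Nat.card N) ∧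
    (∀ w ∈ W, Odd (orderOf w) → w ∈ N) ∧ ∀ w ∈ W, w ∈ N ∨ t * w ∈ N := by
  have : Fact (Nat.Prime 2) := ⟨Nat.prime_two⟩
  obtain ⟨P, ht, hP⟩ := C.exists_sylow
  have hcen : normalizer ((P : Subgroup W) : Set W) ≤ centralizer ((P : Subgroup W) : Set W) := by
    intro n hn
    rw [mem_centralizer_iff]
    intro x hx
    rcases hP x hx with rfl | rfl
    · rw [one_mul, mul_one]
    · have h1 := (mem_normalizer_iff.1 hn _).1 ht
      rcases hP _ h1 with h | h
      · exfalso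
        rw [mul_inv_eq_one] at h
        have h3 : (⟨t, C.tW⟩ : W) = 1 := mul_eq_left.1 h
        exact C.t1 (congrArg Subtype.val h3)
      · exact (mul_inv_eq_iff_eq_mul.1 h).symm
  let f := MonoidHom.transferSylow P hcen
  have hker : ¬ 2 ∣ Nat.card f.ker := MonoidHom.not_dvd_card_ker_transferSylow P hcen
  have hfP : ∀ w, ((f w : (P : Subgroup W)) : W) = 1 ∨ ((f w : (P : Subgroup W)) : W) = ⟨t, C.tW⟩ :=
    fun w => hP _ (f w).2
  have hft : f ⟨t, C.tW⟩ ≠ 1 := by
    intro h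
    apply hker
    have h1 : (⟨t, C.tW⟩ : W) ∈ f.ker := h
    have h2 : orderOf (⟨⟨t, C.tW⟩, h1⟩ : f.ker) = 2 := by
      apply orderOf_eq_prime
      · apply Subtype.ext
        apply Subtype.ext
        show t ^ 2 = 1
        rw [pow_two, C.tt]
      · intro h3
        exact C.t1 (congrArg (fun x : f.ker => ((x : W) : G)) h3)
    have h3 := _root_.orderOf_dvd_natCard (⟨⟨t, C.tW⟩, h1⟩ : f.ker)
    rw [h2] at h3
    exact h3
  refine ⟨f.ker.map W.subtype, ?_, ?_, ?_, ?_⟩
  · rintro _ ⟨x, -, rfl⟩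
    exact x.2
  · have h1 : Nat.card (f.ker.map W.subtype) = Nat.card f.ker :=
      (Nat.card_congr (f.ker.equivMapOfInjective W.subtype W.subtype_injective).toEquiv).symm
    rw [h1, Nat.odd_iff]
    omega
  · intro w hw ho
    refine ⟨⟨w, hw⟩, ?_, rfl⟩
    show f ⟨w, hw⟩ = 1
    have h1 : orderOf (f ⟨w, hw⟩) ∣ orderOf w := by
      have := orderOf_map_dvd f ⟨w, hw⟩
      rwa [← Subgroup.orderOf_coe (⟨w, hw⟩ : W)] at this
    have h2 : orderOf (f ⟨w, hw⟩) ∣ 2 := by
      apply orderOf_dvd_of_pow_eq_one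
      apply Subtype.ext
      show ((f ⟨w, hw⟩ : (P : Subgroup W)) : W) ^ 2 = 1
      rcases hfP ⟨w, hw⟩ with h | h
      · rw [h, one_pow]
      · rw [h]; exact Subtype.ext (by show t ^ 2 = 1; rw [pow_two, C.tt])
    rcases (Nat.dvd_prime Nat.prime_two).1 h2 with h | h
    · exact orderOf_eq_one_iff.1 h
    · exfalso
      rw [h] at h1
      exact (Nat.not_even_iff_odd.2 ho) (even_iff_two_dvd.2 h1)
  · intro w hw
    rcases hfP ⟨w, hw⟩ with h | h
    · left
      exact ⟨⟨w, hw⟩, Subtype.ext h, rfl⟩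
    · right
      refine ⟨⟨t, C.tW⟩ * ⟨w, hw⟩, ?_, rfl⟩
      show f (⟨t, C.tW⟩ * ⟨w, hw⟩) = 1
      have h2 : ((f ⟨t, C.tW⟩ : (P : Subgroup W)) : W) = ⟨t, C.tW⟩ := by
        rcases hfP ⟨t, C.tW⟩ with h3 | h3
        · exact absurd (Subtype.ext h3) hft
        · exact h3
      rw [map_mul]
      apply Subtype.ext
      show ((f ⟨t, C.tW⟩ : (P : Subgroup W)) : W) * ((f ⟨w, hw⟩ : (P : Subgroup W)) : W) = 1
      rw [h, h2]
      exact Subtype.ext C.tt

end CTwo

end Cfsg.Agent.OddHalf.D8.Fi23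

end

-- merged: Cfsg.Agent.OddHalf.D8.Fi23.Norm
section

/-!
# `K = Fi₂₃`: the case in which `C_K(a_i)` is a component of `C(a_i)` (helper907)

Then `C_K(a_0)` is normal in `C(a_0)`, its centralizer is `⟨t, a_0⟩`: `C(a_0)` moves `t` to `t` or `t a_0`.
-/

set_option autoImplicit false

namespace Cfsg.Agent.OddHalf.D8.Fi23

open Subgroup Cfsg Cfsg.Agent.OddHalf.Iface
open Cfsg.Agent.OddHalf

universe u

namespace Fr

variable {G : Type u} [Group G] {t : G} {K A S : Subgroup G} {a : Fin 23 → G}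

/-- `C_G(K) = W` has the Sylow 2-subgroup `⟨t⟩` -/
theorem cTwo (F : Fr t K A S a) : CTwo t (centralizer (K : Set G)) where
  tt := F.tt
  t1 := F.t1
  tW := mem_centralizer_iff.2 fun k hk => F.com k hk
  cen := by
    intro w hw hwt
    have hwK : ∀ k ∈ K, w * k = k * w := fun k hk => (mem_centralizer_iff.1 hw k hk).symm
    rcases F.cent w hwt with h | h
    · exact Or.inl (F.center_K h hwK)
    · right
      have h1 : t * w = 1 := by
        apply F.center_K h
        intro k hk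
        calc t * w * k = t * (w * k) := by group
          _ = (t * k) * w := by rw [hwK k hk]; group
          _ = k * (t * w) := by rw [← F.com k hk]; group
      rw [← F.et w, h1, mul_one]

/-- the elements of `C(J)`, `J = C_K(a_0)`, commuting with `t` -/
theorem cent_J (F : Fr t K A S a) (i : Fin 23) {y : G} (hyt : y * t = t * y)
    (hy : ∀ x ∈ K ⊓ centralizer ({a i} : Set G), y * x = x * y) :
    y = 1 ∨ y = a i ∨ y = t ∨ y = t * a i := by
  rcases F.cent y hyt with h | h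
  · rcases F.cen i y h (fun x hx hxa => hy x ⟨hx, mem_centralizer_singleton_iff.2 hxa⟩) with h' | h'
    · exact Or.inl h'
    · exact Or.inr (Or.inl h')
  · rcases F.cen i (t * y) h (fun x hx hxa => by
      calc t * y * x = t * (y * x) := by group
        _ = (t * x) * y := by rw [hy x ⟨hx, mem_centralizer_singleton_iff.2 hxa⟩]; group
        _ = x * (t * y) := by rw [← F.com x hx]; group) with h' | h'
    · right; right; left
      rw [← F.et y, h', mul_one]
    · right; right; right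
      rw [← F.et y, h']

/-- an element centralizing `J_0` moves `t` into `C(K)` -/
theorem move_mem [Finite G] (F : Fr t K A S a)
    (hC : ∀ i, CompOf (a i) (K ⊓ centralizer ({a i} : Set G))) {r : G}
    (hr : ∀ x ∈ K ⊓ centralizer ({a 0} : Set G), r * x = x * r) :
    r * t * r⁻¹ ∈ centralizer (K : Set G) := by
  have hA0 : ∀ x ∈ A, x ∈ K ⊓ centralizer ({a 0} : Set G) := fun x hx => F.AJ 0 hx
  have hr1 : r * a 1 = a 1 * r := hr _ (hA0 _ (F.mem 1))
  have h2 := compOf_cj' hr1 (hC 1)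
  have h3 : cj r (K ⊓ centralizer ({a 1} : Set G)) = K ⊓ centralizer ({a 1} : Set G) := by
    by_contra hne
    have h4 := compOf_comm (hC 1) h2 (fun e => hne e.symm)
    have h5 : a 0 ∈ cj r (K ⊓ centralizer ({a 1} : Set G)) := by
      rw [mem_cj]
      have h6 := hr _ (hA0 _ (F.mem 0))
      have : r⁻¹ * a 0 * r = a 0 := by rw [mul_assoc, ← h6, inv_mul_cancel_left]
      rw [this]
      exact F.AJ 1 (F.mem 0)
    rcases F.cen 1 (a 0) (F.aK 0) (fun y hy hya =>
      (h4 y ⟨hy, mem_centralizer_singleton_iff.2 hya⟩ _ h5).symm) with h | h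
    · exact F.a_ne_one 0 h
    · exact absurd (F.a_inj h) (by decide)
  have h4 : K ⊓ centralizer ({a 1} : Set G) ≤ centralizer ({r * t * r⁻¹} : Set G) := by
    intro x hx
    rw [← h3, mem_cj] at hx
    have h5 := F.com _ hx.1
    rw [mem_centralizer_singleton_iff]
    calc x * (r * t * r⁻¹) = r * (r⁻¹ * x * r * t) * r⁻¹ := by group
      _ = r * (t * (r⁻¹ * x * r)) * r⁻¹ := by rw [h5]
      _ = r * t * r⁻¹ * x := by group
  have h5 : K ⊓ centralizer ({a 0} : Set G) ≤ centralizer ({r * t * r⁻¹} : Set G) := by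
    intro x hx
    have h6 := hr x hx
    have h7 := F.com x hx.1
    have h8 : x * r⁻¹ = r⁻¹ * x := by
      calc x * r⁻¹ = r⁻¹ * (r * x) * r⁻¹ := by group
        _ = r⁻¹ * (x * r) * r⁻¹ := by rw [h6]
        _ = r⁻¹ * x := by group
    rw [mem_centralizer_singleton_iff]
    calc x * (r * t * r⁻¹) = (x * r) * t * r⁻¹ := by group
      _ = r * (x * t) * r⁻¹ := by rw [← h6]; group
      _ = r * t * (x * r⁻¹) := by rw [h7]; group
      _ = r * t * r⁻¹ * x := by rw [h8]; group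
  have h6 : K ≤ centralizer ({r * t * r⁻¹} : Set G) :=
    (F.gen 0 1 (by decide)).trans (sup_le h5 h4)
  exact mem_centralizer_iff.2 fun k hk => mem_centralizer_singleton_iff.1 (h6 hk)

/-- `C(J_0) = C(K) ∪ C(K) a_0` -/
theorem cent_J_or [Finite G] (F : Fr t K A S a)
    (hC : ∀ i, CompOf (a i) (K ⊓ centralizer ({a i} : Set G))) {y : G}
    (hy : ∀ x ∈ K ⊓ centralizer ({a 0} : Set G), y * x = x * y) :
    y ∈ centralizer (K : Set G) ∨ y * a 0 ∈ centralizer (K : Set G) := by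
  have h1 := F.move_mem hC hy
  obtain ⟨w, hw, e⟩ := F.cTwo.conj h1
  have hwK : ∀ k ∈ K, w * k = k * w := fun k hk => (mem_centralizer_iff.1 hw k hk).symm
  have h2 : w⁻¹ * y * t = t * (w⁻¹ * y) := by
    calc w⁻¹ * y * t = w⁻¹ * (y * t * y⁻¹) * y := by group
      _ = w⁻¹ * (w * t * w⁻¹) * y := by rw [e]
      _ = t * (w⁻¹ * y) := by group
  have h3 : ∀ x ∈ K ⊓ centralizer ({a 0} : Set G), w⁻¹ * y * x = x * (w⁻¹ * y) := by
    intro x hx
    have h4 : w⁻¹ * x = x * w⁻¹ := by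
      have := hwK x hx.1
      calc w⁻¹ * x = w⁻¹ * (x * w) * w⁻¹ := by group
        _ = w⁻¹ * (w * x) * w⁻¹ := by rw [this]
        _ = x * w⁻¹ := by group
    calc w⁻¹ * y * x = w⁻¹ * (y * x) := by group
      _ = (w⁻¹ * x) * y := by rw [hy x hx]; group
      _ = x * (w⁻¹ * y) := by rw [h4]; group
  have htW := F.cTwo.tW
  have hsq := F.sq _ (F.mem 0)
  rcases F.cent_J 0 h2 h3 with h | h | h | h
  · left
    have : y = w := (inv_mul_eq_one.1 h).symm
    rw [this]; exact hw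
  · right
    have : y * a 0 = w := by
      have h4 : y = w * a 0 := by rw [← h]; group
      rw [h4, mul_assoc, hsq, mul_one]
    rw [this]; exact hw
  · left
    have : y = w * t := by rw [← h]; group
    rw [this]; exact mul_mem hw htW
  · right
    have : y * a 0 = w * t := by
      have h4 : y = w * (t * a 0) := by rw [← h]; group
      rw [h4, mul_assoc, mul_assoc, hsq, mul_one]
    rw [this]; exact mul_mem hw htW

theorem a_notMem (F : Fr t K A S a) (i : Fin 23) : a i ∉ centralizer (K : Set G) := by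
  intro h
  exact F.a_ne_one i (F.center_K (F.aK i) fun k hk => (mem_centralizer_iff.1 h k hk).symm)

/-- 8 does not divide `|C(J_0)|` -/
theorem not_eight [Finite G] (F : Fr t K A S a)
    (hC : ∀ i, CompOf (a i) (K ⊓ centralizer ({a i} : Set G))) :
    ¬ 8 ∣ Nat.card (centralizer ((K ⊓ centralizer ({a 0} : Set G) : Subgroup G) : Set G)) := by
  set W := centralizer (K : Set G) with hW
  set Y := centralizer ((K ⊓ centralizer ({a 0} : Set G) : Subgroup G) : Set G) with hY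
  have hWY : W ≤ Y := centralizer_le inf_le_left
  have h1 : (Y : Set G) ⊆ (W : Set G) ∪ (fun x => x * a 0) '' (W : Set G) := by
    intro y hy
    have hy' : ∀ x ∈ K ⊓ centralizer ({a 0} : Set G), y * x = x * y := fun x hx =>
      (mem_centralizer_iff.1 hy x hx).symm
    rcases F.cent_J_or hC hy' with h | h
    · exact Or.inl h
    · right
      refine ⟨y * a 0, h, ?_⟩
      show y * a 0 * a 0 = y
      rw [mul_assoc, F.sq _ (F.mem 0), mul_one]
  have h2 : Nat.card Y ≤ 2 * Nat.card W := by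
    have e1 : Nat.card Y = (Y : Set G).ncard := rfl
    have e2 : Nat.card W = (W : Set G).ncard := rfl
    rw [e1, e2]
    calc (Y : Set G).ncard ≤ ((W : Set G) ∪ (fun x => x * a 0) '' (W : Set G)).ncard :=
          Set.ncard_le_ncard h1 (Set.toFinite _)
      _ ≤ (W : Set G).ncard + ((fun x => x * a 0) '' (W : Set G)).ncard := Set.ncard_union_le _ _
      _ ≤ (W : Set G).ncard + (W : Set G).ncard :=
          Nat.add_le_add_left (Set.ncard_image_le (Set.toFinite _)) _
      _ = 2 * (W : Set G).ncard := by ring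
  have h3 : Nat.card W ∣ Nat.card Y := Subgroup.card_dvd_of_le hWY
  have h4 := F.cTwo.not_four
  have h5 : 0 < Nat.card W := Nat.card_pos
  have h6 : 0 < Nat.card Y := Nat.card_pos
  obtain ⟨c, hc⟩ := h3
  intro h8
  have hc2 : c ≤ 2 := by
    by_contra h
    push Not at h
    have : Nat.card W * 3 ≤ Nat.card W * c := Nat.mul_le_mul_left _ h
    rw [← hc] at this
    omega
  rw [hc] at h8
  apply h4
  show 4 ∣ Nat.card W
  interval_cases c
  · omega
  · omega
  · omega

/-- `J_0` is normal in `C(a_0)` -/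
theorem J_normal [Finite G] (F : Fr t K A S a)
    (hC : ∀ i, CompOf (a i) (K ⊓ centralizer ({a i} : Set G))) {x : G} (hx : x * a 0 = a 0 * x) :
    cj x (K ⊓ centralizer ({a 0} : Set G)) = K ⊓ centralizer ({a 0} : Set G) := by
  by_contra hne
  have h1 := compOf_comm (compOf_cj' hx (hC 0)) (hC 0) hne
  apply F.not_eight hC
  have h2 : cj x (K ⊓ centralizer ({a 0} : Set G)) ≤
      centralizer ((K ⊓ centralizer ({a 0} : Set G) : Subgroup G) : Set G) := fun y hy =>
    mem_centralizer_iff.2 fun z hz => (h1 y hy z hz).symm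
  have h3 := Subgroup.card_dvd_of_le h2
  rw [card_cj] at h3
  have h4 := Subgroup.card_dvd_of_le (F.AJ 0)
  rw [F.cardA] at h4
  exact (Dvd.dvd.trans (by norm_num) h4).trans h3

/-- **`t` moves to `t` or `t a_0` in `C(a_0)`** -/
theorem norm_end [Finite G] (F : Fr t K A S a) (bal : centralizerPPrimeCore 2 (a 0) = ⊥)
    (hC : ∀ i, CompOf (a i) (K ⊓ centralizer ({a i} : Set G))) :
    ∀ x, x * a 0 = a 0 * x → x * t * x⁻¹ = t ∨ x * t * x⁻¹ = t * a 0 := by
  set J := K ⊓ centralizer ({a 0} : Set G) with hJ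
  -- conjugation of `C(J)`
  have hYc : ∀ x, x * a 0 = a 0 * x → ∀ y, (∀ j ∈ J, y * j = j * y) →
      ∀ j ∈ J, x * y * x⁻¹ * j = j * (x * y * x⁻¹) := by
    intro x hx y hy j hj
    have h1 : x⁻¹ * j * x ∈ J := by
      rw [← mem_cj, F.J_normal hC hx]; exact hj
    have h2 := hy _ h1
    calc x * y * x⁻¹ * j = x * (y * (x⁻¹ * j * x)) * x⁻¹ := by group
      _ = x * (x⁻¹ * j * x * y) * x⁻¹ := by rw [h2]
      _ = j * (x * y * x⁻¹) := by group
  obtain ⟨N, hNW, hodd, hN1, hN2⟩ := F.cTwo.exists_compl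
  have hWK : ∀ w ∈ centralizer (K : Set G), ∀ k ∈ K, w * k = k * w := fun w hw k hk =>
    (mem_centralizer_iff.1 hw k hk).symm
  -- elements of odd order of `C(J)` lie in `N`
  have hodd' : ∀ y, (∀ j ∈ J, y * j = j * y) → Odd (orderOf y) → y ∈ N := by
    intro y hy ho
    rcases F.cent_J_or hC hy with h | h
    · exact hN1 y h ho
    · exfalso
      have h1 : Commute y (a 0) := hy _ (F.AJ 0 (F.mem 0))
      obtain ⟨m, hm⟩ := ho
      have h2 : (y * a 0) ^ (2 * m + 1) = a 0 := by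
        rw [h1.mul_pow, ← hm, pow_orderOf_eq_one, one_mul, hm, pow_succ, pow_mul, pow_two,
          F.sq _ (F.mem 0), one_pow, one_mul]
      apply F.a_notMem 0
      rw [← h2]
      exact pow_mem h _
  have hNodd : ∀ n ∈ N, Odd (orderOf n) := by
    intro n hn
    have h1 : orderOf (⟨n, hn⟩ : N) ∣ Nat.card N := _root_.orderOf_dvd_natCard _
    rw [← Subgroup.orderOf_coe] at h1
    exact Odd.of_dvd_nat hodd h1
  have hNa : N ≤ centralizer ({a 0} : Set G) := fun n hn =>
    mem_centralizer_singleton_iff.2 (hWK n (hNW hn) _ (F.aK 0))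
  have hNbot : N = ⊥ := by
    have hnorm : (N.subgroupOf (centralizer ({a 0} : Set G))).Normal := by
      refine ⟨fun n hn x => ?_⟩
      have hx := mem_centralizer_singleton_iff.1 x.2
      have hnN : (n : G) ∈ N := hn
      show (x : G) * n * (x : G)⁻¹ ∈ N
      apply hodd'
      · exact hYc x hx n fun j hj => hWK n (hNW hnN) j hj.1
      · have h1 : orderOf ((x : G) * n * (x : G)⁻¹) = orderOf (n : G) := by
          have := (MulAut.conj (x : G)).orderOf_eq (n : G)
          simpa only [MulAut.conj_apply, _root_.Fin.isValue, _root_.orderOf_submonoid] using this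
        rw [h1]; exact hNodd _ hnN
    have hcop : (Nat.card (N.subgroupOf (centralizer ({a 0} : Set G)))).Coprime 2 := by
      rw [Nat.card_congr (subgroupOfEquivOfLe hNa).toEquiv, Nat.coprime_two_right]
      exact hodd
    have h1 := Lib.Cores.le_pPrimeCore hnorm hcop
    rw [Soft.core_eq_bot bal, le_bot_iff] at h1
    have h2 := congrArg (Subgroup.map (centralizer ({a 0} : Set G)).subtype) h1
    rwa [subgroupOf_map_subtype, inf_of_le_left hNa, Subgroup.map_bot] at h2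
  have hW : ∀ w ∈ centralizer (K : Set G), w = 1 ∨ w = t := by
    intro w hw
    rcases hN2 w hw with h | h
    · rw [hNbot, mem_bot] at h
      exact Or.inl h
    · rw [hNbot, mem_bot] at h
      right
      rw [← F.et w, h, mul_one]
  intro x hx
  have h1 := hYc x hx t fun j hj => (F.com j hj.1).symm
  have hsq := F.sq _ (F.mem 0)
  rcases F.cent_J_or hC h1 with h | h
  · rcases hW _ h with h' | h'
    · exfalso
      rw [mul_inv_eq_one] at h'
      exact F.t1 (mul_eq_left.1 h')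
    · exact Or.inl h'
  · rcases hW _ h with h' | h'
    · exfalso
      apply F.not_conj (F.aK 0) x
      calc x * t * x⁻¹ = x * t * x⁻¹ * (a 0 * a 0) := by rw [hsq, mul_one]
        _ = (x * t * x⁻¹ * a 0) * a 0 := by group
        _ = a 0 := by rw [h', one_mul]
    · right
      calc x * t * x⁻¹ = x * t * x⁻¹ * (a 0 * a 0) := by rw [hsq, mul_one]
        _ = (x * t * x⁻¹ * a 0) * a 0 := by group
        _ = t * a 0 := by rw [h']

end Fr

end Cfsg.Agent.OddHalf.D8.Fi23

end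

-- merged: Cfsg.Agent.OddHalf.D8.Fi23.Last
section

/-!
# `T ≤ N^g` only for `g ∈ N`; the transfer from `N` (helper907)
-/

set_option autoImplicit false

namespace Cfsg.Agent.OddHalf.D8.Fi23

open Subgroup Cfsg

namespace Fr

variable {G : Type*} [Group G] {t : G} {K A S : Subgroup G} {a : Fin 23 → G}

/-- a product of two of the 24 points determines them -/
theorem pair_uniq (F : Fr t K A S a) (hp : ∀ x, x ∈ orb F.NN t ↔ x = t ∨ ∃ i, x = t * a i)
    {θ θ' η η' : G} (h1 : θ ∈ orb F.NN t) (h2 : θ' ∈ orb F.NN t) (h3 : η ∈ orb F.NN t)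
    (h4 : η' ∈ orb F.NN t) (hne : θ ≠ θ') (hne' : η ≠ η') (h : θ * θ' = η * η') : η = θ ∨ η = θ' := by
  have e1 : ∀ i, t * (t * a i) = a i := fun i => F.et _
  have e2 : ∀ i, t * a i * t = a i := fun i => by
    rw [mul_assoc, F.com _ (F.aK i)]; exact F.et _
  have e3 : ∀ i j, t * a i * (t * a j) = a i * a j := fun i j => by
    calc t * a i * (t * a j) = (t * a i * t) * a j := by group
      _ = a i * a j := by rw [e2]
  rcases (hp θ).1 h1 with rfl | ⟨i, rfl⟩ <;> rcases (hp θ').1 h2 with r2 | ⟨j, r2⟩ <;>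
    rcases (hp η).1 h3 with r3 | ⟨k, r3⟩ <;> rcases (hp η').1 h4 with r4 | ⟨l, r4⟩ <;>
    subst r2 r3 r4
  · exact absurd rfl hne
  · exact absurd rfl hne
  · exact absurd rfl hne
  · exact absurd rfl hne
  · exact absurd rfl hne'
  · exact Or.inl rfl
  · rw [e1, e2] at h
    right; rw [F.a_inj h]
  · rw [e1, e3] at h
    have hkl : k ≠ l := fun e => hne' (by rw [e])
    exact absurd h.symm (F.pair_ne_a hkl)
  · exact absurd rfl hne'
  · rw [e1, e2] at h
    exact Or.inr rfl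
  · rw [e2, e2] at h
    left; rw [F.a_inj h]
  · rw [e2, e3] at h
    have hkl : k ≠ l := fun e => hne' (by rw [e])
    exact absurd h.symm (F.pair_ne_a hkl)
  · exact absurd rfl hne'
  · rw [e1, e3] at h
    have hij : i ≠ j := fun e => hne (by rw [e])
    exact absurd h (F.pair_ne_a hij)
  · rw [e2, e3] at h
    have hij : i ≠ j := fun e => hne (by rw [e])
    exact absurd h (F.pair_ne_a hij)
  · rw [e3, e3] at h
    have hij : i ≠ j := fun e => hne (by rw [e])
    have hkl : k ≠ l := fun e => hne' (by rw [e])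
    rcases F.pair_eq hij hkl h with ⟨r1, -⟩ | ⟨-, r1⟩
    · left; rw [r1]
    · right; rw [r1]

/-- the points fixed by `s` -/
def Fx (F : Fr t K A S a) (s : G) : Set G := {θ | θ ∈ orb F.NN t ∧ s * θ = θ * s}

theorem fx_le [Finite G] (F : Fr t K A S a) (hp : ∀ x, x ∈ orb F.NN t ↔ x = t ∨ ∃ i, x = t * a i)
    {s : G} (hs : s ∈ F.NN) (hsA : s ∉ dbl t A) : (F.Fx s).ncard ≤ 8 := by
  by_cases he : F.Fx s = ∅
  · rw [he, Set.ncard_empty]; norm_num
  obtain ⟨θ, hθ, hsθ⟩ := Set.nonempty_iff_ne_empty.2 he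
  obtain ⟨n, hn, rfl⟩ := hθ
  set s1 := n⁻¹ * s * n with hs1
  have hs1N : s1 ∈ F.NN := F.NN.mul_mem (F.NN.mul_mem (F.NN.inv_mem hn) hs) hn
  have hs1A : s1 ∉ dbl t A := by
    intro h
    apply hsA
    have := (F.mem_NN.1 hn s1).1 h
    have e : n * s1 * n⁻¹ = s := by rw [hs1]; group
    rwa [e] at this
  have hs1t : s1 * t = t * s1 := by
    calc s1 * t = n⁻¹ * (s * (n * t * n⁻¹)) * n := by rw [hs1]; group
      _ = n⁻¹ * (n * t * n⁻¹ * s) * n := by rw [hsθ]
      _ = t * s1 := by rw [hs1]; group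
  have hsub : F.Fx s ⊆ (fun x => n * x * n⁻¹) '' F.Fx s1 := by
    rintro θ ⟨h1, h2⟩
    refine ⟨n⁻¹ * θ * n, ⟨?_, ?_⟩, by show n * (n⁻¹ * θ * n) * n⁻¹ = θ; group⟩
    · have := orb_conj h1 (F.NN.inv_mem hn)
      rwa [inv_inv] at this
    · calc s1 * (n⁻¹ * θ * n) = n⁻¹ * (s * θ) * n := by rw [hs1]; group
        _ = n⁻¹ * (θ * s) * n := by rw [h2]
        _ = n⁻¹ * θ * n * s1 := by rw [hs1]; group
  have h1 : (F.Fx s).ncard ≤ (F.Fx s1).ncard :=
    (Set.ncard_le_ncard hsub (Set.toFinite _)).trans (Set.ncard_image_le (Set.toFinite _))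
  refine h1.trans ?_
  -- `s1 = x` or `t x`
  have hmem : s1 ∈ dbl t (K ⊓ normalizer (A : Set G)) := by
    rw [← F.NN_cent]
    exact ⟨hs1N, mem_centralizer_singleton_iff.2 hs1t⟩
  have hc : ∀ x ∈ K ⊓ normalizer (A : Set G), x * t = t * x := fun x hx => F.com x hx.1
  obtain ⟨x, hxK, hxN, hx⟩ : ∃ x, x ∈ K ∧ x ∈ normalizer (A : Set G) ∧ (s1 = x ∨ s1 = t * x) := by
    rcases (mem_dbl F.tt hc).1 hmem with h | h
    · exact ⟨s1, h.1, h.2, Or.inl rfl⟩
    · exact ⟨t * s1, h.1, h.2, Or.inr (F.et _).symm⟩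
  have hxA : x ∉ A := by
    intro h
    apply hs1A
    rcases hx with h' | h'
    · rw [h']; exact le_dbl t A h
    · rw [h']; exact (dbl t A).mul_mem (t_mem_dbl t A) (le_dbl t A h)
  set I : Set (Fin 23) := {i | x * a i = a i * x} with hI
  have hI7 : I.ncard ≤ 7 := by
    by_contra h
    have h' : 8 ≤ I.ncard := by omega
    exact hxA (F.fix x hxK hxN h')
  have hsub2 : F.Fx s1 ⊆ insert t ((fun i => t * a i) '' I) := by
    rintro θ ⟨h2, h3⟩
    rcases (hp θ).1 h2 with h4 | ⟨i, rfl⟩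
    · left; exact h4
    · right
      refine ⟨i, ?_, rfl⟩
      show x * a i = a i * x
      have h5 : s1 * a i = a i * s1 := by
        have : t * (s1 * a i) = t * (a i * s1) := by
          calc t * (s1 * a i) = (t * s1) * a i := by group
            _ = (s1 * t) * a i := by rw [hs1t]
            _ = s1 * (t * a i) := by group
            _ = t * a i * s1 := h3
            _ = t * (a i * s1) := by group
        exact mul_left_cancel this
      rcases hx with h' | h'
      · rwa [h'] at h5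
      · rw [h'] at h5
        have : t * (x * a i) = t * (a i * x) := by
          calc t * (x * a i) = t * x * a i := by group
            _ = a i * (t * x) := h5
            _ = (a i * t) * x := by group
            _ = (t * a i) * x := by rw [F.com _ (F.aK i)]
            _ = t * (a i * x) := by group
        exact mul_left_cancel this
  calc (F.Fx s1).ncard ≤ (insert t ((fun i => t * a i) '' I)).ncard :=
        Set.ncard_le_ncard hsub2 (Set.toFinite _)
    _ ≤ ((fun i => t * a i) '' I).ncard + 1 := Set.ncard_insert_le _ _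
    _ ≤ I.ncard + 1 := Nat.add_le_add_right (Set.ncard_image_le (Set.toFinite _)) 1
    _ ≤ 8 := by omega

theorem card_NN [Finite G] (F : Fr t K A S a) (h24 : (orb F.NN t).ncard = 24) :
    Nat.card F.NN = 24 * (2 ^ 12 * 10200960) := by
  rw [← orb_card F.NN t, h24, F.card_NN_cent]

/-- an involution of `N` outside `A*` centralizes at most `2⁸` elements of `A*` -/
theorem cent_le [Finite G] (F : Fr t K A S a) (hp : ∀ x, x ∈ orb F.NN t ↔ x = t ∨ ∃ i, x = t * a i)
    (h24 : (orb F.NN t).ncard = 24) {s : G} (hs : s ∈ F.NN) (hsA : s ∉ dbl t A) (hss : s * s = 1) :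
    Nat.card ↥(dbl t A ⊓ centralizer ({s} : Set G)) < 2 ^ 9 := by
  by_contra hcon
  push Not at hcon
  have hsi : s⁻¹ = s := inv_eq_of_mul_eq_one_left hss
  have hsx : ∀ x ∈ dbl t A, s * x * s⁻¹ ∈ dbl t A := fun x hx => (F.mem_NN.1 hs x).1 hx
  let ψ : dbl t A →* G :=
    { toFun := fun x => x * (s * x * s⁻¹)
      map_one' := by simp
      map_mul' := by
        intro x y
        have h1 : (y : G) * (s * x * s⁻¹) = s * x * s⁻¹ * y := F.AA_comm y.2 (hsx x x.2)
        show (x : G) * y * (s * (x * y) * s⁻¹) = x * (s * x * s⁻¹) * (y * (s * y * s⁻¹))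
        calc (x : G) * y * (s * (x * y) * s⁻¹) = x * (y * (s * x * s⁻¹)) * (s * y * s⁻¹) := by group
          _ = x * (s * x * s⁻¹ * y) * (s * y * s⁻¹) := by rw [h1]
          _ = x * (s * x * s⁻¹) * (y * (s * y * s⁻¹)) := by group }
  have hψ : ∀ x : dbl t A, ψ x = x * (s * x * s⁻¹) := fun _ => rfl
  have hker : Nat.card ψ.ker = Nat.card ↥(dbl t A ⊓ centralizer ({s} : Set G)) := by
    refine Nat.card_congr
      { toFun := fun y => ⟨y, y.1.2, ?_⟩
        invFun := fun y => ⟨⟨y, y.2.1⟩, ?_⟩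
        left_inv := fun y => rfl
        right_inv := fun y => rfl }
    · have h1 : ((y : dbl t A) : G) * (s * ((y : dbl t A) : G) * s⁻¹) = 1 := y.2
      have h2 : s * ((y : dbl t A) : G) * s⁻¹ = ((y : dbl t A) : G) := by
        have h3 := eq_inv_of_mul_eq_one_right h1
        rw [h3]; exact F.AA_inv y.1.2
      exact mem_centralizer_singleton_iff.2 (mul_inv_eq_iff_eq_mul.1 h2).symm
    · rw [MonoidHom.mem_ker, hψ]
      have h1 : (y : G) * s = s * y := mem_centralizer_singleton_iff.1 y.2.2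
      show (y : G) * (s * y * s⁻¹) = 1
      rw [← h1, mul_inv_cancel_right]
      exact F.AA_sq y.2.1
  have hrange : Nat.card ψ.range ≤ 8 := by
    have h1 := ψ.ker.card_mul_index
    rw [Subgroup.index_ker, hker, F.cardAA] at h1
    by_contra h2
    push Not at h2
    have : 2 ^ 9 * 9 ≤ 2 ^ 12 := by
      calc 2 ^ 9 * 9 ≤ Nat.card ↥(dbl t A ⊓ centralizer ({s} : Set G)) * Nat.card ψ.range :=
            Nat.mul_le_mul hcon h2
        _ = 2 ^ 12 := h1
    norm_num at this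
  -- the moved points
  set M : Set G := orb F.NN t \ F.Fx s with hM
  have hM16 : 16 ≤ M.ncard := by
    have h1 := F.fx_le hp hs hsA
    have h2 : F.Fx s ⊆ orb F.NN t := fun x hx => hx.1
    have h3 := Set.ncard_sdiff_add_ncard_of_subset h2 (Set.toFinite _)
    rw [← hM] at h3
    omega
  have hMA : ∀ θ ∈ M, θ ∈ dbl t A := fun θ h => (F.orb_sub h.1).1
  have hMne : ∀ θ ∈ M, s * θ * s⁻¹ ≠ θ := by
    intro θ h e
    exact h.2 ⟨h.1, mul_inv_eq_iff_eq_mul.1 e⟩
  have hMo : ∀ θ ∈ M, s * θ * s⁻¹ ∈ orb F.NN t := fun θ h => orb_conj h.1 hs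
  -- the map to the range
  let φ : G → G := fun θ => θ * (s * θ * s⁻¹)
  have hφr : φ '' M ⊆ (ψ.range : Set G) \ {1} := by
    rintro _ ⟨θ, h, rfl⟩
    refine ⟨⟨⟨θ, hMA θ h⟩, rfl⟩, ?_⟩
    intro h1
    have h1 : θ * (s * θ * s⁻¹) = 1 := h1
    apply hMne θ h
    rw [eq_inv_of_mul_eq_one_right h1]
    exact F.AA_inv (hMA θ h)
  have hφ7 : (φ '' M).ncard ≤ 7 := by
    refine (Set.ncard_le_ncard hφr (Set.toFinite _)).trans ?_
    rw [Set.ncard_sdiff_singleton_of_mem ψ.range.one_mem]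
    have : (ψ.range : Set G).ncard ≤ 8 := hrange
    omega
  have hfib : ∀ y ∈ φ '' M, {θ ∈ M | φ θ = y}.ncard ≤ 2 := by
    rintro _ ⟨θ, h, rfl⟩
    have : {η ∈ M | φ η = φ θ} ⊆ {θ, s * θ * s⁻¹} := by
      rintro η ⟨h1, h2⟩
      have := F.pair_uniq hp h.1 (hMo θ h) h1.1 (hMo η h1) (hMne θ h).symm (hMne η h1).symm h2.symm
      exact this
    exact (Set.ncard_le_ncard this (Set.toFinite _)).trans (pair_le _ _)
  have hM14 : M.ncard ≤ 14 := by
    classical
    have hfin : M.Finite := Set.toFinite _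
    have h1 := Finset.card_le_mul_card_image (f := φ) (s := hfin.toFinset) 2 (by
      intro y hy
      have h2 : y ∈ φ '' M := by
        rw [Finset.mem_image] at hy
        obtain ⟨θ, h3, h4⟩ := hy
        exact ⟨θ, hfin.mem_toFinset.1 h3, h4⟩
      have h5 := hfib y h2
      rw [← Set.ncard_coe_finset]
      refine le_trans (le_of_eq ?_) h5
      congr 1
      ext θ
      simp)
    rw [← Set.ncard_coe_finset, ← Set.ncard_coe_finset, Set.Finite.coe_toFinset, Finset.coe_image,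
      Set.Finite.coe_toFinset] at h1
    omega
  omega

/-- **`T ≤ N^g` implies `g ∈ N`** -/
theorem mem_NN_of_le [Finite G] (F : Fr t K A S a)
    (hp : ∀ x, x ∈ orb F.NN t ↔ x = t ∨ ∃ i, x = t * a i) (h24 : (orb F.NN t).ncard = 24) {g : G}
    (hg : ∀ x ∈ dbl t S, g⁻¹ * x * g ∈ F.NN) : g ∈ F.NN := by
  set T' : Subgroup G := (dbl t S).map (MulAut.conj g⁻¹).toMonoidHom with hT'
  have hT'N : T' ≤ F.NN := by
    rintro _ ⟨x, hx, rfl⟩
    have : (MulAut.conj g⁻¹).toMonoidHom x = g⁻¹ * x * g := by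
      show g⁻¹ * x * g⁻¹⁻¹ = _
      group
    rw [this]; exact hg x hx
  have hmT' : ∀ x, x ∈ T' ↔ g * x * g⁻¹ ∈ dbl t S := by
    intro x
    constructor
    · rintro ⟨y, hy, rfl⟩
      have : g * ((MulAut.conj g⁻¹).toMonoidHom y) * g⁻¹ = y := by
        show g * (g⁻¹ * y * g⁻¹⁻¹) * g⁻¹ = y
        group
      rw [this]; exact hy
    · intro h
      refine ⟨_, h, ?_⟩
      show g⁻¹ * (g * x * g⁻¹) * g⁻¹⁻¹ = x
      group
  have hpT' : IsPGroup 2 T' := F.pT.map _
  set s := g⁻¹ * t * g with hs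
  have hsT' : s ∈ T' := by
    rw [hmT']
    have : g * s * g⁻¹ = t := by rw [hs]; group
    rw [this]; exact t_mem_dbl t S
  have hss : s * s = 1 := by
    calc s * s = g⁻¹ * (t * t) * g := by rw [hs]; group
      _ = 1 := by rw [F.tt]; group
  have hcT' : ∀ x ∈ T', x * s = s * x := by
    intro x hx
    have h1 := dbl_comm F.tt F.comS ((hmT' x).1 hx)
    calc x * s = g⁻¹ * (g * x * g⁻¹ * t) * g := by rw [hs]; group
      _ = g⁻¹ * (t * (g * x * g⁻¹)) * g := by rw [h1]
      _ = s * x := by rw [hs]; group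
  by_cases hsA : s ∈ dbl t A
  · -- `A* ≤ T'`
    have hpA : IsPGroup 2 (dbl t A) := by
      rintro ⟨x, hx⟩
      exact ⟨1, Subtype.ext (by show x ^ 2 ^ 1 = 1; rw [pow_one, pow_two]; exact F.AA_sq hx)⟩
    have h1 : IsPGroup 2 ((T' ⊔ dbl t A : Subgroup G)) := hpT'.to_sup_of_normal_right' hpA hT'N
    have h2 : T' ⊔ dbl t A ≤ centralizer ({s} : Set G) := by
      refine sup_le (fun x hx => mem_centralizer_singleton_iff.2 (hcT' x hx)) (fun x hx => ?_)
      exact mem_centralizer_singleton_iff.2 (F.AA_comm hx hsA)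
    set P : Subgroup G := (T' ⊔ dbl t A).map (MulAut.conj g).toMonoidHom with hP
    have hPm : ∀ x, x ∈ T' ⊔ dbl t A → g * x * g⁻¹ ∈ P := fun x hx => ⟨x, hx, rfl⟩
    have h3 : P = dbl t S := by
      apply F.maxT (h1.map _)
      · rintro _ ⟨x, hx, rfl⟩
        have h4 : x * s = s * x := mem_centralizer_singleton_iff.1 (h2 hx)
        show g * x * g⁻¹ * t = t * (g * x * g⁻¹)
        calc g * x * g⁻¹ * t = g * (x * s) * g⁻¹ := by rw [hs]; group
          _ = g * (s * x) * g⁻¹ := by rw [h4]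
          _ = t * (g * x * g⁻¹) := by rw [hs]; group
      · intro x hx
        have h5 : g⁻¹ * x * g ∈ T' := by
          rw [hmT']
          have : g * (g⁻¹ * x * g) * g⁻¹ = x := by group
          rw [this]; exact hx
        have h6 := hPm _ ((le_sup_left : T' ≤ _) h5)
        have : g * (g⁻¹ * x * g) * g⁻¹ = x := by group
        rwa [this] at h6
    have h7 : (dbl t A).map (MulAut.conj g).toMonoidHom = dbl t A := by
      apply F.uniqT
      · rw [← h3]
        exact map_mono le_sup_right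
      · rintro _ ⟨x, hx, rfl⟩
        show g * x * g⁻¹ * (g * x * g⁻¹) = 1
        calc g * x * g⁻¹ * (g * x * g⁻¹) = g * (x * x) * g⁻¹ := by group
          _ = 1 := by rw [F.AA_sq hx]; group
      · rw [← F.cardAA]
        exact (Nat.card_congr ((dbl t A).equivMapOfInjective _ (MulAut.conj g).injective).toEquiv).le
    rw [F.mem_NN]
    intro x
    constructor
    · intro hx
      rw [← h7]
      exact ⟨x, hx, rfl⟩
    · intro hx
      rw [← h7] at hx
      obtain ⟨z, hz, hzx⟩ := hx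
      have : z = x := mul_left_cancel (mul_right_cancel (hzx : g * z * g⁻¹ = g * x * g⁻¹))
      rwa [← this]
  · exfalso
    have hlt := F.cent_le hp h24 (hT'N hsT') hsA hss
    have hN := F.card_NN h24
    -- index of `A*` in `N`
    have hAN : dbl t A ≤ F.NN := le_normalizer
    have hi : (dbl t A).relIndex F.NN = 24 * 10200960 := by
      have h1 := Subgroup.card_mul_index ((dbl t A).subgroupOf F.NN)
      rw [Nat.card_congr (subgroupOfEquivOfLe hAN).toEquiv, F.cardAA, hN] at h1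
      have h2 : (dbl t A).relIndex F.NN = ((dbl t A).subgroupOf F.NN).index := rfl
      rw [h2]
      omega
    have hn : ((dbl t A).subgroupOf F.NN).Normal := by
      rw [normal_subgroupOf_iff_le_normalizer hAN]
      exact le_rfl
    have hd : (dbl t A).relIndex T' ∣ 24 * 10200960 := by
      have h1 := Subgroup.relIndex_dvd_index_of_normal ((dbl t A).subgroupOf F.NN) (T'.subgroupOf F.NN)
      rw [Subgroup.relIndex_subgroupOf hT'N] at h1
      rw [← hi]; exact h1
    have hcT : Nat.card T' = 2 ^ 19 := by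
      rw [← F.cardT]
      exact (Nat.card_congr ((dbl t S).equivMapOfInjective _ (MulAut.conj g⁻¹).injective).toEquiv).symm
    have hm := Subgroup.card_mul_index ((dbl t A).subgroupOf T')
    rw [hcT] at hm
    have hle : Nat.card ((dbl t A).subgroupOf T') ≤ Nat.card ↥(dbl t A ⊓ centralizer ({s} : Set G)) := by
      refine Nat.card_le_card_of_injective
        (fun x : (dbl t A).subgroupOf T' => (⟨((x : T') : G), x.2, mem_centralizer_singleton_iff.2
          (hcT' _ (x : T').2)⟩ : ↥(dbl t A ⊓ centralizer ({s} : Set G)))) ?_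
      intro x y hxy
      have h1 : ((x : T') : G) = ((y : T') : G) := by simpa using congrArg Subtype.val hxy
      exact Subtype.ext (Subtype.ext h1)
    have hidx : ((dbl t A).subgroupOf T').index = (dbl t A).relIndex T' := rfl
    rw [hidx] at hm
    have hdvd : (dbl t A).relIndex T' ∣ 2 ^ 19 := Dvd.intro_left _ hm
    obtain ⟨k, hk, hk2⟩ := (Nat.dvd_prime_pow Nat.prime_two).1 hdvd
    rw [hk2] at hd hm
    have hk10 : k ≤ 10 := by
      by_contra h
      have h1 : 2 ^ 11 ∣ 24 * 10200960 := (pow_dvd_pow 2 (by omega)).trans hd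
      norm_num at h1
    have h9 : 2 ^ 9 ≤ Nat.card ((dbl t A).subgroupOf T') := by
      by_contra h
      push Not at h
      have h1 : Nat.card ((dbl t A).subgroupOf T') * 2 ^ k < 2 ^ 9 * 2 ^ 10 :=
        calc Nat.card ((dbl t A).subgroupOf T') * 2 ^ k < 2 ^ 9 * 2 ^ k :=
              Nat.mul_lt_mul_of_pos_right h (by positivity)
          _ ≤ 2 ^ 9 * 2 ^ 10 := Nat.mul_le_mul_left _ (Nat.pow_le_pow_right (by norm_num) hk10)
      rw [hm] at h1
      norm_num at h1
    omega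

/-- **End of the case `J_a ⊴ C_G(a)`** -/
theorem last [Finite G] (F : Fr t K A S a) (hG : ∀ f : G →* ℤˣ, f t = 1)
    (h3 : ∀ x, x * a 0 = a 0 * x → x * t * x⁻¹ = t ∨ x * t * x⁻¹ = t * a 0)
    (hy : ∃ y ∈ F.NN, y * t * y⁻¹ ≠ t) : False := by
  classical
  obtain ⟨hp, h24⟩ := F.points h3 hy
  obtain ⟨f, hf⟩ := F.glue hp h24
  have : Fintype (G ⧸ F.NN) := Fintype.ofFinite _
  have h1 := OddHalf.D9.TransferGen.transfer_eq_D F.NN f t (by
    intro k hk hk1 g h
    have ho : orderOf t = 2 := orderOf_eq_prime (by rw [pow_two, F.tt]) F.t1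
    rw [ho] at hk
    have hk2 : k = 2 := by
      have : k ≤ 2 := Nat.le_of_dvd (by norm_num) hk
      interval_cases k <;> simp_all only [_root_.Fin.isValue, _root_.ne_eq, _root_.zero_dvd_iff, _root_.OfNat.ofNat_ne_zero, _root_.isUnit_iff_eq_one, _root_.IsUnit.dvd, _root_.not_true_eq_false, _root_.dvd_refl, _root_.OfNat.ofNat_ne_one, _root_.not_false_eq_true, _root_.Std.le_refl]
    subst hk2
    have e : (⟨g⁻¹ * t ^ 2 * g, h⟩ : F.NN) = 1 := by
      apply Subtype.ext
      show g⁻¹ * t ^ 2 * g = 1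
      rw [pow_two, F.tt]; group
    rw [e, map_one]) (dbl t S) F.pT (t_mem_dbl t S) (fun d hd => dbl_comm F.tt F.comS hd)
  have hset : Finset.univ.filter (fun q : G ⧸ F.NN => ∀ d ∈ dbl t S, d • q = q) =
      {((1 : G) : G ⧸ F.NN)} := by
    ext q
    rw [Finset.mem_filter, Finset.mem_singleton]
    constructor
    · rintro ⟨-, hq⟩
      obtain ⟨g, rfl⟩ := QuotientGroup.mk_surjective q
      have hg : g ∈ F.NN := F.mem_NN_of_le hp h24 (fun x hx =>
        (OddHalf.D9.TransferGen.smul_mk_eq F.NN x g).1 (hq x hx))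
      rw [QuotientGroup.eq]
      exact F.NN.mul_mem (F.NN.inv_mem hg) F.NN.one_mem
    · rintro rfl
      refine ⟨Finset.mem_univ _, fun d hd => ?_⟩
      rw [OddHalf.D9.TransferGen.smul_mk_eq]
      have : (1 : G)⁻¹ * d * 1 = d := by group
      rw [this]
      -- `T ≤ N`
      rw [F.mem_NN]
      have hnT : d ∈ normalizer ((dbl t S : Subgroup G) : Set G) := le_normalizer hd
      exact fun x => mem_normalizer_iff.1 (F.norm_le hnT) x
  rw [hG, hset, Finset.prod_singleton] at h1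
  have ht : (1 : G)⁻¹ * t * 1 ∈ F.NN := by
    have : (1 : G)⁻¹ * t * 1 = t := by group
    rw [this]; exact F.t_mem_NN
  rw [OddHalf.D9.TransferGen.val_mk F.NN f t 1 ht] at h1
  have e : (⟨(1 : G)⁻¹ * t * 1, ht⟩ : F.NN) = ⟨t, F.t_mem_NN⟩ := Subtype.ext (by group)
  rw [e, hf] at h1
  exact absurd h1 (by decide)

end Fr

end Cfsg.Agent.OddHalf.D8.Fi23

end

-- merged: Cfsg.Agent.OddHalf.D8.Fi23.Main
section

/-!
# ODD half, D8: the kill of `K = Fi₂₃` (helper907)

`kill`: no counterexample has a standard component `K` with the facts `Sheet K A S a`, all automorphisms inner, unless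
`C_K(a 0)` is properly contained in a component of `C_G(a 0)` (`hpu`).
-/

set_option autoImplicit false

namespace Cfsg.Agent.OddHalf.D8.Fi23

open Subgroup Cfsg Cfsg.Agent.OddHalf Cfsg.Agent.OddHalf.Iface

universe u

/-- conjugation of `C_K(b)` -/
theorem cj_cent {G : Type*} [Group G] {K : Subgroup G} {n b : G} (hn : n ∈ K) :
    cj n (K ⊓ centralizer ({b} : Set G)) = K ⊓ centralizer ({n * b * n⁻¹} : Set G) := by
  ext x
  rw [mem_cj, mem_inf, mem_inf, mem_centralizer_singleton_iff, mem_centralizer_singleton_iff]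
  constructor
  · rintro ⟨h1, h2⟩
    refine ⟨?_, ?_⟩
    · have h3 := K.mul_mem (K.mul_mem hn h1) (K.inv_mem hn)
      have e : n * (n⁻¹ * x * n) * n⁻¹ = x := by group
      rwa [e] at h3
    · calc x * (n * b * n⁻¹) = n * (n⁻¹ * x * n * b) * n⁻¹ := by group
        _ = n * (b * (n⁻¹ * x * n)) * n⁻¹ := by rw [h2]
        _ = n * b * n⁻¹ * x := by group
  · rintro ⟨h1, h2⟩
    refine ⟨K.mul_mem (K.mul_mem (K.inv_mem hn) h1) hn, ?_⟩
    calc n⁻¹ * x * n * b = n⁻¹ * (x * (n * b * n⁻¹)) * n := by group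
      _ = n⁻¹ * (n * b * n⁻¹ * x) * n := by rw [h2]
      _ = b * (n⁻¹ * x * n) := by group

/-- **The kill of `K = Fi₂₃`**, up to the pump-up of `C_K(a 0)` -/
theorem kill {G : Type u} [Group G] (C : Ctx G) {K : Subgroup G} (St : Std G K) (hcyc : Cyc K)
    {A : Subgroup K} {S : Sylow 2 K} {a : Fin 23 → K} (sh : Sheet K A S a)
    (hout : ∀ φ : MulAut K, ∃ k : K, φ = MulAut.conj k)
    (hpu : ∀ D : Subgroup G, CompOf ((a 0 : K) : G) D →
      K ⊓ centralizer ({((a 0 : K) : G)} : Set G) < D → False) : False := by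
  have := C.fin
  have L : Loc K (A.map K.subtype) ((S : Subgroup K).map K.subtype) (fun i => (a i : G)) :=
    Loc.of_sheet sh
  have hcen : center K = ⊥ := by
    rw [eq_bot_iff]
    intro x hx
    rw [mem_bot]
    apply Subtype.ext
    exact L.center_K x.2 fun y hy => (congrArg Subtype.val (mem_center_iff.1 hx ⟨y, hy⟩)).symm
  obtain ⟨t, q, st⟩ := Front.FE.exists_start C St hcyc hcen
  have P : Pre t q K (A.map K.subtype) ((S : Subgroup K).map K.subtype) (fun i => (a i : G)) :=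
    { st := st
      loc := L
      cent := by
        intro g hg
        obtain ⟨k, hk⟩ := hout (K.normalizerMonoidHom ⟨g, st.nK g hg⟩)
        have h1 : g ∈ zpowers q ⊔ K := Front.OfSheet.mem_of_inn st hg ⟨k, hk.symm⟩
        obtain ⟨u, hu, x, hx, rfl⟩ := (Pre.mem_sup_comm (fun u hu k hk =>
          st.toStart0.QK u hu k hk)).1 h1
        refine ⟨u⁻¹, (zpowers q).inv_mem hu, ?_⟩
        rw [inv_mul_cancel_left]; exact hx }
  obtain ⟨F, y, hyN, hyt⟩ := P.main (Front.FE.commutator_eq_top C)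
  have hK2 : ∀ g, g * t = t * g → ∀ x ∈ K, g * x * g⁻¹ ∈ K := fun g hg x hx =>
    (mem_normalizer_iff.1 (st.nK g hg) x).1 hx
  have hidx : ∀ N : Subgroup G, N.index ≠ 2 := Front.FE.index_ne_two C
  have ho : orderOf ((a 0 : K) : G) = 2 :=
    orderOf_eq_prime (by rw [pow_two]; exact F.sq _ (F.mem 0)) (F.a_ne_one 0)
  have hJa : K ⊓ centralizer ({((a 0 : K) : G)} : Set G) ≤ centralizer ({((a 0 : K) : G)} : Set G) :=
    inf_le_right
  have hJt : K ⊓ centralizer ({((a 0 : K) : G)} : Set G) ≤ centralizer ({t} : Set G) := fun x hx =>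
    mem_centralizer_singleton_iff.2 (F.com x hx.1)
  have haJ : ((a 0 : K) : G) ∈ K ⊓ centralizer ({((a 0 : K) : G)} : Set G) :=
    ⟨F.aK 0, mem_centralizer_singleton_iff.2 rfl⟩
  have heven : 2 ∣ Nat.card ↥(K ⊓ centralizer ({((a 0 : K) : G)} : Set G)) := by
    have h1 : orderOf (⟨((a 0 : K) : G), haJ⟩ : ↥(K ⊓ centralizer ({((a 0 : K) : G)} : Set G))) = 2 := by
      rw [Subgroup.orderOf_mk]; exact ho
    rw [← h1]; exact _root_.orderOf_dvd_natCard _
  have hsub : ((K ⊓ centralizer ({((a 0 : K) : G)} : Set G)).subgroupOf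
      (centralizer ({((a 0 : K) : G)} : Set G) ⊓ centralizer ({t} : Set G))).IsSubnormal := by
    apply Normal.isSubnormal
    refine ⟨fun n hn g => ?_⟩
    have hgt := mem_centralizer_singleton_iff.1 g.2.2
    have hga : (g : G) ∈ centralizer ({((a 0 : K) : G)} : Set G) := g.2.1
    have hn' : (n : G) ∈ K ⊓ centralizer ({((a 0 : K) : G)} : Set G) := hn
    show (g : G) * n * (g : G)⁻¹ ∈ K ⊓ centralizer ({((a 0 : K) : G)} : Set G)
    exact ⟨hK2 g hgt n hn'.1, (centralizer ({((a 0 : K) : G)} : Set G)).mul_mem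
      ((centralizer ({((a 0 : K) : G)} : Set G)).mul_mem hga hn'.2)
      ((centralizer ({((a 0 : K) : G)} : Set G)).inv_mem hga)⟩
  obtain ⟨D, hD, h⟩ := PumpX.pump (C.bal _ ho) F.tt (F.com _ (F.aK 0)) hJa hJt (F.qs 0) heven hsub
  rcases h with h | ⟨h, -⟩ | ⟨h1, h2, h3⟩
  · -- `J` is a component
    have hC0 : CompOf ((a 0 : K) : G) (K ⊓ centralizer ({((a 0 : K) : G)} : Set G)) := by
      rw [h]; exact ⟨hD.le, hD.comp⟩
    have hC : ∀ i, CompOf ((a i : K) : G) (K ⊓ centralizer ({((a i : K) : G)} : Set G)) := by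
      intro i
      obtain ⟨n, hn, -, e⟩ := F.one 0 i
      have h1 := compOf_cj hC0 n
      rw [cj_cent hn] at h1
      have e' : n * ((a 0 : K) : G) * n⁻¹ = ((a i : K) : G) := e
      rwa [e'] at h1
    exact F.last (fun f => D9.Outer.hom_units_eq_one hidx f t) (F.norm_end (C.bal _ ho) hC)
      ⟨y, hyN, hyt⟩
  · exact hpu D ⟨hD.le, hD.comp⟩ h
  · refine F.swap hidx C.bal ⟨D, ⟨hD.le, hD.comp⟩, h1, fun x => ⟨fun hx => ?_, ?_⟩⟩
    · obtain ⟨d, hd, e⟩ := h3 x hx
      exact ⟨d, hd, e.symm⟩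
    · rintro ⟨d, hd, rfl⟩
      exact h2 d hd

end Cfsg.Agent.OddHalf.D8.Fi23

end

-- merged: Cfsg.Agent.OddHalf.D8.Fi23.RowOf
section

/-!
# ODD half, D8: the row of `Fi₂₃` from the facts on `Spor.Fi23` (helper907)

`row_of`: from the multiplier facts `Mult`, the orders `SporOrd` of the sporadic groups with even multiplier and
`KData Spor.Fi23`.
-/

set_option autoImplicit false

namespace Cfsg.Agent.OddHalf.D8.Fi23

open scoped commutatorElement
open Subgroup Cfsg Cfsg.Agent.OddHalf.Iface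

universe u

/-- all facts on `K = Fi₂₃` -/
structure KData (K : Type*) [Group K] : Prop where
  card : Nat.card K = 4089470473293004800
  inn : ∀ φ : MulAut K, ∃ k : K, φ = MulAut.conj k
  sheet : ∃ (A : Subgroup K) (S : Sylow 2 K) (a : Fin 23 → K), Sheet K A S a ∧
    Nat.card (centralizer ({a 0} : Set K)) = 129123503308800

theorem KData.of_equiv {K L : Type*} [Group K] [Group L] (g : L ≃* K) (h : KData K) : KData L where
  card := by rw [Nat.card_congr g.toEquiv, h.card]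
  inn := fun φ => by
    obtain ⟨k, hk⟩ := h.inn ((g.symm.trans φ).trans g)
    refine ⟨g.symm k, ?_⟩
    ext x
    have h1 : g (φ (g.symm (g x))) = k * g x * k⁻¹ := congrArg (fun ψ : MulAut K => ψ (g x)) hk
    rw [g.symm_apply_apply] at h1
    apply g.injective
    rw [h1]
    show _ = g (g.symm k * x * (g.symm k)⁻¹)
    rw [map_mul, map_mul, map_inv, g.apply_symm_apply]
  sheet := by
    obtain ⟨A, S, a, h1, h2⟩ := h.sheet
    obtain ⟨T, h3⟩ := h1.comap g
    refine ⟨_, T, _, h3, ?_⟩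
    show Nat.card ↥(centralizer ({g.symm (a 0)} : Set L)) = _
    rw [centralizer_comap_equiv, card_comap_equiv, h2]

/-- the kill with all the facts -/
theorem kill_of (M : D9.Cut.Mult.{u}) (O : SporOrd.{u}) {G : Type u} [Group G] (C : Ctx G) {K : Subgroup G}
    (St : Std G K) (hcyc : Cyc K) (h : KData K) : False := by
  have := C.fin
  obtain ⟨A, S, a, sh, hc⟩ := h.sheet
  have L : Loc K (A.map K.subtype) ((S : Subgroup K).map K.subtype) (fun i => (a i : G)) := Loc.of_sheet sh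
  have hJ : K ⊓ centralizer ({((a 0 : K) : G)} : Set G) = (centralizer ({a 0} : Set K)).map K.subtype := by
    ext x
    rw [mem_inf, mem_centralizer_singleton_iff, mem_map]
    constructor
    · rintro ⟨hx, h1⟩
      exact ⟨⟨x, hx⟩, mem_centralizer_singleton_iff.2 (Subtype.ext h1), rfl⟩
    · rintro ⟨y, hy, rfl⟩
      exact ⟨y.2, congrArg Subtype.val (mem_centralizer_singleton_iff.1 hy)⟩
  have hcard : Nat.card ↥(K ⊓ centralizer ({((a 0 : K) : G)} : Set G)) = 129123503308800 := by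
    rw [hJ, ← hc]
    exact (Nat.card_congr ((centralizer ({a 0} : Set K)).equivMapOfInjective _ K.subtype_injective).toEquiv).symm
  have ho : orderOf ((a 0 : K) : G) = 2 :=
    orderOf_eq_prime (by rw [pow_two]; exact L.sq _ (L.mem 0)) (L.a_ne_one 0)
  refine kill C St hcyc sh h.inn fun D hD hlt => ?_
  refine pump M O C St h.card (J := K ⊓ centralizer ({((a 0 : K) : G)} : Set G)) ho hD hlt
    ⟨(a 0).2, mem_centralizer_singleton_iff.2 rfl⟩ ?_ ?_ hcard
  · have := (L.qs 0).1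
    exact Subgroup.commutator_eq_self
  · intro x hx hy
    refine L.cen 0 x hx.1 fun y hyK hya => hy y ⟨hyK, mem_centralizer_singleton_iff.2 hya⟩

/-- **the row `K = Fi₂₃`** from the facts on `Spor.Fi23` -/
theorem row_of (M : D9.Cut.Mult.{u}) (O : SporOrd.{u}) (h : KData Spor.Fi23) :
    Rows.Row.{u} (fun K _ => Spor.IsoFi23 K) := by
  intro G _ C K St hcyc hK
  obtain ⟨e⟩ := hK
  exact kill_of M O C St hcyc (h.of_equiv e)

end Cfsg.Agent.OddHalf.D8.Fi23

end

-- merged: Cfsg.Agent.OddHalf.D8.Fi23.OrdSpor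
section

/-!
# ODD half, D8, row `K = Fi₂₃` (helper907): the orders of the sporadic groups with even multiplier
-/

set_option autoImplicit false

namespace Cfsg.Agent.OddHalf.D8.Fi23

open Cfsg

universe u

theorem sporOrd : SporOrd.{u} := by
  intro X _ h h0 hN
  have hlt : ∀ {c : ℕ}, Nat.card X = c → ¬ 64561751654400 ∣ c → False := by
    intro c h1 h2
    exact h2 (h1 ▸ h0)
  rcases h with h | h | h | h | h | h | h | h | h
  · obtain ⟨e⟩ := h
    exact (hlt ((Nat.card_congr e.toEquiv).trans MTwelveType.SylowModel.card_M12) (by norm_num)).elim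
  · obtain ⟨e⟩ := h
    exact (hlt ((Nat.card_congr e.toEquiv).trans S1619.result.2.2.2) (by norm_num)).elim
  · exact (hlt (KFacts.HS.card h) (by norm_num)).elim
  · obtain ⟨e⟩ := h
    exact (hlt ((Nat.card_congr e.toEquiv).trans S1694.result.2) (by norm_num)).elim
  · obtain ⟨e⟩ := h
    exact (hlt ((Nat.card_congr e.toEquiv).trans S1627.result.2.1) (by norm_num)).elim
  · obtain ⟨e⟩ := h
    exact (Nat.card_congr e.toEquiv).trans R01.Fi22Facts.card
  · obtain ⟨e⟩ := h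
    exfalso
    rw [Nat.card_congr e.toEquiv, S0399.result.2] at hN
    exact absurd hN (by norm_num)
  · obtain ⟨e⟩ := h
    exfalso
    rw [Nat.card_congr e.toEquiv, BM.KHAll.card_B] at hN
    exact absurd hN (by norm_num)
  · obtain ⟨e⟩ := h
    exact (hlt ((Nat.card_congr e.toEquiv).trans SporadicA.MathieuRecog.card_M22) (by norm_num)).elim

end Cfsg.Agent.OddHalf.D8.Fi23

end

-- merged: Cfsg.Agent.OddHalf.D8.Fi23.Row
section

/-!
# ODD half, D8: the row of `Fi₂₃` (helper907; facts on `Fi₂₃`: helper8, helper286, helper840)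
-/

set_option autoImplicit false

namespace Cfsg.Agent.OddHalf.D8.Fi23

open Subgroup Cfsg

universe u

theorem kdata : KData Spor.Fi23 where
  card := Cfsg.Agent.Fischer.Fi23Simple.card_Fi23
  inn := Cfsg.Agent.KFacts.FiTTh.Has.inn
  sheet := by
    obtain ⟨S, h⟩ := Cfsg.Agent.KFacts.FiTTh.Has.sheet
    refine ⟨_, S, _, h, ?_⟩
    show Nat.card ↥(centralizer ({Cfsg.Agent.KFacts.FiTTh.BasFi.e
      (some (Cfsg.Agent.KFacts.FiTTh.Has.s 0))} : Set Spor.Fi23)) = _
    rw [Cfsg.Agent.KFacts.FiTTh.Has.s0, Cfsg.Agent.KFacts.FiTTh.BasFi.e_z,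
      ← Cfsg.Agent.KFacts.FiTTh.Cent.K_eq, Cfsg.Agent.KFacts.FiTTh.Cent.card_K]

/-- **the row `K = Fi₂₃`** from the multiplier facts -/
theorem row (M : D9.Cut.Mult.{u}) : Rows.Row.{u} (fun K _ => Spor.IsoFi23 K) :=
  row_of M sporOrd kdata

end Cfsg.Agent.OddHalf.D8.Fi23

end
end

private theorem dce_00ea87ae9896 : _root_.True := by
  try have : _root_.True := by simp only [_root_.Cfsg.Agent.OddHalf.Orders.POmega.dM.eq_1]
  try have : _root_.True := by simp only [_root_.Cfsg.Agent.OddHalf.Orders.gl.eq_1]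
  try have : _root_.True := by simp only [_root_.Cfsg.Agent.OddHalf.Orders.POmega.eO.eq_1]
  try have : _root_.True := by simp only [_root_.Cfsg.Agent.OddHalf.Orders.POmega.fM.eq_1]
  try have : _root_.True := by simp only [_root_.Cfsg.Agent.OddHalf.Orders.PSU.pr.eq_def]
  try have : _root_.True := by simp only [_root_.Cfsg.Agent.OddHalf.Orders.PSU.pr.eq_2]
  try have : _root_.True := by simp only [_root_.Cfsg.Agent.OddHalf.Orders.POmega.fP.eq_1]
  try have : _root_.True := by simp only [_root_.Cfsg.Agent.OddHalf.Orders.PSU.f.eq_1]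
  try have : _root_.True := by simp only [_root_.Cfsg.Agent.OddHalf.D8.Fi23.Fr.NN.congr_simp]
  try have : _root_.True := by simp only [_root_.Cfsg.Agent.OddHalf.Orders.POmega.eP.eq_1]
  try have : _root_.True := by simp only [_root_.Cfsg.Agent.OddHalf.Orders.PSU.den.eq_1]
  try have : _root_.True := by simp only [_root_.Cfsg.Agent.OddHalf.Orders.Box.box.eq_1]
  try have : _root_.True := by simp only [_root_.Cfsg.Agent.OddHalf.D8.Fi23.Code.P.congr_simp]
  try have : _root_.True := by simp only [_root_.Cfsg.Agent.OddHalf.Orders.POmega.dP.eq_1]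
  try have : _root_.True := by simp only [_root_.Cfsg.Agent.OddHalf.Orders.Box.row.eq_1]
  try have : _root_.True := by simp only [_root_.Cfsg.Agent.OddHalf.Orders.POmega.pr.eq_2]
  try have : _root_.True := by simp only [_root_.Cfsg.Agent.OddHalf.Orders.POmega.pr.eq_def]
  try have : _root_.True := by simp only [_root_.Cfsg.Agent.OddHalf.Orders.PSU.e.eq_1]
  try have : _root_.True := by simp only [_root_.Cfsg.Agent.OddHalf.Orders.POmega.pr.eq_1]
  try have : _root_.True := by simp only [_root_.Cfsg.Agent.OddHalf.D8.JTwo.Small.PP.eq_1]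
  try have : _root_.True := by simp only [_root_.Cfsg.Agent.OddHalf.Orders.PSU.pr.eq_1]
  try have : _root_.True := by simp only [_root_.Cfsg.Agent.OddHalf.Orders.Box.ok.eq_1]
  try have : _root_.True := by simp only [_root_.Cfsg.Agent.OddHalf.Orders.POmega.fO.eq_1]
  exact _root_.True.intro
end

-- part: OddHalf/Quat/NotOne
section
set_option linter.all false
open scoped Cfsg.Agent.FastGrp

/-!
# Node Q: `|Om(S)| = 1` does not occur

`OneExt` : the external inputs of THEOREM N1 (`Cit.Nil.End.main`): S1173, S1171 (Goldschmidt), S0506, S0507, S0523,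
S1742.
`not_one` : in a counterexample to S1765 the class of a quaternion normal 2-subgroup `Q` of `C(z)` does not satisfy
`One (cls Q)`.
-/

set_option autoImplicit false
set_option linter.style.haveILetI false

namespace Cfsg.Agent.OddHalf.Quat

open Subgroup Cfsg Cfsg.Agent.Cit Cfsg.Agent.OddHalf.Iface

universe u

/-- the external inputs of THEOREM N1 -/
structure OneExt : Prop where
  /-- S1173 -/
  p1173 : ∀ (G : Type u) [Group G] [Finite G], oddCore G = ⊥ → OneF.H1173 G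
  /-- S1171 -/
  p1171 : ∀ (G : Type u) [Group G] [Finite G], OneF.H1171 G
  p0506 : Nil.NoHomo.S0506Stmt.{u}
  p0507 : ∀ (G : Type u) [Group G] [Finite G] [IsSimpleGroup G], Nil.Ident.St0507 G
  p0523 : ∀ (G : Type u) [Group G] [Finite G] [IsSimpleGroup G], Nil.Ident.St0523 G
  p1742 : ∀ (G : Type u) [Group G] [Finite G] [IsSimpleGroup G], Nil.Ident.St1742 G

theorem nilOm_of_two {G : Type*} [Group G] [Finite G] {Q : Subgroup G} (h : IsPGroup 2 Q) : Nil.NilOm (cls Q) := by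
  rintro _ ⟨g, rfl⟩ R hR
  have h2 : IsPGroup 2 ↥(cj g Q) := h.map _
  have h3 : R = cj g Q := hR.eq_of_le hR.1 le_rfl h2
  rw [← h3]
  exact le_sup_right

/-- **`|Om(S)| = 1` does not occur** -/
theorem not_one (hGW : SylowSp4.Hyps.GW.{u}) (E : OneExt.{u}) (R : Small.Excl.Rows) {G : Type u} [Group G]
    (C : Ctx G) {z : G} {Q : Subgroup G} (b : Base0 z Q) : ¬ One (cls Q) := by
  haveI := C.fin
  haveI := C.simple
  intro h1
  have hna := C.na
  have e : ↥(generalizedFittingSubgroup G) ≃* G := Soft.fstarEquiv hna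
  have hs : IsSimpleGroup ↥(generalizedFittingSubgroup G) := Known.isSimple_congr e.symm inferInstance
  have hna' : ¬ IsMulCommutative ↥(generalizedFittingSubgroup G) := by
    intro h
    apply hna
    refine ⟨⟨fun a b => ?_⟩⟩
    obtain ⟨a, rfl⟩ := e.surjective a
    obtain ⟨b, rfl⟩ := e.surjective b
    rw [← map_mul, ← map_mul, h.is_comm.comm a b]
  have heven : 2 ∣ Nat.card ↥(generalizedFittingSubgroup G) := by
    rw [Nat.card_congr e.toEquiv, ← b.zo]
    exact orderOf_dvd_natCard z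
  have hO : oddCore G = ⊥ := Soft.oddCore_eq_bot (even_iff_two_dvd.2 (by
    rw [← b.zo]
    exact orderOf_dvd_natCard z))
  have h0483 : Nil.Ident.St0483 ↥(generalizedFittingSubgroup G) := by
    intro S n hn2 hS
    haveI : Group.IsPerfect ↥(generalizedFittingSubgroup G) := ⟨Nil.End.commutator_eq_top hs hna'⟩
    exact hGW _ S n hn2 hS
  have key := Nil.End.main hs hna' heven (E.p1173 G hO) (E.p1171 G) E.p0506 h0483
    (E.p0507 ↥(generalizedFittingSubgroup G)) (E.p0523 ↥(generalizedFittingSubgroup G))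
    (E.p1742 ↥(generalizedFittingSubgroup G)) h1 ⟨Q, self_mem_cls Q⟩ (nilOm_of_two b.two)
  apply C.nc
  rcases key with ⟨p, hp, hp2, h⟩ | ⟨⟨f⟩⟩ | ⟨⟨f⟩⟩
  · exact Small.Plug.of_quat R C.notTwo (Or.inl ⟨p, hp, hp2, Small.Plug.isLieTypeChar_congr e h⟩)
  · exact Small.Plug.of_quat R C.notTwo (Or.inr (Or.inl ⟨e.symm.trans f⟩))
  · exact Small.Plug.of_quat R C.notTwo (Or.inr (Or.inr (Or.inl ⟨e.symm.trans f⟩)))

end Cfsg.Agent.OddHalf.Quat
end
end
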