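import Cfsg.Agent.KFacts.Ru.PackD_m3
import Cfsg.Agent.OddHalf.Cyc_m3
import Cfsg.Agent.KFacts.RgdFld.Two_m3
import Cfsg.Agent.OddHalf.NI.Ex.Defs
import Cfsg.Agent.SporadicA.M11Facts
import Cfsg.Agent.UGT.End.MEleven
import Cfsg.Agent.ClassicalGeometry.PSL2Basic
import Cfsg.Agent.OddHalf.D6.Cut_m3
import Cfsg.Agent.OddHalf.CaseM.NIOf_m3
import Cfsg.Agent.Omega.Lie.Out.Orth_m3
import Cfsg.Agent.OddHalf.Small.Sp_m3
import Cfsg.Agent.OddHalf.NI3.SubSL_m3
import Cfsg.Agent.Cit.FamFb_m3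
import Cfsg.Agent.Lib.LocalCore
import Cfsg.Agent.Lib.ThompsonPQ
import Cfsg.Agent.SignalizersComponents.MinCounterBasic
import Cfsg.Agent.UGT.U2.FOne.HexGTwo_m3
import Cfsg.Agent.Nodes.ChartFrame
import Mathlib
import Cfsg.Agent.Nodes.CommonNorm
import Cfsg.Agent.Nodes.ZRel
import Cfsg.Agent.Nodes.KindBase
import Cfsg.Agent.Nodes.PairOf
import Cfsg.Agent.Nodes.Reindex
import Cfsg.Agent.Nodes.RKindsBC
import Cfsg.Agent.Nodes.KindB_m3
import Cfsg.Agent.Nodes.KindF
import Cfsg.Agent.Nodes.TyStd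
import Cfsg.Agent.Cit.TPieces
import Cfsg.Agent.OddHalf.D4.Rk2.False_m3
import Cfsg.Agent.S0303
import Cfsg.Agent.OddHalf.D6.LTwoMain_m3
import Cfsg.Agent.OddHalf.Quat.KTwoOf_m3
import Cfsg.Agent.OddHalf.DblR.SheetTwE6_m3
import Cfsg.Agent.OddHalf.MM.Main_m3
import Cfsg.Agent.KFacts.TwESix.Cent_m3
import Cfsg.Agent.OddHalf.SpN.Start_m3
import Cfsg.Agent.OddHalf.D6.QThree.NIB.Two_mg_m3
import Cfsg.Agent.OddHalf.D7F4.Adapted_m3
import Cfsg.Agent.Lib.Hoist
import Cfsg.Agent.Lib.FinFast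
import Cfsg.Agent.OddHalf.D4.U3.MkNor_mg
import Cfsg.Agent.S0215
import Cfsg.Agent.Lib.Cores
import Cfsg.Agent.OddHalf.D7.Uni.Lay_m3
import Cfsg.Agent.AutOrth.Main
import Cfsg.Agent.OddHalf.D4.Facts
import Cfsg.Agent.TwoFusion.StronglyEmbeddedBasic
import Cfsg.Agent.OddHalf.Quat.Classical_m3
import Cfsg.Agent.OddHalf.D4.Spor.MTwentyFour_m3
import Cfsg.Agent.KFacts.RgdNodes
import Cfsg.Agent.KFacts.RgdOwn_m3
import Cfsg.Agent.KFacts.MM.OutC_m3
import Cfsg.Agent.StdRank2.OutField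
import Cfsg.Agent.KFacts.TwESix.OutTwo
import Cfsg.Agent.OddHalf.D9.FFour.Out_m3
import Cfsg.Agent.OddHalf.NI3.Ex4.LargeP_m3
import Cfsg.Agent.OddHalf.NI3.Ex.FFourRow_m3
import Cfsg.Agent.OddHalf.D9.FFour.MultTwo
import Cfsg.Agent.F42.AllSys_m3
import Cfsg.Agent.FourTwo.PairW
import Cfsg.Agent.FourTwo.CentAll
import Cfsg.Agent.FourTwo.Perf
import Cfsg.Agent.FastGrp
import Cfsg.Agent.Prune
set_option linter.all false

section
prune_inst 0x7ff0fefa8bb8a9dfdfff7e7fa6d8cffc19901fffe6dff9433fe023ef0bdf03000dc5ab8d8de000fe1ee2621410b87843f97eca3fe36bdc7ffffd5df41ffbee0fe5f6b50851d48c340fbc0fff03f0778a7f3fffffffffffffffffffffffffffbeffbfffffffff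

-- part: OddHalf/NI/Assemble_mg
section
prune_inst 0xc010020001000200001805101000000400000000000004000c8101020000c02005022000090000014800800000010000020800000000000000200000000401001000020001000000060008000000000000000000000000000000000000000000000000000
set_option linter.all false
open scoped Cfsg.Agent.FastGrp

-- part: OddHalf/NI/NoFamOf
section
-- merged: Cfsg.Agent.OddHalf.NI.FrameSol
section

/-!
# THEOREM X from (F2'), (Sol) and (AutM): the end
-/

set_option autoImplicit false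

namespace Cfsg.Agent.OddHalf.NI.FrameSol

open Subgroup Cfsg Cfsg.Agent.SignalizersComponents Cfsg.Agent.OddHalf.NI
open Cfsg.Agent.OddHalf.D3 (cj Comp mem_cs sq_of_order order_of_sq not_comm_self comm_elt conj_mem_cj comm_symm
  cj_eq_of_mem_centralizer cj_eq_of_mem cj_mono)
open Cfsg.Agent.OddHalf.NI.ThmX (CInv F2p UI)
open Cfsg.Agent.OddHalf.NI.OddQ Cfsg.Agent.OddHalf.NI.FrameKill
open scoped commutatorElement

universe u

variable {S7 : ∀ (N : Type u) [Group N], N → N → Subgroup N → Subgroup N → Subgroup N → Prop}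
variable {F : Type} [Field F] [Fintype F]

/-- `S7` holds in `D / O(D)`. -/
theorem s7_quot (hF2 : F2' S7) (hL : LieCl.{u}) (hF : Odd (Fintype.card F)) (h3 : 3 < Fintype.card F)
    {G : Type u} [Group G] [Finite G] {c d : G} {D A B B' : Subgroup G} (h : PP F c d D A B B') :
    S7 (↥D ⧸ oddCore ↥D) (QuotientGroup.mk' (oddCore ↥D) ⟨c, h.cmem⟩) (QuotientGroup.mk' (oddCore ↥D) ⟨d, h.dmem⟩)
      ((A.subgroupOf D).map (QuotientGroup.mk' (oddCore ↥D))) ((B.subgroupOf D).map (QuotientGroup.mk' (oddCore ↥D)))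
      ((B'.subgroupOf D).map (QuotientGroup.mk' (oddCore ↥D))) := by
  have hd2' : orderOf (⟨d, h.dmem⟩ : D) = 2 := by rw [Subgroup.orderOf_mk, h.od]
  have hf : COdd (QuotientGroup.mk' (oddCore ↥D)) := cOdd_mk h.quasi hd2'
  have h1 := (h.sub le_rfl h.cmem h.dmem).map hf
  rw [Subgroup.subgroupOf_self, Subgroup.map_top_of_surjective _ hf.surj] at h1
  exact h1.s7 hF2 hL hF h3 (oddCore_eq_bot hf (by rw [QuotientGroup.ker_mk']))

/-- `O(Du)` centralizes `Dv`. -/
theorem act (hF2 : F2' S7) (hA : AutM S7) (hL : LieCl.{u}) (hF : Odd (Fintype.card F)) (h3 : 3 < Fintype.card F)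
    {G : Type u} [Group G] [Finite G] {S : Set G} {u v : G} {Du Dv Ju Jv Jw : Subgroup G}
    (hDu : CompIn (centralizer (insert u S)) Du) (hDv : CompIn (centralizer (insert v S)) Dv)
    (Pu : PP F u v Du Ju Jv Jw) (Pv : PP F v u Dv Jv Ju Jw) :
    (oddCore ↥Du).map Du.subtype ≤ centralizer (Dv : Set G) := by
  rintro _ ⟨o₀, ho₀, rfl⟩
  -- a square root
  have hodd : Odd (Nat.card (oddCore ↥Du)) := Nat.coprime_two_right.mp (Lib.Cores.pPrimeCore_coprime 2)
  obtain ⟨m, hm⟩ := hodd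
  have hpow : o₀ ^ (2 * m + 1) = 1 := by
    rw [← hm]
    have := pow_card_eq_one' (G := oddCore ↥Du) (x := ⟨o₀, ho₀⟩)
    exact congrArg Subtype.val this
  obtain ⟨o₁, ho₁, hsq⟩ : ∃ o₁ ∈ oddCore ↥Du, o₁ * o₁ = o₀ := by
    refine ⟨o₀ ^ (m + 1), pow_mem ho₀ _, ?_⟩
    rw [← pow_add, show m + 1 + (m + 1) = 2 * m + 1 + 1 by ring, pow_succ, hpow, one_mul]
  have hcenter : oddCore ↥Du ≤ center ↥Du := oddCore_le_center Pu.quasi
    (b := ⟨u, Pu.cmem⟩) (by rw [Subgroup.orderOf_mk, Pu.oc])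
  obtain ⟨o, ho⟩ : ∃ o : G, o = (o₁ : G) := ⟨_, rfl⟩
  have hoD : o ∈ Du := ho ▸ o₁.2
  have hocomm : ∀ x ∈ Du, x * o = o * x := by
    intro x hx
    rw [ho]
    exact congrArg Subtype.val (mem_center_iff.mp (hcenter ho₁) ⟨x, hx⟩)
  have hJu : Ju ≤ Du := Pu.compA.le.trans inf_le_left
  have hJv : Jv ≤ Du := Pu.compB.le.trans inf_le_left
  have hJw : Jw ≤ Du := Pu.compB'.le.trans inf_le_left
  have hJvD : Jv ≤ Dv := Pv.compA.le.trans inf_le_left
  have hJuD : Ju ≤ Dv := Pv.compB.le.trans inf_le_left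
  have hJwD : Jw ≤ Dv := Pv.compB'.le.trans inf_le_left
  have hoC : o ∈ centralizer (insert v S) := by
    rw [mem_centralizer_iff]
    rintro s (rfl | hs)
    · exact hocomm _ (hJv Pu.dB)
    · exact mem_centralizer_iff.mp (hDu.le hoD) s (Set.mem_insert_of_mem _ hs)
  -- `o` normalizes `Dv`
  have hn : cj o Dv = Dv := by
    have h1 := hDv.conj_of_norm (cj_eq_of_mem hoC)
    by_contra hne
    have h2 := h1.comm hDv hne
    apply not_comm_self Pv.compA.quasi
    intro x hx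
    rw [mem_centralizer_iff]
    intro y hy
    have hx' : x ∈ cj o Dv := by
      have h4 := conj_mem_cj (g := o) (hJvD hx)
      rwa [← hocomm x (hJv hx), mul_inv_cancel_right] at h4
    exact (comm_elt h2 hx' (hJvD hy)).symm
  have hon : o ∈ normalizer (Dv : Set G) := D3.mem_normalizer_iff_cj.mpr hn
  let α₀ : MulAut Dv := Dv.normalizerMonoidHom ⟨o, hon⟩
  have hα₀ : ∀ x : Dv, ((α₀ x : Dv) : G) = o * x * o⁻¹ := fun x => rfl
  have hchar : (oddCore ↥Dv).map α₀.toMonoidHom = oddCore ↥Dv := Lib.Cores.map_equiv_pPrimeCore α₀ 2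
  let α : MulAut (↥Dv ⧸ oddCore ↥Dv) := QuotientGroup.congr (oddCore ↥Dv) (oddCore ↥Dv) α₀ hchar
  have hα : ∀ x : Dv, α (QuotientGroup.mk' (oddCore ↥Dv) x) = QuotientGroup.mk' (oddCore ↥Dv) (α₀ x) :=
    fun x => rfl
  have htriv : ∀ K : Subgroup G, K ≤ Du → ∀ x ∈ (K.subgroupOf Dv).map (QuotientGroup.mk' (oddCore ↥Dv)),
      α x = x := by
    rintro K hK _ ⟨x, hx, rfl⟩
    rw [hα]
    congr 1
    apply Subtype.ext
    rw [hα₀, ← hocomm (x : G) (hK hx), mul_inv_cancel_right]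
  have hα2 := hA _ _ _ _ _ _ (s7_quot hF2 hL hF h3 Pv) α (htriv Jv hJv) (htriv Ju hJu) (htriv Jw hJw)
  have key : ∀ x : Dv, (α₀ (α₀ x)) * x⁻¹ ∈ center Dv := by
    intro x
    have h1 : oddCore ↥Dv ≤ center ↥Dv := oddCore_le_center Pv.quasi
      (b := ⟨v, Pv.cmem⟩) (by rw [Subgroup.orderOf_mk, Pv.oc])
    apply h1
    have h2 : (α ^ 2) (QuotientGroup.mk' (oddCore ↥Dv) x) = QuotientGroup.mk' (oddCore ↥Dv) x := by
      rw [hα2]; rfl
    rw [pow_two, MulAut.mul_apply, hα, hα] at h2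
    rw [← QuotientGroup.ker_mk' (oddCore ↥Dv), MonoidHom.mem_ker, map_mul, map_inv, h2, mul_inv_cancel]
  have hfix := Cfsg.Agent.S1304.result (Pv.quasi.1.commutator_eq_top) (α₀.trans α₀) (fun x => key x)
  rw [mem_centralizer_iff]
  intro x hx
  have h1 := congrArg Subtype.val (hfix ⟨x, hx⟩)
  change o * (o * x * o⁻¹) * o⁻¹ = x at h1
  have h2 : (Du.subtype o₀ : G) = o * o := by
    rw [ho, ← hsq]; rfl
  rw [h2]
  calc x * (o * o) = (o * (o * x * o⁻¹) * o⁻¹) * (o * o) := by rw [h1]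
    _ = o * o * x := by group

/-- **Solomon's configuration** for components of `C(u)`, `C(v)` with centres of arbitrary order. -/
theorem sol_of (hF2 : F2' S7) (hA : AutM S7) (hS : NI.Sol S7) (hL : LieCl.{u}) (hF : Odd (Fintype.card F))
    (h3 : 3 < Fintype.card F) {G : Type u} [Group G] [Finite G] : ThmX.Sol (G := G) (PP F) := by
  intro S u v Du Dv Ju Jv Jw hI huv hDu hDv Pu Pv
  have hOu := act hF2 hA hL hF h3 hDu hDv Pu Pv
  have hOv : (oddCore ↥Dv).map Dv.subtype ≤ centralizer (Du : Set G) := by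
    -- the roles of `u` and `v` exchanged
    have hPv : PP F v u Dv Jv Ju Jw := Pv
    exact act hF2 hA hL hF h3 hDv hDu hPv Pu
  have huC := Pu.cD
  obtain ⟨Y, hY⟩ : ∃ Y : Subgroup G, Y = Du ⊔ Dv := ⟨_, rfl⟩
  have hDuY : Du ≤ Y := hY ▸ le_sup_left
  have hDvY : Dv ≤ Y := hY ▸ le_sup_right
  have huY : u ∈ Y := hDuY Pu.cmem
  have hvY : v ∈ Y := hDvY Pv.cmem
  have hYS : Y ≤ centralizer S := by
    rw [hY, sup_le_iff]
    exact ⟨hDu.le.trans (centralizer_le (Set.subset_insert _ _)),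
      hDv.le.trans (centralizer_le (Set.subset_insert _ _))⟩
  -- the central subgroup of odd order
  let ι : ↥(center ↥Y) →* ↥Y := (center ↥Y).subtype
  obtain ⟨K₀, hK₀⟩ : ∃ K₀ : Subgroup ↥Y, K₀ = (oddCore ↥(center ↥Y)).map ι := ⟨_, rfl⟩
  have hK₀c : K₀ ≤ center ↥Y := by
    rw [hK₀]
    rintro _ ⟨x, -, rfl⟩
    exact x.2
  have hK₀n : K₀.Normal := by
    refine ⟨fun n hn g => ?_⟩
    rw [mem_center_iff.mp (hK₀c hn) g, mul_inv_cancel_right]
    exact hn
  have hK₀o : Odd (Nat.card K₀) := by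
    rw [hK₀, Nat.card_congr ((oddCore ↥(center ↥Y)).equivMapOfInjective ι (Subgroup.subtype_injective _)).symm.toEquiv]
    exact Nat.coprime_two_right.mp (Lib.Cores.pPrimeCore_coprime 2)
  have hK₀mem : ∀ x : ↥Y, x ∈ center ↥Y → Odd (orderOf x) → x ∈ K₀ := by
    intro x hx hox
    rw [hK₀]
    refine ⟨⟨x, hx⟩, ?_, rfl⟩
    have hn : (zpowers (⟨x, hx⟩ : center ↥Y)).Normal := by
      refine ⟨fun n hn g => ?_⟩
      have : g * n = n * g := Subtype.ext (mem_center_iff.mp n.2 g)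
      rw [this, mul_inv_cancel_right]
      exact hn
    refine Lib.Cores.le_pPrimeCore hn ?_ (mem_zpowers _)
    rw [Nat.card_zpowers, Subgroup.orderOf_mk, Nat.coprime_two_right]
    exact hox
  let f : ↥Y →* (↥Y ⧸ K₀) := QuotientGroup.mk' K₀
  have hf : COdd f :=
    { surj := QuotientGroup.mk'_surjective _
      cen := by rw [QuotientGroup.ker_mk']; exact hK₀c
      odd := by rw [QuotientGroup.ker_mk']; exact hK₀o }
  -- the odd cores of `Du`, `Dv` are in the kernel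
  have hker : ∀ D : Subgroup G, D ≤ Y → (oddCore ↥D).map D.subtype ≤ centralizer (Y : Set G) →
      ∀ x (hx : x ∈ Y), x ∈ (oddCore ↥D).map D.subtype → (⟨x, hx⟩ : ↥Y) ∈ f.ker := by
    intro D hD hc x hx hxO
    rw [QuotientGroup.ker_mk']
    apply hK₀mem
    · rw [mem_center_iff]
      intro g
      exact Subtype.ext (mem_centralizer_iff.mp (hc hxO) g g.2)
    · rw [Subgroup.orderOf_mk]
      obtain ⟨x₀, hx₀, rfl⟩ := hxO
      have h1 : Odd (Nat.card (oddCore ↥D)) := Nat.coprime_two_right.mp (Lib.Cores.pPrimeCore_coprime 2)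
      change Odd (orderOf ((x₀ : ↥D) : G))
      rw [Subgroup.orderOf_coe]
      have h2 : orderOf x₀ ∣ Nat.card (oddCore ↥D) := by
        have h4 := _root_.orderOf_dvd_natCard (⟨x₀, hx₀⟩ : oddCore ↥D)
        rwa [Subgroup.orderOf_mk] at h4
      exact Odd.of_dvd_nat h1 h2
  have hcenY : ∀ D E : Subgroup G, Y = D ⊔ E → (oddCore ↥D ≤ center ↥D) →
      (oddCore ↥D).map D.subtype ≤ centralizer (E : Set G) →
      (oddCore ↥D).map D.subtype ≤ centralizer (Y : Set G) := by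
    intro D E hDE h1 h2
    rw [hDE, le_centralizer_iff, sup_le_iff]
    constructor
    · rw [le_centralizer_iff]
      rintro _ ⟨x, hx, rfl⟩
      rw [mem_centralizer_iff]
      intro y hy
      exact congrArg Subtype.val (mem_center_iff.mp (h1 hx) ⟨y, hy⟩)
    · rw [le_centralizer_iff]; exact h2
  have hcu : oddCore ↥Du ≤ center ↥Du := oddCore_le_center Pu.quasi
    (b := ⟨u, Pu.cmem⟩) (by rw [Subgroup.orderOf_mk, Pu.oc])
  have hcv : oddCore ↥Dv ≤ center ↥Dv := oddCore_le_center Pv.quasi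
    (b := ⟨v, Pv.cmem⟩) (by rw [Subgroup.orderOf_mk, Pv.oc])
  have hkeru := hker Du hDuY (hcenY Du Dv hY hcu hOu)
  have hkerv := hker Dv hDvY (hcenY Dv Du (hY.trans (sup_comm _ _)) hcv hOv)
  -- the images
  have Pu' := (Pu.sub hDuY huY hvY).map hf
  have Pv' := (Pv.sub hDvY hvY huY).map hf
  set ub : ↥Y ⧸ K₀ := f ⟨u, huY⟩ with hub
  set vb : ↥Y ⧸ K₀ := f ⟨v, hvY⟩ with hvb
  set Lu : Subgroup (↥Y ⧸ K₀) := (Du.subgroupOf Y).map f with hLu
  set Lv : Subgroup (↥Y ⧸ K₀) := (Dv.subgroupOf Y).map f with hLv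
  have hcore : ∀ D : Subgroup G, D ≤ Y →
      (∀ x (hx : x ∈ Y), x ∈ (oddCore ↥D).map D.subtype → (⟨x, hx⟩ : ↥Y) ∈ f.ker) →
      oddCore ↥((D.subgroupOf Y).map f) = ⊥ := by
    intro D hD hk
    let g : ↥D →* ↥((D.subgroupOf Y).map f) :=
      (f.subgroupMap (D.subgroupOf Y)).comp (Subgroup.subgroupOfEquivOfLe hD).symm.toMonoidHom
    have hg : Function.Surjective g := (f.subgroupMap_surjective _).comp (MulEquiv.surjective _)
    have hgv : ∀ x : ↥D, ((g x : ↥((D.subgroupOf Y).map f)) : ↥Y ⧸ K₀) = f ⟨x, hD x.2⟩ := fun x => rfl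
    have hgk : ∀ x : ↥D, x ∈ g.ker → (⟨x, hD x.2⟩ : ↥Y) ∈ f.ker := by
      intro x hx
      rw [MonoidHom.mem_ker, ← hgv, MonoidHom.mem_ker.mp hx]
      rfl
    have hgo : COdd g := by
      refine ⟨hg, ?_, ?_⟩
      · intro x hx
        rw [mem_center_iff]
        intro y
        have h1 := mem_center_iff.mp (hf.cen (hgk x hx)) ⟨y, hD y.2⟩
        have h2 : (y : G) * (x : G) = (x : G) * (y : G) := congrArg Subtype.val h1
        exact Subtype.ext h2
      · let j : ↥g.ker →* ↥f.ker :=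
          { toFun := fun x => ⟨⟨x, hD x.1.2⟩, hgk x.1 x.2⟩
            map_one' := rfl
            map_mul' := fun _ _ => rfl }
        have hj : Function.Injective j := by
          intro x y h
          apply Subtype.ext
          apply Subtype.ext
          exact congrArg (fun z : ↥f.ker => ((z : ↥Y) : G)) h
        exact Odd.of_dvd_nat hf.odd (Subgroup.card_dvd_of_injective j hj)
    apply oddCore_eq_bot hgo
    intro x hx
    rw [MonoidHom.mem_ker]
    apply Subtype.ext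
    rw [hgv]
    exact hk x (hD x.2) ⟨x, hx, rfl⟩
  -- components of `C(ub)`, `C(vb)`
  have hcomp : ∀ (w : G) (hw : w ∈ Y) (hw2 : orderOf w = 2) (D : Subgroup G), D ≤ Y →
      CompIn (centralizer (insert w S)) D → Comp (f ⟨w, hw⟩) ((D.subgroupOf Y).map f) := by
    intro w hw hw2 D hD hDc
    have h1 : CompIn (Y ⊓ centralizer ({w} : Set G)) D := by
      refine hDc.mono (le_inf hD ?_) ?_
      · exact hDc.le.trans (centralizer_le (Set.singleton_subset_iff.mpr (Set.mem_insert _ _)))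
      · rw [ThmX.centralizer_insert]
        exact inf_le_inf_right _ hYS
    have h2 : CompIn (centralizer ({(⟨w, hw⟩ : ↥Y)} : Set ↥Y)) (D.subgroupOf Y) :=
      compIn_of_comp (h1.comp_of hw)
    have h4 : (⟨w, hw⟩ : ↥Y) * ⟨w, hw⟩ = 1 := sq_of_order (by rw [Subgroup.orderOf_mk, hw2])
    have h5 := hf.comp_map h2
    rw [hf.map_cs h4] at h5
    exact h5.toComp
  have hu2 : orderOf u = 2 := Pu.oc
  have hv2 : orderOf v = 2 := Pu.od
  have hcLu : Comp ub Lu := hcomp u huY hu2 Du hDuY hDu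
  have hcLv : Comp vb Lv := hcomp v hvY hv2 Dv hDvY hDv
  have hne : ub ≠ vb := Pu'.cne
  have hcomm : ub * vb = vb * ub := Pu'.comm.symm
  -- `S7` in `Lu` and `Lv`
  have hs7u : ∀ (hu : ub ∈ Lu) (hv : vb ∈ Lu), S7 ↥Lu ⟨ub, hu⟩ ⟨vb, hv⟩ (((Ju.subgroupOf Y).map f).subgroupOf Lu)
      (((Jv.subgroupOf Y).map f).subgroupOf Lu) (((Jw.subgroupOf Y).map f).subgroupOf Lu) := by
    intro hu hv
    have h1 := Pu'.sub le_rfl hu hv
    rw [Subgroup.subgroupOf_self] at h1
    exact h1.s7 hF2 hL hF h3 (hcore Du hDuY hkeru)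
  have hs7v : ∀ (hu : ub ∈ Lv) (hv : vb ∈ Lv), S7 ↥Lv ⟨vb, hv⟩ ⟨ub, hu⟩ (((Jv.subgroupOf Y).map f).subgroupOf Lv)
      (((Ju.subgroupOf Y).map f).subgroupOf Lv) (((Jw.subgroupOf Y).map f).subgroupOf Lv) := by
    intro hu hv
    have h1 := Pv'.sub le_rfl hv hu
    rw [Subgroup.subgroupOf_self] at h1
    exact h1.s7 hF2 hL hF h3 (hcore Dv hDvY hkerv)
  exact hS (↥Y ⧸ K₀) ub vb Lu Lv _ _ _ Pu'.oc Pu'.od hne hcomm hcLu hcLv Pu'.cA Pu'.dB Pu'.cdB
    ⟨F, inferInstance, inferInstance, hF, h3, Pu'.qA, Pu'.qB⟩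
    (Pu'.compA.le.trans inf_le_left) (Pu'.compB.le.trans inf_le_left) (Pu'.compB'.le.trans inf_le_left)
    (Pv'.compB.le.trans inf_le_left) (Pv'.compA.le.trans inf_le_left) (Pv'.compB'.le.trans inf_le_left)
    hs7u hs7v

end Cfsg.Agent.OddHalf.NI.FrameSol

end

-- merged: Cfsg.Agent.OddHalf.NI.NoFrame
section

/-!
# No frames: the final forms of THEOREM X

* `no_family`: no nonempty finite family of components `J i ≅ SL₂(F)` of `C(y '' R)`, `y i ∈ J i`, the `y i`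
  distinct, no product of two of them equal to a third one.
* `no_pair`: no two commuting components `A`, `B` of `C({a, b})`, `a ∈ A`, `b ∈ B`, `a ≠ b`.
* `no_frame`: no component `N` of `C(z)` with `z ∈ N` has a frame.
-/

set_option autoImplicit false

namespace Cfsg.Agent.OddHalf.NI.NoFrame

open Subgroup Cfsg Cfsg.Agent.SignalizersComponents Cfsg.Agent.OddHalf.NI
open Cfsg.Agent.OddHalf.D3 (cj Comp mem_cs sq_of_order order_of_sq not_comm_self comm_elt FT BL)
open Cfsg.Agent.OddHalf.NI.ThmX (CInv F2p UI)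
open Cfsg.Agent.OddHalf.NI.OddQ Cfsg.Agent.OddHalf.NI.FrameKill
open scoped commutatorElement

universe u

theorem bl_of_core {G : Type*} [Group G] [Finite G] (hFT : FT G)
    (h : ∀ t : G, orderOf t = 2 → centralizerPPrimeCore 2 t = ⊥) : BL G := by
  intro y hy
  have h0 : pPrimeCore 2 ↥(centralizer ({y} : Set G)) = ⊥ := by
    have h1 := h y hy
    unfold centralizerPPrimeCore at h1
    rwa [Subgroup.map_eq_bot_iff_of_injective _ (Subgroup.subtype_injective _)] at h1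
  exact pLayer_eq_layer (fun K hK => hFT.even' hK.2)
    (fun J _ => by rw [h0, Subgroup.commutator_bot_right])

section

variable {S7 : ∀ (N : Type u) [Group N], N → N → Subgroup N → Subgroup N → Subgroup N → Prop}

/-- **THEOREM X** in the world `Ctx`. -/
theorem no_family (hF2 : F2' S7) (hA : AutM S7) (hS : NI.Sol S7) (hL : LieCl.{u})
    (hft : ∀ (X : Type u) [Group X] [Finite X], Odd (Nat.card X) → Group.IsSolvable X)
    {G : Type u} [Group G] (C : Iface.Ctx G) (F : Type) [Field F] [Fintype F] (hF : Odd (Fintype.card F))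
    (h3 : 3 < Fintype.card F) {ι : Type*} (R : Finset ι) (hne : R.Nonempty) (J : ι → Subgroup G) (y : ι → G)
    (hJ : ∀ i ∈ R, CompIn (centralizer (y '' (R : Set ι))) (J i))
    (hQ : ∀ i ∈ R, Nonempty (↥(J i) ≃* Matrix.SpecialLinearGroup (Fin 2) F))
    (hy : ∀ i ∈ R, y i ∈ J i) (ho : ∀ i ∈ R, orderOf (y i) = 2)
    (hinj : ∀ i ∈ R, ∀ k ∈ R, i ≠ k → y i ≠ y k)
    (h3' : ∀ a ∈ R, ∀ b ∈ R, ∀ c ∈ R, a ≠ b → a ≠ c → b ≠ c → y a * y b ≠ y c) : False := by
  have := C.fin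
  have hFT : FT G := fun H hH => hft H hH
  have hBL := bl_of_core hFT C.bal
  have hP := ThmXOf.pumpV hFT hBL (fun H => C.bprop ↥H)
  exact ThmX.false_of_frame hP (Q := QQ F) (P := PP F) (fun K hK => ui_of_sl hF hK)
    (fun z K hz hzK hK hc => Final.not_isSL C hz hc.toComp hzK (isSL_of_qq hF h3 hK))
    (f2p hF2 hL hF h3) (FrameSol.sol_of hF2 hA hS hL hF h3) R hne J y hJ hQ hy ho hinj h3'

end

end Cfsg.Agent.OddHalf.NI.NoFrame

end

-- merged: Cfsg.Agent.OddHalf.NI.NoFamOf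
section

/-!
# `NoFam` from THEOREM X (`NoFrame.no_family`)
-/

set_option autoImplicit false

namespace Cfsg.Agent.OddHalf.NI

open Subgroup Cfsg Cfsg.Agent.OddHalf.Iface

universe u

/-- **THEOREM X** in the form consumed by `niv`. -/
theorem noFam {S7 : ∀ (N : Type u) [Group N], N → N → Subgroup N → Subgroup N → Subgroup N → Prop}
    (hF2 : F2' S7) (hA : AutM S7) (hS : NI.Sol S7) (hL : FrameKill.LieCl.{u})
    (hft : ∀ (X : Type u) [Group X] [Finite X], Odd (Nat.card X) → Group.IsSolvable X) :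
    ∀ (G : Type u) [Group G], Ctx G → NoFam G := by
  intro G _ C F _ _ hF h3 m J y pos hJ hQ hy ho hinj hthree
  have himg : y '' ((Finset.univ : Finset (Fin m)) : Set (Fin m)) = Set.range y := by
    rw [Finset.coe_univ, Set.image_univ]
  refine NoFrame.no_family hF2 hA hS hL hft C F hF h3 Finset.univ ⟨⟨0, pos⟩, Finset.mem_univ _⟩ J y
    (fun i _ => ?_) (fun i _ => hQ i) (fun i _ => hy i) (fun i _ => ho i) (fun i _ k _ hik h => hik (hinj h))
    (fun a _ b _ c _ hab hac hbc => hthree a b c hab hac hbc)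
  rw [himg]
  exact hJ i

end Cfsg.Agent.OddHalf.NI

end
end

-- part: OddHalf/NI/QuotOdd
section
/-!
# The quotient step without `M₁₁` (helper803)

`L` finite quasisimple, `b ∉ Z(L)` an involution, `B ∋ b` a component of `C_L(b)`, `B ≅ SL(2,F)`, `F` finite of odd
order `> 3`. Then `L / Z(L)` is of Lie type in odd characteristic: in `M₁₁` involution centralizers have order 48.
-/

set_option autoImplicit false

namespace Cfsg.Agent.OddHalf.NI.Quot

open Subgroup Cfsg Cfsg.Agent.OddHalf.Iface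

universe u

/-- `48 < |SL(2,F)|` for `|F| > 3`. -/
theorem card_sl {F : Type} [Field F] [Fintype F] (h3 : 3 < Fintype.card F) :
    48 < Nat.card (Matrix.SpecialLinearGroup (Fin 2) F) := by
  rw [ClassicalGeometry.PSL2Basic.card_SL2]
  have : 15 ≤ Fintype.card F ^ 2 - 1 := by
    have : 4 ^ 2 ≤ Fintype.card F ^ 2 := Nat.pow_le_pow_left h3 2
    omega
  nlinarith

/-- **The quotient step**, final form. -/
theorem lieOdd (P : Stmts.P1310.{u}) {L : Type u} [Group L] [Finite L] (hq : IsQuasisimple L)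
    {b : L} (hb : orderOf b = 2) (hbZ : b ∉ center L) {B : Subgroup L} (hbB : b ∈ B)
    (hB : CompIn (centralizer ({b} : Set L)) B) (hS : IsSL ↥B) : LieOdd (L ⧸ center L) := by
  obtain ⟨F, iF, iF2, hF, h3, ⟨e⟩⟩ := hS
  rcases lieOdd_of_classical P hq hb hbZ hB.le hbB hB.comp.1 hF e with h | h
  · exact h
  exfalso
  have h11 := UGT.End.MEleven.isM11 h
  let π : L →* L ⧸ center L := QuotientGroup.mk' (center L)
  have hinj : ∀ x ∈ B, x ∈ center L → x = 1 := by
    intro x hx hxZ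
    have h1 : (⟨x, hx⟩ : ↥B) ∈ center ↥B := by
      rw [mem_center_iff]
      intro g
      exact Subtype.ext (mem_center_iff.mp hxZ g)
    rcases sl_center hF e (b := ⟨b, hbB⟩) (by rw [← orderOf_coe]; exact hb) h1 with h2 | h2
    · exact congrArg Subtype.val h2
    · exfalso
      apply hbZ
      rw [← show x = b from congrArg Subtype.val h2]
      exact hxZ
  have hzo : orderOf (π b) = 2 := by
    refine orderOf_eq_prime ?_ ?_
    · rw [← map_pow, ← hb, pow_orderOf_eq_one, map_one]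
    · intro h
      exact hbZ ((QuotientGroup.eq_one_iff b).mp h)
  have h48 := SporadicA.M11Facts.card_centralizer_two h11 hzo
  let r : ↥B →* ↥(centralizer ({π b} : Set (L ⧸ center L))) :=
    (π.comp B.subtype).codRestrict _ (by
      intro x
      rw [mem_centralizer_singleton_iff]
      change π x * π b = π b * π x
      rw [← map_mul, ← map_mul, mem_centralizer_singleton_iff.mp (hB.le x.2)])
  have hr : Function.Injective r := by
    rw [injective_iff_map_eq_one]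
    intro x hx
    exact Subtype.ext (hinj x x.2 ((QuotientGroup.eq_one_iff (x : L)).mp (congrArg Subtype.val hx)))
  have h4 := Nat.card_le_card_of_injective r hr
  rw [h48, Nat.card_congr e.toEquiv] at h4
  have := card_sl h3
  omega

end Cfsg.Agent.OddHalf.NI.Quot
end

-- part: OddHalf/NI/Assemble
section
/-!
# Node NI (`q > 3`): assembly

`noBig : Facts S7 → NoBig`, where `Facts S7` is the list of the facts which are proved elsewhere:

* `frame` ((T')), `f2`, `autM`, `sol` (`S7` = the chart of type `B₃`), `p1310`, `ex`, `ni3`, `ft` (odd order theorem).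

(F1) is `LongSL.f1`; the multiplier fact on Ree groups is `U2.MultOf.ree`.
-/

set_option autoImplicit false

namespace Cfsg.Agent.OddHalf.NI.Assemble

open Subgroup Cfsg Cfsg.Agent.OddHalf.Iface Cfsg.Agent.OddHalf.LieOddFam

universe u

/-- The facts used by node NI, `q > 3`. -/
structure Facts (S7 : ∀ (N : Type u) [Group N], N → N → Subgroup N → Subgroup N → Subgroup N → Prop) : Prop where
  /-- (T') -/
  frame : FrameFact.{u}
  /-- (F2') -/
  f2 : F2' S7
  autM : AutM S7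
  sol : NI.Sol S7
  /-- S1310 -/
  p1310 : Stmts.P1310.{u}
  ex : EX.{u}
  ni3 : NI3.{u}
  /-- the odd order theorem -/
  ft : ∀ (X : Type u) [Group X] [Finite X], Odd (Nat.card X) → Group.IsSolvable X

variable {S7 : ∀ (N : Type u) [Group N], N → N → Subgroup N → Subgroup N → Subgroup N → Prop}

theorem lieCl (P : Stmts.P1310.{u}) : FrameKill.LieCl.{u} :=
  fun _ _ _ hq _ _ hb hbZ hB hbB hS => Quot.lieOdd P hq hb hbZ hbB hB hS

theorem niv_of (H : Facts S7) : NIV.{u} :=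
  niv (fun _ _ _ K hK => H.ft ↥K hK) (noFam H.f2 H.autM H.sol (lieCl H.p1310) H.ft) H.frame
    (notBig (fun _ _ h1 h2 h3 h4 => U2.MultOf.ree ⟨h1, h2, h3, h4⟩) H.ex H.ni3)

/-- **Node NI, `q > 3`.** -/
theorem noBig_of (H : Facts S7) : NoBig.{u} := Final.noBig LongSL.f1 (niv_of H)

/-- Row `big` of U2. -/
theorem u2_big_of (H : Facts S7) : U2.Cut.Row.{u} (fun X _ => ∃ q : ℕ, OddPow q ∧ 5 ≤ q ∧ Rk X q) :=
  Rows.u2_big (noBig_of H)

/-- **Node U2** from node NI (`q > 3`) and the row over the field with 3 elements. -/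
theorem u2_of (H : Facts S7) (h3 : U2.Cut.Row.{u} (fun X _ => Rk X 3)) : Iface.U2.{u} :=
  U2.Cut.u2_of_rows U2.MultOf.mult ⟨u2_big_of H, h3⟩

/-- **Node D6** (`Z(K) = 1`) from node NI (`q > 3`) and the rows `L_2(q)`, Ree, `q = 3`. -/
theorem d6_of (H : Facts S7) (R : D6.Cut.Rows.{u}) : D6.Cut.D6z.{u} :=
  D6.Cut.d6_of_rows (noBig_of H) R

end Cfsg.Agent.OddHalf.NI.Assemble
end

-- part: OddHalf/NI3/FThree/Quat
section
/-!
# (F2'₃): the quaternion subgroup of a subgroup isomorphic to `SL₂(3)`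

`QQ J z = O₂(J)` for `J ≅ SL₂(3)` with involution `z` (`IsPr J z`).
* `le_normalizer_of_sn` : a 2-subgroup of `C` normalised by the subnormal subgroup `J` of `C` normalises `J`;
* `eq_or_comm` : two subnormal subgroups of `C` isomorphic to `SL₂(3)` with the same involution, central in `C`, are
  equal or commute (`O(C) = 1`);
* `comm_of_QQ` : a subgroup of `C` commuting with `O₂(J)` commutes with `J`.
-/

set_option autoImplicit false
set_option linter.unusedSectionVars false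

namespace Cfsg.Agent.OddHalf.NI3.FThree

open Subgroup Cfsg Cfsg.Agent.Cit Cfsg.Agent.Cit.SolvTwo

variable {G : Type*} [Group G]

/-- `O₂(J)` for `J ≅ SL₂(3)` with involution `z` -/
def QQ (J : Subgroup G) (z : G) : Subgroup G := _root_.Subgroup.closure {y | y ∈ J ∧ y * y = z}

/-- `O₂(A)` as a subgroup of `G` -/
def P2 (A : Subgroup G) : Subgroup G := (pCore 2 A).map A.subtype

theorem P2_le (A : Subgroup G) : P2 A ≤ A := map_subtype_le _

theorem P2_pgrp (A : Subgroup G) : IsPGroup 2 (P2 A) := Lib.LocalCore.isPGroup_map_pCore 2 A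

theorem normalizer_le_normalizer_P2 (A : Subgroup G) : normalizer (A : Set G) ≤ normalizer (P2 A : Set G) :=
  SignalizersComponents.MinCounterBasic.normalizer_le_normalizer_map _ (Lib.Cores.pCore_characteristic 2)

theorem le_normalizer_P2 (A : Subgroup G) : A ≤ normalizer (P2 A : Set G) :=
  Subgroup.le_normalizer.trans (normalizer_le_normalizer_P2 A)

theorem le_P2 {A P : Subgroup G} (hs : Sn P A) (hP : IsPGroup 2 P) : P ≤ P2 A := by
  have h1 : P.subgroupOf A ≤ pCore 2 A :=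
    SignalizersComponents.CompBasic.subnormal_pGroup_le_pCore hs.2 (hP.comap_subtype)
  have h2 := map_mono (f := A.subtype) h1
  rwa [map_subgroupOf_eq_of_le hs.1] at h2

/-- an element of a 2-group which is killed by a 3-power -/
theorem eq_one_of_two_three {P : Subgroup G} (hP : IsPGroup 2 P) {x : G} (hx : x ∈ P) {p : ℕ} (hp : p.Prime)
    (hp2 : p ≠ 2) {k : ℕ} (hk : x ^ p ^ k = 1) : x = 1 := by
  obtain ⟨n, hn⟩ := hP ⟨x, hx⟩
  have h1 : x ^ 2 ^ n = 1 := by simpa only [_root_.SubmonoidClass.mk_pow, _root_.OneMemClass.coe_one] using congrArg Subtype.val hn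
  have h2 := Nat.dvd_gcd (orderOf_dvd_of_pow_eq_one h1) (orderOf_dvd_of_pow_eq_one hk)
  have h3 : Nat.Coprime (2 ^ n) (p ^ k) :=
    Nat.Coprime.pow _ _ ((Nat.coprime_primes Nat.prime_two hp).2 (Ne.symm hp2))
  rw [h3, Nat.dvd_one, orderOf_eq_one_iff] at h2
  exact h2

section

variable {J : Subgroup G} {z : G}

theorem QQ_le : QQ J z ≤ J := (closure_le _).2 fun _ hy => hy.1

theorem mem_QQ {y : G} (hy : y ∈ J) (h : y * y = z) : y ∈ QQ J z := subset_closure ⟨hy, h⟩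

/-- `QQ J z` in coordinates -/
theorem QQ_eq {i k d : G} (h : SLThree.Sl J z i k d) : QQ J z = _root_.Subgroup.closure {i, k} := by
  apply le_antisymm
  · rw [QQ, closure_le]
    rintro y ⟨hy, hyz⟩
    have hz : z ∈ _root_.Subgroup.closure ({i, k} : Set G) := h.q.mem_z
    obtain ⟨q, hq, h1⟩ := h.mem_cases hy
    have hd : d ∉ _root_.Subgroup.closure ({i, k} : Set G) := by
      intro hd
      obtain ⟨n, hn⟩ := h.q.isPGroup ⟨d, hd⟩
      exact h.d_ne (SLThree.Sl.eq_one_of_cube h.d3 (n := n) (by simpa only [_root_.SubmonoidClass.mk_pow, _root_.OneMemClass.coe_one] using congrArg Subtype.val hn))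
    have hdd : d * d ∉ _root_.Subgroup.closure ({i, k} : Set G) := by
      intro h2
      apply hd
      have h3 : d = (d * d) * (d * d) := by
        rw [← mul_assoc, h.d3, one_mul]
      rw [h3]; exact mul_mem h2 h2
    rcases h1 with rfl | rfl | rfl
    · exact hq
    · exfalso
      apply hdd
      have h2 : d * d = (q * (d * q * d⁻¹))⁻¹ * ((q * d) * (q * d)) := by group
      rw [h2, hyz]
      exact mul_mem (inv_mem (mul_mem hq (h.conj_mem hq))) hz
    · exfalso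
      apply hd
      have h2 : d = (q * (d * (d * q * d⁻¹) * d⁻¹))⁻¹ * ((q * (d * d)) * (q * (d * d))) := by
        have h3 : (q * (d * (d * q * d⁻¹) * d⁻¹))⁻¹ * ((q * (d * d)) * (q * (d * d))) = d ^ 4 := by group
        rw [h3, pow_succ, pow_succ, pow_succ, pow_one, h.d3, one_mul]
      rw [h2, hyz]
      exact mul_mem (inv_mem (mul_mem hq (h.conj_mem (h.conj_mem hq)))) hz
  · rw [closure_le]
    rintro y (rfl | rfl)
    · exact mem_QQ h.hi h.q.i2
    · exact mem_QQ h.hj h.q.j2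

theorem QQ_pgrp (h : IsPr J z) : IsPGroup 2 (QQ J z) := by
  obtain ⟨i, k, d, hl⟩ := h.sl
  rw [QQ_eq hl]; exact hl.q.isPGroup

theorem mem_z_QQ (h : IsPr J z) : z ∈ QQ J z := by
  obtain ⟨i, k, d, hl⟩ := h.sl
  rw [QQ_eq hl]; exact hl.q.mem_z

theorem QQ_cases (h : IsPr J z) {x : G} (hx : x ∈ QQ J z) : x * x = z ∨ x = 1 ∨ x = z := by
  obtain ⟨n, hn⟩ := QQ_pgrp h ⟨x, hx⟩
  exact h.t3.cases_two (QQ_le hx) (n := n) (by simpa only [_root_.SubmonoidClass.mk_pow, _root_.OneMemClass.coe_one] using congrArg Subtype.val hn)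

/-- the 2-elements of `J` -/
theorem mem_QQ_of_two (h : IsPr J z) {P : Subgroup G} (hP : IsPGroup 2 P) {x : G} (hx : x ∈ J) (hxP : x ∈ P) :
    x ∈ QQ J z := by
  obtain ⟨n, hn⟩ := hP ⟨x, hxP⟩
  rcases h.t3.cases_two hx (n := n) (by simpa only [_root_.SubmonoidClass.mk_pow, _root_.OneMemClass.coe_one] using congrArg Subtype.val hn) with h1 | h1 | h1
  · exact mem_QQ hx h1
  · rw [h1]; exact one_mem _
  · rw [h1]; exact mem_z_QQ h

theorem QQ_not_comm (h : IsPr J z) : ∃ x ∈ QQ J z, ∃ y ∈ QQ J z, x * x = z ∧ y * y = z ∧ x * y ≠ y * x := by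
  obtain ⟨x, hx, y, hy, h1, h2, h3⟩ := h.t3.ex4
  exact ⟨x, mem_QQ hx h1, y, mem_QQ hy h2, h1, h2, h3⟩

theorem normalizer_QQ {n : G} (hn : n ∈ normalizer (J : Set G)) (hz : n * z = z * n) :
    n ∈ normalizer (QQ J z : Set G) := by
  rw [mem_normalizer_iff_cj, cj_def, QQ, MonoidHom.map_closure]
  congr 1
  ext y
  constructor
  · rintro ⟨x, ⟨hx, hxz⟩, rfl⟩
    refine ⟨(mem_normalizer_iff.1 hn x).1 hx, ?_⟩
    show n * x * n⁻¹ * (n * x * n⁻¹) = z
    calc n * x * n⁻¹ * (n * x * n⁻¹) = n * (x * x) * n⁻¹ := by group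
      _ = z := by rw [hxz, hz]; group
  · rintro ⟨hy, hyz⟩
    refine ⟨n⁻¹ * y * n, ⟨?_, ?_⟩, ?_⟩
    · have := (mem_normalizer_iff.1 (inv_mem hn) y).1 hy
      rwa [inv_inv] at this
    · calc n⁻¹ * y * n * (n⁻¹ * y * n) = n⁻¹ * (y * y) * n := by group
        _ = z := by rw [hyz, mul_assoc, ← hz]; group
    · show n * (n⁻¹ * y * n) * n⁻¹ = y
      group

theorem le_normalizer_QQ (h : IsPr J z) : J ≤ normalizer (QQ J z : Set G) := fun _ hn =>
  normalizer_QQ (le_normalizer hn) (h.comm_z hn)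

theorem QQ_sn (h : IsPr J z) {C : Subgroup G} (hs : Sn J C) : Sn (QQ J z) C :=
  (Sn.of_normal QQ_le (le_normalizer_QQ h)).trans hs

theorem QQ_le_P2 (h : IsPr J z) {C : Subgroup G} (hs : Sn J C) : QQ J z ≤ P2 C := le_P2 (QQ_sn h hs) (QQ_pgrp h)

theorem QQ_cj {g : G} (hz : g * z = z * g) : QQ (cj g J) z = cj g (QQ J z) := by
  rw [QQ, QQ, cj_def g (_root_.Subgroup.closure _), MonoidHom.map_closure]
  congr 1
  ext y
  constructor
  · rintro ⟨hy, hyz⟩
    rw [mem_cj] at hy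
    refine ⟨g⁻¹ * y * g, ⟨hy, ?_⟩, ?_⟩
    · calc g⁻¹ * y * g * (g⁻¹ * y * g) = g⁻¹ * (y * y) * g := by group
        _ = z := by rw [hyz, mul_assoc, ← hz]; group
    · show g * (g⁻¹ * y * g) * g⁻¹ = y
      group
  · rintro ⟨x, ⟨hx, hxz⟩, rfl⟩
    refine ⟨conj_mem_cj hx, ?_⟩
    show g * x * g⁻¹ * (g * x * g⁻¹) = z
    calc g * x * g⁻¹ * (g * x * g⁻¹) = g * (x * x) * g⁻¹ := by group
      _ = z := by rw [hxz, hz]; group

/-- a 2-subgroup of `C` normalised by the subnormal subgroup `J` normalises `J` -/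
theorem le_normalizer_of_sn [Finite G] (h : IsPr J z) {C P : Subgroup G} (hs : Sn J C) (hPC : P ≤ C)
    (hP : IsPGroup 2 P) (hn : J ≤ normalizer (P : Set G)) : P ≤ normalizer (J : Set G) := by
  have hs' : Sn J (J ⊔ P) := hs.restrict (sup_le hs.1 hPC) le_sup_left
  have key : ∀ w ∈ P, J ≤ cj w J := by
    intro w hw
    refine h.le_of_cube fun v hv h3 => ?_
    rw [mem_cj]
    refine mem_of_sup hs' hP hn ?_ ?_
    · exact mul_mem (mul_mem (inv_mem (mem_sup_right hw)) (mem_sup_left hv)) (mem_sup_right hw)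
    · have h4 : orderOf (w⁻¹ * v * w) = orderOf v := by
        have := orderOf_injective (MulAut.conj w⁻¹).toMonoidHom (MulAut.conj w⁻¹).injective v
        simpa only [_root_.map_inv, _root_.MulEquiv.toMonoidHom_eq_coe, _root_.MonoidHom.coe_coe, _root_.MulAut.inv_apply, _root_.MulAut.conj_symm_apply] using this
      rw [h4]; exact odd_of_cube h3
  intro w hw
  rw [mem_normalizer_iff_cj]
  refine le_antisymm ?_ (key w hw)
  have h1 := cj_mono w (key w⁻¹ (inv_mem hw))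
  rwa [cj_cj_inv] at h1

/-- **equal or commuting** -/
theorem eq_or_comm [Finite G] {C M : Subgroup G} (hO : pPrimeCore 2 C = ⊥) (hz : ∀ x ∈ C, x * z = z * x)
    (h : SLThree.IsSl J z) (h' : SLThree.IsSl M z) (hs : Sn J C) (hs' : Sn M C) :
    J = M ∨ ∀ x ∈ J, ∀ y ∈ M, x * y = y * x := by
  obtain ⟨z₁, hz₁, h1⟩ := h.subgroupOf hs.1
  obtain ⟨z₂, hz₂, h2⟩ := h'.subgroupOf hs'.1
  have hzz : z₂ = z₁ := Subtype.ext (hz₂.trans hz₁.symm)
  rw [hzz] at h2
  rcases SLThree.eq_or_cm (X := ↥C) hO (z := z₁) (fun x => Subtype.ext (by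
    show (x : G) * z₁ = z₁ * x
    rw [hz₁]; exact hz x x.2)) h1 h2 hs.2 hs'.2 with h3 | h3
  · left
    have h4 := congrArg (Subgroup.map C.subtype) h3
    rwa [map_subgroupOf_eq_of_le hs.1, map_subgroupOf_eq_of_le hs'.1] at h4
  · right
    intro x hx y hy
    exact congrArg Subtype.val (h3 ⟨x, hs.1 hx⟩ hx ⟨y, hs'.1 hy⟩ hy)

/-- two conjugates with non-commuting common elements are equal -/
theorem mem_normalizer_of_comm_QQ [Finite G] {C : Subgroup G} (hO : pPrimeCore 2 C = ⊥)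
    (hz : ∀ x ∈ C, x * z = z * x) (h : IsPr J z) (hs : Sn J C) {g : G} (hg : g ∈ C)
    (hc : ∀ a ∈ QQ J z, g * a = a * g) : g ∈ normalizer (J : Set G) := by
  have h1 : SLThree.IsSl (cj g J) z := by
    have h2 := (show SLThree.IsSl J z from h.sl).cj g
    have h3 : g * z * g⁻¹ = z := by rw [hz g hg]; group
    rwa [h3] at h2
  have h2 : Sn (cj g J) C := by
    have := hs.cj g
    rwa [mem_normalizer_iff_cj.1 (Subgroup.le_normalizer hg)] at this
  rw [mem_normalizer_iff_cj]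
  rcases eq_or_comm hO hz h.sl h1 hs h2 with h3 | h3
  · exact h3.symm
  · exfalso
    obtain ⟨x, hx, y, hy, -, -, hxy⟩ := QQ_not_comm h
    apply hxy
    refine h3 x (QQ_le hx) y ?_
    have h4 : y = g * y * g⁻¹ := by rw [hc y hy]; group
    rw [h4]; exact conj_mem_cj (QQ_le hy)

/-- **a subgroup of `C` commuting with `O₂(J)` commutes with `J`** -/
theorem comm_of_QQ [Finite G] {C : Subgroup G} (hO : pPrimeCore 2 C = ⊥)
    (hz : ∀ x ∈ C, x * z = z * x) (h : IsPr J z) (hs : Sn J C) {g : G} (hg : g ∈ C)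
    (hc : ∀ a ∈ QQ J z, g * a = a * g) : ∀ x ∈ J, g * x = x * g :=
  h.t3.comm (fun _ hx => h.comm_z hx) (mem_normalizer_of_comm_QQ hO hz h hs hg hc)
    fun y hy hyz => hc y (mem_QQ hy hyz)

end

end Cfsg.Agent.OddHalf.NI3.FThree
end

-- part: OddHalf/NI3/FThree/StOf
section
-- merged: Cfsg.Agent.OddHalf.NI3.FThree.A
section

/-!
# (F2'₃): the subnormal subgroup `J ≅ SL₂(3)` of `C(z r)` commutes with the `KK Z s`, `s ∈ R` orthogonal to `r`

`St cs h p T X R Z z r J j` : the setting. `St.KK_comm`.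
-/

set_option autoImplicit false
set_option linter.unusedSectionVars false
set_option linter.dupNamespace false

namespace Cfsg.Agent.OddHalf.NI3.FThree

open Cfsg
open CoxeterSystem Cfsg.Agent.ChevalleyStructure.CoxeterGeom Cfsg.Agent.Tits.Roots Cfsg.Agent.Tits.Core
  Cfsg.Agent.Tits.RootComb Cfsg.Agent.Nodes.Comb Cfsg.Agent.Nodes.Reps Cfsg.Agent.Nodes.BNOf
  Cfsg.Agent.Nodes.RGDLib Cfsg.Agent.Nodes.Chart Cfsg.Agent.Nodes.Coroot Cfsg.Agent.Nodes.FreeTorus
  Cfsg.Agent.Nodes.SubComb Cfsg.Agent.Nodes.Bruhat Cfsg.Agent.Nodes.StabComb Cfsg.Agent.Nodes.Perp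
  Cfsg.Agent.Nodes.Sub Cfsg.Agent.Nodes.ClsSub
open Cfsg.Agent.OddHalf.NI.FTwo (commute_cj mem_of_sq_mem)

variable {I W Y : Type*} [Fintype I] [DecidableEq I] [Group W] [Fintype W] [Group Y] {M : CoxeterMatrix I}
  {cs : CoxeterSystem M W} {A : I → I → ℤ} {h : IsCartan M A} {p : ℕ} {T : Subgroup Y} {n : I → Y}
  {X : (I → ℤ) → Subgroup Y} {R : Set (I → ℤ)} {Z : (I → ℤ) → Subgroup Y} {z : (I → ℤ) → Y}
  {J : Subgroup Y} {j : Y} {r : I → ℤ}

/-- The setting of (F2'₃): `J ≅ SL₂(3)`, with the central involution `j`, subnormal in `C(z r)`, commuting with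
`KK Z r`, `O₂(J) ≤ GG`. -/
structure St (cs : CoxeterSystem M W) {A : I → I → ℤ} (h : IsCartan M A) (p : ℕ) (T : Subgroup Y)
    (X : (I → ℤ) → Subgroup Y) (R : Set (I → ℤ)) (Z : (I → ℤ) → Subgroup Y) (z : (I → ℤ) → Y) (r : I → ℤ)
    (J : Subgroup Y) (j : Y) : Prop where
  prime : p.Prime
  odd : p ≠ 2
  mem : r ∈ R
  trans : ∀ s ∈ R, ∃ w, s = rep cs h w r
  core : pPrimeCore 2 ↥(Subgroup.centralizer ({z r} : Set Y)) = ⊥
  pr : IsPr J j
  sn : Sn J (Subgroup.centralizer ({z r} : Set Y))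
  comm : ∀ x ∈ J, ∀ y ∈ KK Z r, x * y = y * x
  jc : ∀ y : Y, y * j = j * y
  cl : ∀ s ∈ R, Cl (z s) (KK Z s)
  ge : QQ J j ≤ GG cs h T X
  norm : Subgroup.centralizer ({z r} : Set Y) ≤ Subgroup.normalizer (GG cs h T X : Set Y)
  nc : ¬ ∀ g ∈ GG cs h T X, z r * g = g * z r
  gen : GG cs h T X = G1 cs h X

theorem mem_cent {a b : Y} : a ∈ Subgroup.centralizer ({b} : Set Y) ↔ a * b = b * a :=
  Subgroup.mem_centralizer_singleton_iff

namespace St

theorem zr_comm (C : Cls cs h p T n X R Z z) (S : St cs h p T X R Z z r J j) {y : I → ℤ} (hy : IsRoot cs h y)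
    (h0 : form cs h y r = 0) : X y ≤ Subgroup.centralizer ({z r} : Set Y) := fun x hx =>
  mem_cent.2 (X_cm_KK C S.mem hy h0 x hx _ (C.z_mem r S.mem))

theorem KK_le_cent (C : Cls cs h p T n X R Z z) (S : St cs h p T X R Z z r J j) {s : I → ℤ} (hs : s ∈ R)
    (h0 : form cs h s r = 0) : KK Z s ≤ Subgroup.centralizer ({z r} : Set Y) := by
  refine (KK_le_LL C hs).trans (sup_le (S.zr_comm C (C.root s hs) h0)
    (S.zr_comm C (C.root s hs).neg (by rw [form_neg_left, h0, neg_zero])))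

theorem KK_le_GG (C : Cls cs h p T n X R Z z) {s : I → ℤ} (hs : s ∈ R) : KK Z s ≤ GG cs h T X :=
  sup_le ((C.le s hs).trans (X_le_GG (C.root s hs)))
    ((C.le _ (Nodes.Perp.neg_mem C hs)).trans (X_le_GG (C.root s hs).neg))

/-- conjugation by an element commuting with `KK Z r` -/
theorem cj (C : Cls cs h p T n X R Z z) (S : St cs h p T X R Z z r J j) {g : Y} (hg : g ∈ GG cs h T X)
    (hgr : ∀ y ∈ KK Z r, g * y = y * g) : St cs h p T X R Z z r (Nodes.Reps.cj g J) j := by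
  have hgz : g ∈ Subgroup.centralizer ({z r} : Set Y) := mem_cent.2 (hgr _ (C.z_mem r S.mem))
  have hj : g * j * g⁻¹ = j := by rw [S.jc g]; group
  refine { S with pr := ?_, sn := ?_, comm := ?_, ge := ?_ }
  · have h1 := S.pr.cj g
    rw [hj] at h1
    exact h1
  · have h1 := S.sn.cj g
    have h2 : Cit.cj g (Subgroup.centralizer ({z r} : Set Y)) = Subgroup.centralizer ({z r} : Set Y) :=
      Cit.mem_normalizer_iff_cj.1 (Subgroup.le_normalizer hgz)
    rw [h2] at h1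
    exact h1
  · intro x hx y hy
    rw [mem_cj] at hx
    have h1 : g⁻¹ * y * g = y := by
      rw [mul_assoc, ← hgr y hy]; group
    have h2 := S.comm _ hx y hy
    calc x * y = g * ((g⁻¹ * x * g) * (g⁻¹ * y * g)) * g⁻¹ := by group
      _ = g * ((g⁻¹ * x * g) * y) * g⁻¹ := by rw [h1]
      _ = g * (y * (g⁻¹ * x * g)) * g⁻¹ := by rw [h2]
      _ = (g * y) * g⁻¹ * x := by group
      _ = (y * g) * g⁻¹ * x := by rw [hgr y hy]
      _ = y * x := by group
  · have h1 : QQ (Cit.cj g J) j = Cit.cj g (QQ J j) := QQ_cj (S.jc g)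
    change QQ (Cit.cj g J) j ≤ _
    rw [h1]
    rintro _ ⟨y, hy, rfl⟩
    exact mul_mem (mul_mem hg (S.ge hy)) (inv_mem hg)

/-- the case `z s ∉ O₂(C(z r))` -/
theorem comm_of_notMem [Finite Y] (C : Cls cs h p T n X R Z z) (S : St cs h p T X R Z z r J j) {s : I → ℤ}
    (hs : s ∈ R) (h0 : form cs h s r = 0) (hP : z s ∉ P2 (Subgroup.centralizer ({z r} : Set Y))) :
    ∀ x ∈ QQ J j, ∀ y ∈ KK Z s, x * y = y * x := by
  have : Fact (Nat.Prime 2) := ⟨Nat.prime_two⟩
  have hcl := S.cl s hs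
  have hKC := S.KK_le_cent C hs h0
  set P := P2 (Subgroup.centralizer ({z r} : Set Y)) with hPdef
  have hPp : IsPGroup 2 P := P2_pgrp _
  have hnP : KK Z s ≤ Subgroup.normalizer (P : Set Y) := hKC.trans (le_normalizer_P2 _)
  have hKz : KK Z s ≤ Subgroup.centralizer ({z s} : Set Y) := hcl.sn.1
  -- the elements of order 3 centralise `C_P(z s)`
  have key : ∀ v ∈ KK Z s, v * v * v = 1 → ∀ w ∈ P, w * z s = z s * w → v * w = w * v := by
    intro v hv h3 w hw hws
    refine T3.comm_of_sn (P := P ⊓ Subgroup.centralizer ({z s} : Set Y)) hcl.pr.t3 hcl.sn inf_le_right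
      (hPp.to_le inf_le_left) ?_ ?_ hv h3 ⟨hw, mem_cent.2 hws⟩
    · refine (le_inf hnP (hKz.trans ?_)).trans Subgroup.inf_normalizer_le_normalizer_inf
      exact Subgroup.le_normalizer
    · intro h4
      obtain ⟨a, ha, -, -, haz, -, -⟩ := hcl.pr.t3.ex4
      apply hP
      have h5 := (h4 a ha haz).1
      rw [← haz]
      exact mul_mem h5 h5
  -- Thompson
  have key2 : KK Z s ≤ Subgroup.centralizer (P : Set Y) := by
    refine hcl.pr.le_of_cube fun v hv h3 => ?_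
    have h4 := Lib.ThompsonPQ.thompson_p_times_q 2 (Subgroup.zpowers (z s)) (Subgroup.zpowers v) P ?_ ?_ hPp ?_ ?_ ?_ ?_
    · exact h4 (Subgroup.mem_zpowers v)
    · refine IsPGroup.of_card (n := 1) ?_
      rw [Nat.card_zpowers, hcl.pr.ord, pow_one]
    · rw [Nat.card_zpowers]
      exact (Nat.coprime_two_right.2 (odd_of_cube h3))
    · rw [Subgroup.zpowers_le, Subgroup.mem_centralizer_iff]
      rintro _ ⟨k, rfl⟩
      exact (Commute.zpow_left (hcl.pr.comm_z hv) k)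
    · rw [Subgroup.zpowers_le]
      exact hnP hcl.pr.mem
    · rw [Subgroup.zpowers_le]
      exact hnP hv
    · rintro w ⟨hw, hwz⟩
      rw [Subgroup.mem_centralizer_iff]
      rintro _ ⟨k, rfl⟩
      have h5 := Subgroup.mem_centralizer_iff.1 hwz (z s) (Subgroup.mem_zpowers _)
      exact (Commute.zpow_left (key v hv h3 w hw h5.symm) k)
  intro x hx y hy
  exact Subgroup.mem_centralizer_iff.1 (key2 hy) x (QQ_le_P2 S.pr S.sn hx)

/-- an element of `O₂(C(z r))` normalising `X y`, `y` orthogonal to `r`, centralises `X y` -/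
theorem comm_X_of_mem [Finite Y] (C : Cls cs h p T n X R Z z) (S : St cs h p T X R Z z r J j) {t : Y} (ht : t ∈ T)
    (hP : t ∈ P2 (Subgroup.centralizer ({z r} : Set Y))) {y : I → ℤ} (hy : IsRoot cs h y)
    (h0 : form cs h y r = 0) : ∀ b ∈ X y, t * b = b * t := by
  intro b hb
  have h1 : t * b * t⁻¹ ∈ X y := by
    have := C.rgd.tor y hy t ht
    rw [← this]; exact conj_mem_cj.2 hb
  have h2 : t * b * t⁻¹ * b⁻¹ ∈ X y := mul_mem h1 (inv_mem hb)
  have h3 : t * b * t⁻¹ * b⁻¹ ∈ P2 (Subgroup.centralizer ({z r} : Set Y)) := by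
    have h4 : t * b * t⁻¹ * b⁻¹ = t * (b * t⁻¹ * b⁻¹) := by group
    rw [h4]
    exact mul_mem hP ((Subgroup.mem_normalizer_iff.1 (le_normalizer_P2 _ (S.zr_comm C hy h0 hb)) _).1 (inv_mem hP))
  obtain ⟨k, hk⟩ := (C.rgd.pgrp' hy) ⟨_, h2⟩
  have h4 := eq_one_of_two_three (P2_pgrp _) h3 S.prime S.odd (k := k) (by simpa only [_root_.SubmonoidClass.mk_pow, _root_.OneMemClass.coe_one] using congrArg Subtype.val hk)
  rw [mul_inv_eq_one, mul_inv_eq_iff_eq_mul] at h4
  exact h4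

/-- if `z s ∈ O₂(C(z r))` then the roots orthogonal to `r` are `± s` or orthogonal to `s` -/
theorem orth_of_mem [Finite Y] (C : Cls cs h p T n X R Z z) (S : St cs h p T X R Z z r J j) {s : I → ℤ}
    (hs : s ∈ R) (hP : z s ∈ P2 (Subgroup.centralizer ({z r} : Set Y))) {y : I → ℤ}
    (hy : IsRoot cs h y) (hyr : form cs h y r = 0) (h1 : y ≠ s) (h2 : y ≠ -s) : form cs h y s = 0 := by
  by_contra h3
  obtain ⟨b, hb, hb1⟩ : ∃ b ∈ X y, b ≠ 1 := by
    by_contra h0
    push Not at h0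
    exact Nodes.StdConn.X_ne_bot C hy ((Subgroup.eq_bot_iff_forall _).2 h0)
  have h4 := S.comm_X_of_mem C (C.z_torus s hs) hP hy hyr b hb
  have h5 := C.z_inv s hs y hy h1 h2 h3 b hb
  rw [h4, mul_assoc, C.z_sq s hs, mul_one] at h5
  obtain ⟨k, hk⟩ := (C.rgd.pgrp' hy) ⟨b, hb⟩
  have h6 : b ∈ (⊥ : Subgroup Y) := by
    refine mem_of_sq_mem (k := p ^ k) ((S.prime.odd_of_ne_two S.odd).pow) (by simpa only [_root_.SubmonoidClass.mk_pow, _root_.OneMemClass.coe_one] using congrArg Subtype.val hk) ?_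
    rw [Subgroup.mem_bot]
    nth_rewrite 1 [h5]
    exact inv_mul_cancel b
  exact hb1 (Subgroup.mem_bot.1 h6)

/-- the root groups `X t`, `t ∈ R`, are centralised by `z t` if this holds for one `t` -/
theorem comm_self_all (C : Cls cs h p T n X R Z z) (S : St cs h p T X R Z z r J j) {s : I → ℤ} (hs : s ∈ R)
    (H : ∀ b ∈ X s, z s * b = b * z s) : ∀ t ∈ R, ∀ b ∈ X t, z t * b = b * z t := by
  intro t ht b hb
  obtain ⟨w₁, e₁⟩ := S.trans s hs
  obtain ⟨w₂, e₂⟩ := S.trans t ht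
  have e : t = rep cs h (w₂ * w₁⁻¹) s := by rw [rep_mul_apply, e₁, rep_inv_apply, e₂]
  obtain ⟨k, hk⟩ := exists_rp cs C.rgd.nsys (w₂ * w₁⁻¹)
  have h1 := Nodes.ClsNorm.conj_z C hk hs
  have h2 := C.rgd.conj_rp hk (C.root s hs)
  rw [← e] at h1 h2
  rw [← h2, mem_cj] at hb
  have h3 := H _ hb
  rw [← h1]
  calc k * z s * k⁻¹ * b = k * (z s * (k⁻¹ * b * k)) * k⁻¹ := by group
    _ = k * ((k⁻¹ * b * k) * z s) * k⁻¹ := by rw [h3]
    _ = b * (k * z s * k⁻¹) := by group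

/-- counting roots -/
theorem orth_count (S : St cs h p T X R Z z r J j) (hr : IsRoot cs h r) {s : I → ℤ} (hs : s ∈ R)
    (h0 : form cs h s r = 0)
    (H : ∀ y, IsRoot cs h y → form cs h y r = 0 → y ≠ s → y ≠ -s → form cs h y s = 0) {y : I → ℤ}
    (hy : IsRoot cs h y) (hys : form cs h y s = 0) : form cs h y r = 0 ∨ y = r ∨ y = -r := by
  obtain ⟨w, hw⟩ := S.trans s hs
  set P : Set (I → ℤ) := {y | IsRoot cs h y ∧ form cs h y r = 0} with hP
  set Q : Set (I → ℤ) := {y | IsRoot cs h y ∧ form cs h y s = 0} with hQ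
  have hPf : P.Finite := (RGD.finite_roots (cs := cs) (h := h)).subset fun y hy => hy.1
  have hQf : Q.Finite := (RGD.finite_roots (cs := cs) (h := h)).subset fun y hy => hy.1
  have hPQ : Q = (rep cs h w) '' P := by
    ext y
    constructor
    · rintro ⟨h1, h2⟩
      refine ⟨rep cs h w⁻¹ y, ⟨h1.act _, ?_⟩, rep_apply_inv cs h w y⟩
      rw [form_rep_left, inv_inv, ← hw]; exact h2
    · rintro ⟨y, ⟨h1, h2⟩, rfl⟩
      refine ⟨h1.act _, ?_⟩
      rw [hw, form_rep]; exact h2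
  have hinj : Function.Injective (rep cs h w) := fun a b hab => by
    have := congrArg (rep cs h w⁻¹) hab
    rwa [rep_inv_apply, rep_inv_apply] at this
  have hcard : P.ncard = Q.ncard := by
    rw [hPQ, Set.ncard_image_of_injective _ hinj]
  have hc2 := (Set.ncard_eq_ncard_iff_ncard_sdiff_eq_ncard_sdiff hPf hQf).1 hcard
  have hrr : form cs h r r ≠ 0 := (form_pos cs h hr.ne_zero).ne'
  have hrs : form cs h r s = 0 := by rw [form_comm]; exact h0
  have h1 : P \ Q ⊆ {s, -s} := by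
    rintro y ⟨⟨h1, h2⟩, h3⟩
    by_contra h4
    simp only [Set.mem_insert_iff, Set.mem_singleton_iff, not_or] at h4
    exact h3 ⟨h1, H y h1 h2 h4.1 h4.2⟩
  have h2 : ({r, -r} : Set (I → ℤ)) ⊆ Q \ P := by
    rintro y (rfl | hy)
    · exact ⟨⟨hr, hrs⟩, fun h3 => hrr h3.2⟩
    · rw [Set.mem_singleton_iff] at hy
      subst hy
      refine ⟨⟨hr.neg, by rw [form_neg_left, hrs, neg_zero]⟩, fun h3 => hrr ?_⟩
      have := h3.2
      rw [form_neg_left] at this
      omega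
  have h3 : (P \ Q).ncard ≤ 2 := (Set.ncard_le_ncard h1 (Set.toFinite _)).trans (Set.ncard_insert_le _ _ |>.trans (by simp))
  have hne : r ≠ -r := by
    intro h4
    have h5 : (2 : ℤ) • r = 0 := by
      calc (2 : ℤ) • r = r + r := two_smul ℤ r
        _ = r + -r := by nth_rewrite 2 [h4]; rfl
        _ = 0 := add_neg_cancel r
    exact hr.ne_zero ((smul_eq_zero.1 h5).resolve_left (by norm_num))
  have h4 : ({r, -r} : Set (I → ℤ)).ncard = 2 := Set.ncard_pair hne
  have h5 : ({r, -r} : Set (I → ℤ)) = Q \ P :=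
    Set.eq_of_subset_of_ncard_le h2 (by rw [h4, ← hc2]; exact h3) (hQf.subset Set.sdiff_subset)
  by_cases h6 : form cs h y r = 0
  · exact Or.inl h6
  · right
    have h7 : y ∈ Q \ P := ⟨⟨hy, hys⟩, fun h8 => h6 h8.2⟩
    rw [← h5] at h7
    exact h7

/-- `z r * z s` centralises `GG` -/
theorem zz_comm [Finite Y] (C : Cls cs h p T n X R Z z) (S : St cs h p T X R Z z r J j) {s : I → ℤ}
    (hs : s ∈ R) (h0 : form cs h s r = 0) (hP : z s ∈ P2 (Subgroup.centralizer ({z r} : Set Y))) :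
    ∀ g ∈ GG cs h T X, g * (z r * z s) = z r * z s * g := by
  have hr := S.mem
  have hrr := C.root r hr
  have hself := S.comm_self_all C hs (S.comm_X_of_mem C (C.z_torus s hs) hP (C.root s hs) h0)
  have hrs : form cs h r s = 0 := by rw [form_comm]; exact h0
  have key : GG cs h T X ≤ Subgroup.centralizer ({z r * z s} : Set Y) := by
    rw [S.gen]
    refine RGD.Sup_le fun y hy b hb => ?_
    have hy' : IsRoot cs h y := hy
    rw [mem_cent]
    by_cases h1 : form cs h y r = 0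
    · have c1 : Commute b (z r) := mem_cent.1 (S.zr_comm C hy' h1 hb)
      have c2 : Commute b (z s) := (S.comm_X_of_mem C (C.z_torus s hs) hP hy' h1 b hb).symm
      exact (c1.mul_right c2).eq
    · by_cases h2 : y = r ∨ y = -r
      · have hyR : y ∈ R := by
          rcases h2 with rfl | rfl
          · exact hr
          · exact Nodes.Perp.neg_mem C hr
        have hzy : z y = z r := by
          rcases h2 with rfl | rfl
          · rfl
          · exact C.z_neg r hr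
        have hys : form cs h y s = 0 := by
          rcases h2 with rfl | rfl
          · exact hrs
          · rw [form_neg_left, hrs, neg_zero]
        have c1 : Commute b (z r) := by
          have := hself y hyR b hb
          rw [hzy] at this
          exact this.symm
        have c2 : Commute b (z s) := X_cm_KK C hs hy' hys b hb _ (C.z_mem s hs)
        exact (c1.mul_right c2).eq
      · push Not at h2
        have h3 : form cs h y s ≠ 0 := by
          intro h4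
          rcases S.orth_count hrr hs h0 (fun y hy hyr => S.orth_of_mem C hs hP hy hyr) hy' h4 with h5 | h5 | h5
          · exact h1 h5
          · exact h2.1 h5
          · exact h2.2 h5
        have hs1 : y ≠ s := by
          rintro rfl; exact h1 h0
        have hs2 : y ≠ -s := by
          rintro rfl
          apply h1
          rw [form_neg_left, h0, neg_zero]
        have e1 := C.z_inv r hr y hy' h2.1 h2.2 h1
        have e2 := C.z_inv s hs y hy' hs1 hs2 h3 b hb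
        have hr2 := C.z_sq r hr
        have hs2' := C.z_sq s hs
        calc b * (z r * z s) = (z r * (z s * b * z s) * z r) * (z r * z s) := by
              have h6 := e1 _ (inv_mem hb)
              rw [inv_inv] at h6
              rw [e2, h6]
          _ = z r * z s * b * (z s * (z r * z r) * z s) := by group
          _ = z r * z s * b := by rw [hr2, mul_one, hs2', mul_one]
  intro g hg
  exact mem_cent.1 (key hg)

/-- the case `z s ∈ O₂(C(z r))` -/
theorem comm_of_mem [Finite Y] (C : Cls cs h p T n X R Z z) (S : St cs h p T X R Z z r J j) {s : I → ℤ}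
    (hs : s ∈ R) (h0 : form cs h s r = 0) (hP : z s ∈ P2 (Subgroup.centralizer ({z r} : Set Y))) :
    ∀ x ∈ QQ J j, ∀ y ∈ KK Z s, x * y = y * x := by
  have hcl := S.cl s hs
  have hr := S.mem
  have hzz := S.zz_comm C hs h0 hP
  have hzrs : z r * z s = z s * z r := C.z_T r hr _ (C.z_torus s hs)
  set D := GG cs h T X with hD
  set E := D ⊓ Subgroup.centralizer ({z r} : Set Y) with hE
  have hE' : E ≤ Subgroup.centralizer ({z s} : Set Y) := by
    rintro g ⟨hgD, hgr⟩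
    have h1 := hzz g hgD
    have h2 := mem_cent.1 hgr
    rw [mem_cent]
    have h3 : z r * (g * z s) = z r * (z s * g) := by
      calc z r * (g * z s) = (z r * g) * z s := by group
        _ = (g * z r) * z s := by rw [h2]
        _ = g * (z r * z s) := by group
        _ = z r * (z s * g) := by rw [h1]; group
    exact mul_left_cancel h3
  have hKE : KK Z s ≤ E := le_inf (KK_le_GG C hs) (S.KK_le_cent C hs h0)
  set P := P2 E with hPdef
  have hPp : IsPGroup 2 P := P2_pgrp _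
  have hPE : P ≤ E := P2_le _
  -- `O₂(J)`, `O₂(K)` lie in `P`
  have hQP : QQ J j ≤ P := by
    refine le_P2 ((QQ_sn S.pr S.sn).restrict inf_le_right (le_inf S.ge ?_)) (QQ_pgrp S.pr)
    exact QQ_le.trans S.sn.1
  have hKsn : Sn (KK Z s) E := hcl.sn.restrict hE' hKE
  -- `P` normalises `J` and `K`
  have hKP : KK Z s ≤ Subgroup.normalizer (P : Set Y) := hKE.trans (le_normalizer_P2 _)
  have hPK : P ≤ Subgroup.normalizer (KK Z s : Set Y) :=
    le_normalizer_of_sn hcl.pr hKsn hPE hPp hKP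
  have hJP : J ≤ Subgroup.normalizer (P : Set Y) := by
    refine le_trans ?_ (normalizer_le_normalizer_P2 E)
    refine (le_inf (S.sn.1.trans S.norm) (S.sn.1.trans Subgroup.le_normalizer)).trans ?_
    exact Subgroup.inf_normalizer_le_normalizer_inf
  have hPJ : P ≤ Subgroup.normalizer (J : Set Y) :=
    le_normalizer_of_sn S.pr S.sn (hPE.trans inf_le_right) hPp hJP
  -- `z s ≠ j`
  have hne : z s ≠ j := by
    intro h1
    apply S.nc
    intro g _
    obtain ⟨w, hw⟩ := S.trans s hs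
    obtain ⟨k, hk⟩ := exists_rp cs C.rgd.nsys w
    have h2 := Nodes.ClsNorm.conj_z C hk hr
    rw [← hw, h1] at h2
    have h3 : z r = j := by
      calc z r = k⁻¹ * (k * z r * k⁻¹) * k := by group
        _ = k⁻¹ * (j * k) := by rw [h2]; group
        _ = j := by rw [← S.jc k]; group
    rw [h3]; exact (S.jc g).symm
  -- `O₂(J)` and `O₂(K)` commute
  have hQQ : ∀ a ∈ QQ J j, ∀ b ∈ QQ (KK Z s) (z s), b * a = a * b := by
    intro a ha b hb
    have haP := hQP ha
    have hbP : b ∈ P := le_P2 (QQ_sn hcl.pr hKsn) (QQ_pgrp hcl.pr) hb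
    have h1 : b * a * b⁻¹ * a⁻¹ ∈ QQ J j := by
      refine mul_mem ?_ (inv_mem ha)
      exact (Subgroup.mem_normalizer_iff.1 (normalizer_QQ (hPJ hbP) (S.jc b)) a).1 ha
    have h2 : b * a * b⁻¹ * a⁻¹ ∈ QQ (KK Z s) (z s) := by
      have h3 : b * a * b⁻¹ * a⁻¹ = b * (a * b⁻¹ * a⁻¹) := by group
      rw [h3]
      refine mul_mem hb ?_
      refine (Subgroup.mem_normalizer_iff.1 (normalizer_QQ (hPK haP) ?_) b⁻¹).1 (inv_mem hb)
      exact mem_cent.1 (hE' (hPE haP))
    have h3 : b * a * b⁻¹ * a⁻¹ = 1 := by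
      rcases QQ_cases S.pr h1 with h4 | h4 | h4 <;> rcases QQ_cases hcl.pr h2 with h5 | h5 | h5
      · exact absurd (h5.symm.trans h4) hne
      · exact h5
      · exfalso
        rw [h5, C.z_sq s hs] at h4
        exact S.pr.t3.z_ne h4.symm
      · exact h4
      · exact h4
      · exact h4
      · exfalso
        rw [h4, S.pr.t3.z_sq] at h5
        exact hcl.pr.t3.z_ne h5.symm
      · exact h5
      · exact absurd (h5.symm.trans h4) hne
    rw [mul_inv_eq_one, mul_inv_eq_iff_eq_mul] at h3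
    exact h3
  -- the elements of order 3
  have h3 : ∀ v ∈ KK Z s, v * v * v = 1 → ∀ a ∈ J, a * a = j → v * a = a * v := by
    intro v hv h3 a ha haj
    have haQ : a ∈ QQ J j := mem_QQ ha haj
    have haP := hQP haQ
    set q := v * a * v⁻¹ * a⁻¹ with hq
    have hqP : q ∈ P := by
      rw [hq]
      exact mul_mem ((Subgroup.mem_normalizer_iff.1 (hKP hv) a).1 haP) (inv_mem haP)
    have hqK : q ∈ KK Z s := by
      have h4 : q = v * (a * v⁻¹ * a⁻¹) := by rw [hq]; group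
      rw [h4]
      exact mul_mem hv ((Subgroup.mem_normalizer_iff.1 (hPK haP) v⁻¹).1 (inv_mem hv))
    have hqQ : q ∈ QQ (KK Z s) (z s) := mem_QQ_of_two hcl.pr hPp hqK hqP
    have hqa : q * a = a * q := hQQ a haQ q hqQ
    have e1 : v * a * v⁻¹ = q * a := by rw [hq]; group
    have e2 : q * q = 1 := by
      have h4 : (v * a * v⁻¹) * (v * a * v⁻¹) = j := by
        calc (v * a * v⁻¹) * (v * a * v⁻¹) = v * (a * a) * v⁻¹ := by group
          _ = j := by rw [haj, S.jc v]; group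
      rw [e1] at h4
      have h5 : (q * a) * (q * a) = (q * q) * j := by
        calc (q * a) * (q * a) = q * (a * q) * a := by group
          _ = q * (q * a) * a := by rw [hqa]
          _ = (q * q) * (a * a) := by group
          _ = _ := by rw [haj]
      rw [h5] at h4
      exact mul_right_cancel (h4.trans (one_mul j).symm)
    have hqz : q = 1 ∨ q = z s := by
      rcases QQ_cases hcl.pr hqQ with h4 | h4 | h4
      · exfalso
        exact hcl.pr.t3.z_ne (h4.symm.trans e2)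
      · exact Or.inl h4
      · exact Or.inr h4
    have hvq : v * q * v⁻¹ = q := by
      rcases hqz with h4 | h4
      · rw [h4]; group
      · rw [h4, hcl.pr.comm_z hv]; group
    have e3 : q * q * q = 1 := by
      have h4 : v * (v * (v * a * v⁻¹) * v⁻¹) * v⁻¹ = a := by
        calc v * (v * (v * a * v⁻¹) * v⁻¹) * v⁻¹ = (v * v * v) * a * (v * v * v)⁻¹ := by group
          _ = a := by rw [h3]; group
      have h5 : ∀ y : Y, v * (q * y) * v⁻¹ = q * (v * y * v⁻¹) := by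
        intro y
        calc v * (q * y) * v⁻¹ = (v * q * v⁻¹) * (v * y * v⁻¹) := by group
          _ = _ := by rw [hvq]
      rw [e1, h5, e1, h5, h5, e1] at h4
      have h6 : q * q * q * a = 1 * a := by
        rw [one_mul]
        calc q * q * q * a = q * (q * (q * a)) := by group
          _ = a := h4
      exact mul_right_cancel h6
    have e4 : q = 1 := by rw [e2, one_mul] at e3; exact e3
    rw [e4, one_mul, mul_inv_eq_iff_eq_mul] at e1
    exact e1
  have h4 : KK Z s ≤ Subgroup.centralizer (QQ J j : Set Y) := by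
    refine hcl.pr.le_of_cube fun v hv h5 => ?_
    unfold QQ
    rw [Subgroup.centralizer_closure, Subgroup.mem_centralizer_iff]
    rintro a ⟨ha, haj⟩
    exact (h3 v hv h5 a ha haj).symm
  intro x hx y hy
  exact Subgroup.mem_centralizer_iff.1 (h4 hy) x hx

/-- **`J` commutes with the `KK Z s`, `s ∈ R` orthogonal to `r`** -/
theorem KK_comm [Finite Y] (C : Cls cs h p T n X R Z z) (S : St cs h p T X R Z z r J j) {s : I → ℤ}
    (hs : s ∈ R) (h0 : form cs h s r = 0) : ∀ x ∈ J, ∀ y ∈ KK Z s, x * y = y * x := by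
  have h1 : ∀ x ∈ QQ J j, ∀ y ∈ KK Z s, x * y = y * x := by
    by_cases hP : z s ∈ P2 (Subgroup.centralizer ({z r} : Set Y))
    · exact S.comm_of_mem C hs h0 hP
    · exact S.comm_of_notMem C hs h0 hP
  intro x hx y hy
  exact (comm_of_QQ S.core (fun x _ => S.jc x) S.pr S.sn (S.KK_le_cent C hs h0 hy)
    (fun a ha => (h1 a ha y hy).symm) x hx).symm

end St

end Cfsg.Agent.OddHalf.NI3.FThree

end

-- merged: Cfsg.Agent.OddHalf.NI3.FThree.StOf
section

/-!
# (F2'₃): from a piece to the setting `St`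

`Sit3 x j J' J` : `(x, J')` a classical pair of `H`, `O(H) = 1`, `J ≅ SL₂(3)` with the central involution `j` of `H`,
subnormal in `C(x)`, commuting with `J'`; the piece `D` of `J'` is a component containing `O₂(J)`.
`Sit3.exists_st` : a chart of `D` gives `St` for a conjugate of `J`.
-/

set_option autoImplicit false
set_option linter.unusedSectionVars false
set_option linter.dupNamespace false

namespace Cfsg.Agent.OddHalf.NI3.FThree

open Cfsg
open CoxeterSystem Cfsg.Agent.ChevalleyStructure.CoxeterGeom Cfsg.Agent.Tits.Roots Cfsg.Agent.Tits.Core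
  Cfsg.Agent.Tits.RootComb Cfsg.Agent.Nodes.Comb Cfsg.Agent.Nodes.Reps Cfsg.Agent.Nodes.BNOf
  Cfsg.Agent.Nodes.RGDLib Cfsg.Agent.Nodes.Chart Cfsg.Agent.Nodes.Coroot Cfsg.Agent.Nodes.FreeTorus
  Cfsg.Agent.Nodes.SubComb Cfsg.Agent.Nodes.Bruhat Cfsg.Agent.Nodes.StabComb Cfsg.Agent.Nodes.Perp
  Cfsg.Agent.Nodes.Sub Cfsg.Agent.Nodes.ClsSub
open Cfsg.Agent.Cit (pc cls self_mem_cls TStmt)
open Cfsg.Agent.SignalizersComponents

universe u

variable {H : Type u} [Group H]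

/-- the situation of (F2'₃) -/
structure Sit3 (x j : H) (J' J : Subgroup H) : Prop where
  core : pPrimeCore 2 H = ⊥
  cl : Cl x J'
  pr : IsPr J j
  sn : Sn J (Subgroup.centralizer ({x} : Set H))
  cm : J ≤ Subgroup.centralizer (J' : Set H)
  jc : ∀ y : H, y * j = j * y
  comp : IsComponent (pc (cls J') J')
  two : IsPGroup 2 (Subgroup.center ↥(pc (cls J') J'))
  ge : QQ J j ≤ pc (cls J') J'

namespace Sit3

variable [Finite H] {x j : H} {J' J : Subgroup H}

/-- the conjugates of a classical pair -/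
theorem cl_of (S : Sit3 x j J' J) {K : Subgroup H} (hK : K ∈ cls J') {y : H} (hy : y ∈ K)
    (h1 : y * y = 1) (h2 : y ≠ 1) : Cl y K := by
  obtain ⟨k, rfl⟩ := hK
  have h3 : IsPr (Cit.cj k J') (k * x * k⁻¹) := S.cl.pr.cj k
  have h4 : y = k * x * k⁻¹ := by
    rcases h3.t3.cases y hy with h5 | h5 | h5 | h5 | h5
    · exact absurd (h5.symm.trans h1) h3.t3.z_ne
    · exact absurd h5 h2
    · exact h5
    · rw [h1, one_mul] at h5; exact absurd h5 h2
    · rw [h1, one_mul] at h5; exact h5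
  subst h4
  refine ⟨h3, ?_⟩
  have h5 := S.cl.sn.cj k
  rwa [Cit.cj_centralizer] at h5

/-- `C(y)` normalises `D`, if `y ∈ D` is not central in `D` -/
theorem le_normalizer (S : Sit3 x j J' J) {y : H} (hy : y ∈ pc (cls J') J')
    (hn : ¬ ∀ g ∈ pc (cls J') J', y * g = g * y) :
    Subgroup.centralizer ({y} : Set H) ≤ Subgroup.normalizer (pc (cls J') J' : Set H) := by
  intro c hc
  have hc' : c * y = y * c := Subgroup.mem_centralizer_singleton_iff.1 hc
  rw [Cit.mem_normalizer_iff_cj]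
  by_contra hne
  have h1 : IsComponent (Cit.cj c (pc (cls J') J')) := Cit.Comp.isComponent_cj S.comp c
  have h2 := Components.component_le_centralizer_of_ne h1 S.comp hne
  apply hn
  intro g hg
  have h3 : y ∈ Cit.cj c (pc (cls J') J') := by
    rw [Cit.mem_cj]
    have h4 : c⁻¹ * y * c = y := by rw [mul_assoc, ← hc']; group
    rwa [h4]
  exact (Subgroup.mem_centralizer_iff.1 (h2 h3) g hg).symm

/-- `x` is not central in `D` -/
theorem nc (S : Sit3 x j J' J) {g : H} (hg : g ∈ pc (cls J') J') :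
    ¬ ∀ d ∈ pc (cls J') J', (g⁻¹ * x * g) * d = d * (g⁻¹ * x * g) := by
  intro h0
  have hx : ∀ d ∈ pc (cls J') J', x * d = d * x := by
    intro d hd
    have h1 := h0 (g⁻¹ * d * g) (mul_mem (mul_mem (inv_mem hg) hd) hg)
    calc x * d = g * ((g⁻¹ * x * g) * (g⁻¹ * d * g)) * g⁻¹ := by group
      _ = g * ((g⁻¹ * d * g) * (g⁻¹ * x * g)) * g⁻¹ := by rw [h1]
      _ = d * x := by group
  have hDx : pc (cls J') J' ≤ Subgroup.centralizer ({x} : Set H) := fun d hd =>
    Subgroup.mem_centralizer_singleton_iff.2 (hx d hd).symm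
  have h2 := comm_component (S.pr.subgroupOf S.sn.1) S.sn.2 (Components.isComponent_subgroupOf hDx S.comp)
  obtain ⟨a, ha, b, hb, -, -, hab⟩ := QQ_not_comm S.pr
  apply hab
  have haJ : a ∈ J := QQ_le ha
  have hbD : b ∈ pc (cls J') J' := S.ge hb
  have h3 := h2 ⟨a, S.sn.1 haJ⟩ haJ ⟨b, hDx hbD⟩ hbD
  exact congrArg Subtype.val h3

/-- **a chart of the piece gives the setting `St`** -/
theorem exists_st (hT : TStmt.{u}) (S : Sit3 x j J' J) {p : ℕ} (C : Chart (cls J') p (pc (cls J') J'))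
    (nmem : pc (cls J') J' ∉ cls J') :
    ∃ r ∈ C.R, ∃ g ∈ pc (cls J') J', J' = Cit.cj g (KK C.Z r) ∧ x = g * C.z r * g⁻¹ ∧
      St C.cs C.h p C.T C.X C.R C.Z C.z r (Cit.cj g⁻¹ J) j := by
  obtain ⟨r, hr, g, hg, hgJ⟩ := C.om_conj J' (self_mem_cls J') Cit.le_pc
  have hG : GG C.cs C.h C.T C.X = pc (cls J') J' := Nodes.ChartFrame.GG_eq C
  have hzne : ∀ s ∈ C.R, C.z s ≠ 1 := NI.FTwo.ZNe.z_ne_one C nmem
  have hcl : ∀ s ∈ C.R, Cl (C.z s) (KK C.Z s) := fun s hs =>
    S.cl_of (C.om s hs) (C.cls.z_mem s hs) (C.cls.z_sq s hs) (hzne s hs)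
  have hgJ' : J' = Cit.cj g (KK C.Z r) := hgJ
  have hxr : x = g * C.z r * g⁻¹ := by
    have h1 : g * C.z r * g⁻¹ ∈ J' := hgJ'.ge (Cit.conj_mem_cj (C.cls.z_mem r hr))
    have h2 : (g * C.z r * g⁻¹) * (g * C.z r * g⁻¹) = 1 := by
      calc (g * C.z r * g⁻¹) * (g * C.z r * g⁻¹) = g * (C.z r * C.z r) * g⁻¹ := by group
        _ = 1 := by rw [C.cls.z_sq r hr]; group
    have h3 : g * C.z r * g⁻¹ ≠ 1 := by
      intro e
      apply hzne r hr
      calc C.z r = g⁻¹ * (g * C.z r * g⁻¹) * g := by group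
        _ = 1 := by rw [e]; group
    rcases S.cl.pr.t3.cases _ h1 with h5 | h5 | h5 | h5 | h5
    · exact absurd (h5.symm.trans h2) S.cl.pr.t3.z_ne
    · exact absurd h5 h3
    · exact h5.symm
    · rw [h2, one_mul] at h5; exact absurd h5 h3
    · rw [h2, one_mul] at h5; exact h5.symm
  have hzr : C.z r = g⁻¹ * x * g := by rw [hxr]; group
  have hjg : g⁻¹ * j * g = j := by rw [mul_assoc, ← S.jc g]; group
  refine ⟨r, hr, g, hg, hgJ', hxr, ?_⟩
  refine
    { prime := C.prime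
      odd := C.odd
      mem := hr
      trans := C.trans r hr
      core := core_cent_eq_bot hT S.core (hcl r hr)
      pr := ?_
      sn := ?_
      comm := ?_
      jc := S.jc
      cl := hcl
      ge := ?_
      norm := ?_
      nc := ?_
      gen := ?_ }
  · have h1 := S.pr.cj g⁻¹
    rwa [inv_inv, hjg] at h1
  · have h1 := S.sn.cj g⁻¹
    rwa [Cit.cj_centralizer, inv_inv, ← hzr] at h1
  · intro a ha b hb
    rw [Cit.mem_cj, inv_inv] at ha
    have h1 : g * b * g⁻¹ ∈ J' := hgJ'.ge (Cit.conj_mem_cj hb)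
    have h2 := Subgroup.mem_centralizer_iff.1 (S.cm ha) _ h1
    calc a * b = g⁻¹ * ((g * a * g⁻¹) * (g * b * g⁻¹)) * g := by group
      _ = g⁻¹ * ((g * b * g⁻¹) * (g * a * g⁻¹)) * g := by rw [h2]
      _ = b * a := by group
  · have h1 : QQ (Cit.cj g⁻¹ J) j = Cit.cj g⁻¹ (QQ J j) := QQ_cj (S.jc g⁻¹)
    rw [h1, hG]
    rintro _ ⟨y, hy, rfl⟩
    exact mul_mem (mul_mem (inv_mem hg) (S.ge hy)) (inv_mem (inv_mem hg))
  · rw [hG]
    refine S.le_normalizer ?_ ?_
    · rw [hzr]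
      exact mul_mem (mul_mem (inv_mem hg) (Cit.le_pc S.cl.pr.mem)) hg
    · rw [hzr]; exact S.nc hg
  · rw [hG, hzr]; exact S.nc hg
  · rw [hG]; exact C.gen.symm

end Sit3

end Cfsg.Agent.OddHalf.NI3.FThree

end
end

-- part: OddHalf/NI3/FThree/MainCore
section
-- merged: Cfsg.Agent.OddHalf.NI3.FThree.Rk1
section

/-!
# (F2'₃): normal 2-subgroups of rank one groups in characteristic 3

* `two` : `R1 3 B U n`, `N` a normal 2-subgroup not commuting with `U`: `|U| = 3`, `Y = N B`, `4 |N ∩ B| = |N|`;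
* `cent` : an element of `N` commuting with `U` commutes with `n U n⁻¹`;
* `r1_root` : the rank one structure of `T ⟨X b, X (-b)⟩` for all roots `b` with `X b` abelian.
-/

set_option autoImplicit false
set_option linter.unusedSectionVars false
set_option linter.dupNamespace false

namespace Cfsg.Agent.OddHalf.NI3.FThree

open Cfsg
open Cfsg.Agent.OddHalf.NI.FTwo (R1)

theorem three_pow_mod (l : ℕ) : 3 ^ l % 8 = 1 ∨ 3 ^ l % 8 = 3 := by
  induction l with
  | zero => left; rfl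
  | succ l ih => rw [pow_succ]; omega

/-- `1 + 3 ^ l = 2 ^ k` only for `3 ^ l = 1, 3` -/
theorem three_pow_eq {l k : ℕ} (h : 1 + 3 ^ l = 2 ^ k) (hl : 3 ^ l ≠ 1) : 3 ^ l = 3 := by
  have h1 := three_pow_mod l
  rcases Nat.lt_or_ge k 3 with hk | hk
  · interval_cases k <;> omega
  · exfalso
    obtain ⟨m, rfl⟩ := Nat.exists_eq_add_of_le hk
    rw [pow_add] at h
    omega

section

variable {Y : Type*} [Group Y] {B U : Subgroup Y} {nn : Y}

theorem notMem_nn {p : ℕ} (H : R1 p B U nn) (hU : U ≠ ⊥) : nn ∉ B := by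
  intro hn
  apply hU
  rw [Subgroup.eq_bot_iff_forall]
  exact fun x hx => H.inj x hx (mul_mem (mul_mem (inv_mem hn) (H.le hx)) hn)

theorem inf_eq_bot {U N : Subgroup Y} (hU : IsPGroup 3 U) (hN : IsPGroup 2 N) {x : Y} (hx : x ∈ U) (hxN : x ∈ N) :
    x = 1 := by
  obtain ⟨k, hk⟩ := hU ⟨x, hx⟩
  exact eq_one_of_two_three hN hxN Nat.prime_three (by norm_num) (k := k) (by simpa only [_root_.SubmonoidClass.mk_pow, _root_.OneMemClass.coe_one] using congrArg Subtype.val hk)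

/-- elements of `N` normalising `U` centralise `U` -/
theorem comm_of_normalizes {U N : Subgroup Y} (hU : IsPGroup 3 U) (hN : IsPGroup 2 N)
    (hUN : U ≤ Subgroup.normalizer (N : Set Y)) {t : Y} (ht : t ∈ N) (htU : t ∈ Subgroup.normalizer (U : Set Y)) :
    ∀ u ∈ U, t * u = u * t := by
  intro u hu
  have h1 : t * u * t⁻¹ * u⁻¹ ∈ U := mul_mem ((Subgroup.mem_normalizer_iff.1 htU u).1 hu) (inv_mem hu)
  have h2 : t * u * t⁻¹ * u⁻¹ ∈ N := by
    have h3 : t * u * t⁻¹ * u⁻¹ = t * (u * t⁻¹ * u⁻¹) := by group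
    rw [h3]
    exact mul_mem ht ((Subgroup.mem_normalizer_iff.1 (hUN hu) _).1 (inv_mem ht))
  have h3 := inf_eq_bot hU hN h1 h2
  rw [mul_inv_eq_one, mul_inv_eq_iff_eq_mul] at h3
  exact h3

theorem two [Finite Y] (H : R1 3 B U nn) {N : Subgroup Y} (hN : N.Normal) (h2 : IsPGroup 2 N)
    (hne : ¬ ∀ x ∈ N, ∀ y ∈ U, x * y = y * x) :
    (∀ g : Y, ∃ m ∈ N, m⁻¹ * g ∈ B) ∧ Nat.card U = 3 ∧ 4 * Nat.card (N ⊓ B : Subgroup Y) = Nat.card N := by
  have : Fact (Nat.Prime 2) := ⟨Nat.prime_two⟩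
  have : Fact (Nat.Prime 3) := ⟨Nat.prime_three⟩
  have hUN : U ≤ Subgroup.normalizer (N : Set Y) := by rw [Subgroup.normalizer_eq_top_iff.2 hN]; exact le_top
  have hUb : U ≠ ⊥ := by
    rintro rfl
    apply hne
    intro x _ y hy
    rw [Subgroup.mem_bot.1 hy, mul_one, one_mul]
  obtain ⟨m₀, hm₀, hm₀B⟩ : ∃ m ∈ N, m ∉ B := by
    by_contra hcon
    push Not at hcon
    exact hne fun x hx y hy => comm_of_normalizes H.pgrp h2 hUN hx (H.norm (hcon x hx)) y hy
  -- `nn ∈ N B`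
  have hnn : ∃ m ∈ N, ∃ b ∈ B, nn = m * b := by
    rcases H.cases m₀ with h1 | ⟨u, hu, b, hb, e⟩
    · exact absurd h1 hm₀B
    · refine ⟨u⁻¹ * m₀ * u⁻¹⁻¹, hN.conj_mem _ hm₀ _, u⁻¹ * b⁻¹, mul_mem (inv_mem (H.le hu)) (inv_mem hb), ?_⟩
      rw [e]; group
  have hall : ∀ g : Y, ∃ m ∈ N, m⁻¹ * g ∈ B := by
    intro g
    rcases H.cases g with h1 | ⟨u, hu, b, hb, rfl⟩
    · exact ⟨1, one_mem _, by simpa using h1⟩
    · obtain ⟨m, hm, c, hc, e⟩ := hnn
      refine ⟨u * m * u⁻¹, hN.conj_mem _ hm _, ?_⟩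
      rw [e]
      have : (u * m * u⁻¹)⁻¹ * (u * (m * c) * b) = u * c * b := by group
      rw [this]
      exact mul_mem (mul_mem (H.le hu) hc) hb
  have htop : N ⊔ B = ⊤ := by
    rw [eq_top_iff]
    intro g _
    obtain ⟨m, hm, hg⟩ := hall g
    have : g = m * (m⁻¹ * g) := by group
    rw [this]
    exact mul_mem (Subgroup.mem_sup_left hm) (Subgroup.mem_sup_right hg)
  have hindex : B.index * Nat.card (N ⊓ B : Subgroup Y) = Nat.card N := by
    have h1 : N.relIndex (B ⊔ N) = N.relIndex B := Subgroup.relIndex_sup_right B N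
    rw [sup_comm, htop, Subgroup.relIndex_top_right] at h1
    have h2 : Nat.card N * N.index = Nat.card Y := Subgroup.card_mul_index N
    have h3 : Nat.card B * B.index = Nat.card Y := Subgroup.card_mul_index B
    have h4 : Nat.card (N ⊓ B : Subgroup Y) * N.relIndex B = Nat.card B := by
      rw [← Subgroup.inf_relIndex_right]
      have h5 : Nat.card ((N ⊓ B).subgroupOf B) = Nat.card (N ⊓ B : Subgroup Y) :=
        Nat.card_congr (Subgroup.subgroupOfEquivOfLe inf_le_right).toEquiv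
      rw [← h5, Subgroup.relIndex]
      exact Subgroup.card_mul_index _
    have h5 : 0 < N.relIndex B := Nat.pos_of_ne_zero (Subgroup.index_ne_zero_of_finite (H := N.subgroupOf B))
    rw [h1] at h2
    have h6 : (B.index * Nat.card (N ⊓ B : Subgroup Y)) * N.relIndex B = Nat.card N * N.relIndex B := by
      rw [h2, ← h3, ← h4]; ring
    exact Nat.eq_of_mul_eq_mul_right h5 h6
  rw [H.card_quotient hUb] at hindex
  obtain ⟨m, hm⟩ := IsPGroup.iff_card.1 h2
  obtain ⟨l, hl⟩ := IsPGroup.iff_card.1 H.pgrp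
  have h3 : 1 + 3 ^ l ∣ 2 ^ m := by rw [← hl, ← hm]; exact Dvd.intro _ hindex
  obtain ⟨k, -, hk⟩ := (Nat.dvd_prime_pow Nat.prime_two).1 h3
  have h4 : 3 ^ l ≠ 1 := by
    rw [← hl]
    intro h5
    exact hUb (Subgroup.eq_bot_of_card_eq _ h5)
  have h5 := three_pow_eq hk h4
  rw [hl, h5] at hindex
  exact ⟨hall, by rw [hl, h5], hindex⟩

/-- the element `g` normalises `U` only if `g ∈ B` -/
theorem mem_B_of_normalizes {p : ℕ} (H : R1 p B U nn) (hU : U ≠ ⊥) {g : Y}
    (hg : g ∈ Subgroup.normalizer (U : Set Y)) : g ∈ B := by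
  obtain ⟨x, hx, hx1⟩ : ∃ x ∈ U, x ≠ 1 := by
    by_contra h0
    push Not at h0
    exact hU ((Subgroup.eq_bot_iff_forall _).2 h0)
  exact H.ti hx hx1 ((Subgroup.mem_normalizer_iff.1 hg x).1 hx)

/-- an element of the normal 2-subgroup `N` commuting with `U` commutes with `n U n⁻¹` -/
theorem cent (H : R1 3 B U nn) (hUb : U ≠ ⊥) {N : Subgroup Y} (hN : N.Normal) (h2 : IsPGroup 2 N) {t : Y}
    (ht : t ∈ N) (htU : ∀ u ∈ U, t * u = u * t) : ∀ u ∈ U, t * (nn * u * nn⁻¹) = (nn * u * nn⁻¹) * t := by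
  have htB : t ∈ B := by
    refine mem_B_of_normalizes H hUb ?_
    rw [Subgroup.mem_normalizer_iff]
    intro x
    constructor
    · intro hx
      rw [htU x hx, mul_assoc, mul_inv_cancel, mul_one]; exact hx
    · intro hx
      have h3 := htU _ hx
      have h4 : x = t * x * t⁻¹ := by
        have h5 : t * (t * x * t⁻¹) = t * x := by rw [h3]; group
        exact (mul_left_cancel h5).symm
      rw [h4]; exact hx
  -- `t nn = u' nn b`
  obtain ⟨u', hu', b, hb, e⟩ : ∃ u ∈ U, ∃ b ∈ B, t * nn = u * nn * b := by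
    rcases H.cases (t * nn) with h1 | h1
    · exfalso
      apply notMem_nn H hUb
      have : nn = t⁻¹ * (t * nn) := by group
      rw [this]; exact mul_mem (inv_mem htB) h1
    · exact h1
  -- `s = u'⁻¹ t`, `nn⁻¹ s nn ∈ B`
  have hs : nn⁻¹ * (u'⁻¹ * t) * nn ∈ B := by
    have : nn⁻¹ * (u'⁻¹ * t) * nn = nn⁻¹ * u'⁻¹ * (t * nn) := by group
    rw [this, e]
    have : nn⁻¹ * u'⁻¹ * (u' * nn * b) = b := by group
    rw [this]; exact hb
  obtain ⟨m, hm⟩ := h2 ⟨t, ht⟩
  have hm' : t ^ 2 ^ m = 1 := by simpa only [_root_.SubmonoidClass.mk_pow, _root_.OneMemClass.coe_one] using congrArg Subtype.val hm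
  have hc0 : Commute u' t := (htU u' hu').symm
  have hc : Commute u'⁻¹ t := hc0.inv_left
  have hu1 : u' = 1 := by
    have h3 : nn⁻¹ * (u'⁻¹ * t) ^ 2 ^ m * nn ∈ B := by
      have h4 : nn⁻¹ * (u'⁻¹ * t) ^ 2 ^ m * nn = (nn⁻¹ * (u'⁻¹ * t) * nn) ^ 2 ^ m := by
        have := (conj_pow (i := 2 ^ m) (a := nn⁻¹) (b := u'⁻¹ * t)).symm
        simpa only [_root_.inv_inv] using this
      rw [h4]; exact pow_mem hs _
    rw [hc.mul_pow, hm', mul_one] at h3
    have h4 := H.inj _ (pow_mem (inv_mem hu') _) h3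
    have h5 : u'⁻¹ = 1 := by
      obtain ⟨k, hk⟩ := H.pgrp ⟨_, inv_mem hu'⟩
      have hk' : u'⁻¹ ^ 3 ^ k = 1 := by simpa only [_root_.inv_pow, _root_.inv_eq_one, _root_.SubmonoidClass.mk_pow, _root_.OneMemClass.coe_one] using congrArg Subtype.val hk
      have h6 := Nat.dvd_gcd (orderOf_dvd_of_pow_eq_one h4) (orderOf_dvd_of_pow_eq_one hk')
      have h7 : Nat.Coprime (2 ^ m) (3 ^ k) := Nat.Coprime.pow _ _ (by norm_num)
      rw [h7, Nat.dvd_one, orderOf_eq_one_iff] at h6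
      exact h6
    exact inv_eq_one.1 h5
  rw [hu1, inv_one, one_mul] at hs
  -- `nn⁻¹ t nn ∈ N ∩ B` commutes with `U`
  have h3 : nn⁻¹ * t * nn ∈ N := by
    have := hN.conj_mem t ht nn⁻¹
    rwa [inv_inv] at this
  have hUN : U ≤ Subgroup.normalizer (N : Set Y) := by rw [Subgroup.normalizer_eq_top_iff.2 hN]; exact le_top
  intro u hu
  have h4 := comm_of_normalizes H.pgrp h2 hUN h3 (H.norm hs) u hu
  calc t * (nn * u * nn⁻¹) = nn * ((nn⁻¹ * t * nn) * u) * nn⁻¹ := by group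
    _ = nn * (u * (nn⁻¹ * t * nn)) * nn⁻¹ := by rw [h4]
    _ = (nn * u * nn⁻¹) * t := by group

end

/-! ### Levi subgroups of rank one for arbitrary roots -/

open CoxeterSystem Cfsg.Agent.ChevalleyStructure.CoxeterGeom Cfsg.Agent.Tits.Roots Cfsg.Agent.Tits.Core
  Cfsg.Agent.Tits.RootComb Cfsg.Agent.Nodes.Comb Cfsg.Agent.Nodes.Reps Cfsg.Agent.Nodes.BNOf
  Cfsg.Agent.Nodes.RGDLib Cfsg.Agent.Nodes.Chart Cfsg.Agent.Nodes.Coroot Cfsg.Agent.Nodes.FreeTorus
  Cfsg.Agent.Nodes.SubComb Cfsg.Agent.Nodes.Bruhat Cfsg.Agent.Nodes.StabComb Cfsg.Agent.Nodes.Perp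
  Cfsg.Agent.Nodes.Sub Cfsg.Agent.Nodes.ClsSub
open Cfsg.Agent.OddHalf.NI.FTwo (r1 BJ_singleton LJ_singleton cj_T cj_LL)

variable {I W Y : Type*} [Fintype I] [DecidableEq I] [Group W] [Fintype W] [Group Y] {M : CoxeterMatrix I}
  {cs : CoxeterSystem M W} {A : I → I → ℤ} {h : IsCartan M A} {p : ℕ} {T : Subgroup Y} {n : I → Y}
  {X : (I → ℤ) → Subgroup Y}

theorem r1_root [Finite Y] [Fact p.Prime] (D : RGD cs h p T n X) {b : I → ℤ} (hb : IsRoot cs h b)
    (hab : ∀ x ∈ X b, ∀ y ∈ X b, x * y = y * x) :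
    ∃ (nn : Y) (hn : nn ∈ T ⊔ LL X b), cj nn (X b) = X (-b) ∧
      R1 p ((T ⊔ X b).subgroupOf (T ⊔ LL X b)) ((X b).subgroupOf (T ⊔ LL X b)) ⟨nn, hn⟩ := by
  obtain ⟨w, i, rfl⟩ := hb
  set b := rep cs h w (sr i) with hbdef
  have hb : IsRoot cs h b := ⟨w, i, rfl⟩
  obtain ⟨k, hk⟩ := exists_rp cs D.nsys w
  have hX : cj k (X (sr i)) = X b := D.conj_rp hk (isRoot_sr cs h i)
  have hTX : cj k (T ⊔ X (sr i)) = T ⊔ X b := by rw [cj_sup, cj_T D hk, hX]
  have hTL : cj k (T ⊔ LL X (sr i)) = T ⊔ LL X b := by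
    rw [cj_sup, cj_T D hk, cj_LL D hk (isRoot_sr cs h i)]
  have hab' : ∀ x ∈ X (sr i), ∀ y ∈ X (sr i), x * y = y * x := by
    rw [← hX] at hab
    exact (Cfsg.Agent.OddHalf.NI.FTwo.commute_cj k).1 hab
  have H := r1 D i hab'
  have hni : n i ∈ LJ cs h T X {i} := n_mem_LJ D (Set.mem_singleton i)
  have hni' : n i ∈ T ⊔ LL X (sr i) := by rwa [LJ_singleton] at hni
  have hn : k * n i * k⁻¹ ∈ T ⊔ LL X b := by
    rw [← hTL]; exact conj_mem_cj.2 hni'
  have hXL : X b ≤ T ⊔ LL X b := le_sup_left.trans le_sup_right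
  have hBL : T ⊔ X b ≤ T ⊔ LL X b := sup_le_sup_left le_sup_left _
  have hmem : ∀ g : Y, g ∈ T ⊔ LL X b → k⁻¹ * g * k ∈ LJ cs h T X {i} := by
    intro g hg
    rw [LJ_singleton]
    rw [← hTL] at hg
    exact mem_cj.1 hg
  refine ⟨k * n i * k⁻¹, hn, ?_, ?_⟩
  · rw [cj_mul, cj_mul]
    have h1 : cj k⁻¹ (X b) = X (sr i) := by rw [← hX, cj_inv_cj]
    rw [h1, D.conj i _ (isRoot_sr cs h i), rep_simple_sr, D.conj_rp hk (isRoot_sr cs h i).neg, map_neg]
  · refine ⟨?_, ?_, ?_, ?_, ?_, ?_, ?_⟩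
    · intro x hx
      exact (le_sup_right : X b ≤ T ⊔ X b) hx
    · rintro ⟨g, hg⟩ hgB
      rw [Subgroup.mem_normalizer_iff]
      intro x
      rw [Subgroup.mem_subgroupOf, Subgroup.mem_subgroupOf]
      have h1 : T ⊔ X b ≤ Subgroup.normalizer (X b : Set Y) :=
        sup_le (fun t ht => mem_normalizer_iff_cj.2 (D.tor _ hb t ht)) Subgroup.le_normalizer
      exact (Subgroup.mem_normalizer_iff.1 (h1 hgB)) x
    · rintro ⟨g, hg⟩
      rcases H.cases ⟨_, hmem g hg⟩ with h1 | ⟨⟨u, huL⟩, hu, ⟨c, hcL⟩, hc, e⟩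
      · left
        have h2 : k⁻¹ * g * k ∈ BJ cs h T X {i} := h1
        rw [BJ_singleton] at h2
        have h3 : g ∈ T ⊔ X b := by rw [← hTX]; exact mem_cj.2 h2
        exact h3
      · right
        have hu' : k * u * k⁻¹ ∈ X b := by rw [← hX]; exact conj_mem_cj.2 hu
        have hc2 : c ∈ BJ cs h T X {i} := hc
        rw [BJ_singleton] at hc2
        have hc' : k * c * k⁻¹ ∈ T ⊔ X b := by rw [← hTX]; exact conj_mem_cj.2 hc2
        have e' : k⁻¹ * g * k = u * n i * c := congrArg Subtype.val e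
        refine ⟨⟨_, hXL hu'⟩, hu', ⟨_, hBL hc'⟩, hc', Subtype.ext ?_⟩
        change g = (k * u * k⁻¹) * (k * n i * k⁻¹) * (k * c * k⁻¹)
        have : g = k * (k⁻¹ * g * k) * k⁻¹ := by group
        rw [this, e']; group
    · rintro ⟨u, huL⟩ hu hB
      have hu' : k⁻¹ * u * k ∈ X (sr i) := by
        have h1 : u ∈ X b := hu
        rw [← hX] at h1; exact mem_cj.1 h1
      have hB' : (k * n i * k⁻¹)⁻¹ * u * (k * n i * k⁻¹) ∈ T ⊔ X b := hB
      have h1 : (n i)⁻¹ * (k⁻¹ * u * k) * n i ∈ BJ cs h T X {i} := by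
        rw [BJ_singleton]
        rw [← hTX, mem_cj] at hB'
        have : (n i)⁻¹ * (k⁻¹ * u * k) * n i = k⁻¹ * ((k * n i * k⁻¹)⁻¹ * u * (k * n i * k⁻¹)) * k := by group
        rw [this]; exact hB'
      have h2 := H.inj ⟨_, hmem u huL⟩ hu' h1
      have h3 : k⁻¹ * u * k = 1 := congrArg Subtype.val h2
      apply Subtype.ext
      change u = 1
      have : u = k * (k⁻¹ * u * k) * k⁻¹ := by group
      rw [this, h3]; group
    · intro x hx y hy
      exact Subtype.ext (hab _ hx _ hy)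
    · exact (D.pgrp' hb).comap_subtype
    · have h1 := H.ndvd
      intro h2
      apply h1
      rw [LJ_singleton]
      change p ∣ (X b).relIndex (T ⊔ LL X b) at h2
      change p ∣ (X (sr i)).relIndex (T ⊔ LL X (sr i))
      rw [← hX, ← hTL] at h2
      have h3 : (Cit.cj k (X (sr i))).relIndex (Cit.cj k (T ⊔ LL X (sr i))) =
          (X (sr i)).relIndex (T ⊔ LL X (sr i)) := Cit.relIndex_cj k _ _
      rw [← h3]
      exact h2

end Cfsg.Agent.OddHalf.NI3.FThree

end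

-- merged: Cfsg.Agent.OddHalf.NI3.FThree.Eq
section

/-!
# (F2'₃): a rank one group in characteristic 3 whose normal 2-subgroup contains `O₂(J)`

`Rn M N U V` : `U`, `V` are opposite root groups of order 3 of the rank one group `M`, `N` a normal 2-subgroup.
`eq_sup` : if `J ≅ SL₂(3)` and `⟨U, V⟩` are subnormal in `C`, `O₂(J) ≤ N` does not commute with `U`, then
`J = ⟨U, V⟩`.
-/

set_option autoImplicit false
set_option linter.unusedSectionVars false
set_option linter.dupNamespace false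

namespace Cfsg.Agent.OddHalf.NI3.FThree

open Cfsg Cfsg.Agent.Cit
open Cfsg.Agent.Cit.SLThree (Qt Sl IsSl)

/-- four cosets -/
theorem four_cosets {G : Type*} [Group G] {C : Subgroup G} (hC : C.index = 4) {a b c : G} (ha : a ∉ C)
    (hb : b ∉ C) (hc : c ∉ C) (hab : a⁻¹ * b ∉ C) (hac : a⁻¹ * c ∉ C) (hbc : b⁻¹ * c ∉ C) (y : G) :
    y ∈ C ∨ a⁻¹ * y ∈ C ∨ b⁻¹ * y ∈ C ∨ c⁻¹ * y ∈ C := by
  have hfin : Finite (G ⧸ C) := Nat.finite_of_card_ne_zero (by
    change C.index ≠ 0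
    rw [hC]; norm_num)
  let f : Fin 4 → G ⧸ C := ![QuotientGroup.mk 1, QuotientGroup.mk a, QuotientGroup.mk b, QuotientGroup.mk c]
  have e : ∀ {s t : G}, (QuotientGroup.mk s : G ⧸ C) = QuotientGroup.mk t → s⁻¹ * t ∈ C := fun h =>
    QuotientGroup.eq.1 h
  have hf : Function.Injective f := by
    intro s t hst
    fin_cases s <;> fin_cases t <;> first | rfl | exfalso
    · exact ha (by simpa using e hst)
    · exact hb (by simpa using e hst)
    · exact hc (by simpa using e hst)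
    · exact ha (by simpa using e hst)
    · exact hab (e hst)
    · exact hac (e hst)
    · exact hb (by simpa using e hst)
    · exact hab (by have := inv_mem (e hst); simpa using this)
    · exact hbc (e hst)
    · exact hc (by simpa using e hst)
    · exact hac (by have := inv_mem (e hst); simpa using this)
    · exact hbc (by have := inv_mem (e hst); simpa using this)
  have hb := hf.bijective_of_nat_card_le (by
    rw [Nat.card_fin]
    change C.index ≤ 4
    rw [hC])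
  obtain ⟨s, hs⟩ := hb.2 (QuotientGroup.mk y)
  fin_cases s
  · left; simpa using e hs
  · right; left; exact e hs
  · right; right; left; exact e hs
  · right; right; right; exact e hs

variable {Y : Type*} [Group Y]

/-- a rank one group in characteristic 3 with root groups of order 3 and a normal 2-subgroup -/
structure Rn (M N U V : Subgroup Y) : Prop where
  UM : U ≤ M
  VM : V ≤ M
  NM : N ≤ M
  two : IsPGroup 2 N
  norm : M ≤ Subgroup.normalizer (N : Set Y)
  card : Nat.card U = 3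
  all : ∀ g ∈ M, ∃ m ∈ N, m⁻¹ * g ∈ Subgroup.normalizer (U : Set Y)
  four : 4 * Nat.card (N ⊓ Subgroup.centralizer (U : Set Y) : Subgroup Y) = Nat.card N
  cent : ∀ t ∈ N, (∀ u ∈ U, t * u = u * t) → ∀ v ∈ V, t * v = v * t
  conj : ∃ nn ∈ M, V = cj nn U
  normL : M ≤ Subgroup.normalizer ((U ⊔ V : Subgroup Y) : Set Y)

section quat

/-- two elements of order 4 of `O₂(J)` -/
theorem qt_of_QQ [Finite Y] {J : Subgroup Y} {j : Y} (h : IsPr J j) {i k : Y} (hi : i ∈ J) (hk : k ∈ J)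
    (hii : i * i = j) (hkk : k * k = j) (h1 : k ≠ i) (h2 : k ≠ j * i) :
    Qt j i k ∧ QQ J j = Subgroup.closure {i, k} := by
  obtain ⟨i₀, k₀, d, hl⟩ := h.sl
  have hq := hl.q
  have e0 := QQ_eq hl
  have hiQ : i ∈ Subgroup.closure ({i₀, k₀} : Set Y) := by rw [← e0]; exact mem_QQ hi hii
  have hkQ : k ∈ Subgroup.closure ({i₀, k₀} : Set Y) := by rw [← e0]; exact mem_QQ hk hkk
  have hz := hq.z1
  have hji : k * i = j * (i * k) := by
    rcases hq.mem_cases hiQ with rfl | rfl | rfl | rfl | rfl | rfl | rfl | rfl <;>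
    rcases hq.mem_cases hkQ with rfl | rfl | rfl | rfl | rfl | rfl | rfl | rfl <;>
    simp only [mul_assoc, one_mul, mul_one, hq.z2, hq.zz, hq.iz, hq.jz, hq.izx, hq.jzx, hq.i2, hq.j2, hq.iix,
      hq.ji, hq.jix, ne_eq, not_true_eq_false] at hii hkk h1 h2 ⊢ <;>
    first
    | exact absurd hii.symm hz
    | exact absurd hkk.symm hz
  have hQ : Qt j i k := ⟨hq.z2, hq.z1, hii, hkk, hji⟩
  refine ⟨hQ, ?_⟩
  rw [e0]
  symm
  refine Subgroup.eq_of_le_of_card_ge ?_ (by rw [hQ.card, hq.card])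
  rw [Subgroup.closure_le]
  rintro x (rfl | rfl)
  · exact hiQ
  · exact hkQ

/-- an element `u` with `u³ = 1` normalising `O₂(J)` and not centralising it permutes `i → k → i k` -/
theorem exists_perm [Finite Y] {J : Subgroup Y} {j u : Y} (h : IsPr J j) (hj : ∀ y : Y, y * j = j * y)
    (hu : ∀ y ∈ J, y * y = j → u * y * u⁻¹ ∈ J) (h3 : u * u * u = 1)
    (hne : ¬ ∀ y ∈ J, y * y = j → u * y = y * u) :
    (∀ y ∈ J, y * y = j → u * y ≠ y * u) ∧
    ∃ i k, i ∈ J ∧ k ∈ J ∧ Qt j i k ∧ QQ J j = Subgroup.closure {i, k} ∧ u * i * u⁻¹ = k ∧ u * k * u⁻¹ = i * k := by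
  have hz := h.t3.z_ne
  have hzz := h.t3.z_sq
  obtain ⟨φ, hφ⟩ : ∃ φ : Y →* Y, ∀ y, u * y * u⁻¹ = φ y := ⟨(MulAut.conj u).toMonoidHom, fun y => rfl⟩
  have hju : φ j = j := by rw [← hφ, hj u]; group
  have hfx : ∀ y : Y, u * y = y * u ↔ φ y = y := fun y => by rw [← hφ, mul_inv_eq_iff_eq_mul]
  simp only [hφ] at hu ⊢
  simp only [ne_eq, hfx] at hne ⊢
  have hsq : ∀ y : Y, y * y = j → φ y * φ y = j := by
    intro y hy
    rw [← map_mul, hy, hju]
  have hcube : ∀ y : Y, φ (φ (φ y)) = y := by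
    intro y
    rw [← hφ, ← hφ, ← hφ]
    calc u * (u * (u * y * u⁻¹) * u⁻¹) * u⁻¹ = (u * u * u) * y * (u * u * u)⁻¹ := by group
      _ = y := by rw [h3]; group
  -- `u y u⁻¹ ≠ j y`
  have hneg : ∀ y : Y, φ y ≠ j * y := by
    intro y hy
    have h4 := hcube y
    rw [hy, map_mul, hju, hy, ← mul_assoc, hzz, one_mul, hy] at h4
    apply hz
    exact mul_right_cancel (h4.trans (one_mul y).symm)
  -- no element of order 4 is fixed
  have hfix : ∀ y ∈ J, y * y = j → ¬ φ y = y := by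
    intro i hi hii hui'
    apply hne
    intro k hk hkk
    by_cases h4 : k = i
    · rw [h4]; exact hui'
    by_cases h5 : k = j * i
    · rw [h5, map_mul, hju, hui']
    obtain ⟨hQ, hQQ⟩ := qt_of_QQ h hi hk hii hkk h4 h5
    have hk' := hu k hk hkk
    have hk'Q : φ k ∈ Subgroup.closure ({i, k} : Set Y) := by rw [← hQQ]; exact mem_QQ hk' (hsq k hkk)
    have hsk := hsq k hkk
    have hc := hcube k
    rcases hQ.mem_cases hk'Q with e | e | e | e | e | e | e | e
    · exfalso; rw [e, one_mul] at hsk; exact hz hsk.symm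
    · exfalso; rw [e, hzz] at hsk; exact hz hsk.symm
    · exfalso
      rw [e, hui', hui'] at hc
      exact h4 hc.symm
    · exfalso
      rw [e, map_mul, hju, hui', map_mul, hju, hui'] at hc
      exact h5 hc.symm
    · exact e
    · exact absurd e (hneg k)
    · exfalso
      rw [e, map_mul, hui', e, map_mul, map_mul, hui', e] at hc
      -- `i * (i * (i * k)) = k`
      rw [← mul_assoc i i, hii] at hc
      have : j * (i * k) = 1 * k := by rw [one_mul]; exact hc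
      rw [← mul_assoc] at this
      have h6 := mul_right_cancel this
      have h7 : i = j := by
        calc i = j * (j * i) := by rw [← mul_assoc, hzz, one_mul]
          _ = j := by rw [h6, mul_one]
      rw [h7, hzz] at hii
      exact hz hii.symm
    · exfalso
      have e1 : φ (φ k) = j * k := by
        rw [e, map_mul, map_mul, hju, hui', e, hQ.izx, hQ.zz, ← mul_assoc, hii]
      rw [e1, map_mul, hju, e, hQ.zz] at hc
      have h9 : i * k = 1 * k := by rw [one_mul]; exact hc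
      have h10 := mul_right_cancel h9
      rw [h10, one_mul] at hii
      exact hz hii.symm
  refine ⟨hfix, ?_⟩
  obtain ⟨i, hi, -, -, hii, -, -⟩ := h.t3.ex4
  set k := φ i with hk
  have hkJ : k ∈ J := hu i hi hii
  have hkk : k * k = j := hsq i hii
  have h4 : k ≠ i := hfix i hi hii
  have h5 : k ≠ j * i := hneg i
  obtain ⟨hQ, hQQ⟩ := qt_of_QQ h hi hkJ hii hkk h4 h5
  set l := φ k with hl
  have hlJ : l ∈ J := hu k hkJ hkk
  have hll : l * l = j := hsq k hkk
  have hul : φ l = i := hcube i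
  have hlQ : l ∈ Subgroup.closure ({i, k} : Set Y) := by rw [← hQQ]; exact mem_QQ hlJ hll
  rcases hQ.mem_cases hlQ with e | e | e | e | e | e | e | e
  · exfalso; rw [e, one_mul] at hll; exact hz hll.symm
  · exfalso; rw [e, hzz] at hll; exact hz hll.symm
  · exfalso
    rw [e, ← hk] at hul
    exact h4 hul
  · exfalso
    rw [e, map_mul, hju, ← hk] at hul
    apply h5
    rw [← hul, ← mul_assoc, hzz, one_mul]
  · exfalso
    exact hfix k hkJ hkk e
  · exact absurd e (hneg k)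
  · exact ⟨i, k, hi, hkJ, hQ, hQQ, hk.symm, hl.symm.trans e⟩
  · have hjJ : j ∈ J := h.mem
    have e1 : (j * i) * (j * i) = j := by
      rw [mul_assoc, hQ.izx, hQ.zz, hii]
    have e2 : (j * k) * (j * k) = j := by
      rw [mul_assoc, hQ.jzx, hQ.zz, hkk]
    have e3 : j * k ≠ j * i := fun h6 => h4 (mul_left_cancel h6)
    have e4 : j * k ≠ j * (j * i) := fun h6 => h5 (mul_left_cancel h6)
    obtain ⟨hQ', hQQ'⟩ := qt_of_QQ h (mul_mem hjJ hi) (mul_mem hjJ hkJ) e1 e2 e3 e4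
    refine ⟨j * i, j * k, mul_mem hjJ hi, mul_mem hjJ hkJ, hQ', hQQ', ?_, ?_⟩
    · rw [map_mul, hju, ← hk]
    · rw [map_mul, hju, ← hl, e, ← mul_assoc j j, hzz, one_mul, mul_assoc j i, hQ.izx, hQ.zz]

end quat

section main

variable {J C M N U V : Subgroup Y} {j : Y}

namespace Rn

theorem cube (H : Rn M N U V) {u : Y} (hu : u ∈ U) : u * u * u = 1 := by
  have h1 : (⟨u, hu⟩ : U) ^ Nat.card U = 1 := pow_card_eq_one'
  rw [H.card] at h1
  have h2 : u ^ 3 = 1 := by simpa only [_root_.SubmonoidClass.mk_pow, _root_.OneMemClass.coe_one] using congrArg Subtype.val h1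
  rw [← h2, pow_succ, pow_two]

/-- `U` is generated by any of its non-trivial elements -/
theorem gen [Finite Y] (H : Rn M N U V) {u : Y} (hu : u ∈ U) (hu1 : u ≠ 1) : U = Subgroup.zpowers u := by
  symm
  refine Subgroup.eq_of_le_of_card_ge (by rw [Subgroup.zpowers_le]; exact hu) ?_
  rw [H.card, Nat.card_zpowers]
  have h1 : orderOf u = 3 := orderOf_eq_prime (by rw [pow_succ, pow_two]; exact H.cube hu) hu1
  rw [h1]

theorem comm_of_gen [Finite Y] (H : Rn M N U V) {u : Y} (hu : u ∈ U) (hu1 : u ≠ 1) {t : Y} (ht : u * t = t * u) :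
    ∀ v ∈ U, t * v = v * t := by
  rw [H.gen hu hu1]
  rintro _ ⟨k, rfl⟩
  exact (Commute.zpow_right (show Commute t u from ht.symm) k)

/-- the four cosets of `N ∩ C(U)` -/
theorem cosets [Finite Y] (H : Rn M N U V) {a b c : Y} (haN : a ∈ N) (hbN : b ∈ N) (hcN : c ∈ N)
    (ha : a ∉ Subgroup.centralizer (U : Set Y)) (hb : b ∉ Subgroup.centralizer (U : Set Y))
    (hc : c ∉ Subgroup.centralizer (U : Set Y)) (hab : a⁻¹ * b ∉ Subgroup.centralizer (U : Set Y))
    (hac : a⁻¹ * c ∉ Subgroup.centralizer (U : Set Y)) (hbc : b⁻¹ * c ∉ Subgroup.centralizer (U : Set Y))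
    {y : Y} (hy : y ∈ N) : ∃ x, (x = 1 ∨ x = a ∨ x = b ∨ x = c) ∧ x ∈ N ∧
      x⁻¹ * y ∈ N ∧ x⁻¹ * y ∈ Subgroup.centralizer (U : Set Y) := by
  have h1 : ((Subgroup.centralizer (U : Set Y)).subgroupOf N).index = 4 := by
    have h2 := Subgroup.card_mul_index ((Subgroup.centralizer (U : Set Y)).subgroupOf N)
    have h3 : Nat.card ((Subgroup.centralizer (U : Set Y)).subgroupOf N) =
        Nat.card (N ⊓ Subgroup.centralizer (U : Set Y) : Subgroup Y) := by
      rw [← Subgroup.inf_subgroupOf_left]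
      exact Nat.card_congr (Subgroup.subgroupOfEquivOfLe inf_le_left).toEquiv
    rw [h3, ← H.four, mul_comm] at h2
    exact Nat.eq_of_mul_eq_mul_right Nat.card_pos h2
  rcases four_cosets h1 (a := ⟨a, haN⟩) (b := ⟨b, hbN⟩) (c := ⟨c, hcN⟩) ha hb hc hab hac hbc ⟨y, hy⟩ with
    h2 | h2 | h2 | h2
  · exact ⟨1, Or.inl rfl, one_mem _, by rw [inv_one, one_mul]; exact hy, by rw [inv_one, one_mul]; exact h2⟩
  · exact ⟨a, Or.inr (Or.inl rfl), haN, mul_mem (inv_mem haN) hy, h2⟩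
  · exact ⟨b, Or.inr (Or.inr (Or.inl rfl)), hbN, mul_mem (inv_mem hbN) hy, h2⟩
  · exact ⟨c, Or.inr (Or.inr (Or.inr rfl)), hcN, mul_mem (inv_mem hcN) hy, h2⟩

/-- the elements of `U` normalise `J` -/
theorem mem_normalizer [Finite Y] (H : Rn M N U V) (hO : pPrimeCore 2 ↥C = ⊥) (hj : ∀ y : Y, y * j = j * y)
    (h : IsPr J j) (hs : Sn J C) (hMC : M ≤ C) (hQN : QQ J j ≤ N) {u : Y} (hu : u ∈ U) :
    u ∈ Subgroup.normalizer (J : Set Y) := by
  rw [mem_normalizer_iff_cj]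
  by_contra hne
  have hu1 : u ≠ 1 := by
    rintro rfl
    exact hne (cj_one J)
  have h3 := H.cube hu
  have huM := H.UM hu
  have huC := hMC huM
  have huN := H.norm huM
  -- conjugates
  have hcj : ∀ g ∈ C, cj g J ≠ J → ∀ x ∈ J, ∀ y ∈ cj g J, x * y = y * x := by
    intro g hg hgne
    have h1 : IsSl (cj g J) j := by
      have h2 := (show IsSl J j from h.sl).cj g
      have h3 : g * j * g⁻¹ = j := by rw [hj g]; group
      rwa [h3] at h2
    have h2 : Sn (cj g J) C := by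
      have := hs.cj g
      rwa [mem_normalizer_iff_cj.1 (Subgroup.le_normalizer hg)] at this
    rcases eq_or_comm hO (fun x _ => hj x) h.sl h1 hs h2 with h3 | h3
    · exact absurd h3.symm hgne
    · exact h3
  have hne2 : cj (u * u) J ≠ J := by
    intro h1
    apply hne
    have h2 := congrArg (cj u) h1
    rw [← cj_mul, ← mul_assoc, h3, cj_one] at h2
    exact h2.symm
  have c1 := hcj u huC hne
  have c2 := hcj (u * u) (mul_mem huC huC) hne2
  -- `φ y = u y u⁻¹`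
  obtain ⟨φ, hφ⟩ : ∃ φ : Y →* Y, ∀ y, u * y * u⁻¹ = φ y := ⟨(MulAut.conj u).toMonoidHom, fun y => rfl⟩
  have hcube : ∀ y : Y, φ (φ (φ y)) = y := by
    intro y
    rw [← hφ, ← hφ, ← hφ]
    calc u * (u * (u * y * u⁻¹) * u⁻¹) * u⁻¹ = (u * u * u) * y * (u * u * u)⁻¹ := by group
      _ = y := by rw [h3]; group
  have hφ1 : ∀ y ∈ J, φ y ∈ cj u J := fun y hy => by rw [← hφ]; exact conj_mem_cj hy
  have hφ2 : ∀ y ∈ J, φ (φ y) ∈ cj (u * u) J := fun y hy => by
    rw [← hφ, ← hφ]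
    have : u * (u * y * u⁻¹) * u⁻¹ = (u * u) * y * (u * u)⁻¹ := by group
    rw [this]; exact conj_mem_cj hy
  have k01 : ∀ x ∈ J, ∀ y ∈ J, Commute x (φ y) := fun x hx y hy => c1 x hx _ (hφ1 y hy)
  have k02 : ∀ x ∈ J, ∀ y ∈ J, Commute x (φ (φ y)) := fun x hx y hy => c2 x hx _ (hφ2 y hy)
  have k12 : ∀ x ∈ J, ∀ y ∈ J, Commute (φ x) (φ (φ y)) := fun x hx y hy => by
    have h1 := k01 x hx y hy
    exact h1.map φ
  -- the elements
  obtain ⟨a, ha, b, hb, haj, hbj, hab⟩ := h.t3.ex4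
  have haN : a ∈ N := hQN (mem_QQ ha haj)
  have hbN : b ∈ N := hQN (mem_QQ hb hbj)
  have hφN : ∀ y ∈ N, φ y ∈ N := fun y hy => by
    rw [← hφ]; exact (Subgroup.mem_normalizer_iff.1 huN y).1 hy
  have huL : u ∈ U ⊔ V := Subgroup.mem_sup_left hu
  have hφL : ∀ y ∈ U ⊔ V, φ y ∈ U ⊔ V := fun y hy => by
    rw [← hφ]; exact mul_mem (mul_mem huL hy) (inv_mem huL)
  have hnL : ∀ y ∈ N, y⁻¹ * φ y ∈ U ⊔ V := by
    intro y hy
    rw [← hφ]
    have h1 : y⁻¹ * u * y⁻¹⁻¹ ∈ U ⊔ V :=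
      (Subgroup.mem_normalizer_iff.1 (H.normL (H.NM (inv_mem hy))) u).1 huL
    have h2 : y⁻¹ * (u * y * u⁻¹) = (y⁻¹ * u * y⁻¹⁻¹) * u⁻¹ := by group
    rw [h2]; exact mul_mem h1 (inv_mem huL)
  -- elements of `N` commuting with `u` commute with `⟨U, V⟩`
  have hcL : ∀ t ∈ N, φ t = t → ∀ l ∈ U ⊔ V, Commute t l := by
    intro t ht htu l hl
    have h1 : u * t = t * u := by rw [← hφ, mul_inv_eq_iff_eq_mul] at htu; exact htu
    have h2 := H.comm_of_gen hu hu1 h1
    have h4 := H.cent t ht h2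
    have h5 : U ⊔ V ≤ Subgroup.centralizer ({t} : Set Y) := by
      refine sup_le (fun x hx => ?_) (fun x hx => ?_)
      · rw [Subgroup.mem_centralizer_singleton_iff]; exact (h2 x hx).symm
      · rw [Subgroup.mem_centralizer_singleton_iff]; exact (h4 x hx).symm
    exact (Subgroup.mem_centralizer_singleton_iff.1 (h5 hl)).symm
  have hcen : ∀ t, t ∈ Subgroup.centralizer (U : Set Y) ↔ φ t = t := by
    intro t
    rw [← hφ, mul_inv_eq_iff_eq_mul]
    constructor
    · intro h1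
      exact Subgroup.mem_centralizer_iff.1 h1 u hu
    · intro h1
      rw [Subgroup.mem_centralizer_iff]
      intro v hv
      exact (H.comm_of_gen hu hu1 h1 v hv).symm
  set x := a⁻¹ * φ a with hx
  set y := φ (b⁻¹ * φ b) with hy
  have hxN : x ∈ N := mul_mem (inv_mem haN) (hφN a haN)
  have hyN : y ∈ N := hφN _ (mul_mem (inv_mem hbN) (hφN b hbN))
  have hxL : x ∈ U ⊔ V := hnL a haN
  have hyL : y ∈ U ⊔ V := hφL _ (hnL b hbN)
  have hy' : y = (φ b)⁻¹ * φ (φ b) := by rw [hy, map_mul, map_inv]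
  -- `x` and `y` do not commute
  have hxy : ¬ Commute x y := by
    intro h1
    have h2 : x * y = y * x := h1
    rw [hy', hx] at h2
    have e1 := (k01 a ha b hb)
    have e2 := (k02 a ha b hb)
    have e3 := (k12 a ha b hb)
    -- cancel `a⁻¹` and `φ (φ b)`
    have h4 : a⁻¹ * φ a * ((φ b)⁻¹ * φ (φ b)) = a⁻¹ * (φ a * (φ b)⁻¹) * φ (φ b) := by group
    have h5 : (φ b)⁻¹ * φ (φ b) * (a⁻¹ * φ a) = a⁻¹ * ((φ b)⁻¹ * φ a) * φ (φ b) := by
      have c1 : Commute ((φ b)⁻¹) a⁻¹ := e1.symm.inv_inv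
      have c2 : Commute (φ (φ b)) a⁻¹ := e2.symm.inv_right
      have c3 : Commute (φ (φ b)) (φ a) := e3.symm
      calc (φ b)⁻¹ * φ (φ b) * (a⁻¹ * φ a) = (φ b)⁻¹ * (φ (φ b) * a⁻¹) * φ a := by group
        _ = (φ b)⁻¹ * (a⁻¹ * φ (φ b)) * φ a := by rw [c2.eq]
        _ = ((φ b)⁻¹ * a⁻¹) * (φ (φ b) * φ a) := by group
        _ = (a⁻¹ * (φ b)⁻¹) * (φ a * φ (φ b)) := by rw [c1.eq, c3.eq]
        _ = a⁻¹ * ((φ b)⁻¹ * φ a) * φ (φ b) := by group
    rw [h4, h5] at h2
    have h6 : φ a * (φ b)⁻¹ = (φ b)⁻¹ * φ a := mul_left_cancel (mul_right_cancel h2)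
    have h7 : Commute (φ a) (φ b) := by
      have h8 : Commute (φ a) (φ b)⁻¹ := h6
      simpa using h8.inv_right
    have h9 := (h7.map φ).map φ
    rw [hcube, hcube] at h9
    exact hab h9
  -- `x` commutes with `φ x`, `φ (φ x)`
  have hxx1 : Commute x (φ x) := by
    have e1 := k01 a ha a ha
    have e2 := k02 a ha a ha
    have e3 := k12 a ha a ha
    have h1 : φ x = (φ a)⁻¹ * φ (φ a) := by rw [hx, map_mul, map_inv]
    rw [h1, hx]
    refine Commute.mul_left ?_ ?_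
    · exact (e1.inv_inv).mul_right (e2.inv_left)
    · exact ((Commute.refl (φ a)).inv_right).mul_right e3
  have hxx2 : Commute x (φ (φ x)) := by
    have h1 := (hxx1.map φ).map φ
    rw [hcube] at h1
    exact h1.symm
  -- the case `x ∈ C(U)`
  by_cases hxc : φ x = x
  · exact hxy (hcL x hxN hxc y hyL)
  have hφxN := hφN x hxN
  have hφφxN := hφN _ hφxN
  have hn1 : x ∉ Subgroup.centralizer (U : Set Y) := fun h1 => hxc ((hcen x).1 h1)
  have hn2 : φ x ∉ Subgroup.centralizer (U : Set Y) := by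
    intro h1
    have h2 := (hcen _).1 h1
    apply hxc
    have h4 := congrArg φ h2
    rw [hcube] at h4
    rw [h2] at h4
    exact h4.symm
  have hn3 : φ (φ x) ∉ Subgroup.centralizer (U : Set Y) := by
    intro h1
    have h2 := (hcen _).1 h1
    rw [hcube] at h2
    apply hxc
    have h4 := congrArg φ h2
    rw [hcube] at h4
    exact h4
  have hn4 : x⁻¹ * φ x ∉ Subgroup.centralizer (U : Set Y) := by
    intro h1
    set c := x⁻¹ * φ x with hc
    have h2 : φ c = c := (hcen _).1 h1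
    have hcN : c ∈ N := mul_mem (inv_mem hxN) hφxN
    have e1 : φ x = x * c := by rw [hc]; group
    have e2 := hcube x
    rw [e1, map_mul, e1, h2, map_mul, map_mul, e1, h2] at e2
    have e3 : c * c * c = 1 := by
      have : x * (c * c * c) = x * 1 := by
        rw [mul_one]
        calc x * (c * c * c) = x * c * c * c := by group
          _ = x := e2
      exact mul_left_cancel this
    obtain ⟨m, hm⟩ := H.two ⟨c, hcN⟩
    have e4 : c = 1 := SLThree.Sl.eq_one_of_cube e3 (n := m) (by simpa only [_root_.SubmonoidClass.mk_pow, _root_.OneMemClass.coe_one] using congrArg Subtype.val hm)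
    rw [e4, mul_one] at e1
    exact hxc e1
  have hn6 : (φ x)⁻¹ * φ (φ x) ∉ Subgroup.centralizer (U : Set Y) := by
    intro h1
    have h2 := (hcen _).1 h1
    apply hn4
    rw [hcen]
    have h4 : φ (x⁻¹ * φ x) = (φ x)⁻¹ * φ (φ x) := by rw [map_mul, map_inv]
    rw [← h4] at h2
    have h5 := congrArg φ h2
    rw [hcube] at h5
    rw [h2] at h5
    exact h5.symm
  have hn5 : x⁻¹ * φ (φ x) ∉ Subgroup.centralizer (U : Set Y) := by
    intro h1
    have h2 := (hcen _).1 h1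
    apply hn4
    rw [map_mul, map_inv, hcube] at h2
    -- `(φ x)⁻¹ * x = x⁻¹ * φ (φ x)` lies in the centralizer
    have h4 : (φ x)⁻¹ * x ∈ Subgroup.centralizer (U : Set Y) := by rw [h2]; exact h1
    have h5 := inv_mem h4
    rwa [mul_inv_rev, inv_inv] at h5
  obtain ⟨s, hsx, -, hs1, hs2⟩ := H.cosets hxN hφxN hφφxN hn1 hn2 hn3 hn4 hn5 hn6 hyN
  apply hxy
  have h1 : Commute x (s⁻¹ * y) := (hcL _ hs1 ((hcen _).1 hs2) x hxL).symm
  have h2 : Commute x s := by
    rcases hsx with rfl | rfl | rfl | rfl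
    · exact Commute.one_right x
    · exact Commute.refl x
    · exact hxx1
    · exact hxx2
  have h4 := h2.mul_right h1
  rwa [mul_inv_cancel_left] at h4

end Rn

/-- **the rank one group is `J`** -/
theorem eq_sup [Finite Y] (H : Rn M N U V) (hO : pPrimeCore 2 ↥C = ⊥)
    (hj : ∀ y : Y, y * j = j * y) (h : IsPr J j) (hs : Sn J C) (hMC : M ≤ C) (hsL : Sn (U ⊔ V) C)
    (hQN : QQ J j ≤ N) (hne : ¬ ∀ q ∈ QQ J j, ∀ u ∈ U, q * u = u * q) : J = U ⊔ V := by
  have hUJ : U ≤ Subgroup.normalizer (J : Set Y) := fun u hu => H.mem_normalizer hO hj h hs hMC hQN hu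
  obtain ⟨u, hu, hu1⟩ : ∃ u ∈ U, u ≠ 1 := by
    by_contra h0
    push Not at h0
    have h1 : U = ⊥ := (Subgroup.eq_bot_iff_forall _).2 h0
    have h2 := H.card
    rw [h1, Subgroup.card_bot] at h2
    omega
  have h3 := H.cube hu
  obtain ⟨hfix, i, k, hi, hk, hQ, hQQ, hik, hkk⟩ := exists_perm (u := u) h hj
    (fun y hy _ => (Subgroup.mem_normalizer_iff.1 (hUJ hu) y).1 hy) h3 (by
      intro h1
      apply hne
      intro q hq v hv
      refine H.comm_of_gen hu hu1 ?_ v hv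
      rcases QQ_cases h hq with h2 | h2 | h2
      · exact h1 q (QQ_le hq) h2
      · rw [h2, mul_one, one_mul]
      · rw [h2]; exact hj u)
  have hz := h.t3.z_ne
  have hiN : i ∈ N := hQN (mem_QQ hi hQ.i2)
  have hkN : k ∈ N := hQN (mem_QQ hk hQ.j2)
  have hjN : j ∈ N := hQN (mem_z_QQ h)
  have hikJ : i * k ∈ J := mul_mem hi hk
  have hiksq : (i * k) * (i * k) = j := by
    calc (i * k) * (i * k) = i * (k * i) * k := by group
      _ = i * (j * (i * k)) * k := by rw [hQ.ji]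
      _ = j * ((i * i) * (k * k)) := by rw [hQ.izx]; group
      _ = j := by rw [hQ.i2, hQ.j2, hQ.z2, mul_one]
  -- elements of order 4 of `J` are not in the centralizer of `U`
  have hn : ∀ y ∈ J, y * y = j → y ∉ Subgroup.centralizer (U : Set Y) := by
    intro y hy hyj h1
    exact hfix y hy hyj (Subgroup.mem_centralizer_iff.1 h1 u hu)
  have e1 : i⁻¹ * k = j * (i * k) := by rw [hQ.i_inv, mul_assoc]
  have e2 : i⁻¹ * (i * k) = k := by group
  have e3 : k⁻¹ * (i * k) = j * i := by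
    rw [hQ.j_inv]
    calc j * k * (i * k) = j * ((k * i) * k) := by group
      _ = j * (j * (i * k) * k) := by rw [hQ.ji]
      _ = j * (j * (i * (k * k))) := by group
      _ = i * j := by rw [hQ.j2, ← mul_assoc j j, hQ.z2, one_mul]
      _ = j * i := hQ.iz
  have sqj : ∀ y : Y, y * y = j → (j * y) * (j * y) = j := by
    intro y hy
    calc (j * y) * (j * y) = j * (y * j) * y := by group
      _ = j * (j * y) * y := by rw [hj y]
      _ = (j * j) * (y * y) := by group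
      _ = j := by rw [hQ.z2, one_mul, hy]
  -- `U ⊔ V = closure {i, u}`
  have hgen : U ⊔ V = Subgroup.closure {i, u} := by
    apply le_antisymm
    · have hUc : U ≤ Subgroup.closure ({i, u} : Set Y) := by
        rw [H.gen hu hu1, Subgroup.zpowers_le]
        exact Subgroup.subset_closure (by simp)
      have hic : i ∈ Subgroup.closure ({i, u} : Set Y) := Subgroup.subset_closure (by simp)
      have huc : u ∈ Subgroup.closure ({i, u} : Set Y) := Subgroup.subset_closure (by simp)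
      have hkc : k ∈ Subgroup.closure ({i, u} : Set Y) := by
        rw [← hik]; exact mul_mem (mul_mem huc hic) (inv_mem huc)
      refine sup_le hUc ?_
      obtain ⟨nn, hnn, hV⟩ := H.conj
      obtain ⟨m, hm, hmn⟩ := H.all nn hnn
      have hV' : V = cj m U := by
        have h4 : nn = m * (m⁻¹ * nn) := by group
        rw [hV, h4, cj_mul, mem_normalizer_iff_cj.1 hmn]
      obtain ⟨x, hx, -, -, hx2⟩ := H.cosets (a := i) (b := k) (c := i * k) hiN hkN (mul_mem hiN hkN) (hn i hi hQ.i2)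
        (hn k hk hQ.j2) (hn _ hikJ hiksq) (by rw [e1]; exact hn _ (mul_mem h.mem hikJ) (sqj _ hiksq))
        (by rw [e2]; exact hn k hk hQ.j2) (by rw [e3]; exact hn _ (mul_mem h.mem hi) (sqj _ hQ.i2)) hm
      have hxc : x ∈ Subgroup.closure ({i, u} : Set Y) := by
        rcases hx with rfl | rfl | rfl | rfl
        · exact one_mem _
        · exact hic
        · exact hkc
        · exact mul_mem hic hkc
      have hV2 : V = cj x U := by
        have h4 : m = x * (x⁻¹ * m) := by group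
        have h5 : x⁻¹ * m ∈ Subgroup.normalizer (U : Set Y) := Nodes.ClsNorm.centralizer_le_normalizer' _ hx2
        rw [hV', h4, cj_mul, mem_normalizer_iff_cj.1 h5]
      rw [hV2]
      rintro _ ⟨v, hv, rfl⟩
      exact mul_mem (mul_mem hxc (hUc hv)) (inv_mem hxc)
    · rw [Subgroup.closure_le]
      have huL : u ∈ U ⊔ V := Subgroup.mem_sup_left hu
      rintro y (rfl | rfl)
      · -- `i⁻¹ k ∈ L`
        have h1 : y⁻¹ * k ∈ U ⊔ V := by
          rw [← hik]
          have h2 : y⁻¹ * u * y⁻¹⁻¹ ∈ U ⊔ V :=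
            (Subgroup.mem_normalizer_iff.1 (H.normL (H.NM (inv_mem hiN))) u).1 huL
          have h4 : y⁻¹ * (u * y * u⁻¹) = (y⁻¹ * u * y⁻¹⁻¹) * u⁻¹ := by group
          rw [h4]; exact mul_mem h2 (inv_mem huL)
        have h2 : k⁻¹ * (y * k) ∈ U ⊔ V := by
          have h4 : k⁻¹ * (y * k) = u * (y⁻¹ * k) * u⁻¹ := by
            rw [← hkk]
            have h5 : k⁻¹ * (u * k * u⁻¹) = (u * y * u⁻¹)⁻¹ * (u * k * u⁻¹) := by rw [hik]
            rw [h5]; group
          rw [h4]; exact mul_mem (mul_mem huL h1) (inv_mem huL)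
        rw [e3] at h2
        have h4 : j ∈ U ⊔ V := by
          rw [← sqj y hQ.i2]; exact mul_mem h2 h2
        exact (Subgroup.mul_mem_cancel_left _ h4).1 h2
      · exact huL
  have hSl : Sl (U ⊔ V) j i k u := ⟨hQ, hik, hkk, h3, hgen⟩
  rcases eq_or_comm hO (fun x _ => hj x) h.sl ⟨i, k, u, hSl⟩ hs hsL with h1 | h1
  · exact h1
  · exact absurd (h1 i hi k hSl.hj) hQ.not_comm

end main

end Cfsg.Agent.OddHalf.NI3.FThree

end

-- merged: Cfsg.Agent.OddHalf.NI3.FThree.B3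
section

/-!
# (F2'₃): kind `B₃`

* `St.levi_sn` : `⟨X b, X (-b)⟩` is subnormal in `C(z r)`;
* `St.eq_LL` : `J = ⟨X b, X (-b)⟩`, `|X b| = 3`.
-/

set_option autoImplicit false
set_option linter.unusedSectionVars false
set_option linter.dupNamespace false

namespace Cfsg.Agent.OddHalf.NI3.FThree

open Cfsg
open CoxeterSystem Cfsg.Agent.ChevalleyStructure.CoxeterGeom Cfsg.Agent.Tits.Roots Cfsg.Agent.Tits.Core
  Cfsg.Agent.Tits.RootComb Cfsg.Agent.Nodes.Comb Cfsg.Agent.Nodes.Reps Cfsg.Agent.Nodes.BNOf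
  Cfsg.Agent.Nodes.RGDLib Cfsg.Agent.Nodes.Chart Cfsg.Agent.Nodes.Coroot Cfsg.Agent.Nodes.FreeTorus
  Cfsg.Agent.Nodes.SubComb Cfsg.Agent.Nodes.Bruhat Cfsg.Agent.Nodes.StabComb Cfsg.Agent.Nodes.Perp
  Cfsg.Agent.Nodes.Sub Cfsg.Agent.Nodes.ClsSub
open Cfsg.Agent.OddHalf.NI.FTwo (R1 commute_cj mem_of_sq_mem cj_T cj_LL le_T_DD₂)

variable {I W Y : Type*} [Fintype I] [DecidableEq I] [Group W] [Fintype W] [Group Y] {M : CoxeterMatrix I}
  {cs : CoxeterSystem M W} {A : I → I → ℤ} {h : IsCartan M A} {p : ℕ} {T : Subgroup Y} {n : I → Y}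
  {X : (I → ℤ) → Subgroup Y} {R : Set (I → ℤ)} {Z : (I → ℤ) → Subgroup Y} {z : (I → ℤ) → Y}
  {J : Subgroup Y} {j : Y} {r : I → ℤ}

/-- the roots orthogonal to `r` in kind `B₃` -/
structure Fr (cs : CoxeterSystem M W) {A : I → I → ℤ} (h : IsCartan M A) (X : (I → ℤ) → Subgroup Y)
    (R : Set (I → ℤ)) (Z : (I → ℤ) → Subgroup Y) (r r' b : I → ℤ) : Prop where
  r'_mem : r' ∈ R
  rr' : form cs h r' r = 0
  b_root : IsRoot cs h b
  b_not : b ∉ R
  br : form cs h b r = 0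
  br' : form cs h b r' = 0
  perp : ∀ y, IsRoot cs h y → form cs h y r = 0 → y = r' ∨ y = -r' ∨ y = b ∨ y = -b
  zx : ∀ s ∈ R, Z s = X s
  ab : ∀ x ∈ X b, ∀ y ∈ X b, x * y = y * x

namespace St

/-- `p = 3` -/
theorem p_eq [Finite Y] (C : Cls cs h p T n X R Z z) (S : St cs h p T X R Z z r J j) : p = 3 := by
  have : Fact p.Prime := ⟨S.prime⟩
  have h1 : Nat.card (KK Z r) = 24 := by
    obtain ⟨i, k, d, hl⟩ := (S.cl r S.mem).pr.sl
    exact hl.card
  have hp : IsPGroup p (Z r) := (C.rgd.pgrp' (C.root r S.mem)).to_le (C.le r S.mem)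
  obtain ⟨m, hm⟩ := IsPGroup.iff_card.1 hp
  have h2 : Nat.card (Z r) ∣ Nat.card (KK Z r) := Subgroup.card_dvd_of_le le_sup_left
  have h3 : m ≠ 0 := by
    rintro rfl
    rw [pow_zero] at hm
    exact C.ne_bot r S.mem (Subgroup.eq_bot_of_card_eq _ hm)
  have h4 : p ∣ 24 := by
    rw [← h1]
    refine dvd_trans ?_ h2
    rw [hm]; exact dvd_pow_self p h3
  have h5 : p ∣ 2 ^ 3 * 3 := by norm_num; exact h4
  rcases (Nat.Prime.dvd_mul S.prime).1 h5 with h6 | h6
  · exact absurd ((Nat.prime_dvd_prime_iff_eq S.prime Nat.prime_two).1 (S.prime.dvd_of_dvd_pow h6)) S.odd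
  · exact (Nat.prime_dvd_prime_iff_eq S.prime Nat.prime_three).1 h6

/-- `|Z s| = 3` -/
theorem card_Z [Finite Y] (C : Cls cs h p T n X R Z z) (S : St cs h p T X R Z z r J j) {s : I → ℤ} (hs : s ∈ R) :
    Nat.card (Z s) = 3 := by
  have h0 := S.p_eq C
  have : Fact (Nat.Prime 3) := ⟨Nat.prime_three⟩
  have h1 : Nat.card (KK Z s) = 24 := by
    obtain ⟨i, k, d, hl⟩ := (S.cl s hs).pr.sl
    exact hl.card
  have hp : IsPGroup 3 (Z s) := by
    rw [← h0]; exact (C.rgd.pgrp' (C.root s hs)).to_le (C.le s hs)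
  obtain ⟨m, hm⟩ := IsPGroup.iff_card.1 hp
  have h2 : Nat.card (Z s) ∣ Nat.card (KK Z s) := Subgroup.card_dvd_of_le le_sup_left
  rw [hm, h1] at h2
  have h3 : m ≠ 0 := by
    rintro rfl
    rw [pow_zero] at hm
    exact C.ne_bot s hs (Subgroup.eq_bot_of_card_eq _ hm)
  have h4 : m < 2 := by
    by_contra h5
    push Not at h5
    have h6 : 3 ^ 2 ∣ 24 := (pow_dvd_pow 3 h5).trans h2
    norm_num at h6
  have h5 : m = 1 := by omega
  rw [hm, h5, pow_one]

theorem LL_le_cent (C : Cls cs h p T n X R Z z) (S : St cs h p T X R Z z r J j) {b : I → ℤ} (hb : IsRoot cs h b)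
    (hbr : form cs h b r = 0) : LL X b ≤ Subgroup.centralizer ({z r} : Set Y) :=
  sup_le (S.zr_comm C hb hbr) (S.zr_comm C hb.neg (by rw [form_neg_left, hbr, neg_zero]))

theorem T_le_cent (C : Cls cs h p T n X R Z z) (S : St cs h p T X R Z z r J j) :
    T ≤ Subgroup.centralizer ({z r} : Set Y) := fun t ht => mem_cent.2 (C.z_T r S.mem t ht).symm

theorem LL_le_GG' {b : I → ℤ} (hb : IsRoot cs h b) : LL X b ≤ GG cs h T X :=
  sup_le (X_le_GG hb) (X_le_GG hb.neg)

/-- a reflection-type statement: the elements of `N` centralising `z r` preserve `± b` -/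
theorem rep_b [Finite Y] (C : Cls cs h p T n X R Z z) (S : St cs h p T X R Z z r J j) {r' b : I → ℤ}
    (F : Fr cs h X R Z r r' b) {w : W} {k : Y} (hk : Rp cs C.rgd.nsys w k) (hkz : k * z r = z r * k) :
    rep cs h w b = b ∨ rep cs h w b = -b := by
  have hr := S.mem
  have hz1 : z (rep cs h w r) = z r := by
    rw [← Nodes.ClsNorm.conj_z C hk hr, hkz]; group
  have hwR : ∀ y, rep cs h w y ∈ R → y ∈ R := by
    intro y hy
    have := C.act _ hy w⁻¹
    rwa [rep_inv_apply] at this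
  have hwR' : ∀ y, rep cs h w⁻¹ y ∈ R → y ∈ R := by
    intro y hy
    have := C.act _ hy w
    rwa [rep_apply_inv] at this
  have hbR : rep cs h w b ∉ R := fun h1 => F.b_not (hwR b h1)
  have hnb : -b ∉ R := fun h1 => F.b_not (by rw [← neg_neg b]; exact Nodes.Perp.neg_mem C h1)
  have hR1 := C.act r hr w
  -- `w r` is `± r` or orthogonal to `r`
  have hcases : rep cs h w r = r ∨ rep cs h w r = -r ∨ form cs h (rep cs h w r) r = 0 := by
    by_contra hcon
    push Not at hcon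
    obtain ⟨c, hc, hc1⟩ := Z_ne_bot' C hR1
    have h1 := C.z_inv r hr _ (C.root _ hR1) hcon.1 hcon.2.1 hcon.2.2 c (C.le _ hR1 hc)
    have h2 := C.z_cent _ hR1 c hc
    rw [hz1] at h2
    rw [h2, mul_assoc, C.z_sq r hr, mul_one] at h1
    obtain ⟨m, hm⟩ := (C.rgd.pgrp' (C.root _ hR1)) ⟨c, C.le _ hR1 hc⟩
    have h3 : c ∈ (⊥ : Subgroup Y) := by
      refine mem_of_sq_mem (k := p ^ m) ((S.prime.odd_of_ne_two S.odd).pow) (by simpa only [_root_.SubmonoidClass.mk_pow, _root_.OneMemClass.coe_one] using congrArg Subtype.val hm) ?_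
      rw [Subgroup.mem_bot]
      nth_rewrite 1 [h1]
      exact inv_mul_cancel c
    exact hc1 (Subgroup.mem_bot.1 h3)
  have hb0 : form cs h (rep cs h w b) (rep cs h w r) = 0 := by rw [form_rep]; exact F.br
  have fin1 : form cs h (rep cs h w b) r = 0 → rep cs h w b = b ∨ rep cs h w b = -b := by
    intro h1
    rcases F.perp _ (F.b_root.act w) h1 with h2 | h2 | h2 | h2
    · exact absurd (h2 ▸ F.r'_mem) hbR
    · exact absurd (h2 ▸ Nodes.Perp.neg_mem C F.r'_mem) hbR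
    · exact Or.inl h2
    · exact Or.inr h2
  rcases hcases with h1 | h1 | h1
  · rw [h1] at hb0; exact fin1 hb0
  · rw [h1, form_neg_right, neg_eq_zero] at hb0; exact fin1 hb0
  · -- `w r = ± r'`
    have h2 : rep cs h w r = r' ∨ rep cs h w r = -r' := by
      rcases F.perp _ (C.root _ hR1) h1 with h2 | h2 | h2 | h2
      · exact Or.inl h2
      · exact Or.inr h2
      · exact absurd (h2 ▸ hR1) F.b_not
      · exact absurd (h2 ▸ hR1) hnb
    have h3 : form cs h b (rep cs h w r) = 0 := by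
      rcases h2 with h2 | h2
      · rw [h2]; exact F.br'
      · rw [h2, form_neg_right, F.br', neg_zero]
    have h4 : form cs h (rep cs h w⁻¹ b) r = 0 := by
      rw [form_rep_left, inv_inv]; exact h3
    rcases F.perp _ (F.b_root.act _) h4 with h5 | h5 | h5 | h5
    · exact absurd (hwR' b (h5 ▸ F.r'_mem)) F.b_not
    · exact absurd (hwR' b (h5 ▸ Nodes.Perp.neg_mem C F.r'_mem)) F.b_not
    · left
      have := congrArg (rep cs h w) h5
      rw [rep_apply_inv] at this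
      exact this.symm
    · right
      have := congrArg (rep cs h w) h5
      rw [rep_apply_inv, map_neg] at this
      exact neg_eq_iff_eq_neg.1 this.symm

/-- `⟨X b, X (-b)⟩` is normal in `C_GG(z r)` -/
theorem levi_norm [Finite Y] (C : Cls cs h p T n X R Z z) (S : St cs h p T X R Z z r J j) {r' b : I → ℤ}
    (F : Fr cs h X R Z r r' b) :
    GG cs h T X ⊓ Subgroup.centralizer ({z r} : Set Y) ≤ Subgroup.normalizer (LL X b : Set Y) := by
  have hr := S.mem
  have hb := F.b_root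
  rintro g ⟨hgG, hgz⟩
  have hS : ({z r} : Set Y) ⊆ T := by
    rintro _ rfl
    exact C.z_torus r hr
  obtain ⟨u, hu, w, k, hk, hkz, v, hv, rfl⟩ := Nodes.NormalForm.mem_centralizer C.rgd hS hgG hgz
  -- the root groups
  have hle : RGD.Sup (fun x => X x ⊓ Subgroup.centralizer ({z r} : Set Y)) (RGD.Pos cs h) ≤
      Subgroup.normalizer (LL X b : Set Y) := by
    refine RGD.Sup_le fun x hx => ?_
    have hxr : IsRoot cs h x := hx.1
    -- a member of `R` orthogonal to `b`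
    have hR : ∀ s ∈ R, form cs h b s = 0 → X s ≤ Subgroup.normalizer (LL X b : Set Y) := by
      intro s hs h0
      refine le_trans ?_ (Nodes.ClsNorm.centralizer_le_normalizer' _)
      intro a ha
      rw [Subgroup.mem_centralizer_iff]
      have ha' : a ∈ KK Z s := Subgroup.mem_sup_left (by rw [F.zx s hs]; exact ha)
      have h1 : LL X b ≤ Subgroup.centralizer ({a} : Set Y) := by
        refine sup_le (fun y hy => ?_) (fun y hy => ?_)
        · exact mem_cent.2 (X_cm_KK C hs hb h0 y hy a ha')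
        · exact mem_cent.2 (X_cm_KK C hs hb.neg (by rw [form_neg_left, h0, neg_zero]) y hy a ha')
      intro y hy
      exact mem_cent.1 (h1 hy)
    by_cases h1 : form cs h x r = 0
    · refine inf_le_left.trans ?_
      rcases F.perp x hxr h1 with rfl | rfl | rfl | rfl
      · exact hR _ F.r'_mem F.br'
      · exact hR _ (Nodes.Perp.neg_mem C F.r'_mem) (by rw [form_neg_right, F.br', neg_zero])
      · exact (le_sup_left : X x ≤ LL X x).trans Subgroup.le_normalizer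
      · exact (le_sup_right : X (-b) ≤ LL X b).trans Subgroup.le_normalizer
    · by_cases h2 : x = r
      · refine inf_le_left.trans ?_
        rw [h2]; exact hR r hr F.br
      by_cases h3 : x = -r
      · refine inf_le_left.trans ?_
        rw [h3]; exact hR _ (Nodes.Perp.neg_mem C hr) (by rw [form_neg_right, F.br, neg_zero])
      · rintro a ⟨ha, haz⟩
        have h4 := C.z_inv r hr x hxr h2 h3 h1 a ha
        have h5 : a * z r = z r * a := mem_cent.1 haz
        rw [← h5, mul_assoc, C.z_sq r hr, mul_one] at h4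
        obtain ⟨m, hm⟩ := (C.rgd.pgrp' hxr) ⟨a, ha⟩
        have h6 : a ∈ (⊥ : Subgroup Y) := by
          refine mem_of_sq_mem (k := p ^ m) ((S.prime.odd_of_ne_two S.odd).pow)
            (by simpa only [_root_.SubmonoidClass.mk_pow, _root_.OneMemClass.coe_one] using congrArg Subtype.val hm) ?_
          rw [Subgroup.mem_bot]
          nth_rewrite 1 [h4]
          exact inv_mul_cancel a
        rw [Subgroup.mem_bot.1 h6]; exact one_mem _
  refine mul_mem (mul_mem (hle hu) ?_) (hle hv)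
  rw [mem_normalizer_iff_cj, cj_LL C.rgd hk hb]
  have hkz' : k * z r = z r * k := mem_cent.1 hkz
  rcases S.rep_b C F hk hkz' with h1 | h1
  · rw [h1]
  · rw [h1]; unfold LL; rw [neg_neg, sup_comm]

/-- `⟨X b, X (-b)⟩` is subnormal in `C(z r)` -/
theorem levi_sn [Finite Y] (C : Cls cs h p T n X R Z z) (S : St cs h p T X R Z z r J j) {r' b : I → ℤ}
    (F : Fr cs h X R Z r r' b) : Sn (LL X b) (Subgroup.centralizer ({z r} : Set Y)) := by
  have h1 : Sn (LL X b) (GG cs h T X ⊓ Subgroup.centralizer ({z r} : Set Y)) :=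
    Sn.of_normal (le_inf (LL_le_GG' F.b_root) (S.LL_le_cent C F.b_root F.br)) (S.levi_norm C F)
  refine h1.trans (Sn.of_normal inf_le_right ?_)
  exact (le_inf S.norm Subgroup.le_normalizer).trans Subgroup.inf_normalizer_le_normalizer_inf

/-- `O₂(J) ≤ T ⟨X b, X (-b)⟩` -/
theorem QQ_le_T_LL [Finite Y] (C : Cls cs h p T n X R Z z) (S : St cs h p T X R Z z r J j) {r' b : I → ℤ}
    (F : Fr cs h X R Z r r' b) : QQ J j ≤ T ⊔ LL X b := by
  have h1 := le_T_DD₂ C S.mem F.r'_mem F.rr' S.ge (fun x hx y hy => S.comm x (QQ_le hx) y hy)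
    (fun x hx y hy => S.KK_comm C F.r'_mem F.rr' x (QQ_le hx) y hy)
  refine h1.trans (sup_le_sup_left (RGD.Sup_le fun y hy => ?_) _)
  have h2 := hy.2 r (Or.inl rfl)
  have h3 := hy.2 r' (Or.inr rfl)
  have h4 := form_pos cs h (C.root r' F.r'_mem).ne_zero
  rcases F.perp y hy.1 h2 with rfl | rfl | rfl | rfl
  · omega
  · rw [form_neg_left] at h3; omega
  · exact le_sup_left
  · exact le_sup_right

/-- the rank one group of `b` -/
theorem exists_rn [Finite Y] (C : Cls cs h p T n X R Z z) (S : St cs h p T X R Z z r J j) {r' b : I → ℤ}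
    (F : Fr cs h X R Z r r' b) (hne : ¬ ∀ q ∈ QQ J j, ∀ u ∈ X b, q * u = u * q) :
    ∃ N, Rn (T ⊔ LL X b) N (X b) (X (-b)) ∧ QQ J j ≤ N := by
  obtain rfl := S.p_eq C
  have : Fact (Nat.Prime 3) := ⟨Nat.prime_three⟩
  have hb := F.b_root
  set M := T ⊔ LL X b with hM
  set E := GG cs h T X ⊓ Subgroup.centralizer ({z r} : Set Y) with hE
  have hME : M ≤ E := le_inf (sup_le T_le_GG (LL_le_GG' hb)) (sup_le (S.T_le_cent C) (S.LL_le_cent C hb F.br))
  set N := P2 E ⊓ M with hN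
  have hN2 : IsPGroup 2 N := (P2_pgrp E).to_le inf_le_left
  have hNM : N ≤ M := inf_le_right
  have hnorm : M ≤ Subgroup.normalizer (N : Set Y) :=
    (le_inf (hME.trans (le_normalizer_P2 E)) Subgroup.le_normalizer).trans Subgroup.inf_normalizer_le_normalizer_inf
  have hQN : QQ J j ≤ N := by
    refine le_inf (le_P2 ((QQ_sn S.pr S.sn).restrict inf_le_right (le_inf S.ge ?_)) (QQ_pgrp S.pr))
      (S.QQ_le_T_LL C F)
    exact QQ_le.trans S.sn.1
  obtain ⟨nn, hnn, hconj, H⟩ := r1_root C.rgd hb F.ab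
  have hXM : X b ≤ M := le_sup_left.trans le_sup_right
  have hXb : X b ≠ ⊥ := Nodes.StdConn.X_ne_bot C hb
  have hXb' : (X b).subgroupOf M ≠ ⊥ := by
    rw [Ne, Subgroup.subgroupOf_eq_bot, disjoint_iff, inf_eq_left.2 hXM]
    exact hXb
  have hNn : (N.subgroupOf M).Normal := (Subgroup.normal_subgroupOf_iff_le_normalizer hNM).2 hnorm
  have hN2' : IsPGroup 2 (N.subgroupOf M) := hN2.comap_subtype
  have hBn : T ⊔ X b ≤ Subgroup.normalizer (X b : Set Y) :=
    sup_le (fun t ht => mem_normalizer_iff_cj.2 (C.rgd.tor _ hb t ht)) Subgroup.le_normalizer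
  have hXp : IsPGroup 3 (X b) := C.rgd.pgrp' hb
  obtain ⟨hall, hcard, hfour⟩ := two H hNn hN2' (by
    intro h1
    apply hne
    intro q hq u hu
    exact congrArg Subtype.val (h1 ⟨q, hNM (hQN hq)⟩ (hQN hq) ⟨u, hXM hu⟩ hu))
  have hNB : (N ⊓ Subgroup.centralizer (X b : Set Y)).subgroupOf M = N.subgroupOf M ⊓ (T ⊔ X b).subgroupOf M := by
    ext ⟨t, ht⟩
    rw [Subgroup.mem_inf, Subgroup.mem_subgroupOf, Subgroup.mem_subgroupOf, Subgroup.mem_subgroupOf, Subgroup.mem_inf]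
    refine and_congr_right fun htN => ⟨fun h1 => ?_, fun h1 => ?_⟩
    · have h2 : (⟨t, ht⟩ : M) ∈ Subgroup.normalizer ((X b).subgroupOf M : Set M) := by
        rw [Subgroup.mem_normalizer_iff]
        intro x
        have h3 := Nodes.ClsNorm.centralizer_le_normalizer' _ h1
        exact Subgroup.mem_normalizer_iff.1 h3 x
      exact mem_B_of_normalizes H hXb' h2
    · rw [Subgroup.mem_centralizer_iff]
      intro u hu
      exact (comm_of_normalizes hXp hN2 (hXM.trans hnorm) htN (hBn h1) u hu).symm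
  refine ⟨N, ?_, hQN⟩
  refine
    { UM := hXM
      VM := le_sup_right.trans le_sup_right
      NM := hNM
      two := hN2
      norm := hnorm
      card := ?_
      all := ?_
      four := ?_
      cent := ?_
      conj := ⟨nn, hnn, hconj.symm⟩
      normL := ?_ }
  · rw [← hcard]
    exact (Nat.card_congr (Subgroup.subgroupOfEquivOfLe hXM).toEquiv).symm
  · intro g hg
    obtain ⟨m, hm, hmg⟩ := hall ⟨g, hg⟩
    exact ⟨m, hm, hBn hmg⟩
  · rw [← hNB] at hfour
    have e1 : Nat.card ((N ⊓ Subgroup.centralizer (X b : Set Y)).subgroupOf M) =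
        Nat.card (N ⊓ Subgroup.centralizer (X b : Set Y) : Subgroup Y) :=
      Nat.card_congr (Subgroup.subgroupOfEquivOfLe (inf_le_left.trans hNM)).toEquiv
    have e2 : Nat.card (N.subgroupOf M) = Nat.card N := Nat.card_congr (Subgroup.subgroupOfEquivOfLe hNM).toEquiv
    rw [← e1, ← e2]; exact hfour
  · intro t ht htU v hv
    rw [← hconj] at hv
    obtain ⟨u, hu, rfl⟩ := hv
    have h1 := cent H hXb' hNn hN2' (t := ⟨t, hNM ht⟩) ht
      (fun u hu => Subtype.ext (htU u hu)) ⟨u, hXM hu⟩ hu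
    exact congrArg Subtype.val h1
  · refine sup_le (fun t ht => ?_) Subgroup.le_normalizer
    rw [mem_normalizer_iff_cj]
    change Nodes.Reps.cj t (LL X b) = LL X b
    unfold LL
    rw [cj_sup, C.rgd.tor _ hb t ht, C.rgd.tor _ hb.neg t ht]

/-- **`J = ⟨X b, X (-b)⟩`** -/
theorem eq_LL [Finite Y] (C : Cls cs h p T n X R Z z) (S : St cs h p T X R Z z r J j) {r' b : I → ℤ}
    (F : Fr cs h X R Z r r' b) (hne : ¬ ∀ q ∈ QQ J j, ∀ u ∈ X b, q * u = u * q) :
    J = LL X b ∧ Nat.card (X b) = 3 := by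
  obtain ⟨N, H, hQN⟩ := S.exists_rn C F hne
  refine ⟨eq_sup H S.core S.jc S.pr S.sn ?_ (S.levi_sn C F) hQN hne, H.card⟩
  exact sup_le (S.T_le_cent C) (S.LL_le_cent C F.b_root F.br)

end St

end Cfsg.Agent.OddHalf.NI3.FThree

end

-- merged: Cfsg.Agent.OddHalf.NI3.FThree.Bad
section

/-!
# (F2'₃): root groups commuting with `J`

* `St.X_comm` : `J` commutes with `X y`, `y` orthogonal to `r`, if `y ∈ R` or `y` is not orthogonal to some `s ∈ R`
  orthogonal to `r`;
* `St.comm_or_bad` : if `O₂(J)` does not commute with all `X y`, `y` orthogonal to `r`, there is a root `b ∉ R`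
  orthogonal to `r` and to all `s ∈ R` orthogonal to `r` with `X b` not commuting with `O₂(J)`.
-/

set_option autoImplicit false
set_option linter.unusedSectionVars false
set_option linter.dupNamespace false

namespace Cfsg.Agent.OddHalf.NI3.FThree

open Cfsg
open CoxeterSystem Cfsg.Agent.ChevalleyStructure.CoxeterGeom Cfsg.Agent.Tits.Roots Cfsg.Agent.Tits.Core
  Cfsg.Agent.Tits.RootComb Cfsg.Agent.Nodes.Comb Cfsg.Agent.Nodes.Reps Cfsg.Agent.Nodes.BNOf
  Cfsg.Agent.Nodes.RGDLib Cfsg.Agent.Nodes.Chart Cfsg.Agent.Nodes.Coroot Cfsg.Agent.Nodes.FreeTorus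
  Cfsg.Agent.Nodes.SubComb Cfsg.Agent.Nodes.Bruhat Cfsg.Agent.Nodes.StabComb Cfsg.Agent.Nodes.Perp
  Cfsg.Agent.Nodes.Sub Cfsg.Agent.Nodes.ClsSub
open Cfsg.Agent.OddHalf.NI.FTwo (commute_cj mem_of_sq_mem)

variable {I W Y : Type*} [Fintype I] [DecidableEq I] [Group W] [Fintype W] [Group Y] {M : CoxeterMatrix I}
  {cs : CoxeterSystem M W} {A : I → I → ℤ} {h : IsCartan M A} {p : ℕ} {T : Subgroup Y} {n : I → Y}
  {X : (I → ℤ) → Subgroup Y} {R : Set (I → ℤ)} {Z : (I → ℤ) → Subgroup Y} {z : (I → ℤ) → Y}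
  {J : Subgroup Y} {j : Y} {r : I → ℤ}

namespace St

/-- **Root groups commuting with `J`** -/
theorem X_comm [Finite Y] (C : Cls cs h p T n X R Z z) (S : St cs h p T X R Z z r J j) {y : I → ℤ}
    (hy : IsRoot cs h y) (h0 : form cs h y r = 0)
    (hyR : y ∈ R ∨ ∃ s ∈ R, form cs h s r = 0 ∧ form cs h y s ≠ 0) : ∀ a ∈ J, ∀ b ∈ X y, a * b = b * a := by
  have key : ∀ s ∈ R, form cs h s r = 0 → ∀ d ∈ X y, ∀ a ∈ J, ∀ b ∈ KK Z s,
      a * (d⁻¹ * b * d) = (d⁻¹ * b * d) * a := by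
    intro s hs hsr d hd a ha b hb
    have S' := S.cj C (X_le_GG hy hd) (fun k hk => X_cm_KK C S.mem hy h0 d hd k hk)
    have h1 := S'.KK_comm C hs hsr (d * a * d⁻¹) (conj_mem_cj.2 ha) b hb
    calc a * (d⁻¹ * b * d) = d⁻¹ * ((d * a * d⁻¹) * b) * d := by group
      _ = d⁻¹ * (b * (d * a * d⁻¹)) * d := by rw [h1]
      _ = (d⁻¹ * b * d) * a := by group
  have key1 : ∀ s ∈ R, form cs h s r = 0 → ∀ a ∈ J, ∀ b ∈ KK Z s, a * b = b * a := fun s hs hsr =>
    S.KK_comm C hs hsr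
  intro a ha b hb
  obtain ⟨k, hk⟩ := C.rgd.pgrp' hy ⟨b, hb⟩
  have hk' : b ^ p ^ k = 1 := congrArg Subtype.val hk
  have hodd : Odd (p ^ k) := (S.prime.odd_of_ne_two S.odd).pow
  have hcen : b ∈ Subgroup.centralizer {a} := by
    refine mem_of_sq_mem hodd hk' ?_
    by_cases hyR' : y ∈ R
    · have h1 := C.z_inv_self y hyR' b⁻¹ (inv_mem hb)
      have h2 := key1 y hyR' h0 a ha _ (Subgroup.mem_sup_left (T := Z (-y)) h1)
      have h3 := key1 y hyR' h0 a ha _ (C.z_mem y hyR')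
      have h4 := key y hyR' h0 b hb a ha _ (C.z_mem y hyR')
      have e : b * b = (z y * b⁻¹ * z y * b⁻¹)⁻¹ * z y * (b⁻¹ * z y * b) := by group
      rw [e]
      rw [Subgroup.mem_centralizer_singleton_iff]
      have c1 : Commute a (z y * b⁻¹ * z y * b⁻¹) := h2
      have c2 : Commute a (z y) := h3
      have c3 : Commute a (b⁻¹ * z y * b) := h4
      exact ((c1.inv_right.mul_right c2).mul_right c3).eq.symm
    · obtain ⟨s, hs, hsr, h5⟩ := hyR.resolve_left hyR'
      have hys : y ≠ s := fun e => hyR' (e ▸ hs)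
      have hys' : y ≠ -s := fun e => hyR' (e ▸ Nodes.Perp.neg_mem C hs)
      have h1 := C.z_inv s hs y hy hys hys' h5 b⁻¹ (inv_mem hb)
      rw [inv_inv] at h1
      have c2 : Commute a (z s) := key1 s hs hsr a ha _ (C.z_mem s hs)
      have c3 : Commute a (b⁻¹ * z s * b) := key s hs hsr b hb a ha _ (C.z_mem s hs)
      have e : b * b = z s * (b⁻¹ * z s * b) := by
        calc b * b = z s * b⁻¹ * z s * b := by rw [h1]
          _ = _ := by group
      rw [e, Subgroup.mem_centralizer_singleton_iff]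
      exact (c2.mul_right c3).eq.symm
  exact (Subgroup.mem_centralizer_singleton_iff.1 hcen).symm

/-- a root group orthogonal to `r` which does not commute with `O₂(J)` -/
theorem exists_bad [Finite Y] (C : Cls cs h p T n X R Z z) (S : St cs h p T X R Z z r J j)
    (H : ¬ ∀ q ∈ QQ J j, ∀ x, IsRoot cs h x → form cs h x r = 0 → ∀ u ∈ X x, q * u = u * q) :
    ∃ b, IsRoot cs h b ∧ b ∉ R ∧ form cs h b r = 0 ∧ (∀ s ∈ R, form cs h s r = 0 → form cs h b s = 0) ∧
      ¬ ∀ q ∈ QQ J j, ∀ u ∈ X b, q * u = u * q := by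
  by_contra hcon
  push Not at hcon
  apply H
  intro q hq x hx h0 u hu
  by_cases h1 : x ∈ R ∨ ∃ s ∈ R, form cs h s r = 0 ∧ form cs h x s ≠ 0
  · exact S.X_comm C hx h0 h1 q (QQ_le hq) u hu
  · push Not at h1
    exact hcon x hx h1.1 h0 h1.2 q hq u hu

/-- a root group orthogonal to `r` which does not commute with `J` -/
theorem exists_bad' [Finite Y] (C : Cls cs h p T n X R Z z) (S : St cs h p T X R Z z r J j)
    (H : ¬ ∀ q ∈ J, ∀ x, IsRoot cs h x → form cs h x r = 0 → ∀ u ∈ X x, q * u = u * q) :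
    ∃ b, IsRoot cs h b ∧ b ∉ R ∧ form cs h b r = 0 ∧ (∀ s ∈ R, form cs h s r = 0 → form cs h b s = 0) := by
  by_contra hcon
  push Not at hcon
  apply H
  intro q hq x hx h0 u hu
  by_cases h1 : x ∈ R ∨ ∃ s ∈ R, form cs h s r = 0 ∧ form cs h x s ≠ 0
  · exact S.X_comm C hx h0 h1 q hq u hu
  · push Not at h1
    obtain ⟨s, hs, hsr, hn⟩ := hcon x hx h1.1 h0
    exact absurd (h1.2 s hs hsr) hn

end St

/-- **the kind is `B₃`** if `O₂(J)` does not commute with all `X x`, `x` orthogonal to `r` -/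
theorem kind_B3 {Y : Type*} [Group Y] [Finite Y] {Om : Set (Subgroup Y)} {p : ℕ} {L : Subgroup Y}
    (C : Chart Om p L) {τ : Nodes.Chart.Ty} (hτ : C.IsTy τ) (ok : Cit.KindOk τ) {r : C.I → ℤ} {J : Subgroup Y} {j : Y}
    (S : St C.cs C.h p C.T C.X C.R C.Z C.z r J j)
    (H : ¬ ∀ q ∈ QQ J j, ∀ x, IsRoot C.cs C.h x → form C.cs C.h x r = 0 → ∀ u ∈ C.X x, q * u = u * q) :
    τ = .B 3 ∧ ∃ b, IsRoot C.cs C.h b ∧ b ∉ C.R ∧ form C.cs C.h b r = 0 ∧
      (∀ s ∈ C.R, form C.cs C.h s r = 0 → form C.cs C.h b s = 0) ∧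
      ¬ ∀ q ∈ QQ J j, ∀ u ∈ C.X b, q * u = u * q := by
  obtain ⟨b, hb, hbR, h0, h1, h2⟩ := S.exists_bad C.cls H
  exact ⟨(NI.FTwo.Comb.comb C hτ ok S.mem hb hbR h0 h1).1, b, hb, hbR, h0, h1, h2⟩

/-- in the other kinds all of `J` commutes with all `X x`, `x` orthogonal to `r` -/
theorem comm_of_ne_B3 {Y : Type*} [Group Y] [Finite Y] {Om : Set (Subgroup Y)} {p : ℕ} {L : Subgroup Y}
    (C : Chart Om p L) {τ : Nodes.Chart.Ty} (hτ : C.IsTy τ) (ok : Cit.KindOk τ) {r : C.I → ℤ} {J : Subgroup Y} {j : Y}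
    (S : St C.cs C.h p C.T C.X C.R C.Z C.z r J j) (hne : τ ≠ .B 3) :
    ∀ q ∈ J, ∀ x, IsRoot C.cs C.h x → form C.cs C.h x r = 0 → ∀ u ∈ C.X x, q * u = u * q := by
  by_contra H
  obtain ⟨b, hb, hbR, h0, h1⟩ := S.exists_bad' C.cls H
  exact hne (NI.FTwo.Comb.comb C hτ ok S.mem hb hbR h0 h1).1

end Cfsg.Agent.OddHalf.NI3.FThree

end

-- merged: Cfsg.Agent.OddHalf.NI3.FThree.Pos
section

/-!
# (F2'₃): the chart of type `B₃`

`exists_frame` : the frame `r, r', b` of a chart of kind `B₃`; `pos3` : the structure `PosB3` over `F₃`.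
-/

set_option autoImplicit false
set_option linter.unusedSectionVars false
set_option linter.dupNamespace false

namespace Cfsg.Agent.OddHalf.NI3.FThree

open Cfsg
open CoxeterSystem Cfsg.Agent.ChevalleyStructure.CoxeterGeom Cfsg.Agent.Tits.Roots Cfsg.Agent.Tits.Core
  Cfsg.Agent.Tits.RootComb Cfsg.Agent.Nodes.Comb Cfsg.Agent.Nodes.Reps Cfsg.Agent.Nodes.BNOf
  Cfsg.Agent.Nodes.RGDLib Cfsg.Agent.Nodes.Chart Cfsg.Agent.Nodes.Coroot Cfsg.Agent.Nodes.FreeTorus
  Cfsg.Agent.Nodes.SubComb Cfsg.Agent.Nodes.Bruhat Cfsg.Agent.Nodes.StabComb Cfsg.Agent.Nodes.Perp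
  Cfsg.Agent.Nodes.Sub Cfsg.Agent.Nodes.ClsSub
open Cfsg.Agent.OddHalf.NI.FTwo (R1 commute_cj mem_of_sq_mem cj_T cj_LL le_T_DD₂ X_comm_self exists_refl_rep zprod
  PosB3 ChartB3)

/-- the frame of a bad root -/
theorem exists_frame {Y : Type*} [Group Y] {Om : Set (Subgroup Y)} {p : ℕ} {L : Subgroup Y}
    (C : Chart Om p L) {τ : Nodes.Chart.Ty} (hτ : C.IsTy τ) (ok : Cit.KindOk τ)
    (zx : (∀ r ∈ C.R, C.Z r = C.X r) ∨ ∃ n, τ = .C n) {r b : C.I → ℤ} (hr : r ∈ C.R)
    (hb : IsRoot C.cs C.h b) (hbR : b ∉ C.R) (hbr : form C.cs C.h b r = 0)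
    (hbo : ∀ s ∈ C.R, form C.cs C.h s r = 0 → form C.cs C.h b s = 0) :
    τ = .B 3 ∧ ∃ r', Fr C.cs C.h C.X C.R C.Z r r' b ∧
      ∃ w, r' = r - cpr C.cs C.h r (rep C.cs C.h w b) • rep C.cs C.h w b ∧
        form C.cs C.h r (rep C.cs C.h w b) ≠ 0 := by
  obtain ⟨rfl, r', hr', hrr', hr'1, hr'2, hperp, ⟨w₀, hw₀, hw₀n⟩, s₀, hs₀, hs₀b⟩ :=
    NI.FTwo.Comb.comb C hτ ok hr hb hbR hbr hbo
  have hZX : ∀ s ∈ C.R, C.Z s = C.X s := by
    rcases zx with h1 | ⟨n, h1⟩
    · exact h1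
    · exact absurd h1 (by simp)
  exact ⟨rfl, r', ⟨hr', hrr', hb, hbR, hbr, hbo r' hr' hrr', hperp, hZX, X_comm_self C.cls hb hbR hs₀ hs₀b⟩,
    w₀, hw₀, hw₀n⟩

variable {N : Type*} [Group N] {Om : Set (Subgroup N)} {p : ℕ}

/-- **The chart of type `B₃` over `F₃`** -/
theorem pos3 [Finite N] (C : Chart Om p (⊤ : Subgroup N)) {τ : Nodes.Chart.Ty} (hτ : C.IsTy τ)
    (ok : Cit.KindOk τ) (zx : (∀ r ∈ C.R, C.Z r = C.X r) ∨ ∃ n, τ = .C n) {r b : C.I → ℤ} {J : Subgroup N} {j : N}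
    (S : St C.cs C.h p C.T C.X C.R C.Z C.z r J j)
    (hb : IsRoot C.cs C.h b) (hbR : b ∉ C.R) (hbr : form C.cs C.h b r = 0)
    (hbo : ∀ s ∈ C.R, form C.cs C.h s r = 0 → form C.cs C.h b s = 0)
    (hne : ¬ ∀ q ∈ QQ J j, ∀ u ∈ C.X b, q * u = u * q) :
    ∃ r', PosB3 C (ZMod 3) j (C.z r) J (KK C.Z r) (KK C.Z r') r r' b := by
  have hr := S.mem
  obtain ⟨rfl, r', F, w₀, hw₀, hw₀n⟩ := exists_frame C hτ ok zx hr hb hbR hbr hbo
  obtain ⟨hJb, hcb⟩ := S.eq_LL C.cls F hne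
  obtain rfl := S.p_eq C.cls
  have hr' := F.r'_mem
  have hrr' := F.rr'
  have hperp := F.perp
  have hZX := F.zx
  have hbab := F.ab
  have hbr' := F.br'
  have hzne : ∀ s ∈ C.R, C.z s ≠ 1 := fun s hs => (S.cl s hs).pr.t3.z_ne
  have hzo : ∀ s ∈ C.R, orderOf (C.z s) = 2 := fun s hs => (S.cl s hs).pr.ord
  have hj2 : orderOf j = 2 := S.pr.ord
  have hjcen : ∀ g : N, g * j * g⁻¹ = j := by
    intro g
    rw [S.jc g]; group
  have hj : j ∈ Subgroup.center N := Subgroup.mem_center_iff.2 fun g => S.jc g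
  have hKL : ∀ s ∈ C.R, KK C.Z s = LL C.X s := by
    intro s hs
    unfold KK LL
    rw [hZX s hs, hZX _ (Nodes.Perp.neg_mem C.cls hs)]
  -- the product of the involutions
  have hzp : C.z r * C.z r' = j := by
    obtain ⟨k, hk⟩ := exists_rp C.cs C.cls.rgd.nsys w₀
    have hs : rep C.cs C.h w₀⁻¹ r ∈ C.R := C.cls.act r hr _
    have h1 : form C.cs C.h (rep C.cs C.h w₀⁻¹ r) b ≠ 0 := by
      rw [form_rep_left, inv_inv]; exact hw₀n
    have h2 := zprod C.cls hb hbR hs h1 (j := j)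
      (fun x _ => (S.jc x).symm)
      (fun t ht htt ht1 => by
        rw [← hJb] at ht
        rcases S.pr.t3.cases t ht with h5 | h5 | h5 | h5 | h5
        · exact absurd (h5.symm.trans htt) S.pr.t3.z_ne
        · exact absurd h5 ht1
        · exact h5
        · rw [htt, one_mul] at h5; exact absurd h5 ht1
        · rw [htt, one_mul] at h5; exact h5)
    have h3 : rep C.cs C.h w₀⁻¹ r - cpr C.cs C.h (rep C.cs C.h w₀⁻¹ r) b • b = rep C.cs C.h w₀⁻¹ r' := by
      have h4 : cpr C.cs C.h (rep C.cs C.h w₀⁻¹ r) b = cpr C.cs C.h r (rep C.cs C.h w₀ b) := by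
        have h5 := cpr_rep C.cs C.h w₀ (rep C.cs C.h w₀⁻¹ r) hb
        rw [rep_apply_inv] at h5
        exact h5.symm
      rw [h4, hw₀, map_sub, map_smul, rep_inv_apply]
    rw [h3] at h2
    have h4 := congrArg (fun x => k * x * k⁻¹) h2
    simp only [hjcen] at h4
    rw [← h4]
    have h5 := Nodes.ClsNorm.conj_z C.cls hk hs
    have h6 := Nodes.ClsNorm.conj_z C.cls hk (C.cls.act r' hr' w₀⁻¹)
    rw [rep_apply_inv] at h5 h6
    rw [← h5, ← h6]; group
  have hzz' : C.z r * C.z r = 1 := C.cls.z_sq r hr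
  have hzr' : C.z r' = j * C.z r := by
    have h1 : C.z r' = C.z r * j := by rw [← hzp, ← mul_assoc, hzz', one_mul]
    rw [h1, S.jc]
  -- all roots outside `R` are conjugate to `b`
  have hshort : ∀ y, IsRoot C.cs C.h y → y ∉ C.R → ∃ w, y = rep C.cs C.h w b := by
    intro y hy hyR
    rcases NI.FTwo.Comb.comb_short C hτ hb hbR hy hyR with rfl | rfl | ⟨s, hs, rfl⟩
    · exact ⟨1, by rw [map_one, Module.End.one_apply]⟩
    · obtain ⟨w, hw⟩ := exists_refl_rep (cs := C.cs) (h := C.h) hb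
      refine ⟨w, ?_⟩
      rw [hw, cpr_self C.cs C.h hb]; module
    · obtain ⟨w, hw⟩ := exists_refl_rep (cs := C.cs) (h := C.h) (C.cls.root s hs)
      exact ⟨w, (hw b).symm⟩
  have hXR : ∀ s ∈ C.R, ∀ a ∈ C.X s, ∀ a' ∈ C.X s, a * a' = a' * a := by
    intro s hs a ha a' ha'
    refine C.cls.cent s hs s (C.cls.root s hs) ?_ a ha a' (by rw [hZX s hs]; exact ha')
    exact (form_pos C.cs C.h (C.cls.root s hs).ne_zero).le
  have hcR : ∀ s ∈ C.R, Nat.card (C.X s) = 3 := by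
    intro s hs
    rw [← hZX s hs]
    exact S.card_Z C.cls hs
  refine ⟨r', ?_⟩
  refine
    { ty := hτ
      odd := by rw [ZMod.card]; decide
      charP := inferInstance
      r_mem := hr
      r'_mem := hr'
      b_root := hb
      b_not := hbR
      rr' := by rw [form_comm]; exact hrr'
      br := hbr
      br' := hbr'
      perp := hperp
      short := fun y hy hyR => NI.FTwo.Comb.comb_short C hτ hb hbR hy hyR
      zx := hZX
      sl := ?_
      card := ?_
      comm := ?_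
      A_eq := hJb
      B_eq := hKL r hr
      A'_eq := hKL r' hr'
      zr := rfl
      zr' := hzr'
      zz := ?_
      c_mem := ?_
      c_center := hj
      c_order := hj2
      d_order := hzo r hr }
  · intro y hy
    by_cases hyR : y ∈ C.R
    · rw [← hKL y hyR]; exact (S.cl y hyR).pr.iso
    · obtain ⟨w, rfl⟩ := hshort y hy hyR
      obtain ⟨k, hk⟩ := exists_rp C.cs C.cls.rgd.nsys w
      rw [← cj_LL C.cls.rgd hk hb, ← hJb]
      exact (S.pr.cj k).iso
  · intro y hy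
    rw [ZMod.card]
    by_cases hyR : y ∈ C.R
    · exact hcR y hyR
    · obtain ⟨w, rfl⟩ := hshort y hy hyR
      obtain ⟨k, hk⟩ := exists_rp C.cs C.cls.rgd.nsys w
      rw [← C.cls.rgd.conj_rp hk hb]
      exact (Subgroup.card_map_of_injective (MulAut.conj k).injective).trans hcb
  · intro y hy
    by_cases hyR : y ∈ C.R
    · exact hXR y hyR
    · obtain ⟨w, rfl⟩ := hshort y hy hyR
      obtain ⟨k, hk⟩ := exists_rp C.cs C.cls.rgd.nsys w
      rw [← C.cls.rgd.conj_rp hk hb]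
      exact (commute_cj k).2 hbab
  · intro s hs s' hs' hss'
    obtain ⟨w, rfl⟩ := C.trans r hr s hs
    obtain ⟨k, hk⟩ := exists_rp C.cs C.cls.rgd.nsys w
    have h1 : rep C.cs C.h w⁻¹ s' ∈ C.R := C.cls.act s' hs' _
    have h2 : form C.cs C.h (rep C.cs C.h w⁻¹ s') r = 0 := by
      rw [form_rep_left, inv_inv, form_comm]; exact hss'
    have h3 : C.z (rep C.cs C.h w⁻¹ s') = C.z r' := by
      rcases hperp _ (C.cls.root _ h1) h2 with h4 | h4 | h4 | h4
      · rw [h4]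
      · rw [h4, C.cls.z_neg r' hr']
      · exact absurd (h4 ▸ h1) hbR
      · exact absurd (by rw [← neg_neg b, ← h4]; exact Nodes.Perp.neg_mem C.cls h1) hbR
    have h5 := Nodes.ClsNorm.conj_z C.cls hk hr
    have h6 := Nodes.ClsNorm.conj_z C.cls hk h1
    rw [rep_apply_inv, h3] at h6
    rw [← h5, ← h6]
    calc k * C.z r * k⁻¹ * (k * C.z r' * k⁻¹) = k * (C.z r * C.z r') * k⁻¹ := by group
      _ = j := by rw [hzp, hjcen]
  · intro y hy hyR
    obtain ⟨w, rfl⟩ := hshort y hy hyR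
    obtain ⟨k, hk⟩ := exists_rp C.cs C.cls.rgd.nsys w
    rw [← cj_LL C.cls.rgd hk hb, ← hJb, ← hjcen k]
    exact conj_mem_cj.2 S.pr.mem

end Cfsg.Agent.OddHalf.NI3.FThree

end

-- merged: Cfsg.Agent.OddHalf.NI3.FThree.C1
section

/-!
# (F2'_3), part (c1): charts over `F₃` whose classical root groups form a simply laced system

`r ∈ R`, `Q` a subgroup of `⟨X x⟩` which centralises `KK Z r` and all `X x`, `x` orthogonal to `r`.  Then `Q ≤ T`, and if
`|Z s| = 3`, `X s = Z s` for `s ∈ R` and `R` is simply laced then `Q` is commutative (`comm_of_perp`).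
-/

set_option autoImplicit false
set_option linter.unusedSectionVars false
set_option linter.dupNamespace false

namespace Cfsg.Agent.OddHalf.NI3.FThree

open Cfsg
open CoxeterSystem Cfsg.Agent.ChevalleyStructure.CoxeterGeom Cfsg.Agent.Tits.Roots Cfsg.Agent.Tits.Core
  Cfsg.Agent.Tits.RootComb Cfsg.Agent.Nodes.Comb Cfsg.Agent.Nodes.Reps Cfsg.Agent.Nodes.BNOf
  Cfsg.Agent.Nodes.RGDLib Cfsg.Agent.Nodes.Chart Cfsg.Agent.Nodes.Coroot Cfsg.Agent.Nodes.FreeTorus
  Cfsg.Agent.Nodes.SubComb Cfsg.Agent.Nodes.Bruhat Cfsg.Agent.Nodes.StabComb Cfsg.Agent.Nodes.Perp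
  Cfsg.Agent.Nodes.Sub Cfsg.Agent.Nodes.ClsSub Cfsg.Agent.Nodes

variable {I W Y : Type*} [Fintype I] [DecidableEq I] [Group W] [Fintype W] [Group Y] {M : CoxeterMatrix I}
  {cs : CoxeterSystem M W} {A : I → I → ℤ} {h : IsCartan M A} {p : ℕ} {T : Subgroup Y} {n : I → Y}
  {X : (I → ℤ) → Subgroup Y} {R : Set (I → ℤ)} {Z : (I → ℤ) → Subgroup Y} {z : (I → ℤ) → Y}

/-! ### The torus -/

/-- An element of `L_J` normalising the root groups of `L_J` lies in the torus. -/
theorem mem_T_of_LJ (D : RGD cs h p T n X) (J : Set I) {g : Y} (hg : g ∈ LJ cs h T X J)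
    (hn : ∀ x ∈ RootsJ cs h J, cj g (X x) = X x) : g ∈ T := by
  have : DecidablePred (· ∈ J) := Classical.decPred _
  let f : J ↪ I := Function.Embedding.subtype _
  have hfr : Set.range f = J := Subtype.range_coe
  let cs' : CoxeterSystem (leviMatrix f M) (leviMatrix f M).Group := (leviMatrix f M).toCoxeterSystem
  have hfin : Finite (leviMatrix f M).Group :=
    (levi_subSys (cs := cs) (h := h) f).finite cs' (levi_isCartan f h)
  let _ : Fintype (leviMatrix f M).Group := Fintype.ofFinite _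
  have D' := rgd_levi D f cs'
  rw [← hfr, ← GG_levi (cs := cs) (h := h) f cs' T X] at hg
  have h1 : g ∈ HH cs' (levi_isCartan f h) (fun c => X (iota (fun j => sr (f j)) c)) := by
    rw [mem_HH]
    intro c hc
    rw [map_one, Module.End.one_apply]
    apply hn
    have h2 := (mem_RootsJ_range_iff (cs := cs) (h := h) f cs').2 ⟨c, hc, rfl⟩
    rwa [hfr] at h2
  rw [← Nodes.CommonNorm.HH_inf_GG D']
  exact ⟨h1, hg⟩

/-- An element of `GG` centralising `KK Z r` and normalising all `X x`, `x` orthogonal to `r`, lies in the torus. -/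
theorem mem_T_of_perp [Finite Y] (C : Cls cs h p T n X R Z z) {r : I → ℤ} (hr : r ∈ R) {q : Y}
    (hq : q ∈ GG cs h T X) (hqr : ∀ y ∈ KK Z r, q * y = y * q)
    (hqp : ∀ x, IsRoot cs h x → form cs h x r = 0 → cj q (X x) = X x) : q ∈ T := by
  obtain ⟨w, hw⟩ := Nodes.ClsNorm.exists_dominant (cs := cs) (h := h) r
  obtain ⟨k, hk⟩ := exists_rp cs C.rgd.nsys w
  have hkG : k ∈ GG cs h T X := NN_le_GG C.rgd ⟨_, hk⟩
  have hq' : k * q * k⁻¹ ∈ GG cs h T X := mul_mem (mul_mem hkG hq) (inv_mem hkG)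
  have hc : ∀ x ∈ Subgroup.zpowers (k * q * k⁻¹), ∀ y ∈ KK Z (rep cs h w r), x * y = y * x := by
    have h1 : Subgroup.zpowers (k * q * k⁻¹) ≤ Subgroup.centralizer (KK Z (rep cs h w r) : Set Y) := by
      rw [Subgroup.zpowers_le, Subgroup.mem_centralizer_iff]
      intro y hy
      rw [← Nodes.Perp.conj_KK C hk hr] at hy
      have h2 := hqr _ (mem_cj.1 hy)
      calc y * (k * q * k⁻¹) = k * ((k⁻¹ * y * k) * q) * k⁻¹ := by group
        _ = k * (q * (k⁻¹ * y * k)) * k⁻¹ := by rw [h2]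
        _ = k * q * k⁻¹ * y := by group
    intro x hx y hy
    exact (Subgroup.mem_centralizer_iff.1 (h1 hx) y hy).symm
  have h1 := NI.FTwo.le_T_DD C (C.act r hr w) (K := Subgroup.zpowers (k * q * k⁻¹))
    (by rw [Subgroup.zpowers_le]; exact hq') hc (Subgroup.mem_zpowers _)
  rw [← NI.FTwo.LJ_orth_eq hw] at h1
  have h2 : k * q * k⁻¹ ∈ T := by
    refine mem_T_of_LJ C.rgd _ h1 fun x hx => ?_
    have hxf := (Nodes.ClsNorm.mem_RootsJ_orth_iff hw hx.1).1 hx
    have h3 := hqp (rep cs h w⁻¹ x) (hx.1.act _) (by rw [form_rep_left, inv_inv]; exact hxf)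
    have h4 : cj k (X (rep cs h w⁻¹ x)) = X x := by
      rw [C.rgd.conj_rp hk (hx.1.act _), rep_apply_inv]
    rw [← h4, cj_mul, cj_mul, cj_inv_cj, h3]
  have h3 := mem_normalizer_iff_cj.1 hk.mem_normalizer
  rw [← h3, mem_cj] at h2
  have e : k⁻¹ * (k * q * k⁻¹) * k = q := by group
  rwa [e] at h2

/-- `q` commutes with the elements of `H` -/
def Cq (q : Y) (H : Subgroup Y) : Prop := ∀ y ∈ H, q * y = y * q

theorem Cq.sup {q : Y} {H K : Subgroup Y} (h1 : Cq q H) (h2 : Cq q K) : Cq q (H ⊔ K) := by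
  have h3 : H ⊔ K ≤ Subgroup.centralizer {q} := by
    refine sup_le (fun y hy => ?_) (fun y hy => ?_)
    · rw [Subgroup.mem_centralizer_singleton_iff]; exact (h1 y hy).symm
    · rw [Subgroup.mem_centralizer_singleton_iff]; exact (h2 y hy).symm
  intro y hy
  exact (Subgroup.mem_centralizer_singleton_iff.1 (h3 hy)).symm

theorem Cq.mono {q : Y} {H K : Subgroup Y} (h1 : Cq q H) (hle : K ≤ H) : Cq q K := fun y hy => h1 y (hle hy)

theorem Cq.conj {q m : Y} {H : Subgroup Y} (h1 : Cq q H) (hm : q * m = m * q) : Cq q (cj m H) := by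
  intro y hy
  have h2 := h1 _ (mem_cj.1 hy)
  have hm' : q * m⁻¹ = m⁻¹ * q := by
    have : m⁻¹ * (q * m) * m⁻¹ = m⁻¹ * (m * q) * m⁻¹ := by rw [hm]
    have e1 : m⁻¹ * (q * m) * m⁻¹ = m⁻¹ * q := by group
    have e2 : m⁻¹ * (m * q) * m⁻¹ = q * m⁻¹ := by group
    rw [e1, e2] at this
    exact this.symm
  calc q * y = q * m * (m⁻¹ * y * m) * m⁻¹ := by group
    _ = m * (q * (m⁻¹ * y * m)) * m⁻¹ := by rw [hm]; group
    _ = m * (m⁻¹ * y * m) * (q * m⁻¹) := by rw [h2]; group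
    _ = y * q := by rw [hm']; group

/-- An element of the torus centralising `Z s` centralises `Z (-s)`. -/
theorem Cq.opp [Finite Y] (C : Cls cs h p T n X R Z z) (hp : p.Prime) (hodd : p ≠ 2) {s : I → ℤ} (hs : s ∈ R)
    {q : Y} (hq : q ∈ T) (hc : Cq q (Z s)) : Cq q (Z (-s)) := by
  intro b hb
  by_cases hb1 : b = 1
  · subst hb1; rw [mul_one, one_mul]
  obtain ⟨a, ha, c, hc', w, hm, -⟩ := exists_refl_KK C hp hodd hs hb hb1
  have h1 : Rp cs C.rgd.nsys w (q * (a * b * c) * q⁻¹) := by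
    have := ((rp_of_mem (cs := cs) (hN := C.rgd.nsys) hq).mul hm).mul (rp_of_mem (cs := cs) (hN := C.rgd.nsys) (inv_mem hq))
    rwa [one_mul, mul_one] at this
  have h2 := hm.unique h1
  have e : (a * b * c)⁻¹ * (q * (a * b * c) * q⁻¹) = c⁻¹ * (b⁻¹ * (q * b * q⁻¹)) * c := by
    have e1 : q * a = a * q := hc a ha
    have e2 : c * q⁻¹ = q⁻¹ * c := by
      have e3 : q * c = c * q := hc c hc'
      calc c * q⁻¹ = q⁻¹ * (q * c) * q⁻¹ := by group
        _ = q⁻¹ * (c * q) * q⁻¹ := by rw [e3]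
        _ = q⁻¹ * c := by group
    calc (a * b * c)⁻¹ * (q * (a * b * c) * q⁻¹)
        = c⁻¹ * b⁻¹ * a⁻¹ * (q * a) * b * (c * q⁻¹) := by group
      _ = c⁻¹ * b⁻¹ * a⁻¹ * (a * q) * b * (q⁻¹ * c) := by rw [e1, e2]
      _ = c⁻¹ * (b⁻¹ * (q * b * q⁻¹)) * c := by group
  rw [e] at h2
  -- a `p`-element of the torus
  have h3 : b⁻¹ * (q * b * q⁻¹) ∈ X (-s) := by
    refine mul_mem (inv_mem (C.le _ (_root_.Cfsg.Agent.Nodes.Perp.neg_mem C hs) hb)) ?_
    have h4 := C.tor _ (_root_.Cfsg.Agent.Nodes.Perp.neg_mem C hs) q hq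
    have h5 : q * b * q⁻¹ ∈ cj q (Z (-s)) := conj_mem_cj.2 hb
    rw [h4] at h5
    exact C.le _ (_root_.Cfsg.Agent.Nodes.Perp.neg_mem C hs) h5
  have hone : c⁻¹ * (b⁻¹ * (q * b * q⁻¹)) * c = 1 := by
    have : Fact p.Prime := ⟨hp⟩
    obtain ⟨j, hj⟩ := (C.rgd.pgrp' (C.root s hs).neg) ⟨_, h3⟩
    have hj' : (b⁻¹ * (q * b * q⁻¹)) ^ p ^ j = 1 := congrArg Subtype.val hj
    have h6 : (c⁻¹ * (b⁻¹ * (q * b * q⁻¹)) * c) ^ p ^ j = 1 := by
      have := conj_pow (i := p ^ j) (a := c⁻¹) (b := b⁻¹ * (q * b * q⁻¹))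
      rw [inv_inv] at this
      rw [this, hj']; group
    have h7 : orderOf (c⁻¹ * (b⁻¹ * (q * b * q⁻¹)) * c) ∣ p ^ j := orderOf_dvd_of_pow_eq_one h6
    have h8 : orderOf (c⁻¹ * (b⁻¹ * (q * b * q⁻¹)) * c) ∣ Nat.card T := by
      have := orderOf_dvd_natCard (⟨_, h2⟩ : T)
      rwa [← Subgroup.orderOf_coe] at this
    have h9 : Nat.Coprime (Nat.card T) (p ^ j) := Nat.Coprime.pow_right j C.rgd.tcop
    have h10 := Nat.dvd_gcd h8 h7
    rw [h9] at h10
    exact orderOf_eq_one_iff.1 (Nat.dvd_one.1 h10)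
  have h4 : b⁻¹ * (q * b * q⁻¹) = 1 := by
    have e : b⁻¹ * (q * b * q⁻¹) = c * (c⁻¹ * (b⁻¹ * (q * b * q⁻¹)) * c) * c⁻¹ := by group
    rw [e, hone]; group
  have h5 : q * b * q⁻¹ = b := by
    have := inv_mul_eq_one.1 h4
    exact this.symm
  calc q * b = (q * b * q⁻¹) * q := by group
    _ = b * q := by rw [h5]

theorem Cq.kk [Finite Y] (C : Cls cs h p T n X R Z z) (hp : p.Prime) (hodd : p ≠ 2) {s : I → ℤ} (hs : s ∈ R)
    {q : Y} (hq : q ∈ T) (hc : Cq q (Z s)) : Cq q (KK Z s) := hc.sup (hc.opp C hp hodd hs hq)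

/-! ### Moving along reflections -/

/-- if `q` commutes with `LL X t` then it commutes with `X x` iff with `X (s_t x)` -/
theorem Cq.refl_LL (C : Cls cs h p T n X R Z z) {t : I → ℤ} (ht : IsRoot cs h t) {q : Y} (hq : Cq q (LL X t))
    {s : I → ℤ} (hs : s ∈ R) (hc : Cq q (Z s)) : Cq q (Z (s - cpr cs h s t • t)) := by
  obtain ⟨b, hb, hb1⟩ : ∃ b ∈ X (-t), b ≠ 1 := by
    by_contra hcon
    push Not at hcon
    exact Nodes.StdConn.X_ne_bot C ht.neg (by rw [Subgroup.eq_bot_iff_forall]; exact hcon)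
  obtain ⟨a, ha, c, hc', w, hm, hw⟩ := exists_refl_LL C.rgd ht hb hb1
  rw [← hw, ← Nodes.ClsNorm.conj_Z C hm hs]
  refine hc.conj (hq _ (mul_mem (mul_mem ?_ ?_) ?_))
  · exact (le_sup_left : X t ≤ LL X t) ha
  · exact (le_sup_right : X (-t) ≤ LL X t) hb
  · exact (le_sup_left : X t ≤ LL X t) hc'

theorem Cq.refl_KK (C : Cls cs h p T n X R Z z) (hp : p.Prime) (hodd : p ≠ 2) {t : I → ℤ} (ht : t ∈ R) {q : Y}
    (hq : Cq q (KK Z t)) {s : I → ℤ} (hs : s ∈ R) (hc : Cq q (Z s)) : Cq q (Z (s - cpr cs h s t • t)) := by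
  obtain ⟨b, hb, hb1⟩ := Z_ne_bot' C (_root_.Cfsg.Agent.Nodes.Perp.neg_mem C ht)
  obtain ⟨a, ha, c, hc', w, hm, hw⟩ := exists_refl_KK C hp hodd ht hb hb1
  rw [← hw, ← Nodes.ClsNorm.conj_Z C hm hs]
  refine hc.conj (hq _ (mul_mem (mul_mem ?_ ?_) ?_))
  · exact (le_sup_left : Z t ≤ KK Z t) ha
  · exact (le_sup_right : Z (-t) ≤ KK Z t) hb
  · exact (le_sup_left : Z t ≤ KK Z t) hc'

theorem Cq.refl_X (C : Cls cs h p T n X R Z z) (hp : p.Prime) (hodd : p ≠ 2) {t : I → ℤ} (ht : t ∈ R) {q : Y}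
    (hq : Cq q (KK Z t)) {x : I → ℤ} (hx : IsRoot cs h x) (hc : Cq q (X (x - cpr cs h x t • t))) :
    Cq q (X x) := by
  obtain ⟨b, hb, hb1⟩ := Z_ne_bot' C (_root_.Cfsg.Agent.Nodes.Perp.neg_mem C ht)
  obtain ⟨a, ha, c, hc', w, hm, hw⟩ := exists_refl_KK C hp hodd ht hb hb1
  have hmq : q * (a * b * c) = (a * b * c) * q := by
    refine hq _ (mul_mem (mul_mem ?_ ?_) ?_)
    · exact (le_sup_left : Z t ≤ KK Z t) ha
    · exact (le_sup_right : Z (-t) ≤ KK Z t) hb
    · exact (le_sup_left : Z t ≤ KK Z t) hc'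
  have hmq' : q * (a * b * c)⁻¹ = (a * b * c)⁻¹ * q := by
    set m := a * b * c
    calc q * m⁻¹ = m⁻¹ * (m * q) * m⁻¹ := by group
      _ = m⁻¹ * (q * m) * m⁻¹ := by rw [hmq]
      _ = m⁻¹ * q := by group
  rw [← hw, ← C.rgd.conj_rp hm hx] at hc
  have := hc.conj hmq'
  rwa [← cj_mul, inv_mul_cancel, cj_one] at this

/-! ### The signs -/

/-- `R` is a simply laced system of root groups of order three; the other roots can be moved by a reflection of `R`
into the hyperplane of `r` -/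
structure Lac (cs : CoxeterSystem M W) (h : IsCartan M A) (X : (I → ℤ) → Subgroup Y) (R : Set (I → ℤ))
    (Z : (I → ℤ) → Subgroup Y) (r : I → ℤ) : Prop where
  mem : r ∈ R
  card : ∀ s ∈ R, Nat.card (Z s) = 3
  zx : ∀ s ∈ R, Z s = X s
  le_one : ∀ x ∈ R, ∀ y ∈ R, x ≠ y → x ≠ -y → |cpr cs h x y| ≤ 1
  short : ∀ x, IsRoot cs h x → x ∉ R → form cs h x r ≠ 0 → ∃ s ∈ R, form cs h (x - cpr cs h x s • s) r = 0

variable {r : I → ℤ}

theorem cpr_eq_one (C : Cls cs h p T n X R Z z) (L : Lac cs h X R Z r) {s s' : I → ℤ} (hs : s ∈ R) (hs' : s' ∈ R)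
    (hne : s ≠ s') (hf : 0 < form cs h s s') : cpr cs h s s' = 1 := by
  have h1 : s ≠ -s' := by
    rintro rfl
    rw [form_neg_left] at hf
    have := form_pos cs h (C.root s' hs').ne_zero
    omega
  have h2 := L.le_one s hs s' hs' hne h1
  have h3 := (cpr_pos_iff cs h s (C.root s' hs')).2 hf
  rw [abs_le] at h2
  omega

/-- one step -/
theorem step_pos (C : Cls cs h p T n X R Z z) (L : Lac cs h X R Z r) {q : Y}
    (hq : ∀ x, IsRoot cs h x → form cs h x r = 0 → Cq q (X x)) {s s' : I → ℤ} (hs : s ∈ R) (hs' : s' ∈ R)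
    (hf : 0 < form cs h s s') (hr : form cs h s r = form cs h s' r) (hc : Cq q (Z s)) : Cq q (Z s') := by
  by_cases hne : s = s'
  · rwa [← hne]
  have h1 := cpr_eq_one C L hs hs' hne hf
  have h2 := cpr_eq_one C L hs' hs (Ne.symm hne) (by rwa [form_comm])
  obtain ⟨ht, hcp⟩ := KindBase.cpr_diff cs h (C.root s' hs') (C.root s hs) h2 h1 s
  rw [h1, cpr_self cs h (C.root s hs)] at hcp
  have ht0 : form cs h (s' - s) r = 0 := by rw [form_sub_left, hr, sub_self]
  have hL : Cq q (LL X (s' - s)) := (hq _ ht ht0).sup (hq _ ht.neg (by rw [form_neg_left, ht0, neg_zero]))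
  have h3 := hL.refl_LL C ht hs hc
  rw [hcp] at h3
  have e : s - (1 - 2 : ℤ) • (s' - s) = s' := by
    have : (1 - 2 : ℤ) = -1 := by norm_num
    rw [this, neg_one_smul]; abel
  rwa [e] at h3

/-- the sign is constant on the roots of level one -/
theorem level_one [Finite Y] (C : Cls cs h p T n X R Z z) (hp : p.Prime) (hodd : p ≠ 2) (L : Lac cs h X R Z r)
    {q : Y} (hqT : q ∈ T) (hqr : Cq q (KK Z r)) (hq : ∀ x, IsRoot cs h x → form cs h x r = 0 → Cq q (X x))
    {s s' : I → ℤ} (hs : s ∈ R) (hs' : s' ∈ R) (h1 : cpr cs h s r = 1) (h1' : cpr cs h s' r = 1)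
    (hc : Cq q (Z s)) : Cq q (Z s') := by
  have hrr := C.root r L.mem
  have f1 := two_form_cpr cs h s hrr
  have f2 := two_form_cpr cs h s' hrr
  rw [h1, one_mul] at f1
  rw [h1', one_mul] at f2
  rcases lt_or_ge 0 (form cs h s s') with hf | hf
  · exact step_pos C L hq hs hs' hf (by omega) hc
  · have h2 := hqr.refl_KK C hp hodd L.mem hs hc
    rw [h1, one_smul] at h2
    have h3 := refl_mem C hs hrr
    rw [h1, one_smul] at h3
    have h4 := h2.opp C hp hodd h3 hqT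
    have h5 := _root_.Cfsg.Agent.Nodes.Perp.neg_mem C h3
    rw [neg_sub] at h4 h5
    refine step_pos C L hq h5 hs' ?_ ?_ h4
    · rw [form_sub_left, form_comm cs h r s']
      have := form_pos cs h hrr.ne_zero
      omega
    · rw [form_sub_left]; omega

/-- an element normalising a group of order three commutes with it or inverts it -/
theorem inv_of_not_comm {H : Subgroup Y} (h3 : Nat.card H = 3) {q : Y} (hn : cj q H = H) (hc : ¬ Cq q H) :
    ∀ y ∈ H, q * y * q⁻¹ = y⁻¹ := by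
  unfold Cq at hc
  push Not at hc
  obtain ⟨a, ha, hne⟩ := hc
  have ha1 : a ≠ 1 := by rintro rfl; exact hne (by rw [mul_one, one_mul])
  have : Fact (Nat.Prime 3) := ⟨Nat.prime_three⟩
  have hfin : Finite H := Nat.finite_of_card_ne_zero (by omega)
  have hmem : ∀ y ∈ H, y = 1 ∨ y = a ∨ y = a⁻¹ := by
    intro y hy
    have h1 : (⟨y, hy⟩ : H) ∈ Subgroup.zpowers (⟨a, ha⟩ : H) :=
      mem_zpowers_of_prime_card (p := 3) h3 (fun h => ha1 (congrArg Subtype.val h))
    obtain ⟨k, hk⟩ := Subgroup.mem_zpowers_iff.1 h1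
    have hk' : a ^ k = y := congrArg Subtype.val hk
    have ha3 : a ^ (3 : ℤ) = 1 := by
      have h2 : (⟨a, ha⟩ : H) ^ 3 = 1 := by rw [← h3]; exact pow_card_eq_one'
      have h2' : a ^ 3 = 1 := congrArg Subtype.val h2
      exact_mod_cast h2'
    have hkm : a ^ k = a ^ (k % 3) := by
      conv_lhs => rw [← Int.mul_ediv_add_emod k 3, zpow_add, zpow_mul, ha3, one_zpow, one_mul]
    have hlt := Int.emod_lt_of_pos k (show (0 : ℤ) < 3 by norm_num)
    have hge := Int.emod_nonneg k (show (3 : ℤ) ≠ 0 by norm_num)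
    rw [← hk', hkm]
    interval_cases k % 3
    · left; exact zpow_zero a
    · right; left; exact zpow_one a
    · right; right
      have e : a ^ (2 : ℤ) = a⁻¹ * a ^ (3 : ℤ) := by rw [show (3 : ℤ) = 1 + 2 by norm_num, zpow_add, zpow_one]; group
      rw [e, ha3, mul_one]
  have hqa : q * a * q⁻¹ = a⁻¹ := by
    have h1 : q * a * q⁻¹ ∈ H := by
      have := conj_mem_cj (g := q).2 ha
      rwa [hn] at this
    rcases hmem _ h1 with h2 | h2 | h2
    · exfalso; apply ha1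
      have : a = q⁻¹ * (q * a * q⁻¹) * q := by group
      rw [this, h2]; group
    · exfalso; apply hne
      calc q * a = (q * a * q⁻¹) * q := by group
        _ = a * q := by rw [h2]
    · exact h2
  intro y hy
  rcases hmem y hy with rfl | rfl | rfl
  · group
  · exact hqa
  · have : q * a⁻¹ * q⁻¹ = (q * a * q⁻¹)⁻¹ := by group
    rw [this, hqa]

/-- **`q` or `q z_r` centralises all classical root groups.** -/
theorem exists_cent [Finite Y] (C : Cls cs h p T n X R Z z) (hp : p.Prime) (hodd : p ≠ 2) (L : Lac cs h X R Z r)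
    {q : Y} (hqT : q ∈ T) (hqr : Cq q (KK Z r)) (hq : ∀ x, IsRoot cs h x → form cs h x r = 0 → Cq q (X x)) :
    ∃ q', (q' = q ∨ q' = q * z r) ∧ ∀ s ∈ R, Cq q' (Z s) := by
  have hrr := C.root r L.mem
  have base : ∀ s ∈ R, s ≠ r → s ≠ -r → form cs h s r ≠ 0 → cpr cs h s r = 1 ∨ cpr cs h s r = -1 := by
    intro s hs h1 h2 h3
    have h4 := L.le_one s hs r L.mem h1 h2
    have h5 : cpr cs h s r ≠ 0 := fun h0 => h3 ((cpr_zero_iff cs h s hrr).1 h0)
    rw [abs_le] at h4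
    omega
  by_cases hall : ∀ s ∈ R, s ≠ r → s ≠ -r → form cs h s r ≠ 0 → Cq q (Z s)
  · refine ⟨q, Or.inl rfl, fun s hs => ?_⟩
    by_cases h1 : s = r
    · rw [h1]; exact hqr.mono le_sup_left
    by_cases h2 : s = -r
    · rw [h2]; exact hqr.mono le_sup_right
    by_cases h3 : form cs h s r = 0
    · exact (hq s (C.root s hs) h3).mono (C.le s hs)
    · exact hall s hs h1 h2 h3
  · push Not at hall
    obtain ⟨s₀, hs₀, g1, g2, g3, g4⟩ := hall
    have hnone : ∀ s ∈ R, s ≠ r → s ≠ -r → form cs h s r ≠ 0 → ¬ Cq q (Z s) := by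
      intro s hs h1 h2 h3 hc
      apply g4
      -- make both of level one
      have key : ∀ s ∈ R, cpr cs h s r = 1 ∨ cpr cs h s r = -1 → ∃ s₁ ∈ R, cpr cs h s₁ r = 1 ∧
          (Cq q (Z s) ↔ Cq q (Z s₁)) := by
        rintro s hs (hh | hh)
        · exact ⟨s, hs, hh, Iff.rfl⟩
        · refine ⟨-s, _root_.Cfsg.Agent.Nodes.Perp.neg_mem C hs, by rw [cpr_neg cs h s hrr, hh, neg_neg], fun hh => hh.opp C hp hodd hs hqT,
            fun hh => ?_⟩
          have := hh.opp C hp hodd (_root_.Cfsg.Agent.Nodes.Perp.neg_mem C hs) hqT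
          rwa [neg_neg] at this
      obtain ⟨s₁, hs₁, k1, k2⟩ := key s hs (base s hs h1 h2 h3)
      obtain ⟨s₂, hs₂, k3, k4⟩ := key s₀ hs₀ (base s₀ hs₀ g1 g2 g3)
      exact k4.2 (level_one C hp hodd L hqT hqr hq hs₁ hs₂ k1 k3 (k2.1 hc))
    refine ⟨q * z r, Or.inr rfl, fun s hs => ?_⟩
    have hzK : z r ∈ KK Z r := C.z_mem r L.mem
    by_cases h1 : s = r
    · rw [h1]
      intro y hy
      have e1 := hqr y (le_sup_left (a := Z r) hy)
      have e2 := C.z_cent r L.mem y hy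
      rw [mul_assoc, e2, ← mul_assoc, e1, mul_assoc]
    by_cases h2 : s = -r
    · rw [h2]
      intro y hy
      have e1 := hqr y (le_sup_right (a := Z r) hy)
      have e2 := C.z_cent (-r) (_root_.Cfsg.Agent.Nodes.Perp.neg_mem C L.mem) y hy
      rw [C.z_neg r L.mem] at e2
      rw [mul_assoc, e2, ← mul_assoc, e1, mul_assoc]
    by_cases h3 : form cs h s r = 0
    · intro y hy
      have e1 := (hq s (C.root s hs) h3) y (C.le s hs hy)
      have e2 := Nodes.ZRel.z_cent_of_orth C L.mem (C.root s hs) h3 (C.le s hs hy)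
      rw [mul_assoc, ← e2, ← mul_assoc, e1, mul_assoc]
    · intro y hy
      have e1 := inv_of_not_comm (L.card s hs) (C.tor s hs q hqT) (hnone s hs h1 h2 h3) y⁻¹ (inv_mem hy)
      have e2 := C.z_inv r L.mem s (C.root s hs) h1 h2 h3 y (C.le s hs hy)
      rw [inv_inv] at e1
      calc q * z r * y = q * (z r * y * z r) * z r := by
            have := C.z_sq r L.mem
            calc q * z r * y = q * z r * y * 1 := by rw [mul_one]
              _ = q * z r * y * (z r * z r) := by rw [this]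
              _ = q * (z r * y * z r) * z r := by group
        _ = q * y⁻¹ * z r := by rw [e2]
        _ = (q * y⁻¹ * q⁻¹) * q * z r := by group
        _ = y * (q * z r) := by rw [e1]; group

/-- `q` or `q z_r` centralises all root groups. -/
theorem exists_cent_X [Finite Y] (C : Cls cs h p T n X R Z z) (hp : p.Prime) (hodd : p ≠ 2) (L : Lac cs h X R Z r)
    {q : Y} (hqT : q ∈ T) (hqr : Cq q (KK Z r)) (hq : ∀ x, IsRoot cs h x → form cs h x r = 0 → Cq q (X x)) :
    ∃ q', (q' = q ∨ q' = q * z r) ∧ ∀ x, IsRoot cs h x → Cq q' (X x) := by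
  obtain ⟨q', hq', hc⟩ := exists_cent C hp hodd L hqT hqr hq
  refine ⟨q', hq', ?_⟩
  have hperp : ∀ x, IsRoot cs h x → form cs h x r = 0 → Cq q' (X x) := by
    intro x hx h0
    rcases hq' with rfl | rfl
    · exact hq x hx h0
    · intro y hy
      have e1 := hq x hx h0 y hy
      have e2 := Nodes.ZRel.z_cent_of_orth C L.mem hx h0 hy
      rw [mul_assoc, ← e2, ← mul_assoc, e1, mul_assoc]
  intro x hx
  by_cases hxR : x ∈ R
  · rw [← L.zx x hxR]; exact hc x hxR
  by_cases h0 : form cs h x r = 0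
  · exact hperp x hx h0
  obtain ⟨s, hs, h1⟩ := L.short x hx hxR h0
  have h2 : Cq q' (KK Z s) := (hc s hs).sup (hc _ (_root_.Cfsg.Agent.Nodes.Perp.neg_mem C hs))
  exact h2.refl_X C hp hodd hs hx (hperp _ (isRoot_refl cs h hx (C.root s hs)) h1)

/-- **(F2'_3), (c1)**: `Q` is commutative. -/
theorem comm_of_perp [Finite Y] (C : Cls cs h p T n X R Z z) (hp : p.Prime) (hodd : p ≠ 2) (L : Lac cs h X R Z r)
    {Q : Subgroup Y} (hQ : Q ≤ G1 cs h X) (hQr : ∀ q ∈ Q, Cq q (KK Z r))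
    (hQx : ∀ q ∈ Q, ∀ x, IsRoot cs h x → form cs h x r = 0 → Cq q (X x)) :
    ∀ q ∈ Q, ∀ q' ∈ Q, q * q' = q' * q := by
  intro q hq q₂ hq₂
  have hGG : G1 cs h X ≤ GG cs h T X := le_sup_right
  have hcj : ∀ {H : Subgroup Y}, Cq q H → cj q H = H := by
    intro H hH
    rw [← mem_normalizer_iff_cj]
    exact Nodes.ClsNorm.centralizer_le_normalizer' H (Subgroup.mem_centralizer_iff.2 fun x hx => (hH x hx).symm)
  have hqT : q ∈ T := mem_T_of_perp C L.mem (hGG (hQ hq)) (hQr q hq) fun x hx h0 => hcj (hQx q hq x hx h0)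
  obtain ⟨q', hq', hc⟩ := exists_cent_X C hp hodd L hqT (hQr q hq) (hQx q hq)
  have h1 : Cq q' (G1 cs h X) := by
    have h2 : G1 cs h X ≤ Subgroup.centralizer {q'} := by
      refine RGD.Sup_le fun x hx y hy => ?_
      rw [Subgroup.mem_centralizer_singleton_iff]
      exact (hc x hx y hy).symm
    intro y hy
    exact (Subgroup.mem_centralizer_singleton_iff.1 (h2 hy)).symm
  have h2 := h1 q₂ (hQ hq₂)
  rcases hq' with rfl | rfl
  · exact h2
  · have h3 := hQr q₂ hq₂ (z r) (C.z_mem r L.mem)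
    have h4 : q * q₂ * z r = q₂ * q * z r := by
      calc q * q₂ * z r = q * (q₂ * z r) := by group
        _ = q * z r * q₂ := by rw [h3]; group
        _ = q₂ * q * z r := by rw [h2]; group
    exact mul_right_cancel h4

end Cfsg.Agent.OddHalf.NI3.FThree

end

-- merged: Cfsg.Agent.OddHalf.NI3.FThree.C2
section

/-!
# (F2'_3), part (c2): charts over `F₃` of the kinds `C_n`, `n ≥ 2` (`Sp_{2n}(3)`, `SU_{2n}(3)`, `SU_{2n+1}(3)`)

An element `c` of order three which normalises `⟨T, X x⟩` and centralises `KK Z r` and all `X x`, `x` orthogonal to `r`,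
centralises all root groups (`cent_of_perp`).
-/

set_option autoImplicit false
set_option linter.unusedSectionVars false
set_option linter.dupNamespace false

namespace Cfsg.Agent.OddHalf.NI3.FThree

open Cfsg
open CoxeterSystem Cfsg.Agent.ChevalleyStructure.CoxeterGeom Cfsg.Agent.Tits.Roots Cfsg.Agent.Tits.Core
  Cfsg.Agent.Tits.RootComb Cfsg.Agent.Nodes.Comb Cfsg.Agent.Nodes.Reps Cfsg.Agent.Nodes.BNOf
  Cfsg.Agent.Nodes.RGDLib Cfsg.Agent.Nodes.Chart Cfsg.Agent.Nodes.Coroot Cfsg.Agent.Nodes.FreeTorus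
  Cfsg.Agent.Nodes.SubComb Cfsg.Agent.Nodes.Bruhat Cfsg.Agent.Nodes.StabComb Cfsg.Agent.Nodes.Perp
  Cfsg.Agent.Nodes.Sub Cfsg.Agent.Nodes.ClsSub Cfsg.Agent.Nodes
open scoped commutatorElement

variable {I W Y : Type*} [Fintype I] [DecidableEq I] [Group W] [Fintype W] [Group Y] {M : CoxeterMatrix I}
  {cs : CoxeterSystem M W} {A : I → I → ℤ} {h : IsCartan M A} {p : ℕ} {T : Subgroup Y} {n : I → Y}
  {X : (I → ℤ) → Subgroup Y} {R : Set (I → ℤ)} {Z : (I → ℤ) → Subgroup Y} {z : (I → ℤ) → Y}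

/-! ### Roots -/

/-- the members of `R` are pairwise orthogonal (or opposite) of the same length, the other roots are half sums -/
structure Lcc (cs : CoxeterSystem M W) (h : IsCartan M A) (R : Set (I → ℤ)) : Prop where
  root : ∀ x ∈ R, IsRoot cs h x
  neg : ∀ x ∈ R, -x ∈ R
  orth : ∀ x ∈ R, ∀ y ∈ R, x ≠ y → x ≠ -y → form cs h x y = 0
  len : ∀ x ∈ R, ∀ y ∈ R, form cs h x x = form cs h y y
  half : ∀ x, IsRoot cs h x → x ∉ R → ∃ a ∈ R, ∃ b ∈ R, form cs h a b = 0 ∧ (2 : ℤ) • x = a + b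

/-- `y = (r + s) / 2` -/
structure Tri (cs : CoxeterSystem M W) (h : IsCartan M A) (R : Set (I → ℤ)) (r s y : I → ℤ) : Prop where
  hr : r ∈ R
  hs : s ∈ R
  orth : form cs h r s = 0
  hy : IsRoot cs h y
  e : (2 : ℤ) • y = r + s

section Roots

variable {r s y : I → ℤ}

namespace Tri

variable (K : Lcc cs h R) (t : Tri cs h R r s y)

include t

theorem symm : Tri cs h R s r y := ⟨t.hs, t.hr, by rw [form_comm]; exact t.orth, t.hy, by rw [t.e, add_comm]⟩

include K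

theorem pos : 0 < form cs h r r := form_pos cs h (K.root r t.hr).ne_zero

theorem yr : 2 * form cs h y r = form cs h r r := by
  rw [← form_smul_left, t.e, form_add_left, form_comm cs h s r, t.orth, add_zero]

theorem ys : 2 * form cs h y s = form cs h r r := by
  rw [← form_smul_left, t.e, form_add_left, t.orth, zero_add, K.len s t.hs r t.hr]

theorem yy : 2 * form cs h y y = form cs h r r := by
  have h1 : 2 * (2 * form cs h y y) = 2 * form cs h r r := by
    have h2 : 2 * form cs h y y = form cs h y r + form cs h y s := by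
      rw [← form_smul_right, t.e, form_add_right]
    rw [h2, mul_add, t.yr K, t.ys K]; ring
  linarith

theorem neg : Tri cs h R (-r) (-s) (-y) :=
  ⟨K.neg r t.hr, K.neg s t.hs, by rw [form_neg_left, form_neg_right, t.orth]; rfl, t.hy.neg,
    by rw [smul_neg, t.e]; abel⟩

theorem cpr_ys : cpr cs h y s = 1 :=
  cpr_eq_of_form cs h (K.root s t.hs) (by rw [one_mul, t.ys K, K.len s t.hs r t.hr])

theorem cpr_ry : cpr cs h r y = 2 :=
  cpr_eq_of_form cs h t.hy (by rw [t.yy K, form_comm, t.yr K])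

/-- the other one -/
theorem flip : Tri cs h R r (-s) (y - s) := by
  have h1 := isRoot_refl cs h t.hy (K.root s t.hs)
  rw [t.cpr_ys K, one_smul] at h1
  refine ⟨t.hr, K.neg s t.hs, by rw [form_neg_right, t.orth]; rfl, h1, ?_⟩
  rw [smul_sub, t.e, two_smul]; abel

/-- a root with positive products with `r` and `s` is `y` -/
theorem eq_of_pos {w : I → ℤ} (hw : IsRoot cs h w) (h1 : 0 < form cs h w r) (h2 : 0 < form cs h w s) : w = y := by
  have hrs : r ≠ s := by
    rintro rfl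
    have := t.orth
    have := t.pos K
    omega
  have hrs' : r ≠ -s := by
    intro e
    have h3 := t.orth
    rw [e, form_neg_left] at h3
    have h4 := form_pos cs h (K.root s t.hs).ne_zero
    omega
  have hP : 0 < form cs h r r := t.pos K
  have hS : 0 < form cs h s s := form_pos cs h (K.root s t.hs).ne_zero
  have hsr : form cs h s r = 0 := by rw [form_comm]; exact t.orth
  have hrs0 := t.orth
  have hwR : w ∉ R := by
    intro hwR
    by_cases e1 : w = r
    · subst e1; omega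
    by_cases e2 : w = -r
    · subst e2; rw [form_neg_left] at h1; omega
    have := K.orth w hwR r t.hr e1 e2
    omega
  obtain ⟨a, ha, b, hb, hab, e⟩ := K.half w hw hwR
  have hr1 : form cs h a r + form cs h b r > 0 := by
    rw [← form_add_left, ← e, form_smul_left]; omega
  have hs1 : form cs h a s + form cs h b s > 0 := by
    rw [← form_add_left, ← e, form_smul_left]; omega
  have tri : ∀ a ∈ R, ∀ x ∈ R, a = x ∨ a = -x ∨ form cs h a x = 0 := by
    intro a ha x hx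
    by_cases e1 : a = x
    · exact Or.inl e1
    by_cases e2 : a = -x
    · exact Or.inr (Or.inl e2)
    exact Or.inr (Or.inr (K.orth a ha x hx e1 e2))
  have key : (2 : ℤ) • w = r + s := by
    rcases tri a ha r t.hr with rfl | rfl | ha0
    · rcases tri b hb s t.hs with rfl | rfl | hb0
      · exact e
      · rw [form_neg_left] at hs1; omega
      · omega
    · rcases tri b hb s t.hs with rfl | rfl | hb0
      · rw [form_neg_left] at hr1; omega
      · rw [form_neg_left, form_neg_left] at hr1; omega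
      · rw [form_neg_left] at hs1; omega
    · rcases tri b hb r t.hr with rfl | rfl | hb0
      · rcases tri a ha s t.hs with rfl | rfl | ha1
        · rw [e, add_comm]
        · rw [form_neg_left] at hs1; omega
        · omega
      · rw [form_neg_left] at hr1; omega
      · omega
  rw [← t.e] at key
  have h3 : (2 : ℤ) • (w - y) = 0 := by rw [smul_sub, key, sub_self]
  rcases smul_eq_zero.1 h3 with h4 | h4
  · norm_num at h4
  · exact sub_eq_zero.1 h4

/-- a root positive with `r` and orthogonal to the rest of `R` is `r` -/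
theorem eq_of_zero {w : I → ℤ} (hw : IsRoot cs h w) {m a : ℤ} (hm : 0 < m) (ha : 0 < a) (e : m • w = a • r) :
    w = r := by
  have hP : 0 < form cs h r r := t.pos K
  have h1 : 0 < form cs h w r := by
    have h2 : m * form cs h w r = a * form cs h r r := by rw [← form_smul_left, e, form_smul_left]
    have h3 : 0 < a * form cs h r r := mul_pos ha hP
    rw [← h2] at h3
    exact (mul_pos_iff_of_pos_left hm).1 h3
  have hz : ∀ x ∈ R, form cs h r x = 0 → form cs h w x = 0 := by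
    intro x hx h0
    have h2 : m * form cs h w x = a * form cs h r x := by rw [← form_smul_left, e, form_smul_left]
    rw [h0, mul_zero] at h2
    rcases mul_eq_zero.1 h2 with h3 | h3
    · omega
    · exact h3
  by_cases hwR : w ∈ R
  · by_contra e1
    by_cases e2 : w = -r
    · rw [e2, form_neg_left] at h1; omega
    have := K.orth w hwR r t.hr e1 e2
    omega
  · exfalso
    obtain ⟨a', ha', b', hb', hab, e'⟩ := K.half w hw hwR
    have hr1 : form cs h a' r + form cs h b' r > 0 := by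
      rw [← form_add_left, ← e', form_smul_left]; omega
    have key : ∀ a' ∈ R, ∀ b' ∈ R, form cs h a' b' = 0 → (2 : ℤ) • w = a' + b' → form cs h a' r ≠ 0 → False := by
      intro a' ha' b' hb' hab e' hne
      have h2 : form cs h r b' = 0 := by
        by_cases e1 : a' = r
        · rw [← e1]; exact hab
        by_cases e2 : a' = -r
        · rw [e2, form_neg_left] at hab; omega
        exact absurd (K.orth a' ha' r t.hr e1 e2) hne
      have h3 := hz b' hb' h2
      have h4 : 2 * form cs h w b' = form cs h b' b' := by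
        rw [← form_smul_left, e', form_add_left, hab, zero_add]
      have h5 := form_pos cs h (K.root b' hb').ne_zero
      omega
    by_cases h2 : form cs h a' r = 0
    · refine key b' hb' a' ha' (by rw [form_comm]; exact hab) (by rw [e', add_comm]) (by omega)
    · exact key a' ha' b' hb' hab e' h2

/-- **(L1)** -/
theorem no_btwn {x w : I → ℤ} (h1 : 0 < form cs h x r) (h2 : form cs h x s = 0) : ¬ Btwn cs h y x w := by
  rintro ⟨hw, m, a, b, hm, ha, hb, e⟩
  have hy1 : 0 < form cs h y r := by have := t.yr K; have := t.pos K; omega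
  have hy2 : 0 < form cs h y s := by have := t.ys K; have := t.pos K; omega
  have e1 : m * form cs h w r = a * form cs h y r + b * form cs h x r := by
    rw [← form_smul_left, e, form_add_left, form_smul_left, form_smul_left]
  have e2 : m * form cs h w s = a * form cs h y s := by
    rw [← form_smul_left, e, form_add_left, form_smul_left, form_smul_left, h2, mul_zero, add_zero]
  have g1 : 0 < form cs h w r := by
    have h3 : 0 < m * form cs h w r := by rw [e1]; exact add_pos (mul_pos ha hy1) (mul_pos hb h1)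
    exact (mul_pos_iff_of_pos_left hm).1 h3
  have g2 : 0 < form cs h w s := by
    have h3 : 0 < m * form cs h w s := by rw [e2]; exact mul_pos ha hy2
    exact (mul_pos_iff_of_pos_left hm).1 h3
  have g3 := t.eq_of_pos K hw g1 g2
  subst g3
  have g4 : m = a := mul_right_cancel₀ hy2.ne' e2
  rw [g4] at e1
  have := mul_pos hb h1
  omega

/-- **(L2)** -/
theorem btwn_flip {w : I → ℤ} (hw : Btwn cs h y (y - s) w) : w = r := by
  obtain ⟨hw, m, a, b, hm, ha, hb, e⟩ := hw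
  have tf := t.flip K
  have hP := t.pos K
  have y1 := t.yr K
  have y2 := t.ys K
  have y3 := tf.yr K
  have y4 := tf.ys K
  rw [form_neg_right] at y4
  set P := form cs h r r
  have e1 : 2 * (m * form cs h w r) = (a + b) * P := by
    rw [← form_smul_left, e, form_add_left, form_smul_left, form_smul_left]
    linear_combination a * y1 + b * y3
  have e2 : 2 * (m * form cs h w s) = (a - b) * P := by
    rw [← form_smul_left, e, form_add_left, form_smul_left, form_smul_left]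
    linear_combination a * y2 - b * y4
  have g1 : 0 < form cs h w r := by
    have h3 : 0 < m * form cs h w r := by have := mul_pos (add_pos ha hb) hP; omega
    exact (mul_pos_iff_of_pos_left hm).1 h3
  rcases lt_trichotomy (form cs h w s) 0 with h0 | h0 | h0
  · exfalso
    have g3 := tf.eq_of_pos K hw g1 (by rw [form_neg_right]; omega)
    subst g3
    have g5 : (m - (a + b)) * P = 0 := by linear_combination e1 - m * y3
    have g6 : (m + (a - b)) * P = 0 := by linear_combination (-1 : ℤ) * e2 - m * y4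
    rcases mul_eq_zero.1 g5 with h5 | h5
    · rcases mul_eq_zero.1 g6 with h6 | h6 <;> (clear * - h ha h5 h6 hP; omega)
    · (clear * - hP h5; omega)
  · rw [h0, mul_zero, mul_zero] at e2
    have hab : a = b := by
      rcases mul_eq_zero.1 e2.symm with h5 | h5 <;> (clear * - h h5 hP; omega)
    refine t.eq_of_zero K hw hm ha ?_
    rw [e, ← hab, ← smul_add]
    congr 1
    have := t.e
    rw [two_smul] at this
    calc y + (y - s) = (y + y) - s := by abel
      _ = r := by rw [this]; abel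
  · exfalso
    have g3 := t.eq_of_pos K hw g1 h0
    subst g3
    have g5 : (m - (a + b)) * P = 0 := by linear_combination e1 - m * y1
    have g6 : (m - (a - b)) * P = 0 := by linear_combination e2 - m * y2
    rcases mul_eq_zero.1 g5 with h5 | h5
    · rcases mul_eq_zero.1 g6 with h6 | h6 <;> (clear * - h hb h5 h6 h0 y2; omega)
    · (clear * - h0 y2 h5; omega)

/-- **(L3)** -/
theorem btwn_neg {w : I → ℤ} (hw : Btwn cs h (-s) y w) : w = y - s ∨ w = r := by
  obtain ⟨hw, m, a, b, hm, ha, hb, e⟩ := hw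
  have tf := t.flip K
  have hP := t.pos K
  have y1 := t.yr K
  have y2 := t.ys K
  have hl := K.len s t.hs r t.hr
  have hsr : form cs h s r = 0 := by rw [form_comm]; exact t.orth
  set P := form cs h r r
  have e1 : 2 * (m * form cs h w r) = b * P := by
    rw [← form_smul_left, e, form_add_left, form_smul_left, form_smul_left, form_neg_left, hsr]
    linear_combination b * y1
  have e2 : 2 * (m * form cs h w s) = (b - 2 * a) * P := by
    rw [← form_smul_left, e, form_add_left, form_smul_left, form_smul_left, form_neg_left, hl]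
    linear_combination b * y2
  have g1 : 0 < form cs h w r := by
    have h3 : 0 < m * form cs h w r := by have := mul_pos hb hP; omega
    exact (mul_pos_iff_of_pos_left hm).1 h3
  rcases lt_trichotomy (form cs h w s) 0 with h0 | h0 | h0
  · left
    exact tf.eq_of_pos K hw g1 (by rw [form_neg_right]; omega)
  · right
    rw [h0, mul_zero, mul_zero] at e2
    have hab : b = 2 * a := by
      rcases mul_eq_zero.1 e2.symm with h5 | h5 <;> omega
    refine t.eq_of_zero K hw hm ha ?_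
    rw [e, hab, mul_comm, mul_smul, t.e, smul_add, smul_neg]
    abel
  · exfalso
    have g3 := t.eq_of_pos K hw g1 h0
    subst g3
    have g5 : (m - b) * P = 0 := by linear_combination e1 - m * y1
    have g6 : (m - (b - 2 * a)) * P = 0 := by linear_combination e2 - m * y2
    rcases mul_eq_zero.1 g5 with h5 | h5
    · rcases mul_eq_zero.1 g6 with h6 | h6 <;> omega
    · omega

end Tri

end Roots

/-! ### An abstract lemma -/

/-- an automorphism of order three preserving an anisotropic form of exponent three is the identity -/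
theorem fixed_of_aniso {V Y' : Type*} [AddCommGroup V] [Group Y'] (f : V → V → Y') (φ : V → V)
    (hφ : ∀ a b, φ (a + b) = φ a + φ b) (h3 : ∀ v, φ (φ (φ v)) = v)
    (hf1 : ∀ a b v, f (a + b) v = f a v * f b v) (hf3 : ∀ a v, f a v * f a v * f a v = 1)
    (hfφ : ∀ a b, f (φ a) (φ b) = f a b) (an : ∀ v, f v v = 1 → v = 0) (v : V) : φ v = v := by
  have e3 : ∀ v : V, v + v + v = 0 := by
    intro v
    apply an
    rw [hf1, hf1, hf3]
  have hf0 : ∀ v, f 0 v = 1 := by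
    intro v
    have := hf1 0 0 v
    rw [add_zero] at this
    exact (mul_eq_left.1 this.symm)
  have φ0 : φ 0 = 0 := by
    have := hφ 0 0
    rw [add_zero] at this
    exact (add_eq_left.1 this.symm)
  have φn : ∀ a, φ (-a) = -φ a := by
    intro a
    have := hφ (-a) a
    rw [neg_add_cancel, φ0] at this
    exact eq_neg_of_add_eq_zero_left this.symm
  have φs : ∀ a b, φ (a - b) = φ a - φ b := by
    intro a b
    rw [sub_eq_add_neg, hφ, φn, ← sub_eq_add_neg]
  -- one step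
  have step : ∀ u, φ (φ u - u) = φ u - u → φ u = u := by
    intro u hu
    have h1 : f (φ u - u) (φ u - u) = 1 := by
      have h2 : f (φ u) (φ u - u) = f u (φ u - u) := by
        conv_lhs => rw [← hu]
        exact hfφ _ _
      have h4 : f u (φ u - u) * f (-u) (φ u - u) = 1 := by
        rw [← hf1, add_neg_cancel, hf0]
      rw [sub_eq_add_neg, hf1, ← sub_eq_add_neg, h2, h4]
    exact sub_eq_zero.1 (an _ h1)
  have h4 : ∀ u, φ (φ (φ u - u) - (φ u - u)) = φ (φ u - u) - (φ u - u) := by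
    intro u
    have h5 := e3 (φ (φ u) - φ u)
    rw [φs, φs, φs, h3, ← sub_eq_zero]
    have h6 : u - φ (φ u) - (φ (φ u) - φ u) - (φ (φ u) - φ u - (φ u - u)) =
        -((φ (φ u) - φ u) + (φ (φ u) - φ u) + (φ (φ u) - φ u)) := by abel
    rw [h6, h5, neg_zero]
  exact step v (step _ (h4 v))

/-! ### Groups -/

/-- root groups of opposite halves meet trivially -/
theorem sep (D : RGD cs h p T n X) (v : I → ℤ) {u : Y}
    (h1 : u ∈ RGD.Sup X {x | IsRoot cs h x ∧ 0 < form cs h x v})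
    (h2 : u ∈ RGD.Sup X {x | IsRoot cs h x ∧ form cs h x v < 0}) : u = 1 := by
  obtain ⟨w, hw⟩ := Nodes.ClsNorm.exists_dominant (cs := cs) (h := h) v
  obtain ⟨k, hk⟩ := exists_rp cs D.nsys w
  have e1 : k * u * k⁻¹ ∈ RGD.Sup X (RGD.Pos cs h) := by
    refine conj_mem_Sup D hk (S' := RGD.Pos cs h) (fun x hx => hx.1) (fun x hx => ⟨hx.1.act _, ?_⟩) h1
    rcases (hx.1.act w).pos_or_neg with h0 | h0
    · exact h0
    · exfalso
      have h3 := form_nonneg_of_dom cs h hw (neg_nonneg.2 h0)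
      rw [form_neg_right, form_comm, form_rep] at h3
      have := hx.2
      omega
  have e2 : k * u * k⁻¹ ∈ OppDec.UN cs h X := by
    refine conj_mem_Sup D hk (S' := OppDec.Neg cs h) (fun x hx => hx.1) (fun x hx => ⟨hx.1.act _, ?_⟩) h2
    rcases (hx.1.act w).pos_or_neg with h0 | h0
    · exfalso
      have h3 := form_nonneg_of_dom cs h hw h0
      rw [form_comm, form_rep] at h3
      have := hx.2
      omega
    · exact h0
  have h3 : k * u * k⁻¹ ∈ RGD.Sup X (RGD.Pos cs h) ⊓ OppDec.UN cs h X := ⟨e1, e2⟩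
  rw [OppDec.U_inf_UN D, Subgroup.mem_bot] at h3
  have : u = k⁻¹ * (k * u * k⁻¹) * k := by group
  rw [this, h3]; group

/-- an element equal to its inverse is trivial if its order is odd -/
theorem eq_one_of_pow {x : Y} {k : ℕ} (hp : p.Prime) (hodd : p ≠ 2) (hk : x ^ p ^ k = 1) (e : x = x⁻¹) : x = 1 := by
  have h5 : x ^ 2 = 1 := by
    rw [pow_two]
    nth_rewrite 1 [e]
    exact inv_mul_cancel x
  have h6 : orderOf x ∣ 2 := orderOf_dvd_of_pow_eq_one h5
  have h7 : orderOf x ∣ p ^ k := orderOf_dvd_of_pow_eq_one hk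
  have h8 : Nat.Coprime 2 (p ^ k) := by
    apply Nat.Coprime.pow_right
    rw [Nat.coprime_primes Nat.prime_two hp]
    exact fun e => hodd e.symm
  have h9 : orderOf x = 1 := Nat.dvd_one.1 (by rw [← h8]; exact Nat.dvd_gcd h6 h7)
  exact orderOf_eq_one_iff.1 h9

section Groups

variable {r s y : I → ℤ} (C : Cls cs h p T n X R Z z) (K : Lcc cs h R) (t : Tri cs h R r s y)

namespace Tri

include C K t

theorem inv_zr {u : Y} (hu : u ∈ X y) : z r * u * z r = u⁻¹ := by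
  have h1 := t.yr K
  have h2 := t.ys K
  have h3 := t.pos K
  have h4 := t.orth
  refine C.z_inv r t.hr y t.hy ?_ ?_ (by omega) u hu
  · rintro rfl; omega
  · rintro rfl; rw [form_neg_left] at h2; omega

theorem inv_zs {u : Y} (hu : u ∈ X y) : z s * u * z s = u⁻¹ := t.symm.inv_zr C K hu

theorem comm_x {x : I → ℤ} (hx : IsRoot cs h x) (h1 : 0 < form cs h x r) (h2 : form cs h x s = 0) {a b : Y}
    (ha : a ∈ X y) (hb : b ∈ X x) : a * b = b * a := by
  have h3 := t.ys K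
  have h4 := t.pos K
  have h5 := Nodes.PairOf.comm_of_no_btwn C.rgd t.hy hx (by rintro rfl; omega)
    (by rintro rfl; rw [form_neg_left] at h3; omega) (fun w => t.no_btwn K h1 h2) a ha b hb
  rwa [commutatorElement_eq_one_iff_mul_comm] at h5

theorem comm_r {a b : Y} (ha : a ∈ X y) (hb : b ∈ X r) : a * b = b * a :=
  t.comm_x C K (C.root r t.hr) (t.pos K) t.orth ha hb

theorem comm_s {a b : Y} (ha : a ∈ X y) (hb : b ∈ X s) : a * b = b * a := t.symm.comm_r C K ha hb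

theorem comm_mem {a b : Y} (ha : a ∈ X y) (hb : b ∈ X (y - s)) : ⁅a, b⁆ ∈ X r := by
  have h3 := t.yr K
  have h4 := t.pos K
  have h5 := (t.flip K).yr K
  have h1 : s ≠ 0 := (C.root s t.hs).ne_zero
  have h2 := C.rgd.comm y (y - s) t.hy (t.flip K).hy (fun e => h1 (by
    have : y - (y - s) = 0 := by rw [← e, sub_self]
    rwa [sub_sub_cancel] at this)) (fun e => by
      rw [e, form_neg_left] at h3
      omega) a ha b hb
  have h6 : _root_.Cfsg.Agent.Nodes.Reps.btw cs h X y (y - s) ≤ X r := by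
    unfold Reps.btw
    refine iSup_le ?_
    rintro ⟨w, hw⟩
    change X w ≤ X r
    rw [t.btwn_flip K hw]
  exact h6 h2

theorem comm_mem' {a b : Y} (ha : a ∈ X (-s)) (hb : b ∈ X y) : ⁅a, b⁆ ∈ X (y - s) ⊔ X r := by
  have h3 := t.yr K
  have h4 := t.pos K
  have h5 : form cs h s r = 0 := by rw [form_comm]; exact t.orth
  have h2 := C.rgd.comm (-s) y (C.root s t.hs).neg t.hy (fun e => by
      rw [← e, form_neg_left] at h3
      omega) (fun e => by
      rw [neg_injective e] at h5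
      omega) a ha b hb
  have h6 : _root_.Cfsg.Agent.Nodes.Reps.btw cs h X (-s) y ≤ X (y - s) ⊔ X r := by
    unfold Reps.btw
    refine iSup_le ?_
    rintro ⟨w, hw⟩
    change X w ≤ _
    rcases t.btwn_neg K hw with e | e
    · rw [e]; exact le_sup_left
    · rw [e]; exact le_sup_right
  exact h6 h2

/-- `Sup {x | (x, r) > 0}` is contained in `X (y - s) X y V₀`. -/
theorem decomp {v : Y} (hv : v ∈ RGD.Sup X {x | IsRoot cs h x ∧ 0 < form cs h x r}) :
    ∃ a ∈ X (y - s), ∃ b ∈ X y, ∃ w ∈ RGD.Sup X {x | IsRoot cs h x ∧ 0 < form cs h x r ∧ form cs h x s = 0},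
      v = a * b * w := by
  have tf := t.flip K
  have hP := t.pos K
  have y1 := t.yr K
  have y2 := t.ys K
  have y3 := tf.yr K
  have y4 := tf.ys K
  rw [form_neg_right] at y4
  set S0 : Set (I → ℤ) := {x | IsRoot cs h x ∧ 0 < form cs h x r ∧ form cs h x s = 0} with hS0
  set S1 : Set (I → ℤ) := {x | IsRoot cs h x ∧ 0 < form cs h x r ∧ 0 ≤ form cs h x s} with hS1
  have h1 : X (y - s) ≤ Subgroup.normalizer (RGD.Sup X S1 : Set Y) := by
    refine C.rgd.le_normalizer tf.hy ?_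
    rintro x ⟨hx, hx1, hx2⟩
    refine ⟨hx, Or.inr ⟨?_, ?_⟩⟩
    · intro e
      rw [e, form_neg_left] at y3
      (clear * - hP y3 hx1; omega)
    · rintro w ⟨hw, m, a, b, hm, ha, hb, e⟩
      have e1 : m * form cs h w r = a * form cs h (y - s) r + b * form cs h x r := by
        rw [← form_smul_left, e, form_add_left, form_smul_left, form_smul_left]
      have e2 : m * form cs h w s = a * form cs h (y - s) s + b * form cs h x s := by
        rw [← form_smul_left, e, form_add_left, form_smul_left, form_smul_left]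
      have hf : 0 < form cs h (y - s) r := by (clear * - hP y3; omega)
      have g1 : 0 < form cs h w r := by
        have h3 : 0 < m * form cs h w r := by rw [e1]; exact add_pos (mul_pos ha hf) (mul_pos hb hx1)
        exact (mul_pos_iff_of_pos_left hm).1 h3
      refine ⟨hw, g1, ?_⟩
      by_contra hneg
      push Not at hneg
      have g3 := tf.eq_of_pos K hw g1 (by rw [form_neg_right]; omega)
      subst g3
      have g4 : (m - a) * form cs h (y - s) r = b * form cs h x r := by linear_combination e1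
      have g5 : (m - a) * form cs h (y - s) s = b * form cs h x s := by linear_combination e2
      have g6 : 0 < m - a := by
        have h3 : 0 < (m - a) * form cs h (y - s) r := by rw [g4]; exact mul_pos hb hx1
        exact (mul_pos_iff_of_pos_right hf).1 h3
      have g7 : (m - a) * form cs h (y - s) s < 0 := mul_neg_of_pos_of_neg g6 hneg
      have g8 : 0 ≤ b * form cs h x s := mul_nonneg hb.le hx2
      omega
  have h2 : X y ≤ Subgroup.normalizer (RGD.Sup X S0 : Set Y) := by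
    refine le_trans ?_ (Nodes.ClsNorm.centralizer_le_normalizer' _)
    intro a ha
    have h3 : RGD.Sup X S0 ≤ Subgroup.centralizer {a} := by
      refine RGD.Sup_le fun x hx b hb => ?_
      rw [Subgroup.mem_centralizer_singleton_iff]
      exact (t.comm_x C K hx.1 hx.2.1 hx.2.2 ha hb).symm
    rw [Subgroup.mem_centralizer_iff]
    intro b hb
    exact Subgroup.mem_centralizer_singleton_iff.1 (h3 hb)
  have h3 : RGD.Sup X {x | IsRoot cs h x ∧ 0 < form cs h x r} ≤ X (y - s) ⊔ RGD.Sup X S1 := by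
    refine RGD.Sup_le fun x hx => ?_
    rcases lt_or_ge (form cs h x s) 0 with h0 | h0
    · rw [tf.eq_of_pos K hx.1 hx.2 (by rw [form_neg_right]; omega)]
      exact le_sup_left
    · exact le_trans (RGD.le_Sup (S := S1) ⟨hx.1, hx.2, h0⟩) le_sup_right
  have h4 : RGD.Sup X S1 ≤ X y ⊔ RGD.Sup X S0 := by
    refine RGD.Sup_le fun x hx => ?_
    rcases lt_or_eq_of_le hx.2.2 with h0 | h0
    · rw [t.eq_of_pos K hx.1 hx.2.1 h0]
      exact le_sup_left
    · exact le_trans (RGD.le_Sup (S := S0) ⟨hx.1, hx.2.1, h0.symm⟩) le_sup_right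
  have h5 : v ∈ ((X (y - s) ⊔ RGD.Sup X S1 : Subgroup Y) : Set Y) := h3 hv
  rw [Subgroup.coe_mul_of_left_le_normalizer_right _ _ h1, Set.mem_mul] at h5
  obtain ⟨a, ha, m, hm, rfl⟩ := h5
  have h6 : m ∈ ((X y ⊔ RGD.Sup X S0 : Subgroup Y) : Set Y) := h4 hm
  rw [Subgroup.coe_mul_of_left_le_normalizer_right _ _ h2, Set.mem_mul] at h6
  obtain ⟨b, hb, w, hw, rfl⟩ := h6
  exact ⟨a, ha, b, hb, w, hw, by rw [mul_assoc]⟩

/-- **Step A**, `r` dominant -/
theorem stepA_dom (hp : p.Prime) (hodd : p ≠ 2) (hd : Dom A r) {c : Y}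
    (hcG : ∀ g ∈ GG cs h T X, c * g * c⁻¹ ∈ GG cs h T X)
    (hcr : Cq c (KK Z r)) (hcs : Cq c (KK Z s)) {u : Y} (hu : u ∈ X y) : c * u * c⁻¹ ∈ X y := by
  have tf := t.flip K
  have hP := t.pos K
  have y1 := t.yr K
  have y2 := t.ys K
  have y3 := tf.yr K
  have y4 := tf.ys K
  have hzr := hcr _ (C.z_mem r t.hr)
  have hzs := hcs _ (C.z_mem s t.hs)
  have hzr2 := C.z_sq r t.hr
  have hzs2 := C.z_sq s t.hs
  have hzri := Nodes.ZRel.z_inv' C t.hr
  -- a square root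
  obtain ⟨u₁, hu₁, hu₂⟩ : ∃ u₁ ∈ X y, u₁ * u₁ = u := by
    obtain ⟨k, hk⟩ := (C.rgd.pgrp' t.hy) ⟨u, hu⟩
    have hk' : u ^ p ^ k = 1 := congrArg Subtype.val hk
    obtain ⟨m, hm⟩ := (hp.odd_of_ne_two hodd).pow (n := k)
    refine ⟨u ^ (m + 1), pow_mem hu _, ?_⟩
    rw [← pow_add]
    have : m + 1 + (m + 1) = p ^ k + 1 := by omega
    rw [this, pow_succ, hk', one_mul]
  set v := c * u * c⁻¹ with hv
  have hc' : ∀ x, c * x = x * c → c⁻¹ * x = x * c⁻¹ := by
    intro x hx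
    calc c⁻¹ * x = c⁻¹ * (x * c) * c⁻¹ := by group
      _ = c⁻¹ * (c * x) * c⁻¹ := by rw [hx]
      _ = x * c⁻¹ := by group
  have hvV : v ∈ LeviDec.VJ cs h X (StabComb.orth cs h r) := by
    have hg : c * u₁ * c⁻¹ ∈ GG cs h T X := by
      apply hcG
      exact (le_sup_right : G1 cs h X ≤ GG cs h T X) (X_le_G1 t.hy hu₁)
    have hcN : c ∈ Subgroup.normalizer (Z r : Set Y) :=
      Nodes.ClsNorm.centralizer_le_normalizer' _ (Subgroup.mem_centralizer_iff.2 fun x hx =>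
        (hcr x ((le_sup_left : Z r ≤ KK Z r) hx)).symm)
    have hu₁N : u₁ ∈ Subgroup.normalizer (Z r : Set Y) :=
      Nodes.ClsNorm.centralizer_le_normalizer' _ (Nodes.ClsNorm.X_le_centralizer C t.hr t.hy (by (clear * - hP y1; omega)) hu₁)
    have h1 := Nodes.ClsNorm.comm_mem_VJ C t.hr hd hg (mul_mem (mul_mem hcN hu₁N) (inv_mem hcN))
    have h2 : c * u₁ * c⁻¹ * z r * (c * u₁ * c⁻¹)⁻¹ * (z r)⁻¹ = v := by
      have h3 := t.inv_zr C K (inv_mem hu₁)
      rw [inv_inv] at h3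
      calc c * u₁ * c⁻¹ * z r * (c * u₁ * c⁻¹)⁻¹ * (z r)⁻¹
          = c * u₁ * (c⁻¹ * z r) * c * u₁⁻¹ * (c⁻¹ * (z r)⁻¹) := by group
        _ = c * u₁ * (z r * c⁻¹) * c * u₁⁻¹ * (z r * c⁻¹) := by rw [hzri, hc' _ hzr]
        _ = c * u₁ * (z r * u₁⁻¹ * z r) * c⁻¹ := by group
        _ = c * (u₁ * u₁) * c⁻¹ := by rw [h3]; group
        _ = v := by rw [hu₂]
    rwa [h2] at h1
  have hvS : v ∈ RGD.Sup X {x | IsRoot cs h x ∧ 0 < form cs h x r} := by
    refine RGD.Sup_mono (fun x hx => ?_) hvV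
    have hx1 : IsRoot cs h x := hx.1
    exact ⟨hx1, (Nodes.ClsNorm.mem_NotJ_orth_iff hd hx1).1 hx⟩
  obtain ⟨a, ha, b, hb, w, hw, e⟩ := t.decomp C K hvS
  -- `a = 1`
  have hvs : ∀ x ∈ Z s, v * x = x * v := by
    intro x hx
    have h1 := hcs x ((le_sup_left : Z s ≤ KK Z s) hx)
    have h2 := C.cent s t.hs y t.hy (by (clear * - hP y2; omega)) u hu x hx
    calc v * x = c * u * (c⁻¹ * x) := by rw [hv]; group
      _ = c * (u * x) * c⁻¹ := by rw [hc' _ h1]; group
      _ = (c * x) * u * c⁻¹ := by rw [h2]; group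
      _ = x * v := by rw [h1, hv]; group
  have hws : ∀ x ∈ Z s, w * x = x * w := by
    intro x hx
    have h1 : RGD.Sup X {x | IsRoot cs h x ∧ 0 < form cs h x r ∧ form cs h x s = 0} ≤ Subgroup.centralizer {x} := by
      refine RGD.Sup_le fun x' hx' b' hb' => ?_
      rw [Subgroup.mem_centralizer_singleton_iff]
      exact C.cent s t.hs x' hx'.1 hx'.2.2.ge b' hb' x hx
    exact Subgroup.mem_centralizer_singleton_iff.1 (h1 hw)
  have ha1 : a = 1 := by
    have h1 : ∀ x ∈ Z s, a * x = x * a := by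
      intro x hx
      have h2 := hvs x hx
      have h3 := C.cent s t.hs y t.hy (by (clear * - h hP y1 y2 y4; omega)) b hb x hx
      have h4 := hws x hx
      have h5 : a = v * w⁻¹ * b⁻¹ := by rw [e]; group
      have hi : ∀ g : Y, g * x = x * g → g⁻¹ * x = x * g⁻¹ := by
        intro g hg
        calc g⁻¹ * x = g⁻¹ * (x * g) * g⁻¹ := by group
          _ = g⁻¹ * (g * x) * g⁻¹ := by rw [hg]
          _ = x * g⁻¹ := by group
      calc a * x = v * w⁻¹ * (b⁻¹ * x) := by rw [h5]; group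
        _ = v * (w⁻¹ * x) * b⁻¹ := by rw [hi b h3]; group
        _ = (v * x) * w⁻¹ * b⁻¹ := by rw [hi w h4]; group
        _ = x * a := by rw [h2, h5]; group
    have h2 : ∀ x ∈ Z (-s), a * x = x * a := fun x hx =>
      C.cent (-s) tf.hs (y - s) tf.hy (by (clear * - hP y4; omega)) a ha x hx
    have h3 : z s ∈ Subgroup.centralizer {a} := by
      refine (sup_le (fun x hx => ?_) (fun x hx => ?_) : Z s ⊔ Z (-s) ≤ Subgroup.centralizer {a}) (C.z_mem s t.hs)
      · rw [Subgroup.mem_centralizer_singleton_iff]; exact (h1 x hx).symm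
      · rw [Subgroup.mem_centralizer_singleton_iff]; exact (h2 x hx).symm
    have h4 : z s * a = a * z s := Subgroup.mem_centralizer_singleton_iff.1 h3
    have h5 := tf.inv_zs C K ha
    rw [C.z_neg s t.hs, h4, mul_assoc, hzs2, mul_one] at h5
    exact Nodes.ZRel.eq_one_of_inv C hp hodd tf.hy ha h5
  rw [ha1, one_mul] at e
  -- `w = 1`
  have hwz : z s * w = w * z s := by
    have h1 : RGD.Sup X {x | IsRoot cs h x ∧ 0 < form cs h x r ∧ form cs h x s = 0} ≤
        Subgroup.centralizer {z s} := by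
      refine RGD.Sup_le fun x' hx' b' hb' => ?_
      rw [Subgroup.mem_centralizer_singleton_iff]
      exact Nodes.ZRel.z_cent_of_orth C t.hs hx'.1 hx'.2.2 hb'
    exact (Subgroup.mem_centralizer_singleton_iff.1 (h1 hw)).symm
  have hbw : b * w = w * b := by
    have h1 : RGD.Sup X {x | IsRoot cs h x ∧ 0 < form cs h x r ∧ form cs h x s = 0} ≤
        Subgroup.centralizer {b} := by
      refine RGD.Sup_le fun x' hx' b' hb' => ?_
      rw [Subgroup.mem_centralizer_singleton_iff]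
      exact (t.comm_x C K hx'.1 hx'.2.1 hx'.2.2 hb hb').symm
    exact (Subgroup.mem_centralizer_singleton_iff.1 (h1 hw)).symm
  have hvz : z s * v * z s = v⁻¹ := by
    calc z s * v * z s = (z s * c) * u * (c⁻¹ * z s) := by rw [hv]; group
      _ = (c * z s) * u * (z s * c⁻¹) := by rw [hzs, hc' _ hzs]
      _ = c * (z s * u * z s) * c⁻¹ := by group
      _ = v⁻¹ := by rw [t.inv_zs C K hu, hv]; group
  have hw1 : w = 1 := by
    have hpg : IsPGroup p ↥(RGD.Sup X {x | IsRoot cs h x ∧ 0 < form cs h x r ∧ form cs h x s = 0}) := by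
      refine C.rgd.isPGroup_of_pos fun x hx => ⟨hx.1, ?_⟩
      exact ((Nodes.ClsNorm.mem_NotJ_orth_iff hd hx.1).2 hx.2.1).2.1
    obtain ⟨k, hk⟩ := hpg ⟨w, hw⟩
    have hk' : w ^ p ^ k = 1 := congrArg Subtype.val hk
    refine eq_one_of_pow hp hodd hk' ?_
    have h1 := t.inv_zs C K hb
    have h2 : z s * (b * w) * z s = b⁻¹ * w := by
      calc z s * (b * w) * z s = z s * b * (w * z s) := by group
        _ = (z s * b * z s) * w := by rw [← hwz]; group
        _ = b⁻¹ * w := by rw [h1]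
    rw [e, h2, hbw, mul_inv_rev] at hvz
    exact mul_left_cancel hvz
  rw [e, hw1, mul_one]
  exact hb

end Tri

include C in
theorem Cq.conj_rp {c : Y} {k : Y} {H : Subgroup Y} (hc : Cq c H) : Cq (k * c * k⁻¹) (cj k H) := by
  intro y hy
  have h2 := hc _ (mem_cj.1 hy)
  calc k * c * k⁻¹ * y = k * (c * (k⁻¹ * y * k)) * k⁻¹ := by group
    _ = k * ((k⁻¹ * y * k) * c) * k⁻¹ := by rw [h2]
    _ = y * (k * c * k⁻¹) := by group

namespace Tri

include C K t

/-- **Step A** -/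
theorem stepA (hp : p.Prime) (hodd : p ≠ 2) {c : Y} (hcG : ∀ g ∈ GG cs h T X, c * g * c⁻¹ ∈ GG cs h T X)
    (hcr : Cq c (KK Z r)) (hcs : Cq c (KK Z s)) {u : Y} (hu : u ∈ X y) : c * u * c⁻¹ ∈ X y := by
  obtain ⟨w, hw⟩ := Nodes.ClsNorm.exists_dominant (cs := cs) (h := h) r
  obtain ⟨k, hk⟩ := exists_rp cs C.rgd.nsys w
  have hkG : k ∈ GG cs h T X := NN_le_GG C.rgd ⟨_, hk⟩
  have t' : Tri cs h R (rep cs h w r) (rep cs h w s) (rep cs h w y) :=
    ⟨C.act r t.hr w, C.act s t.hs w, by rw [form_rep, t.orth], t.hy.act w, by rw [← map_smul, t.e, map_add]⟩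
  have h1 := t'.stepA_dom C K hp hodd hw (c := k * c * k⁻¹) (fun g hg => by
      have h2 : k * c * k⁻¹ * g * (k * c * k⁻¹)⁻¹ = k * (c * (k⁻¹ * g * k) * c⁻¹) * k⁻¹ := by group
      rw [h2]
      exact mul_mem (mul_mem hkG (hcG _ (mul_mem (mul_mem (inv_mem hkG) hg) hkG))) (inv_mem hkG))
    (by rw [← Nodes.Perp.conj_KK C hk t.hr]; exact Cq.conj_rp C hcr)
    (by rw [← Nodes.Perp.conj_KK C hk t.hs]; exact Cq.conj_rp C hcs) (u := k * u * k⁻¹)
    (by rw [← C.rgd.conj_rp hk t.hy]; exact conj_mem_cj.2 hu)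
  have h2 : k * c * k⁻¹ * (k * u * k⁻¹) * (k * c * k⁻¹)⁻¹ = k * (c * u * c⁻¹) * k⁻¹ := by group
  rw [h2, ← C.rgd.conj_rp hk t.hy] at h1
  exact conj_mem_cj.1 h1

/-- **Step C** (anisotropy) -/
theorem aniso (hp : p.Prime) (hodd : p ≠ 2) {a₀ b₀ c₀ : Y} (ha₀ : a₀ ∈ Z s) (hb₀ : b₀ ∈ Z (-s)) (hb₁ : b₀ ≠ 1)
    (hc₀ : c₀ ∈ Z s) {w : W} (hm : Rp cs C.rgd.nsys w (a₀ * b₀ * c₀))
    (hw : ∀ x, rep cs h w x = x - cpr cs h x s • s) {u : Y} (hu : u ∈ X y)
    (hcm : u * ((a₀ * b₀ * c₀)⁻¹ * u * (a₀ * b₀ * c₀)) = ((a₀ * b₀ * c₀)⁻¹ * u * (a₀ * b₀ * c₀)) * u) : u = 1 := by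
  by_contra hu1
  have tf := t.flip K
  have tn := t.neg K
  have hP := t.pos K
  have y1 := t.yr K
  have y2 := t.ys K
  have y3 := tf.yr K
  have y4 := tf.ys K
  rw [form_neg_right] at y4
  have hsr : form cs h s r = 0 := by rw [form_comm]; exact t.orth
  have hss := K.len s t.hs r t.hr
  have hrR := C.root r t.hr
  have hsR := C.root s t.hs
  have hzs2 := C.z_sq s t.hs
  set n₀ := a₀ * b₀ * c₀ with hn₀
  -- `u` is part of a reflection
  obtain ⟨a', ha', c', hc', w', hm', hw'⟩ := exists_refl_LL C.rgd t.hy.neg (b := u) (by rwa [neg_neg]) hu1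
  have hrw : rep cs h w' r = -s := by
    rw [hw', cpr_neg_right cs h _ t.hy, t.cpr_ry K]
    have := t.e
    rw [two_smul] at this
    rw [neg_smul_neg, two_smul, this]; abel
  have hcZ : cj (a' * u * c') (Z r) = Z (-s) := by
    rw [Nodes.ClsNorm.conj_Z C hm' t.hr, hrw]
  have hab : a' * b₀ = b₀ * a' := C.cent (-s) (K.neg s t.hs) (-y) t.hy.neg
    (by rw [form_neg_left, form_neg_right]; (clear * - hP y2; omega)) a' ha' b₀ hb₀
  obtain ⟨ρ, hρ, hρe⟩ : ∃ ρ ∈ Z r, u⁻¹ * b₀ * u = c' * ρ * c'⁻¹ := by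
    refine ⟨(a' * u * c')⁻¹ * b₀ * (a' * u * c'), mem_cj.1 (by rw [hcZ]; exact hb₀), ?_⟩
    calc u⁻¹ * b₀ * u = u⁻¹ * (a'⁻¹ * (a' * b₀)) * u := by group
      _ = u⁻¹ * (a'⁻¹ * (b₀ * a')) * u := by rw [hab]
      _ = c' * ((a' * u * c')⁻¹ * b₀ * (a' * u * c')) * c'⁻¹ := by group
  have hρ1 : ρ ≠ 1 := by
    rintro rfl
    apply hb₁
    have h1 : b₀ = u * (u⁻¹ * b₀ * u) * u⁻¹ := by group
    rw [h1, hρe]; group
  -- commuting root groups
  have hy'r : ∀ {a b : Y}, a ∈ X (y - s) → b ∈ X r → a * b = b * a := fun ha hb => tf.comm_r C K ha hb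
  have hy's : ∀ {a b : Y}, a ∈ X (y - s) → b ∈ X (-s) → a * b = b * a := fun ha hb => tf.comm_s C K ha hb
  have hsup : ∀ {a b : I → ℤ}, (∀ g ∈ X a, ∀ k ∈ X b, g * k = k * g) → ∀ g ∈ X a ⊔ X b,
      ∃ g₁ ∈ X a, ∃ g₂ ∈ X b, g = g₁ * g₂ := by
    intro a b hcm g hg
    have h1 : X a ≤ Subgroup.normalizer (X b : Set Y) := by
      refine le_trans ?_ (Nodes.ClsNorm.centralizer_le_normalizer' _)
      intro g hg
      rw [Subgroup.mem_centralizer_iff]
      intro k hk
      exact (hcm g hg k hk).symm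
    have h2 : g ∈ ((X a ⊔ X b : Subgroup Y) : Set Y) := hg
    rw [Subgroup.coe_mul_of_left_le_normalizer_right _ _ h1, Set.mem_mul] at h2
    obtain ⟨g₁, h3, g₂, h4, e⟩ := h2
    exact ⟨g₁, h3, g₂, h4, e.symm⟩
  -- first decomposition
  obtain ⟨v, hv, w₁, hw₁, e1⟩ := hsup (fun g hg k hk => hy'r hg hk) _
    (t.comm_mem' C K (inv_mem (C.le _ (K.neg s t.hs) hb₀)) (inv_mem hu))
  have e2 : u⁻¹ * b₀ * u = b₀ * v * w₁ := by
    rw [mul_assoc b₀, ← e1, commutatorElement_def]; group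
  -- second decomposition
  obtain ⟨v₂, hv₂, ζ, hζ, e3⟩ : ∃ v₂ ∈ X (y - s), ∃ ζ ∈ X (-s), ⁅c', ρ⁆ = v₂ * ζ := by
    refine hsup (fun g hg k hk => hy's hg hk) _ ?_
    have h1 := tn.symm.comm_mem' C K (a := ρ) (b := c') (by rw [neg_neg]; exact C.le r t.hr hρ) hc'
    have h2 : -y - -r = y - s := by
      have := t.e
      rw [two_smul] at this
      have h3 : y - s - (-y - -r) = (y + y) - (r + s) := by abel
      rw [this, sub_self] at h3
      exact (sub_eq_zero.1 h3).symm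
    rw [h2] at h1
    have h3 : ⁅c', ρ⁆ = ⁅ρ, c'⁆⁻¹ := by rw [commutatorElement_inv]
    rw [h3]
    exact inv_mem h1
  have e4 : u⁻¹ * b₀ * u = v₂ * ζ * ρ := by
    rw [hρe, ← e3, commutatorElement_def]; group
  have hζv := hy's hv₂ hζ
  -- uniqueness
  have e5 : ζ⁻¹ * b₀ = 1 := by
    have h1 : ζ⁻¹ * b₀ = v₂ * ρ * w₁⁻¹ * v⁻¹ := by
      have h2 : b₀ * v * w₁ = ζ * v₂ * ρ := by rw [← e2, e4, hζv]
      calc ζ⁻¹ * b₀ = ζ⁻¹ * (b₀ * v * w₁) * w₁⁻¹ * v⁻¹ := by group
        _ = ζ⁻¹ * (ζ * v₂ * ρ) * w₁⁻¹ * v⁻¹ := by rw [h2]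
        _ = v₂ * ρ * w₁⁻¹ * v⁻¹ := by group
    refine sep C.rgd ((2 : ℤ) • r + s) ?_ ?_
    · rw [h1]
      have f1 : 0 < form cs h (y - s) ((2 : ℤ) • r + s) := by
        rw [form_add_right, form_smul_right]; omega
      have f2 : 0 < form cs h r ((2 : ℤ) • r + s) := by
        rw [form_add_right, form_smul_right, t.orth]; (clear * - hP; omega)
      have g1 : X (y - s) ≤ RGD.Sup X {x | IsRoot cs h x ∧ 0 < form cs h x ((2 : ℤ) • r + s)} :=
        RGD.le_Sup (S := {x | IsRoot cs h x ∧ 0 < form cs h x ((2 : ℤ) • r + s)}) ⟨tf.hy, f1⟩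
      have g2 : X r ≤ RGD.Sup X {x | IsRoot cs h x ∧ 0 < form cs h x ((2 : ℤ) • r + s)} :=
        RGD.le_Sup (S := {x | IsRoot cs h x ∧ 0 < form cs h x ((2 : ℤ) • r + s)}) ⟨hrR, f2⟩
      exact mul_mem (mul_mem (mul_mem (g1 hv₂) (g2 (C.le r t.hr hρ))) (inv_mem (g2 hw₁))) (inv_mem (g1 hv))
    · have f1 : form cs h (-s) ((2 : ℤ) • r + s) < 0 := by
        rw [form_neg_left, form_add_right, form_smul_right, hsr]; (clear * - hP hss; omega)
      have g1 : X (-s) ≤ RGD.Sup X {x | IsRoot cs h x ∧ form cs h x ((2 : ℤ) • r + s) < 0} :=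
        RGD.le_Sup (S := {x | IsRoot cs h x ∧ form cs h x ((2 : ℤ) • r + s) < 0}) ⟨hsR.neg, f1⟩
      exact mul_mem (inv_mem (g1 hζ)) (g1 (C.le _ (K.neg s t.hs) hb₀))
  have hw₁ρ : w₁ = ρ := by
    have h0 : ζ = b₀ := inv_mul_eq_one.1 e5
    have h2 : b₀ * v * w₁ = ζ * v₂ * ρ := by rw [← e2, e4, hζv]
    rw [h0] at h2
    have h3 : v⁻¹ * v₂ = w₁ * ρ⁻¹ := by
      have h4 : v * w₁ = v₂ * ρ := by
        have := congrArg (fun g => b₀⁻¹ * g) h2
        simpa only [mul_assoc, _root_.inv_mul_cancel_left] using this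
      calc v⁻¹ * v₂ = v⁻¹ * (v₂ * ρ) * ρ⁻¹ := by group
        _ = w₁ * ρ⁻¹ := by rw [← h4]; group
    have h4 : v⁻¹ * v₂ ∈ X (y - s) ⊓ X r := by
      refine Subgroup.mem_inf.2 ⟨mul_mem (inv_mem hv) hv₂, ?_⟩
      rw [h3]
      exact mul_mem hw₁ (inv_mem (C.le r t.hr hρ))
    rw [OppDec.X_inf_X C.rgd tf.hy hrR (by
      intro e
      rw [e, t.orth] at y4
      omega), Subgroup.mem_bot] at h4
    rw [h4] at h3
    exact (mul_inv_eq_one.1 h3.symm)
  -- conjugation by `z s`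
  have hzsu := t.inv_zs C K hu
  have hzsv : z s * v * z s = v⁻¹ := by
    have := tf.inv_zs C K hv
    rwa [C.z_neg s t.hs] at this
  have hzsb : z s * b₀ = b₀ * z s := by
    have := C.z_cent (-s) (K.neg s t.hs) b₀ hb₀
    rwa [C.z_neg s t.hs] at this
  have hzsw : w₁ * z s = z s * w₁ := Nodes.ZRel.z_cent_of_orth C t.hs hrR t.orth hw₁
  have hzsui := t.inv_zs C K (inv_mem hu)
  rw [inv_inv] at hzsui
  have e6 : u * b₀ * u⁻¹ = b₀ * v⁻¹ * w₁ := by
    calc u * b₀ * u⁻¹ = (z s * u⁻¹ * z s) * b₀ * (z s * u * z s) := by rw [hzsu, hzsui]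
      _ = z s * u⁻¹ * (z s * b₀) * z s * u * z s := by group
      _ = z s * u⁻¹ * (b₀ * z s) * z s * u * z s := by rw [hzsb]
      _ = z s * u⁻¹ * b₀ * (z s * z s) * u * z s := by group
      _ = z s * (u⁻¹ * b₀ * u) * z s := by rw [hzs2]; group
      _ = (z s * b₀) * v * (w₁ * z s) := by rw [e2]; group
      _ = b₀ * (z s * v * z s) * w₁ := by rw [hzsb, hzsw]; group
      _ = b₀ * v⁻¹ * w₁ := by rw [hzsv]
  have huw : u * w₁ = w₁ * u := t.comm_r C K hu hw₁
  have hvw : v * w₁ = w₁ * v := hy'r hv hw₁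
  have e7 : u * v * u⁻¹ = w₁⁻¹ * v * w₁⁻¹ := by
    have h1 : b₀ = b₀ * v⁻¹ * w₁ * (u * v * u⁻¹) * w₁ := by
      calc b₀ = u * (u⁻¹ * b₀ * u) * u⁻¹ := by group
        _ = (u * b₀ * u⁻¹) * (u * v * w₁ * u⁻¹) := by rw [e2]; group
        _ = b₀ * v⁻¹ * w₁ * (u * v * (w₁ * u⁻¹)) := by rw [e6]; group
        _ = b₀ * v⁻¹ * w₁ * (u * v * (u⁻¹ * (u * w₁) * u⁻¹)) := by group
        _ = b₀ * v⁻¹ * w₁ * (u * v * (u⁻¹ * (w₁ * u) * u⁻¹)) := by rw [huw]
        _ = b₀ * v⁻¹ * w₁ * (u * v * u⁻¹) * w₁ := by group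
    calc u * v * u⁻¹ = w₁⁻¹ * v * b₀⁻¹ * (b₀ * v⁻¹ * w₁ * (u * v * u⁻¹) * w₁) * w₁⁻¹ := by group
      _ = w₁⁻¹ * v * b₀⁻¹ * b₀ * w₁⁻¹ := by rw [← h1]
      _ = w₁⁻¹ * v * w₁⁻¹ := by group
  -- `v = n₀⁻¹ u⁻¹ n₀`
  have hcpr : rep cs h w (y - s) = y := by
    have h1 : cpr cs h (y - s) s = -1 := by
      have := tf.cpr_ys K
      rw [cpr_neg_right cs h _ hsR] at this
      omega
    rw [hw, h1, neg_smul, one_smul]; abel
  have hũ : ∀ {g : Y}, g ∈ X y → n₀⁻¹ * g * n₀ ∈ X (y - s) := by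
    intro g hg
    have h1 := C.rgd.conj_mem' hm t.hy hg
    rwa [← hcpr, rep_inv_apply] at h1
  have hau : a₀ * u = u * a₀ := (C.cent s t.hs y t.hy (by (clear * - hP y2; omega)) u hu a₀ ha₀).symm
  have hcu : c₀ * u = u * c₀ := (C.cent s t.hs y t.hy (by (clear * - hP y2; omega)) u hu c₀ hc₀).symm
  set ũ := n₀⁻¹ * u⁻¹ * n₀ with hũd
  have hũm : ũ ∈ X (y - s) := hũ (inv_mem hu)
  have e8 : u⁻¹ * b₀ * u = b₀ * (c₀ * ũ * c₀⁻¹) * u := by
    have h1 : b₀ = a₀⁻¹ * n₀ * c₀⁻¹ := by rw [hn₀]; group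
    have h2 : u⁻¹ * a₀⁻¹ = a₀⁻¹ * u⁻¹ := by rw [← mul_inv_rev, ← mul_inv_rev, hau]
    have h3 : c₀⁻¹ * u = u * c₀⁻¹ := by
      calc c₀⁻¹ * u = c₀⁻¹ * (u * c₀) * c₀⁻¹ := by group
        _ = c₀⁻¹ * (c₀ * u) * c₀⁻¹ := by rw [hcu]
        _ = u * c₀⁻¹ := by group
    calc u⁻¹ * b₀ * u = (u⁻¹ * a₀⁻¹) * n₀ * (c₀⁻¹ * u) := by rw [h1]; group
      _ = a₀⁻¹ * n₀ * ũ * (u * c₀⁻¹) := by rw [h2, h3, hũd]; group
      _ = a₀⁻¹ * n₀ * ũ * (c₀⁻¹ * u) := by rw [h3]
      _ = b₀ * (c₀ * ũ * c₀⁻¹) * u := by rw [h1]; group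
  have e9 : ⁅c₀, ũ⁻¹⁆ ∈ X y ⊔ X r := by
    have h1 := tf.comm_mem' C K (a := c₀) (b := ũ⁻¹) (by rw [neg_neg]; exact C.le s t.hs hc₀) (inv_mem hũm)
    have h2 : y - s - -s = y := by abel
    rwa [h2] at h1
  have e10 : v = ũ := by
    have h1 : ũ⁻¹ * v = ⁅c₀, ũ⁻¹⁆⁻¹ * u * w₁⁻¹ := by
      have h2 : b₀ * v * w₁ = b₀ * (c₀ * ũ * c₀⁻¹) * u := by rw [← e2, e8]
      calc ũ⁻¹ * v = ũ⁻¹ * b₀⁻¹ * (b₀ * v * w₁) * w₁⁻¹ := by group
        _ = ũ⁻¹ * b₀⁻¹ * (b₀ * (c₀ * ũ * c₀⁻¹) * u) * w₁⁻¹ := by rw [h2]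
        _ = ⁅c₀, ũ⁻¹⁆⁻¹ * u * w₁⁻¹ := by rw [commutatorElement_def]; group
    have h3 : ũ⁻¹ * v = 1 := by
      refine sep C.rgd (-(r + (2 : ℤ) • s)) ?_ ?_
      · have f1 : 0 < form cs h (y - s) (-(r + (2 : ℤ) • s)) := by
          rw [form_neg_right, form_add_right, form_smul_right]; omega
        have g1 : X (y - s) ≤ RGD.Sup X {x | IsRoot cs h x ∧ 0 < form cs h x (-(r + (2 : ℤ) • s))} :=
          RGD.le_Sup (S := {x | IsRoot cs h x ∧ 0 < form cs h x (-(r + (2 : ℤ) • s))}) ⟨tf.hy, f1⟩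
        exact mul_mem (inv_mem (g1 hũm)) (g1 hv)
      · rw [h1]
        have f1 : form cs h y (-(r + (2 : ℤ) • s)) < 0 := by
          rw [form_neg_right, form_add_right, form_smul_right]; omega
        have f2 : form cs h r (-(r + (2 : ℤ) • s)) < 0 := by
          rw [form_neg_right, form_add_right, form_smul_right, t.orth]; (clear * - hP; omega)
        have g1 : X y ≤ RGD.Sup X {x | IsRoot cs h x ∧ form cs h x (-(r + (2 : ℤ) • s)) < 0} :=
          RGD.le_Sup (S := {x | IsRoot cs h x ∧ form cs h x (-(r + (2 : ℤ) • s)) < 0}) ⟨t.hy, f1⟩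
        have g2 : X r ≤ RGD.Sup X {x | IsRoot cs h x ∧ form cs h x (-(r + (2 : ℤ) • s)) < 0} :=
          RGD.le_Sup (S := {x | IsRoot cs h x ∧ form cs h x (-(r + (2 : ℤ) • s)) < 0}) ⟨hrR, f2⟩
        exact mul_mem (mul_mem (inv_mem ((sup_le g1 g2) e9)) (g1 hu)) (inv_mem (g2 hw₁))
    exact (inv_mul_eq_one.1 h3).symm
  -- conclusion
  have e11 : u * v = v * u := by
    have h1 : v = (n₀⁻¹ * u * n₀)⁻¹ := by rw [e10, hũd]; group
    rw [h1]
    calc u * (n₀⁻¹ * u * n₀)⁻¹ = (n₀⁻¹ * u * n₀)⁻¹ * ((n₀⁻¹ * u * n₀) * u) * (n₀⁻¹ * u * n₀)⁻¹ := by group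
      _ = (n₀⁻¹ * u * n₀)⁻¹ * (u * (n₀⁻¹ * u * n₀)) * (n₀⁻¹ * u * n₀)⁻¹ := by rw [hcm]
      _ = (n₀⁻¹ * u * n₀)⁻¹ * u := by group
  have e12 : w₁ = w₁⁻¹ := by
    have h1 : v = w₁⁻¹ * v * w₁⁻¹ := by rw [← e7, e11]; group
    have h2 : v * w₁⁻¹ = w₁⁻¹ * v := by
      calc v * w₁⁻¹ = w₁⁻¹ * (w₁ * v) * w₁⁻¹ := by group
        _ = w₁⁻¹ * (v * w₁) * w₁⁻¹ := by rw [hvw]
        _ = w₁⁻¹ * v := by group
    rw [← h2] at h1
    have h3 : v * 1 = v * (w₁⁻¹ * w₁⁻¹) := by rw [mul_one, ← mul_assoc]; exact h1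
    have h4 := mul_left_cancel h3
    calc w₁ = w₁ * 1 := (mul_one _).symm
      _ = w₁ * (w₁⁻¹ * w₁⁻¹) := by rw [h4]
      _ = w₁⁻¹ := by group
  exact hρ1 (hw₁ρ ▸ Nodes.ZRel.eq_one_of_inv C hp hodd hrR hw₁ e12)

/-- **Step D**: `c` centralises `X y` -/
theorem cent (hp : p.Prime) (hodd : p ≠ 2) (hZ : ∀ b ∈ Z r, b * b * b = 1) {c : Y} (hc3 : c * c * c = 1)
    (hcG : ∀ g ∈ GG cs h T X, c * g * c⁻¹ ∈ GG cs h T X)
    (hcr : Cq c (KK Z r)) (hcs : Cq c (KK Z s)) : Cq c (X y) := by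
  have tf := t.flip K
  have hP := t.pos K
  have y1 := t.yr K
  have y2 := t.ys K
  have hrR := C.root r t.hr
  have hsR := C.root s t.hs
  obtain ⟨b₀, hb₀, hb₁⟩ := Z_ne_bot' C (K.neg s t.hs)
  obtain ⟨a₀, ha₀, c₀, hc₀, w, hm, hw⟩ := exists_refl_KK C hp hodd t.hs hb₀ hb₁
  have han := fun {u : Y} => t.aniso C K hp hodd ha₀ hb₀ hb₁ hc₀ hm hw (u := u)
  have hn₀K : a₀ * b₀ * c₀ ∈ KK Z s :=
    mul_mem (mul_mem ((le_sup_left : Z s ≤ KK Z s) ha₀) ((le_sup_right : Z (-s) ≤ KK Z s) hb₀))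
      ((le_sup_left : Z s ≤ KK Z s) hc₀)
  set n₀ := a₀ * b₀ * c₀ with hn₀
  have hcpr : rep cs h w (y - s) = y := by
    have h1 : cpr cs h (y - s) s = -1 := by
      have := tf.cpr_ys K
      rw [cpr_neg_right cs h _ hsR] at this
      omega
    rw [hw, h1, neg_smul, one_smul]; abel
  have hcj : ∀ {g : Y}, g ∈ X y → n₀⁻¹ * g * n₀ ∈ X (y - s) := by
    intro g hg
    have h1 := C.rgd.conj_mem' hm t.hy hg
    rwa [← hcpr, rep_inv_apply] at h1
  -- the form
  obtain ⟨f, hf⟩ : ∃ f : Y → Y → Y, ∀ a b, f a b = ⁅a, n₀⁻¹ * b * n₀⁆ := ⟨_, fun a b => rfl⟩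
  have hfr : ∀ a ∈ X y, ∀ b ∈ X y, f a b ∈ X r := fun a ha b hb => by
    rw [hf]; exact t.comm_mem C K ha (hcj hb)
  have hfZ : ∀ a ∈ X y, ∀ b ∈ X y, f a b ∈ Z r := by
    intro a ha b hb
    refine mem_Z_of_comm C hp hodd t.hr (hfr a ha b hb) ?_
    have hr := hfr a ha b hb
    rw [hf] at hr ⊢
    set b' := n₀⁻¹ * b * n₀ with hb'
    have hb'm : b' ∈ X (y - s) := hcj hb
    have h1 := t.inv_zr C K ha
    have h2 := tf.inv_zr C K hb'm
    have h1' := t.inv_zr C K (inv_mem ha)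
    have h2' := tf.inv_zr C K (inv_mem hb'm)
    have hzz := C.z_sq r t.hr
    have e1 : z r * ⁅a, b'⁆ * z r = a⁻¹ * b'⁻¹ * a * b' := by
      calc z r * ⁅a, b'⁆ * z r = z r * a * 1 * b' * 1 * a⁻¹ * 1 * b'⁻¹ * z r := by
            rw [commutatorElement_def]; group
        _ = z r * a * (z r * z r) * b' * (z r * z r) * a⁻¹ * (z r * z r) * b'⁻¹ * z r := by rw [hzz]
        _ = (z r * a * z r) * (z r * b' * z r) * (z r * a⁻¹ * z r) * (z r * b'⁻¹ * z r) := by group
        _ = a⁻¹ * b'⁻¹ * a * b' := by rw [h1, h2, h1', h2', inv_inv, inv_inv]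
    have e2 : a * ⁅a, b'⁆ = ⁅a, b'⁆ * a := t.comm_r C K ha hr
    have e3 : b' * ⁅a, b'⁆ = ⁅a, b'⁆ * b' := tf.comm_r C K hb'm hr
    rw [e1]
    calc a⁻¹ * b'⁻¹ * a * b' = a⁻¹ * b'⁻¹ * (⁅a, b'⁆ * b') * a := by rw [commutatorElement_def]; group
      _ = a⁻¹ * (⁅a, b'⁆ * a) := by rw [← e3]; group
      _ = ⁅a, b'⁆ := by rw [← e2]; group
  have hmul : ∀ a ∈ X y, ∀ b ∈ X y, ∀ v ∈ X y, f (a * b) v = f a v * f b v := by
    intro a ha b hb v hv
    have h1 := hfr b hb v hv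
    have h2 := hfZ a ha v hv
    have h3 : a * f b v = f b v * a := t.comm_r C K ha h1
    have h4 : f b v * f a v = f a v * f b v := C.cent r t.hr r hrR hP.le _ h1 _ h2
    rw [← h4]
    rw [hf b v] at h3 ⊢
    rw [hf, hf]
    calc ⁅a * b, n₀⁻¹ * v * n₀⁆ = (a * ⁅b, n₀⁻¹ * v * n₀⁆) * a⁻¹ * ⁅a, n₀⁻¹ * v * n₀⁆ := by
          rw [commutatorElement_def, commutatorElement_def, commutatorElement_def]; group
      _ = ⁅b, n₀⁻¹ * v * n₀⁆ * ⁅a, n₀⁻¹ * v * n₀⁆ := by rw [h3]; group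
  have hcn : c * n₀ = n₀ * c := hcs _ hn₀K
  have hfc : ∀ a ∈ X y, ∀ b ∈ X y, f (c * a * c⁻¹) (c * b * c⁻¹) = f a b := by
    intro a ha b hb
    have h1 := hcr _ ((le_sup_left : Z r ≤ KK Z r) (hfZ a ha b hb))
    have hcn' : n₀⁻¹ * c = c * n₀⁻¹ := by
      calc n₀⁻¹ * c = n₀⁻¹ * (c * n₀) * n₀⁻¹ := by group
        _ = n₀⁻¹ * (n₀ * c) * n₀⁻¹ := by rw [hcn]
        _ = c * n₀⁻¹ := by group
    have hcn'' : c⁻¹ * n₀ = n₀ * c⁻¹ := by
      calc c⁻¹ * n₀ = c⁻¹ * (n₀ * c) * c⁻¹ := by group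
        _ = c⁻¹ * (c * n₀) * c⁻¹ := by rw [hcn]
        _ = n₀ * c⁻¹ := by group
    have h2 : n₀⁻¹ * (c * b * c⁻¹) * n₀ = c * (n₀⁻¹ * b * n₀) * c⁻¹ := by
      calc n₀⁻¹ * (c * b * c⁻¹) * n₀ = (n₀⁻¹ * c) * b * (c⁻¹ * n₀) := by group
        _ = c * (n₀⁻¹ * b * n₀) * c⁻¹ := by rw [hcn', hcn'']; group
    calc f (c * a * c⁻¹) (c * b * c⁻¹) = ⁅c * a * c⁻¹, c * (n₀⁻¹ * b * n₀) * c⁻¹⁆ := by rw [hf, h2]
      _ = c * f a b * c⁻¹ := by rw [hf, commutatorElement_def, commutatorElement_def]; group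
      _ = f a b := by rw [h1]; group
  have hab : ∀ a ∈ X y, ∀ b ∈ X y, a * b = b * a := by
    intro a ha b hb
    have h1 := t.inv_zr C K ha
    have h2 := t.inv_zr C K hb
    have h3 := t.inv_zr C K (mul_mem ha hb)
    have hzz := C.z_sq r t.hr
    have h4 : a⁻¹ * b⁻¹ = (a * b)⁻¹ := by
      calc a⁻¹ * b⁻¹ = z r * a * (z r * z r) * b * z r := by rw [← h1, ← h2]; group
        _ = z r * (a * b) * z r := by rw [hzz]; group
        _ = (a * b)⁻¹ := h3
    have h5 := congrArg (·⁻¹) h4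
    simp only [mul_inv_rev, inv_inv] at h5
    exact h5.symm
  -- the abstract lemma
  let _ : CommGroup ↥(X y) := { (inferInstance : Group ↥(X y)) with mul_comm := fun a b => Subtype.ext (hab _ a.2 _ b.2) }
  have hinv : ∀ u : ↥(X y), c * (u : Y) * c⁻¹ ∈ X y := fun u => t.stepA C K hp hodd hcG hcr hcs u.2
  have key := fixed_of_aniso (V := Additive ↥(X y)) (Y' := Y)
    (fun a b => f (a.toMul : ↥(X y)) (b.toMul : ↥(X y))) (fun a => Additive.ofMul ⟨c * (a.toMul : ↥(X y)) * c⁻¹, hinv _⟩)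
    (fun a b => by
      apply Additive.toMul.injective
      apply Subtype.ext
      change c * ((a.toMul : ↥(X y)) * (b.toMul : ↥(X y)) : Y) * c⁻¹ =
        (c * (a.toMul : ↥(X y)) * c⁻¹) * (c * (b.toMul : ↥(X y)) * c⁻¹)
      group)
    (fun a => by
      apply Additive.toMul.injective
      apply Subtype.ext
      change c * (c * (c * (a.toMul : ↥(X y)) * c⁻¹) * c⁻¹) * c⁻¹ = ((a.toMul : ↥(X y)) : Y)
      have : c * (c * (c * (a.toMul : ↥(X y)) * c⁻¹) * c⁻¹) * c⁻¹ =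
        (c * c * c) * ((a.toMul : ↥(X y)) : Y) * (c * c * c)⁻¹ := by group
      rw [this, hc3]; group)
    (fun a b v => hmul _ a.toMul.2 _ b.toMul.2 _ v.toMul.2)
    (fun a v => hZ _ (hfZ _ a.toMul.2 _ v.toMul.2))
    (fun a b => hfc _ a.toMul.2 _ b.toMul.2)
    (fun a ha => by
      apply Additive.toMul.injective
      apply Subtype.ext
      refine han a.toMul.2 ?_
      have h1 : f (a.toMul : ↥(X y)) (a.toMul : ↥(X y)) = 1 := ha
      rw [hf, commutatorElement_eq_one_iff_mul_comm] at h1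
      exact h1)
  intro u hu
  have h1 := key (Additive.ofMul ⟨u, hu⟩)
  have h2 : c * u * c⁻¹ = u := congrArg (fun a : Additive ↥(X y) => ((a.toMul : ↥(X y)) : Y)) h1
  calc c * u = (c * u * c⁻¹) * c := by group
    _ = u * c := by rw [h2]

end Tri

end Groups

/-- **(F2'_3), (c2)**: `c` centralises all root groups. -/
theorem cent_of_perp {r : I → ℤ} (C : Cls cs h p T n X R Z z) (hp : p.Prime) (hodd : p ≠ 2) (K : Lcc cs h R)
    (hZ : ∀ r ∈ R, ∀ b ∈ Z r, b * b * b = 1) (hr : r ∈ R) (hnb : ∃ s y, Tri cs h R r s y) {c : Y}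
    (hc3 : c * c * c = 1) (hcG : ∀ g ∈ GG cs h T X, c * g * c⁻¹ ∈ GG cs h T X) (hcr : Cq c (KK Z r))
    (hcx : ∀ x, IsRoot cs h x → form cs h x r = 0 → Cq c (X x)) : ∀ x, IsRoot cs h x → Cq c (X x) := by
  -- the half sums
  have key : ∀ r' s y, (r' = r ∨ r' = -r) → Tri cs h R r' s y → Cq c (X y) := by
    intro r' s y hr' t
    have h1 : Cq c (KK Z r') := by
      rcases hr' with rfl | rfl
      · exact hcr
      · rw [KK_neg]; exact hcr
    have h2 : ∀ x, IsRoot cs h x → form cs h x r' = 0 → Cq c (X x) := by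
      intro x hx h0
      rcases hr' with rfl | rfl
      · exact hcx x hx h0
      · rw [form_neg_right, neg_eq_zero] at h0
        exact hcx x hx h0
    have h3 : form cs h s r' = 0 := by rw [form_comm]; exact t.orth
    have h4 : Cq c (KK Z s) :=
      ((h2 s (K.root s t.hs) h3).mono (C.le s t.hs)).sup ((h2 (-s) (K.root s t.hs).neg
        (by rw [form_neg_left, h3, neg_zero])).mono (C.le _ (K.neg s t.hs)))
    exact t.cent C K hp hodd (hZ r' t.hr) hc3 hcG h1 h4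
  obtain ⟨s, y, t⟩ := hnb
  have hsr : form cs h s r = 0 := by rw [form_comm]; exact t.orth
  have hL : Cq c (LL X y) := (key r s y (Or.inl rfl) t).sup (key (-r) (-s) (-y) (Or.inr rfl) (t.neg K))
  obtain ⟨m, hm, w, hmw, hw⟩ := Nodes.Perp.exists_refl C t.hy
  have hcm := hL m hm
  have hrs : rep cs h w s = -r := by
    rw [hw, t.symm.cpr_ry K]
    have := t.e
    rw [two_smul] at this
    rw [two_smul, this]; abel
  have hXnr : Cq c (X (-r)) := by
    have h1 := (hcx s (C.root s t.hs) hsr).conj hcm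
    rwa [C.rgd.conj_rp hmw (C.root s t.hs), hrs] at h1
  have hXr : Cq c (X r) := by
    have h1 := (hcx (-s) (C.root s t.hs).neg (by rw [form_neg_left, hsr, neg_zero])).conj hcm
    rwa [C.rgd.conj_rp hmw (C.root s t.hs).neg, map_neg, hrs, neg_neg] at h1
  intro x hx
  by_cases h0 : form cs h x r = 0
  · exact hcx x hx h0
  by_cases hxR : x ∈ R
  · by_cases e1 : x = r
    · rw [e1]; exact hXr
    by_cases e2 : x = -r
    · rw [e2]; exact hXnr
    exact absurd (K.orth x hxR r hr e1 e2) h0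
  obtain ⟨a, ha, b, hb, hab, e⟩ := K.half x hx hxR
  have tx : Tri cs h R a b x := ⟨ha, hb, hab, hx, e⟩
  by_cases a1 : a = r
  · exact key a b x (Or.inl a1) tx
  by_cases a2 : a = -r
  · exact key a b x (Or.inr a2) tx
  by_cases b1 : b = r
  · exact key b a x (Or.inl b1) tx.symm
  by_cases b2 : b = -r
  · exact key b a x (Or.inr b2) tx.symm
  exfalso
  apply h0
  have h1 : 2 * form cs h x r = 0 := by
    rw [← form_smul_left, e, form_add_left, K.orth a ha r hr a1 a2, K.orth b hb r hr b1 b2, add_zero]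
  omega

end Cfsg.Agent.OddHalf.NI3.FThree

end

-- merged: Cfsg.Agent.OddHalf.NI3.FThree.Kinds
section

/-!
# (F2'_3), part (c): the kinds

For a chart `c` of `L` over the field with three elements (`|Z r| = 3`):

* `comm_of_chart` : kinds `A n`, `B n` (`n ≥ 3`), `D n`, `E n`, `F₄` (all kinds but `C n`, `G₂`): a subgroup `Q` of `L`
  centralising `KK Z r` and all `X x`, `x` orthogonal to `r`, is commutative;
* `cent_of_chart` : kinds `C n`, `n ≥ 2`: an element of order three normalising `L` and centralising `KK Z r` and all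
  `X x`, `x` orthogonal to `r`, centralises `L`.
-/

set_option autoImplicit false
set_option linter.unusedSectionVars false
set_option linter.dupNamespace false

namespace Cfsg.Agent.OddHalf.NI3.FThree

open Cfsg
open CoxeterSystem Cfsg.Agent.ChevalleyStructure.CoxeterGeom Cfsg.Agent.Tits.Roots Cfsg.Agent.Tits.Core
  Cfsg.Agent.Tits.RootComb Cfsg.Agent.Nodes.Comb Cfsg.Agent.Nodes.Reps Cfsg.Agent.Nodes.BNOf
  Cfsg.Agent.Nodes.RGDLib Cfsg.Agent.Nodes.Chart Cfsg.Agent.Nodes.Coroot Cfsg.Agent.Nodes.FreeTorus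
  Cfsg.Agent.Nodes.SubComb Cfsg.Agent.Nodes.Bruhat Cfsg.Agent.Nodes.StabComb Cfsg.Agent.Nodes.Perp
  Cfsg.Agent.Nodes.Sub Cfsg.Agent.Nodes.ClsSub Cfsg.Agent.Nodes Cfsg.Agent.Nodes.KindBC

/-! ### Root level -/

section Root

variable {I W : Type*} [Fintype I] [DecidableEq I] [Group W] [Fintype W] {M : CoxeterMatrix I}
  (cs : CoxeterSystem M W) {A : I → I → ℤ} (h : IsCartan M A)

/-- the roots outside `R` can be moved into the hyperplanes of the members of `R` -/
def Short (R : Set (I → ℤ)) : Prop :=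
  ∀ r ∈ R, ∀ x, IsRoot cs h x → x ∉ R → ∃ s ∈ R, cpr cs h (x - cpr cs h x s • s) r = 0

/-- the root level conditions of `Lcc`, and any member of `R` is half of a sum -/
structure Long (R : Set (I → ℤ)) : Prop where
  orth : ∀ x ∈ R, ∀ y ∈ R, x ≠ y → x ≠ -y → cpr cs h x y = 0
  half : ∀ x, IsRoot cs h x → x ∉ R → ∃ a ∈ R, ∃ b ∈ R, cpr cs h a b = 0 ∧ (2 : ℤ) • x = a + b
  nbr : ∀ r ∈ R, ∃ s ∈ R, ∃ y, cpr cs h r s = 0 ∧ IsRoot cs h y ∧ (2 : ℤ) • y = r + s

/-- roots of the same length -/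
theorem abs_cpr_le_one {x y : I → ℤ} (hy : IsRoot cs h y)
    (hl : form cs h x x = form cs h y y) (h1 : x ≠ y) (h2 : x ≠ -y) : |cpr cs h x y| ≤ 1 := by
  have e1 := two_form_cpr cs h x hy
  have p1 := form_pos cs h (x := x - y) (sub_ne_zero.2 h1)
  have p2 := form_pos cs h (x := x + y) (by rw [← sub_neg_eq_add]; exact sub_ne_zero.2 h2)
  have p3 := form_pos cs h hy.ne_zero
  rw [form_sub_left, form_sub_right, form_sub_right, form_comm cs h y x, hl] at p1
  rw [form_add_left, form_add_right, form_add_right, form_comm cs h y x, hl] at p2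
  set N := form cs h y y
  set k := cpr cs h x y
  have q1 : (2 - k) * N > 0 := by linarith
  have q2 : (2 + k) * N > 0 := by linarith
  have q3 := (mul_pos_iff_of_pos_right p3).1 q1
  have q4 := (mul_pos_iff_of_pos_right p3).1 q2
  rw [abs_le]
  omega

end Root

/-! ### The kind `B n` -/

section KB

variable {n : ℕ} {W : Type*} [Group W] [Fintype W] (cs : CoxeterSystem (CoxeterMatrix.B n) W)

theorem short_B (hn : 3 ≤ n) : Short cs (TypeC.isCartan n) (RB n) := by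
  intro r hr x hx hxR
  have hxC : x ∈ RC n := ((isRoot_iff_mem cs).1 hx).resolve_left hxR
  obtain ⟨a, rfl⟩ := mem_RC.1 hxC
  obtain ⟨b, c, hbc, rfl⟩ := mem_RB.1 hr
  obtain ⟨k, hk⟩ : ∃ k : Fin n, k ∉ ({b.1, c.1} : Finset (Fin n)) := by
    by_contra hcon
    push Not at hcon
    have h1 : (Finset.univ : Finset (Fin n)) ⊆ {b.1, c.1} := fun k _ => hcon k
    have h2 := Finset.card_le_card h1
    have h3 := Finset.card_le_two (a := b.1) (b := c.1)
    rw [Finset.card_univ, Fintype.card_fin] at h2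
    omega
  rw [Finset.mem_insert, Finset.mem_singleton, not_or] at hk
  by_cases hak : a.1 = k
  · -- already orthogonal; `s = r` works if `cpr = 0`
    refine ⟨_root_.Cfsg.Agent.Nodes.KindBC.rt b c, rt_mem_RB hbc, ?_⟩
    have h1 : cpr cs (TypeC.isCartan n) (_root_.Cfsg.Agent.Nodes.KindBC.rt a a) (_root_.Cfsg.Agent.Nodes.KindBC.rt b c) = 0 := by
      rw [cpr_rt cs _ hbc, ee_rt, Pi.add_apply, Pi.add_apply, wt_apply_ne (by rw [hak]; exact Ne.symm hk.1),
        wt_apply_ne (by rw [hak]; exact Ne.symm hk.2)]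
      ring
    rw [h1, zero_smul, sub_zero, h1]
  · have hs : a.1 ≠ ((k, true) : Fin n × Bool).1 := hak
    refine ⟨_root_.Cfsg.Agent.Nodes.KindBC.rt a (TypeC.ng (k, true)), rt_mem_RB hs, ?_⟩
    have h1 : cpr cs (TypeC.isCartan n) (_root_.Cfsg.Agent.Nodes.KindBC.rt a a) (_root_.Cfsg.Agent.Nodes.KindBC.rt a (TypeC.ng (k, true))) = 2 := by
      rw [cpr_rt cs _ (b := TypeC.ng (k, true)) hs, ee_rt, Pi.add_apply, Pi.add_apply, wt_apply_self,
        wt_apply_ne (a := a) (k := (TypeC.ng (k, true)).1) (Ne.symm hak)]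
      rcases sn_eq_one_or a with h | h <;> rw [h] <;> ring
    have h2 : TypeC.ee (_root_.Cfsg.Agent.Nodes.KindBC.rt a a - (2 : ℤ) • _root_.Cfsg.Agent.Nodes.KindBC.rt a (TypeC.ng (k, true))) = (2 : ℤ) • TypeC.wt (k, true) := by
      rw [sub_eq_add_neg, TypeC.ee_add, TypeC.ee_neg, TypeC.ee_smul, ee_rt, ee_rt, TypeC.wt_ng]
      module
    rw [h1, cpr_rt cs _ hbc, h2, Pi.smul_apply, Pi.smul_apply, wt_apply_ne (Ne.symm hk.1),
      wt_apply_ne (Ne.symm hk.2)]
    simp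

end KB

/-! ### The kind `C n` -/

section KC

variable {n : ℕ} {W : Type*} [Group W] [Fintype W] (cs : CoxeterSystem (CoxeterMatrix.B n) W)

theorem long_C (hn : 2 ≤ n) : Long cs (TypeC.isCartan n) (RC n) where
  orth x hx y hy h1 h2 := by
    obtain ⟨a, rfl⟩ := mem_RC.1 hx
    obtain ⟨b, rfl⟩ := mem_RC.1 hy
    have hab : b.1 ≠ a.1 := by
      intro e
      obtain ⟨i, s⟩ := a
      obtain ⟨j, t⟩ := b
      change j = i at e
      subst e
      cases s <;> cases t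
      · exact h1 rfl
      · apply h2; rw [← rt_ng]; rfl
      · apply h2; rw [← rt_ng]; rfl
      · exact h1 rfl
    rw [cpr_rt_self, ee_rt, Pi.add_apply, wt_apply_ne hab]
    ring
  half x hx hxR := by
    have hxB : x ∈ RB n := ((isRoot_iff_mem cs).1 hx).resolve_right hxR
    obtain ⟨a, b, hab, rfl⟩ := mem_RB.1 hxB
    refine ⟨_root_.Cfsg.Agent.Nodes.KindBC.rt a a, rt_mem_RC a, _root_.Cfsg.Agent.Nodes.KindBC.rt b b, rt_mem_RC b, ?_, ?_⟩
    · rw [cpr_rt_self, ee_rt, Pi.add_apply, wt_apply_ne (Ne.symm hab)]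
      ring
    · apply TypeC.ee_injective
      rw [TypeC.ee_smul, TypeC.ee_add, ee_rt, ee_rt, ee_rt]
      module
  nbr r hr := by
    obtain ⟨a, rfl⟩ := mem_RC.1 hr
    obtain ⟨k, hk⟩ : ∃ k : Fin n, k ∉ ({a.1} : Finset (Fin n)) := by
      by_contra hcon
      push Not at hcon
      have h1 : (Finset.univ : Finset (Fin n)) ⊆ {a.1} := fun k _ => hcon k
      have h2 := Finset.card_le_card h1
      rw [Finset.card_univ, Fintype.card_fin, Finset.card_singleton] at h2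
      omega
    rw [Finset.mem_singleton] at hk
    refine ⟨_root_.Cfsg.Agent.Nodes.KindBC.rt (k, true) (k, true), rt_mem_RC _, _root_.Cfsg.Agent.Nodes.KindBC.rt a (k, true), ?_, _root_.Cfsg.Agent.Nodes.KindBC.isRoot_rt cs (Or.inl (Ne.symm hk)), ?_⟩
    · rw [cpr_rt_self, ee_rt, Pi.add_apply, wt_apply_ne hk]
      ring
    · apply TypeC.ee_injective
      rw [TypeC.ee_smul, TypeC.ee_add, ee_rt, ee_rt, ee_rt]
      module

end KC

/-! ### The kind `F₄` -/

section KF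

open Cfsg.Lie Cfsg.Agent.ChevalleyStructure Cfsg.Agent.ChevalleyStructure.RootVec
  Cfsg.Agent.ChevalleyStructure.CoxeterGeomTypes Cfsg.Agent.Nodes.RGDChev Cfsg.Agent.Nodes.KindChev

set_option backward.isDefEq.respectTransparency false in
theorem aux_F : ∀ i < chevF4.nroots, ∃ k < chevF4.nroots,
    qf (cartanOf chevF4 4) KindF.d (vec chevF4 4 k) (vec chevF4 4 k) = 4 ∧
    2 * qf (cartanOf chevF4 4) KindF.d (vec chevF4 4 i) (KindF.fr 0) =
      qf (cartanOf chevF4 4) KindF.d (vec chevF4 4 i) (vec chevF4 4 k) *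
        qf (cartanOf chevF4 4) KindF.d (vec chevF4 4 k) (KindF.fr 0) ∨
    qf (cartanOf chevF4 4) KindF.d (vec chevF4 4 i) (vec chevF4 4 i) = 4 := by decide +kernel

theorem short_F {W : Type*} [Group W] [Fintype W] (cs : CoxeterSystem CoxeterMatrix.F₄ W)
    (h : IsCartan CoxeterMatrix.F₄ (cartanOf chevF4 4)) : Short cs h (KindF.R cs h) := by
  -- for the highest root
  have key : ∀ x, IsRoot cs h x → x ∉ KindF.R cs h → ∃ s ∈ KindF.R cs h,
      cpr cs h (x - cpr cs h x s • s) (KindF.fr 0) = 0 := by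
    intro x hx hxR
    obtain ⟨i, hi, rfl⟩ := (isRoot_iff KindF.isType cs x).1 hx
    obtain ⟨k, hk, h1⟩ := aux_F i hi
    have h2 : qf (cartanOf chevF4 4) KindF.d (vec chevF4 4 i) (vec chevF4 4 i) ≠ 4 := fun e => hxR ⟨hx, e⟩
    obtain ⟨h3, h4⟩ := h1.resolve_right h2
    have hs : IsRoot cs h (vec chevF4 4 k) := isRoot_vec KindF.isType cs hk
    refine ⟨vec chevF4 4 k, ⟨hs, h3⟩, ?_⟩
    have h0 := KindF.kd.isRoot (cs := cs) (h := h) KindF.isType 0
    have h5 := cpr_mul_qf cs h KindF.kd.hd (vec chevF4 4 i) hs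
    have h6 := cpr_mul_qf cs h KindF.kd.hd
      (vec chevF4 4 i - cpr cs h (vec chevF4 4 i) (vec chevF4 4 k) • vec chevF4 4 k) h0
    rw [h3] at h5
    rw [KindF.kd.norm, qf_sub_left, qf_smul_left] at h6
    set c := cpr cs h (vec chevF4 4 i) (vec chevF4 4 k)
    have h7 : 2 * (qf (cartanOf chevF4 4) KindF.d (vec chevF4 4 i) (KindF.fr 0) -
        c * qf (cartanOf chevF4 4) KindF.d (vec chevF4 4 k) (KindF.fr 0)) = 0 := by
      have h8 : qf (cartanOf chevF4 4) KindF.d (vec chevF4 4 i) (vec chevF4 4 k) = 2 * c := by linarith only [h5]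
      rw [h8] at h4
      linear_combination h4
    rw [h7] at h6
    rcases mul_eq_zero.1 h6 with h8 | h8
    · exact h8
    · norm_num at h8
  intro r hr x hx hxR
  obtain ⟨w, hw⟩ := KindF.trans cs h hr (KindF.kd.mem KindF.isType 0)
  have hx' : rep cs h w x ∉ KindF.R cs h := by
    intro h1
    have h2 := (KindF.frameSys cs h).act _ h1 w⁻¹
    rw [rep_inv_apply] at h2
    exact hxR h2
  obtain ⟨s, hs, h1⟩ := key _ (hx.act w) hx'
  refine ⟨rep cs h w⁻¹ s, (KindF.frameSys cs h).act _ hs _, ?_⟩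
  have hsr : IsRoot cs h s := hs.1
  have h2 : cpr cs h x (rep cs h w⁻¹ s) = cpr cs h (rep cs h w x) s := by
    have := cpr_rep cs h w⁻¹ (rep cs h w x) hsr
    rwa [rep_inv_apply] at this
  have h3 := cpr_rep cs h w (x - cpr cs h (rep cs h w x) s • rep cs h w⁻¹ s) (y := r) hr.1
  rw [map_sub, map_smul, rep_apply_inv, hw, h1] at h3
  rw [h2]
  exact h3.symm

theorem long_F4_iff {W : Type*} [Group W] [Fintype W] (cs : CoxeterSystem CoxeterMatrix.F₄ W)
    (h : IsCartan CoxeterMatrix.F₄ (cartanOf chevF4 4)) (j : Fin 4) :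
    Ty.F4.long j ↔ (sr j : Fin 4 → ℤ) ∈ KindF.R cs h := by
  have h1 := qf_root cs h KindF.kd.hd 1 j
  rw [map_one, Module.End.one_apply] at h1
  have h2 : (sr j : Fin 4 → ℤ) ∈ KindF.R cs h ↔ 2 * KindF.d j = 4 := by
    constructor
    · rintro ⟨-, h3⟩
      rw [← h1]; exact h3
    · intro h3
      exact ⟨isRoot_sr cs h j, by rw [h1]; exact h3⟩
  rw [h2]
  change 2 ≤ (j : ℕ) ↔ _
  clear h1 h2
  revert j
  decide

end KF

/-! ### Transport -/

section Chart

variable {G : Type*} [Group G] {Om : Set (Subgroup G)} {p : ℕ} {L : Subgroup G}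

/-- the standard Coxeter system on the group of the chart -/
theorem exists_std' (c : Chart Om p L) {τ : Ty} (hτ : c.IsTy τ) :
    ∃ (e : c.I ≃ Fin τ.rk) (cs' : CoxeterSystem τ.M c.W), (∀ i j, c.A i j = τ.cartan (e i) (e j)) ∧
      (∀ i, cs'.simple (e i) = c.cs.simple i) ∧ (∀ i, sr i ∈ c.R ↔ τ.long (e i)) := by
  obtain ⟨e, hA, hl⟩ := hτ
  obtain ⟨cs', hs⟩ := Reindex.exists_reindex c.cs e (fun i j => c.M_apply hA i j)
  exact ⟨e, cs', hA, hs, hl⟩

theorem short_of (c : Chart Om p L) {τ : Ty} (e : c.I ≃ Fin τ.rk) (cs' : CoxeterSystem τ.M c.W)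
    (hA : ∀ i j, c.A i j = τ.cartan (e i) (e j)) (hs : ∀ i, cs'.simple (e i) = c.cs.simple i)
    {R' : Set (Fin τ.rk → ℤ)} (hR'r : ∀ x ∈ R', IsRoot cs' τ.isCartan x)
    (hact' : ∀ r ∈ R', ∀ w, rep cs' τ.isCartan w r ∈ R') (hl : ∀ i, sr i ∈ c.R ↔ sr (e i) ∈ R')
    (hS : Short cs' τ.isCartan R') : Short c.cs c.h c.R := by
  have hmem : ∀ x, IsRoot c.cs c.h x → (x ∈ c.R ↔ x ∘ e.symm ∈ R') := by
    intro x hx
    have h1 := TyStd.mem_R_iff (cs := c.cs) (h := c.h) e (fun i j => c.M_apply hA i j) hA cs' τ.isCartan c.cls.act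
      hact' hl (x := x ∘ e.symm) ((Reindex.isRoot_reindex hA hs).2 hx)
    rw [← h1]
    have h2 : (fun i => (x ∘ e.symm) (e i)) = x := by funext i; simp
    rw [h2]
  intro r hr x hx hxR
  obtain ⟨s', hs', h1⟩ := hS _ ((hmem r (c.cls.root r hr)).1 hr) (x ∘ e.symm) ((Reindex.isRoot_reindex hA hs).2 hx)
    (fun h0 => hxR ((hmem x hx).2 h0))
  obtain ⟨s, rfl⟩ : ∃ s : c.I → ℤ, s' = s ∘ e.symm := ⟨s' ∘ e, (Reindex.comp_symm s').symm⟩
  have hsr : IsRoot c.cs c.h s := (Reindex.isRoot_reindex hA hs).1 (hR'r _ hs')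
  refine ⟨s, (hmem s hsr).2 hs', ?_⟩
  rw [← Reindex.cpr_reindex (cs' := cs') (h' := τ.isCartan) hA hs _ (c.cls.root r hr),
    ← Reindex.cpr_reindex (cs' := cs') (h' := τ.isCartan) hA hs x hsr]
  exact h1

theorem long_of (c : Chart Om p L) {τ : Ty} (e : c.I ≃ Fin τ.rk) (cs' : CoxeterSystem τ.M c.W)
    (hA : ∀ i j, c.A i j = τ.cartan (e i) (e j)) (hs : ∀ i, cs'.simple (e i) = c.cs.simple i)
    {R' : Set (Fin τ.rk → ℤ)} (hR'r : ∀ x ∈ R', IsRoot cs' τ.isCartan x)
    (hact' : ∀ r ∈ R', ∀ w, rep cs' τ.isCartan w r ∈ R') (hl : ∀ i, sr i ∈ c.R ↔ sr (e i) ∈ R')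
    (hS : Long cs' τ.isCartan R') : Long c.cs c.h c.R := by
  have hmem : ∀ x, IsRoot c.cs c.h x → (x ∈ c.R ↔ x ∘ e.symm ∈ R') := by
    intro x hx
    have h1 := TyStd.mem_R_iff (cs := c.cs) (h := c.h) e (fun i j => c.M_apply hA i j) hA cs' τ.isCartan c.cls.act
      hact' hl (x := x ∘ e.symm) ((Reindex.isRoot_reindex hA hs).2 hx)
    rw [← h1]
    have h2 : (fun i => (x ∘ e.symm) (e i)) = x := by funext i; simp
    rw [h2]
  have lift : ∀ s' ∈ R', ∃ s ∈ c.R, s' = s ∘ e.symm := by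
    intro s' hs'
    obtain ⟨s, rfl⟩ : ∃ s : c.I → ℤ, s' = s ∘ e.symm := ⟨s' ∘ e, (Reindex.comp_symm s').symm⟩
    exact ⟨s, (hmem s ((Reindex.isRoot_reindex hA hs).1 (hR'r _ hs'))).2 hs', rfl⟩
  refine ⟨?_, ?_, ?_⟩
  · intro x hx y hy h1 h2
    rw [← Reindex.cpr_reindex (cs' := cs') (h' := τ.isCartan) hA hs _ (c.cls.root y hy)]
    exact hS.orth _ ((hmem x (c.cls.root x hx)).1 hx) _ ((hmem y (c.cls.root y hy)).1 hy)
      (fun e0 => h1 (Reindex.comp_inj e0)) (fun e0 => h2 (Reindex.comp_inj (e := e) e0))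
  · intro x hx hxR
    obtain ⟨a', ha', b', hb', h1, h2⟩ := hS.half _ ((Reindex.isRoot_reindex hA hs).2 hx) (fun h0 => hxR ((hmem x hx).2 h0))
    obtain ⟨a, ha, rfl⟩ := lift a' ha'
    obtain ⟨b, hb, rfl⟩ := lift b' hb'
    refine ⟨a, ha, b, hb, ?_, ?_⟩
    · rw [← Reindex.cpr_reindex (cs' := cs') (h' := τ.isCartan) hA hs _ (c.cls.root b hb)]
      exact h1
    · exact Reindex.comp_inj (e := e) h2
  · intro r hr
    obtain ⟨s', hs', y', h1, h2, h3⟩ := hS.nbr _ ((hmem r (c.cls.root r hr)).1 hr)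
    obtain ⟨s, hs2, rfl⟩ := lift s' hs'
    obtain ⟨y, rfl⟩ : ∃ y : c.I → ℤ, y' = y ∘ e.symm := ⟨y' ∘ e, (Reindex.comp_symm y').symm⟩
    refine ⟨s, hs2, y, ?_, (Reindex.isRoot_reindex hA hs).1 h2, Reindex.comp_inj (e := e) h3⟩
    rw [← Reindex.cpr_reindex (cs' := cs') (h' := τ.isCartan) hA hs _ (c.cls.root s hs2)]
    exact h1

/-- if all simple roots are in `R` then `R` is the set of roots -/
theorem short_of_all (c : Chart Om p L) (hl : ∀ i, sr i ∈ c.R) : Short c.cs c.h c.R := by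
  intro r _ x hx hxR
  obtain ⟨w, i, rfl⟩ := hx
  exact absurd (c.cls.act _ (hl i) w) hxR

theorem short_of_isTy (c : Chart Om p L) {τ : Ty} (hτ : c.IsTy τ) (ok : Cit.KindOk τ) (hC : ∀ n, τ ≠ .C n) :
    Short c.cs c.h c.R := by
  obtain ⟨e, cs', hA, hs, hl⟩ := exists_std' c hτ
  match τ, hτ, ok, hC, e, cs', hA, hs, hl with
  | .A n, _, _, _, _, _, _, _, hl => exact short_of_all c fun i => (hl i).2 trivial
  | .B n, _, ok, _, e, cs', hA, hs, hl =>
    exact short_of c (τ := .B n) e cs' hA hs (R' := RB n) (fun x hx => root_RB cs' hx) (fun r hr w => act_RB cs' hr w)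
      (fun i => by rw [hl]; exact RKindsBC.sr_mem_RB.symm) (short_B cs' ok)
  | .C n, _, _, hC, _, _, _, _, _ => exact absurd rfl (hC n)
  | .D n, _, _, _, _, _, _, _, hl => exact short_of_all c fun i => (hl i).2 trivial
  | .E6, _, _, _, _, _, _, _, hl => exact short_of_all c fun i => (hl i).2 trivial
  | .E7, _, _, _, _, _, _, _, hl => exact short_of_all c fun i => (hl i).2 trivial
  | .E8, _, _, _, _, _, _, _, hl => exact short_of_all c fun i => (hl i).2 trivial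
  | .F4, _, _, _, e, cs', hA, hs, hl =>
    refine short_of c (τ := .F4) e cs' hA hs (R' := KindF.R cs' Ty.F4.isCartan) (fun x hx => hx.1)
      (fun r hr w => (KindF.frameSys cs' Ty.F4.isCartan).act r hr w) (fun i => ?_) (short_F cs' _)
    rw [hl]
    exact long_F4_iff cs' _ (e i)
  | .G2, _, ok, _, _, _, _, _, _ => exact absurd ok id

theorem long_of_isTy (c : Chart Om p L) {n : ℕ} (hτ : c.IsTy (.C n)) (hn : 2 ≤ n) : Long c.cs c.h c.R := by
  obtain ⟨e, cs', hA, hs, hl⟩ := exists_std' c hτ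
  exact long_of c (τ := .C n) e cs' hA hs (R' := RC n) (fun x hx => root_RC cs' hx) (fun r hr w => act_RC cs' hr w)
    (fun i => by rw [hl]; exact RKindsBC.sr_mem_RC.symm) (long_C cs' hn)

theorem form_eq_R (c : Chart Om p L) : ∀ x ∈ c.R, ∀ y ∈ c.R, form c.cs c.h x x = form c.cs c.h y y := by
  intro x hx y hy
  obtain ⟨w, rfl⟩ := c.trans x hx y hy
  rw [form_rep]

theorem lac_of_isTy (c : Chart Om p L) {τ : Ty} (hτ : c.IsTy τ) (ok : Cit.KindOk τ) (hC : ∀ n, τ ≠ .C n)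
    (zx : ∀ r ∈ c.R, c.Z r = c.X r) (h3 : ∀ r ∈ c.R, Nat.card (c.Z r) = 3) {r : c.I → ℤ} (hr : r ∈ c.R) :
    Lac c.cs c.h c.X c.R c.Z r where
  mem := hr
  card := h3
  zx := zx
  le_one x hx y hy h1 h2 := abs_cpr_le_one c.cs c.h (c.cls.root y hy) (form_eq_R c x hx y hy) h1 h2
  short x hx hxR _ := by
    obtain ⟨s, hs, h1⟩ := short_of_isTy c hτ ok hC r hr x hx hxR
    exact ⟨s, hs, (cpr_zero_iff c.cs c.h _ (c.cls.root r hr)).1 h1⟩

theorem lcc_of_isTy (c : Chart Om p L) {n : ℕ} (hτ : c.IsTy (.C n)) (hn : 2 ≤ n) : Lcc c.cs c.h c.R := by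
  have K := long_of_isTy c hτ hn
  refine ⟨c.cls.root, fun x hx => ClsNorm.neg_mem c.cls hx, fun x hx y hy h1 h2 => ?_, form_eq_R c,
    fun x hx hxR => ?_⟩
  · exact (cpr_zero_iff c.cs c.h _ (c.cls.root y hy)).1 (K.orth x hx y hy h1 h2)
  · obtain ⟨a, ha, b, hb, h1, h2⟩ := K.half x hx hxR
    exact ⟨a, ha, b, hb, (cpr_zero_iff c.cs c.h _ (c.cls.root b hb)).1 h1, h2⟩

theorem GG_eq_L (c : Chart Om p L) : GG c.cs c.h c.T c.X = L := by
  exact le_antisymm (sup_le c.T_le (le_of_eq c.gen)) (le_trans (le_of_eq c.gen.symm) le_sup_right)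

/-- **(F2'_3), (c1)**: all kinds but `C n`. -/
theorem comm_of_chart [Finite G] (c : Chart Om 3 L) {τ : Ty} (hτ : c.IsTy τ) (ok : Cit.KindOk τ) (hC : ∀ n, τ ≠ .C n)
    (zx : ∀ r ∈ c.R, c.Z r = c.X r) (h3 : ∀ r ∈ c.R, Nat.card (c.Z r) = 3) {r : c.I → ℤ} (hr : r ∈ c.R)
    {Q : Subgroup G} (hQ : Q ≤ L) (hQr : ∀ q ∈ Q, ∀ y ∈ KK c.Z r, q * y = y * q)
    (hQx : ∀ q ∈ Q, ∀ x, IsRoot c.cs c.h x → form c.cs c.h x r = 0 → ∀ y ∈ c.X x, q * y = y * q) :
    ∀ q ∈ Q, ∀ q' ∈ Q, q * q' = q' * q :=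
  comm_of_perp c.cls Nat.prime_three (by norm_num) (lac_of_isTy c hτ ok hC zx h3 hr) (by rw [c.gen]; exact hQ) hQr hQx

/-- **(F2'_3), (c2)**: kind `C n`, `n ≥ 2`. -/
theorem cent_of_chart [Finite G] (c : Chart Om 3 L) {n : ℕ} (hτ : c.IsTy (.C n)) (hn : 2 ≤ n)
    (h3 : ∀ r ∈ c.R, Nat.card (c.Z r) = 3) {r : c.I → ℤ} (hr : r ∈ c.R) {g : G} (hg3 : g * g * g = 1)
    (hgL : ∀ x ∈ L, g * x * g⁻¹ ∈ L) (hgr : ∀ y ∈ KK c.Z r, g * y = y * g)
    (hgx : ∀ x, IsRoot c.cs c.h x → form c.cs c.h x r = 0 → ∀ y ∈ c.X x, g * y = y * g) :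
    ∀ y ∈ L, g * y = y * g := by
  have K := lcc_of_isTy c hτ hn
  have h1 : ∀ x, IsRoot c.cs c.h x → Cq g (c.X x) := by
    refine cent_of_perp c.cls Nat.prime_three (by norm_num) K ?_ hr ?_ hg3 ?_ hgr hgx
    · intro s hs b hb
      have h2 : (⟨b, hb⟩ : c.Z s) ^ Nat.card (c.Z s) = 1 := pow_card_eq_one'
      rw [h3 s hs] at h2
      have h4 : b ^ 3 = 1 := congrArg Subtype.val h2
      rw [← h4, pow_succ, pow_two]
    · obtain ⟨s, hs, y, h2, h4, h5⟩ := (long_of_isTy c hτ hn).nbr r hr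
      exact ⟨s, y, hr, hs, (cpr_zero_iff c.cs c.h _ (c.cls.root s hs)).1 h2, h4, h5⟩
    · rw [GG_eq_L]; exact hgL
  intro y hy
  rw [← c.gen] at hy
  have h2 : G1 c.cs c.h c.X ≤ Subgroup.centralizer {g} := by
    refine RGD.Sup_le fun x hx y hy => ?_
    rw [Subgroup.mem_centralizer_singleton_iff]
    exact (h1 x hx y hy).symm
  exact (Subgroup.mem_centralizer_singleton_iff.1 (h2 hy)).symm

end Chart

end Cfsg.Agent.OddHalf.NI3.FThree

end

-- merged: Cfsg.Agent.OddHalf.NI3.FThree.MainCore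
section

/-!
# (F2'₃): the assembly

`SmallFalse` : the pieces without a chart of rank at least two do not occur (file `C3.lean`).
* `F23a` (ambient) : `J ≤ D`;
* `F23b` (intrinsic) : the chart of type `B₃` over `F₃`.
-/

set_option autoImplicit false
set_option linter.unusedSectionVars false
set_option linter.dupNamespace false

namespace Cfsg.Agent.OddHalf.NI3.FThree

open Cfsg
open CoxeterSystem Cfsg.Agent.ChevalleyStructure.CoxeterGeom Cfsg.Agent.Tits.Roots Cfsg.Agent.Tits.Core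
  Cfsg.Agent.Tits.RootComb Cfsg.Agent.Nodes.Comb Cfsg.Agent.Nodes.Reps Cfsg.Agent.Nodes.BNOf
  Cfsg.Agent.Nodes.RGDLib Cfsg.Agent.Nodes.Chart Cfsg.Agent.Nodes.Coroot Cfsg.Agent.Nodes.FreeTorus
  Cfsg.Agent.Nodes.SubComb Cfsg.Agent.Nodes.Bruhat Cfsg.Agent.Nodes.StabComb Cfsg.Agent.Nodes.Perp
  Cfsg.Agent.Nodes.Sub Cfsg.Agent.Nodes.ClsSub
open Cfsg.Agent.Cit (pc cls self_mem_cls TStmt Piece IsG2D4 zz)
open Cfsg.Agent.SignalizersComponents
open Cfsg.Agent.OddHalf.NI.FTwo (PosB3 ChartB3)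

universe u

/-- the pieces without a chart of rank at least two -/
inductive SmallPiece {G : Type*} [Group G] (Om : Set (Subgroup G)) (D : Subgroup G) : Prop
  | chart (nmem : D ∉ Om) (p : ℕ) (c : Chart Om p D) (kind : c.IsTy (.C 1))
      (small : Fintype.card c.I ≤ 2 → IsLieTypeChar p (↥D ⧸ Subgroup.center D))
      (sl : ∃ (F : Type) (_ : Field F) (_ : Fintype F), CharP F p ∧
        ∀ r ∈ c.R, Nonempty (Matrix.SpecialLinearGroup (Fin 2) F ≃* ↥(c.Z r ⊔ c.Z (-r)))) : SmallPiece Om D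
  | exc (p : ℕ) (prime : p.Prime) (odd : p ≠ 2)
      (iso : IsG2D4 p (↥D ⧸ Subgroup.center D)) (ne : ∃ K ∈ Om, K ≤ D)
      (zzc : ∀ K ∈ Om, ∀ J ∈ Om, K ≤ D → J ≤ D → K ≠ J → K ≤ Subgroup.centralizer (J : Set G) →
        ∀ d ∈ D, zz K * zz J * d = d * (zz K * zz J))
      (three : ∀ K ∈ Om, ∀ J ∈ Om, ∀ M ∈ Om, K ≤ D → J ≤ D → M ≤ D → K ≤ Subgroup.centralizer (J : Set G) →
        K ≤ Subgroup.centralizer (M : Set G) → J ≤ Subgroup.centralizer (M : Set G) → K = J ∨ K = M ∨ J = M) :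
      SmallPiece Om D
  | mathieu (iso : Spor.IsoM11 (↥D ⧸ Subgroup.center D)) (ne : ∃ K ∈ Om, K ≤ D)
      (mem : ∀ K ∈ Om, K ≤ D → Cit.SolvTwo.IsT K) : SmallPiece Om D

/-- the small pieces do not occur in (F2'₃) -/
def SmallFalse : Prop :=
  ∀ (H : Type u) [Group H] [Finite H] (x j : H) (J' J : Subgroup H), Sit3 x j J' J →
    SmallPiece (cls J') (pc (cls J') J') → False

/-- a chart of kind `B₃` with a root group not commuting with `O₂(J)` -/
structure BadChart {H : Type u} [Group H] (x j : H) (J' J D : Subgroup H) where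
  C : Chart (cls J') 3 D
  τ : Nodes.Chart.Ty
  ty : C.IsTy τ
  ok : Cit.KindOk τ
  zx : (∀ r ∈ C.R, C.Z r = C.X r) ∨ ∃ n, τ = .C n
  r : C.I → ℤ
  b : C.I → ℤ
  g : H
  hg : g ∈ D
  eJ' : J' = Cit.cj g (KK C.Z r)
  ex : x = g * C.z r * g⁻¹
  st : St C.cs C.h 3 C.T C.X C.R C.Z C.z r (Cit.cj g⁻¹ J) j
  hb : IsRoot C.cs C.h b
  hbR : b ∉ C.R
  hbr : form C.cs C.h b r = 0
  hbo : ∀ s ∈ C.R, form C.cs C.h s r = 0 → form C.cs C.h b s = 0
  hne : ¬ ∀ q ∈ QQ (Cit.cj g⁻¹ J) j, ∀ u ∈ C.X b, q * u = u * q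

/-- the kinds: `B₃` and a bad root -/
theorem bad_of_st {H : Type u} [Group H] [Finite H] {Om : Set (Subgroup H)} {D : Subgroup H} (C : Chart Om 3 D)
    {τ : Nodes.Chart.Ty} (hτ : C.IsTy τ) (ok : Cit.KindOk τ) (hC1 : τ ≠ .C 1)
    (zx : (∀ r ∈ C.R, C.Z r = C.X r) ∨ ∃ n, τ = .C n) {r : C.I → ℤ} {J : Subgroup H} {j : H}
    (S : St C.cs C.h 3 C.T C.X C.R C.Z C.z r J j) :
    ¬ ∀ q ∈ QQ J j, ∀ x, IsRoot C.cs C.h x → form C.cs C.h x r = 0 → ∀ u ∈ C.X x, q * u = u * q := by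
  intro hH
  obtain ⟨a, ha, b, hb, -, -, hab⟩ := QQ_not_comm S.pr
  have hG : GG C.cs C.h C.T C.X = D := Nodes.ChartFrame.GG_eq C
  have h3 : ∀ s ∈ C.R, Nat.card (C.Z s) = 3 := fun s hs => S.card_Z C.cls hs
  by_cases hC : ∃ n, τ = .C n
  · obtain ⟨n, rfl⟩ := hC
    have hn : 2 ≤ n := by
      have h1 : 1 ≤ n := ok
      have h2 : n ≠ 1 := fun e => hC1 (by rw [e])
      omega
    have hall := comm_of_ne_B3 C hτ ok S (by simp)
    have hJ : J ≤ Subgroup.centralizer (D : Set H) := by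
      refine S.pr.le_of_cube fun v hv hv3 => ?_
      rw [Subgroup.mem_centralizer_iff]
      intro d hd
      refine (cent_of_chart C hτ hn h3 S.mem hv3 ?_ (fun y hy => S.comm v hv y hy)
        (fun x hx h0 y hy => hall v hv x hx h0 y hy) d hd).symm
      intro y hy
      have h4 : v ∈ Subgroup.normalizer (GG C.cs C.h C.T C.X : Set H) := S.norm (S.sn.1 hv)
      rw [hG] at h4
      exact (Subgroup.mem_normalizer_iff.1 h4 y).1 hy
    apply hab
    have h5 : b ∈ D := hG ▸ S.ge hb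
    exact (Subgroup.mem_centralizer_iff.1 (hJ (QQ_le ha)) b h5).symm
  · have hZX : ∀ s ∈ C.R, C.Z s = C.X s := zx.resolve_right hC
    apply hab
    exact comm_of_chart C hτ ok (fun n e => hC ⟨n, e⟩) hZX h3 S.mem (Q := QQ J j) (by rw [← hG]; exact S.ge)
      (fun q hq y hy => S.comm q (QQ_le hq) y hy) hH a ha b hb

theorem exists_bad_chart (hT : TStmt.{u}) (hF : SmallFalse.{u}) {H : Type u} [Group H] [Finite H] {x j : H}
    {J' J : Subgroup H} (S : Sit3 x j J' J) : Nonempty (BadChart x j J' J (pc (cls J') J')) := by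
  have nmem : pc (cls J') J' ∉ cls J' := S.cl.pc_notMem S.comp.2
  rcases Cl.piece hT S.core S.cl with hm | ⟨-, -, -, p, C, τ, hτ, ok, small, sl, zx⟩ |
    ⟨-, -, p, prime, odd, iso, ne, zzc, three⟩ | ⟨-, -, iso, ne, mem⟩
  · exact absurd hm nmem
  · by_cases hC1 : τ = .C 1
    · subst hC1
      exact (hF H x j J' J S (.chart nmem p C hτ small sl)).elim
    obtain ⟨r, hr, g, hg, e1, e2, St'⟩ := S.exists_st hT C nmem
    obtain rfl := St'.p_eq C.cls
    have h1 := bad_of_st C hτ ok hC1 zx St'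
    obtain ⟨-, b, hb, hbR, hbr, hbo, hne⟩ := kind_B3 C hτ ok St' h1
    exact ⟨⟨C, τ, hτ, ok, zx, r, b, g, hg, e1, e2, St', hb, hbR, hbr, hbo, hne⟩⟩
  · exact (hF H x j J' J S (.exc p prime odd iso ne zzc three)).elim
  · exact (hF H x j J' J S (.mathieu iso ne mem)).elim

/-- **`J ≤ D`** -/
theorem Sit3.J_le (hT : TStmt.{u}) (hF : SmallFalse.{u}) {H : Type u} [Group H] [Finite H] {x j : H}
    {J' J : Subgroup H} (S : Sit3 x j J' J) : J ≤ pc (cls J') J' := by
  obtain ⟨B⟩ := exists_bad_chart hT hF S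
  have hG : GG B.C.cs B.C.h B.C.T B.C.X = pc (cls J') J' := Nodes.ChartFrame.GG_eq B.C
  obtain ⟨-, r', F, -⟩ := exists_frame B.C B.ty B.ok B.zx B.st.mem B.hb B.hbR B.hbr B.hbo
  obtain ⟨hJb, -⟩ := B.st.eq_LL B.C.cls F B.hne
  have h1 : Cit.cj B.g⁻¹ J ≤ pc (cls J') J' := hJb.le.trans (le_trans
    (sup_le (X_le_GG (T := B.C.T) B.hb) (X_le_GG (T := B.C.T) B.hb.neg)) hG.le)
  intro y hy
  have h2 : B.g⁻¹ * y * B.g ∈ pc (cls J') J' := by
    have h3 := h1 (Cit.conj_mem_cj (g := B.g⁻¹) hy)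
    rwa [inv_inv] at h3
  have h4 := mul_mem (mul_mem B.hg h2) (inv_mem B.hg)
  have h5 : B.g * (B.g⁻¹ * y * B.g) * B.g⁻¹ = y := by group
  rwa [h5] at h4

/-- `J ≠ J'`-independent data: the chart of type `B₃` of a group `N = D` -/
theorem BadChart.chartB3 {N : Type u} [Group N] [Finite N] {x j : N} {J' J : Subgroup N}
    (hOm : Cit.Hyp (cls J')) (B : BadChart x j J' J (⊤ : Subgroup N)) :
    ∃ T, IsPr T (x * j) ∧ Sn T (Subgroup.centralizer ({x} : Set N)) ∧ ChartB3 (ZMod 3) N j x J J' T := by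
  obtain ⟨C, τ, hτ, ok, zx, r, b, g, -, e1, e2, S, hb, hbR, hbr, hbo, hne⟩ := B
  obtain ⟨r', P⟩ := pos3 C hτ ok zx S hb hbR hbr hbo hne
  have hjg : g * j * g⁻¹ = j := by rw [S.jc g]; group
  obtain ⟨C', r1, r1', b1, P'⟩ := NI.FTwo.CjTop.exists_cj hOm.conj P g
  have hcl := S.cl r' P.r'_mem
  have hz : g * C.z r' * g⁻¹ = x * j := by
    rw [P.zr', e2]
    calc g * (j * C.z r) * g⁻¹ = (g * j * g⁻¹) * (g * C.z r * g⁻¹) := by group
      _ = j * (g * C.z r * g⁻¹) := by rw [hjg]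
      _ = (g * C.z r * g⁻¹) * j := (S.jc _).symm
  refine ⟨Cit.cj g (KK C.Z r'), ?_, ?_, cls J', 3, C', r1, r1', b1, hOm, ?_⟩
  · rw [← hz]
    exact hcl.pr.cj g
  · have h1 := hcl.sn.cj g
    rw [Cit.cj_centralizer, hz] at h1
    have h2 : Subgroup.centralizer ({x * j} : Set N) = Subgroup.centralizer ({x} : Set N) := by
      ext y
      rw [Subgroup.mem_centralizer_singleton_iff, Subgroup.mem_centralizer_singleton_iff]
      have h3 : y * (x * j) = (y * x) * j := by group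
      have h4 : (x * j) * y = (x * y) * j := by rw [mul_assoc, ← S.jc y]; group
      rw [h3, h4]
      exact mul_left_inj j
    rwa [h2] at h1
  · rw [hjg] at P'
    have h5 : Nodes.Reps.cj g (Cit.cj g⁻¹ J) = J := Cit.cj_cj_inv g J
    have h6 : Nodes.Reps.cj g (KK C.Z r) = J' := e1.symm
    rw [h5, h6, ← e2] at P'
    exact P'

end Cfsg.Agent.OddHalf.NI3.FThree

end
end

-- part: OddHalf/NI3/K/OrthU
section
/-!
# `2.U₄(3)` in the orthogonal groups of dimension 7 and 8 over the field with three elements (K-facts OrthU)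

`K = PΩ(V)`, `V = W ⊥ W'`, `|F| = 3`, `dim V ∈ {7, 8}`, `W` of dimension 6 and of minus type: `y = -1_W`,
`M = Ω(W) ≃ Ω₆⁻(3) = 2.U₄(3)` is a component of `C_K(y)`.
-/

set_option autoImplicit false

namespace Cfsg.Agent.OddHalf.NI3.K.OrthU

open QuadraticMap Cfsg
open Cfsg.Agent.LieClassical Cfsg.Agent.LieClassical.OrthCore Cfsg.Agent.LieClassical.OrthForms
  Cfsg.Agent.LieClassical.OrthTrans Cfsg.Agent.LieClassical.OrthSimple Cfsg.Agent.LieClassical.OrthFinite
open Cfsg.Agent.TitsThree Cfsg.Agent.TitsThree.Siegel Cfsg.Agent.TitsThree.SiegelGen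
  Cfsg.Agent.TitsThree.KSideO Cfsg.Agent.TitsThree.WBridge
open Cfsg.Agent.Nodes.RGDOrth
open Cfsg.Agent.SignalizersComponents
open Cfsg.Agent.OddHalf.NI3.K.OrthEmb Cfsg.Agent.OddHalf.NI3.K.OrthEmb.Emb Cfsg.Agent.OddHalf.NI3.K.OrthFrame
  Cfsg.Agent.OddHalf.NI3.K.OrthY
open Cfsg.Agent.OddHalf.NI (CompIn)

universe u

/-! ### The embedding -/

section Emb6

variable {F V : Type*} [Field F] [AddCommGroup V] [Module F V]

/-- two hyperbolic pairs and two orthogonal vectors of norm one -/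
structure Six (Q : QuadraticForm F V) where
  e : Fin 2 → V
  f : Fin 2 → V
  p : Fin 2 → V
  ee : ∀ i j, polar Q (e i) (e j) = 0
  ff : ∀ i j, polar Q (f i) (f j) = 0
  ef : ∀ i j, polar Q (e i) (f j) = if i = j then 1 else 0
  pe : ∀ i j, polar Q (p i) (e j) = 0
  pf : ∀ i j, polar Q (p i) (f j) = 0
  pp : ∀ i j, polar Q (p i) (p j) = if i = j then 2 else 0

variable {Q : QuadraticForm F V} (W : Six Q)

namespace Six

theorem fe (i j : Fin 2) : polar Q (W.f i) (W.e j) = if i = j then 1 else 0 := by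
  rw [polar_comm, W.ef]
  simp only [eq_comm]

theorem ep (i j : Fin 2) : polar Q (W.e i) (W.p j) = 0 := by rw [polar_comm, W.pe]
theorem fp (i j : Fin 2) : polar Q (W.f i) (W.p j) = 0 := by rw [polar_comm, W.pf]

/-- the coordinates -/
def cc : V →ₗ[F] ((Fin 2 ⊕ Fin 2) ⊕ Fin 2 → F) :=
  LinearMap.pi (Sum.elim (Sum.elim (fun k => polarBilin Q (W.f k)) (fun k => polarBilin Q (W.e k)))
    (fun k => -polarBilin Q (W.p k)))

theorem cc_ll (v : V) (k : Fin 2) : W.cc v (Sum.inl (Sum.inl k)) = polar Q (W.f k) v := rfl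
theorem cc_lr (v : V) (k : Fin 2) : W.cc v (Sum.inl (Sum.inr k)) = polar Q (W.e k) v := rfl
theorem cc_r (v : V) (k : Fin 2) : W.cc v (Sum.inr k) = -polar Q (W.p k) v := rfl

/-- the inclusion -/
def ii : ((Fin 2 ⊕ Fin 2) ⊕ Fin 2 → F) →ₗ[F] V :=
  ∑ k : Fin 2, ((LinearMap.proj (R := F) (φ := fun _ : (Fin 2 ⊕ Fin 2) ⊕ Fin 2 => F)
      (Sum.inl (Sum.inl k))).smulRight (W.e k) +
    (LinearMap.proj (R := F) (φ := fun _ : (Fin 2 ⊕ Fin 2) ⊕ Fin 2 => F) (Sum.inl (Sum.inr k))).smulRight (W.f k) +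
    (LinearMap.proj (R := F) (φ := fun _ : (Fin 2 ⊕ Fin 2) ⊕ Fin 2 => F) (Sum.inr k)).smulRight (W.p k))

theorem ii_apply (a : (Fin 2 ⊕ Fin 2) ⊕ Fin 2 → F) :
    W.ii a = ∑ k : Fin 2, (a (Sum.inl (Sum.inl k)) • W.e k + a (Sum.inl (Sum.inr k)) • W.f k +
      a (Sum.inr k) • W.p k) := by
  unfold ii
  rw [LinearMap.sum_apply]
  rfl

theorem polar_ii (a : (Fin 2 ⊕ Fin 2) ⊕ Fin 2 → F) (v : V) :
    polar Q (W.ii a) v = ∑ k : Fin 2, (a (Sum.inl (Sum.inl k)) * polar Q (W.e k) v +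
      a (Sum.inl (Sum.inr k)) * polar Q (W.f k) v + a (Sum.inr k) * polar Q (W.p k) v) := by
  have h : ∀ x, polar Q x v = (polarBilin Q).flip v x := fun x => rfl
  rw [h, ii_apply, map_sum]
  refine Finset.sum_congr rfl fun k _ => ?_
  rw [map_add, map_add, map_smul, map_smul, map_smul, smul_eq_mul, smul_eq_mul, smul_eq_mul, ← h, ← h, ← h]

theorem cc_ii (h30 : (3 : F) = 0) (a : (Fin 2 ⊕ Fin 2) ⊕ Fin 2 → F) : W.cc (W.ii a) = a := by
  funext s
  rcases s with (k | k) | k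
  · rw [cc_ll, polar_comm, polar_ii, Fin.sum_univ_two]
    simp only [W.ef, W.ff, W.pf]
    (revert k; simp only [_root_.Fin.forall_fin_succ, Fin.isValue, _root_.mul_ite, _root_.mul_one, _root_.MulZeroClass.mul_zero, _root_.add_zero, ↓reduceIte, _root_.one_ne_zero, _root_.Fin.succ_zero_eq_one, _root_.zero_ne_one, _root_.zero_add, _root_.IsEmpty.forall_iff, _root_.and_self])
  · rw [cc_lr, polar_comm, polar_ii, Fin.sum_univ_two]
    simp only [W.ee, W.fe, W.pe]
    (revert k; simp only [_root_.Fin.forall_fin_succ, Fin.isValue, _root_.MulZeroClass.mul_zero, _root_.mul_ite, _root_.mul_one, _root_.zero_add, _root_.add_zero, ↓reduceIte, _root_.one_ne_zero, _root_.Fin.succ_zero_eq_one, _root_.zero_ne_one, _root_.IsEmpty.forall_iff, _root_.and_self])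
  · rw [cc_r, polar_comm, polar_ii, Fin.sum_univ_two]
    simp only [W.ep, W.fp, W.pp]
    fin_cases k <;> simp only [_root_.Fin.isValue, _root_.MulZeroClass.mul_zero, _root_.add_zero, _root_.Fin.zero_eta, ↓ _root_.reduceIte, _root_.zero_add, _root_.one_ne_zero, _root_.Fin.mk_one, _root_.zero_ne_one]
    · linear_combination -a (Sum.inr 0) * h30
    · linear_combination -a (Sum.inr 1) * h30

theorem pol_ii (h30 : (3 : F) = 0) (a : (Fin 2 ⊕ Fin 2) ⊕ Fin 2 → F) (v : V) :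
    polar Q (W.ii a) v = polar (minusForm 2 F 0 1) a (W.cc v) := by
  rw [polar_ii, polar_minusForm, Fin.sum_univ_two, Fin.sum_univ_two]
  simp only [cc_ll, cc_lr, cc_r]
  linear_combination (a (Sum.inr 0) * polar Q (W.p 0) v + a (Sum.inr 1) * polar Q (W.p 1) v) * h30

/-- **The embedding of the six-dimensional space of minus type.** -/
def emb (h30 : (3 : F) = 0) (h2 : (2 : F) ≠ 0) : Emb (minusForm 2 F 0 1) Q where
  i := W.ii
  c := W.cc
  ci := W.cc_ii h30
  qi a := by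
    have h1 := W.pol_ii h30 a (W.ii a)
    rw [W.cc_ii h30, polar_self', polar_self'] at h1
    exact mul_left_cancel₀ h2 h1
  pol := W.pol_ii h30

end Six

/-- `Six` from a Witt frame with three hyperbolic pairs and a further vector of norm one. -/
def sixOf {m : ℕ} (W : WFrame (PO Q) m) (h3 : 3 ≤ m) (q : V) (hq : Q q = 1)
    (hqe : ∀ i : Fin 3, polar Q q (W.e (Fin.castLE h3 i)) = 0)
    (hqf : ∀ i : Fin 3, polar Q q (W.f (Fin.castLE h3 i)) = 0) : Six Q := by
  have inj : ∀ i j : Fin 3, Fin.castLE h3 i = Fin.castLE h3 j ↔ i = j := fun i j =>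
    (Fin.castLE_injective h3).eq_iff
  exact
  { e := fun k => W.e (Fin.castLE h3 k.castSucc)
    f := fun k => W.f (Fin.castLE h3 k.castSucc)
    p := fun k => if k = 0 then W.e (Fin.castLE h3 2) + W.f (Fin.castLE h3 2) else q
    ee := fun i j => W_ee W _ _
    ff := fun i j => W_ff W _ _
    ef := fun i j => by
      rw [W_ef W]
      simp only [inj, Fin.castSucc_inj]
    pe := fun i j => by
      split_ifs with h
      · rw [polar_add_left, W_ee W, W_fe W, if_neg, add_zero]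
        rw [inj]
        revert j; decide
      · exact hqe _
    pf := fun i j => by
      split_ifs with h
      · rw [polar_add_left, W_ef W, W_ff W, if_neg, add_zero]
        rw [inj]
        revert j; decide
      · exact hqf _
    pp := fun i j => by
      fin_cases i <;> fin_cases j
      · simp only [Fin.zero_eta, if_true, polar_add_left, polar_add_right, W_ee W, W_ff W, W_ef W, W_fe W]
        norm_num
      · simp only [Fin.zero_eta, if_true, Fin.mk_one, one_ne_zero, if_false, polar_add_left]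
        rw [polar_comm, hqe, polar_comm, hqf, add_zero]
        simp
      · simp only [Fin.zero_eta, if_true, Fin.mk_one, one_ne_zero, if_false, polar_add_right]
        rw [hqe, hqf, add_zero]
      · simp only [Fin.mk_one, one_ne_zero, if_false, if_true]
        rw [polar_self', hq, mul_one] }

end Emb6

/-! ### `-1` on the six-dimensional space -/

section Neg

variable {F V : Type*} [Field F] [AddCommGroup V] [Module F V] {Q : QuadraticForm F V}

theorem refl_refl {x y : V} (hx : Q x ≠ 0) (hy : Q y ≠ 0) (h : polar Q x y = 0) (v : V) :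
    (refl Q x hx * refl Q y hy) v = v - ((Q x)⁻¹ * polar Q x v) • x - ((Q y)⁻¹ * polar Q y v) • y := by
  show refl Q x hx (refl Q y hy v) = _
  rw [refl_apply, refl_apply, polar_sub_right, polar_smul_right, h, smul_zero, sub_zero]
  abel

variable (F) in
/-- the space of dimension 6 -/
abbrev U6 : Type _ := (Fin 2 ⊕ Fin 2) ⊕ Fin 2 → F

variable (F) in
/-- `e_k + c f_k` -/
def hv (c : F) (k : Fin 2) : U6 F := Pi.single (Sum.inl (Sum.inl k)) 1 + Pi.single (Sum.inl (Sum.inr k)) c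

variable (F) in
/-- the basis of the anisotropic plane -/
def pv (k : Fin 2) : U6 F := Pi.single (Sum.inr k) 1

theorem polar_hv (c : F) (k : Fin 2) (v : U6 F) :
    polar (minusForm 2 F 0 1) (hv F c k) v = v (Sum.inl (Sum.inr k)) + c * v (Sum.inl (Sum.inl k)) := by
  rw [polar_minusForm, Fin.sum_univ_two]
  (revert k; simp only [hv, _root_.Fin.forall_fin_succ, Fin.isValue, _root_.Pi.add_apply, _root_.ne_eq, _root_.Sum.inl.injEq, reduceCtorEq, _root_.not_false_eq_true, _root_.Pi.single_eq_of_ne, _root_.add_zero, _root_.zero_add, _root_.MulZeroClass.mul_zero, _root_.MulZeroClass.zero_mul, _root_.mul_one, _root_.Pi.single_eq_same, _root_.one_mul, _root_.one_ne_zero, _root_.Sum.inr.injEq, _root_.add_right_inj, _root_.Fin.succ_ne_zero, _root_.Pi.single_eq_of_ne', _root_.Fin.succ_zero_eq_one, _root_.IsEmpty.forall_iff, _root_.and_true]) <;> (repeat' with_reducible apply And.intro) <;> ring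

theorem polar_pv (k : Fin 2) (v : U6 F) :
    polar (minusForm 2 F 0 1) (pv F k) v = 2 * v (Sum.inr k) := by
  rw [polar_minusForm, Fin.sum_univ_two]
  (revert k; simp only [pv, _root_.Fin.forall_fin_succ, Fin.isValue, _root_.ne_eq, reduceCtorEq, _root_.not_false_eq_true, _root_.Pi.single_eq_of_ne, _root_.MulZeroClass.zero_mul, _root_.MulZeroClass.mul_zero, _root_.add_zero, _root_.mul_one, _root_.zero_add, _root_.Pi.single_eq_same, _root_.Sum.inr.injEq, _root_.one_ne_zero, _root_.Fin.succ_ne_zero, _root_.Pi.single_eq_of_ne', _root_.Fin.succ_zero_eq_one, _root_.IsEmpty.forall_iff, _root_.and_self])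

theorem Q_hv (c : F) (k : Fin 2) : (minusForm 2 F 0 1) (hv F c k) = c := by
  rw [coe_minusForm, quadFormMinus_apply, Fin.sum_univ_two]
  (revert k; simp only [hv, _root_.Fin.forall_fin_succ, Fin.isValue, _root_.Pi.add_apply, _root_.ne_eq, _root_.Sum.inl.injEq, reduceCtorEq, _root_.not_false_eq_true, _root_.Pi.single_eq_of_ne, _root_.add_zero, _root_.zero_add, _root_.OfNat.ofNat_ne_zero, _root_.zero_pow, _root_.MulZeroClass.mul_zero, _root_.Pi.single_eq_same, _root_.one_mul, _root_.one_ne_zero, _root_.Sum.inr.injEq, _root_.Fin.succ_ne_zero, _root_.Pi.single_eq_of_ne', _root_.Fin.succ_zero_eq_one, _root_.IsEmpty.forall_iff, _root_.and_self])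

theorem Q_pv (k : Fin 2) : (minusForm 2 F 0 1) (pv F k) = 1 := by
  rw [coe_minusForm, quadFormMinus_apply, Fin.sum_univ_two]
  fin_cases k <;> simp [pv]

theorem three_zero [Fintype F] (h3 : Fintype.card F = 3) : (3 : F) = 0 := by
  have h := FiniteField.cast_card_eq_zero F
  rw [h3] at h
  exact_mod_cast h

theorem aniso_one (h30 : (3 : F) = 0) [Fintype F] (h3 : Fintype.card F = 3) :
    ∀ z₁ z₂ : F, z₁ ^ 2 + 0 * z₁ * z₂ + 1 * z₂ ^ 2 = 0 → z₁ = 0 ∧ z₂ = 0 := by
  intro z w h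
  have hz : ∀ c : F, c = 0 ∨ c ^ 2 = 1 := by
    intro c
    by_cases hc : c = 0
    · exact Or.inl hc
    · right
      have := FiniteField.pow_card_sub_one_eq_one c hc
      rwa [h3] at this
  rcases hz z with h1 | h1
  · rcases hz w with h4 | h4
    · exact ⟨h1, h4⟩
    · rw [h1, h4] at h
      exfalso
      apply one_ne_zero (α := F)
      linear_combination h
  · rcases hz w with h4 | h4
    · rw [h1, h4] at h
      exfalso
      apply one_ne_zero (α := F)
      linear_combination h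
    · rw [h1, h4] at h
      exfalso
      apply one_ne_zero (α := F)
      linear_combination h30 - h

theorem good_six [Fintype F] (h3 : Fintype.card F = 3) : Good (minusForm 2 F 0 1) := by
  apply good_of_finite (nondeg_minusForm 2 F 0 1 (aniso_one (three_zero h3) h3))
  rw [Module.finrank_fintype_fun_eq_card, Fintype.card_sum, Fintype.card_sum, Fintype.card_fin]
  omega

/-- `-1` is in `E` -/
theorem ng_mem [Fintype F] (h3 : Fintype.card F = 3) : ng F (U6 F) ∈ E (minusForm 2 F 0 1) := by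
  have hG := good_six h3
  have a1 : ∀ k, (minusForm 2 F 0 1) (hv F 1 k) ≠ 0 := fun k => by rw [Q_hv]; exact one_ne_zero
  have a2 : ∀ k, (minusForm 2 F 0 1) (hv F (-1) k) ≠ 0 := fun k => by rw [Q_hv]; exact neg_ne_zero.2 one_ne_zero
  have a3 : ∀ k, (minusForm 2 F 0 1) (pv F k) ≠ 0 := fun k => by rw [Q_pv]; exact one_ne_zero
  have m1 := hG.refl_mul_refl_mem (a1 0) (a1 1) (by rw [Q_hv, Q_hv])
  have m2 := hG.refl_mul_refl_mem (a2 0) (a2 1) (by rw [Q_hv, Q_hv])
  have m3 := hG.refl_mul_refl_mem (a3 0) (a3 1) (by rw [Q_pv, Q_pv])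
  have h : ng F (U6 F) = (refl _ _ (a1 1) * refl _ _ (a1 0)) * ((refl _ _ (a2 1) * refl _ _ (a2 0)) *
      (refl _ _ (a3 1) * refl _ _ (a3 0))) := by
    ext1 v
    show _ = (refl _ _ (a1 1) * refl _ _ (a1 0)) ((refl _ _ (a2 1) * refl _ _ (a2 0))
      ((refl _ _ (a3 1) * refl _ _ (a3 0)) v))
    rw [refl_refl (a1 1) (a1 0) (by rw [polar_hv]; simp [hv]),
      refl_refl (a2 1) (a2 0) (by rw [polar_hv]; simp only [hv, _root_.Fin.isValue, _root_.Pi.add_apply, _root_.ne_eq, _root_.Sum.inl.injEq, _root_.reduceCtorEq, _root_.not_false_eq_true, _root_.Pi.single_eq_of_ne, _root_.Sum.inr.injEq, _root_.one_ne_zero, _root_.add_zero, _root_.MulZeroClass.mul_zero]), refl_refl (a3 1) (a3 0) (by rw [polar_pv]; simp [pv])]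
    simp only [polar_hv, polar_pv, Q_hv, Q_pv, ng_apply]
    funext s
    rcases s with (k | k) | k
    · (revert k; simp only [hv, pv, _root_.Fin.forall_fin_succ, _root_.Pi.neg_apply, _root_.inv_one, Fin.isValue, _root_.one_mul, _root_.inv_neg, _root_.Pi.sub_apply, _root_.Pi.smul_apply, _root_.ne_eq, reduceCtorEq, _root_.not_false_eq_true, _root_.Pi.single_eq_of_ne, _root_.smul_eq_mul, _root_.MulZeroClass.mul_zero, _root_.sub_zero, _root_.neg_mul, _root_.neg_add_rev, _root_.neg_neg, _root_.smul_add, _root_.Pi.add_apply, _root_.Sum.inl.injEq, _root_.Pi.single_eq_same, _root_.mul_neg, _root_.mul_one, _root_.zero_add, _root_.sub_add_cancel_left, _root_.Sum.inr.injEq, _root_.one_ne_zero, _root_.add_zero, _root_.zero_ne_one, _root_.sub_add_cancel_right, _root_.Fin.succ_ne_zero, _root_.Fin.succ_zero_eq_one, _root_.IsEmpty.forall_iff, _root_.and_self])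
    · (revert k; simp only [hv, pv, _root_.Fin.forall_fin_succ, _root_.Pi.neg_apply, _root_.inv_one, Fin.isValue, _root_.one_mul, _root_.inv_neg, _root_.Pi.sub_apply, _root_.Pi.smul_apply, _root_.ne_eq, reduceCtorEq, _root_.not_false_eq_true, _root_.Pi.single_eq_of_ne, _root_.smul_eq_mul, _root_.MulZeroClass.mul_zero, _root_.sub_zero, _root_.neg_mul, _root_.neg_add_rev, _root_.neg_neg, _root_.smul_add, _root_.Pi.add_apply, _root_.Sum.inl.injEq, _root_.Pi.single_eq_same, _root_.mul_neg, _root_.mul_one, _root_.zero_add, _root_.sub_add_cancel_left, _root_.Sum.inr.injEq, _root_.one_ne_zero, _root_.add_zero, _root_.zero_ne_one, _root_.Fin.succ_ne_zero, _root_.Fin.succ_zero_eq_one, _root_.IsEmpty.forall_iff, _root_.and_self])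
    · (revert k; simp only [hv, pv, _root_.Fin.forall_fin_succ, _root_.Pi.neg_apply, _root_.inv_one, Fin.isValue, _root_.one_mul, _root_.inv_neg, _root_.Pi.sub_apply, _root_.Pi.smul_apply, _root_.ne_eq, reduceCtorEq, _root_.not_false_eq_true, _root_.Pi.single_eq_of_ne, _root_.smul_eq_mul, _root_.MulZeroClass.mul_zero, _root_.sub_zero, _root_.neg_mul, _root_.neg_add_rev, _root_.neg_neg, _root_.smul_add, _root_.Pi.add_apply, _root_.Sum.inl.injEq, _root_.Pi.single_eq_same, _root_.mul_neg, _root_.mul_one, _root_.zero_add, _root_.sub_add_cancel_left, _root_.Sum.inr.injEq, _root_.one_ne_zero, _root_.add_zero, _root_.zero_ne_one, _root_.Fin.succ_ne_zero, _root_.Fin.succ_zero_eq_one, _root_.IsEmpty.forall_iff, _root_.and_true]) <;> (repeat' with_reducible apply And.intro) <;> ring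
  rw [h]
  exact E_mul m1 (E_mul m2 m3)

/-- `-1` as an element of `E` -/
def nU [Fintype F] (h3 : Fintype.card F = 3) : E (minusForm 2 F 0 1) := ⟨ng F _, ng_mem h3⟩

section nU

variable [Fintype F] (h3 : Fintype.card F = 3)

theorem nU_comm (g : E (minusForm 2 F 0 1)) : nU h3 * g = g * nU h3 := Subtype.ext (ng_mul g.1)

theorem nU_ne : nU h3 ≠ 1 := by
  have h30 := three_zero h3
  intro h
  have h1 : ng F (U6 F) = 1 := congrArg Subtype.val h
  have h4 : ng F (U6 F) (fun _ => 1) = (1 : U6 F ≃ₗ[F] U6 F) (fun _ => 1) := by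
    rw [h1]
  rw [ng_apply] at h4
  have h5 := congrFun h4 (Sum.inr 0)
  change (-1 : F) = 1 at h5
  apply one_ne_zero (α := F)
  linear_combination h30 + h5

theorem nU_sq : nU h3 ^ 2 = 1 := by
  rw [pow_two]
  apply Subtype.ext
  ext1 v
  show ng F _ (ng F _ v) = v
  rw [ng_apply, ng_apply, _root_.neg_neg]

theorem orderOf_nU : orderOf (nU h3) = 2 := orderOf_eq_prime (nU_sq h3) (nU_ne h3)

/-- the centre of `Ω₆⁻(3)` is `{±1}` -/
theorem center_eq (g : E (minusForm 2 F 0 1)) (hg : g ∈ Subgroup.center ↥(E (minusForm 2 F 0 1))) :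
    g = 1 ∨ g = nU h3 := by
  obtain ⟨c, hc⟩ := scalar_of_center (good_six h3) hg
  have hc0 : c ≠ 0 := by
    intro h0
    have h2 := hc (fun _ => 1)
    rw [h0, zero_smul] at h2
    have h3 := (map_eq_zero_iff g.1 g.1.injective).1 h2
    exact one_ne_zero (congrFun h3 (Sum.inr 0) : (1 : F) = 0)
  have h4 : c ^ 2 = 1 := by
    have := FiniteField.pow_card_sub_one_eq_one c hc0
    rwa [h3] at this
  rcases mul_self_eq_one_iff.1 (by rw [← pow_two, h4] : c * c = 1) with h5 | h5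
  · left
    apply Subtype.ext
    ext1 v
    show g.1 v = v
    rw [hc, h5, one_smul]
  · right
    apply Subtype.ext
    ext1 v
    show g.1 v = -v
    rw [hc, h5, neg_one_smul]

include h3 in
theorem card_center : Nat.card ↥(Subgroup.center ↥(E (minusForm 2 F 0 1))) = 2 := by
  have hn : nU h3 ∈ Subgroup.center ↥(E (minusForm 2 F 0 1)) :=
    Subgroup.mem_center_iff.2 fun g => (nU_comm h3 g).symm
  rw [Nat.card_eq_two_iff]
  refine ⟨1, ⟨nU h3, hn⟩, ?_, ?_⟩
  · intro h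
    exact nU_ne h3 (congrArg Subtype.val h).symm
  · ext x
    simp only [Set.mem_insert_iff, Set.mem_singleton_iff, Set.mem_univ, iff_true]
    rcases center_eq h3 x.1 x.2 with h | h
    · left; exact Subtype.ext h
    · right; exact Subtype.ext h

end nU

end Neg

/-! ### The component -/

section Main

variable {ι : Type} [Fintype ι] [DecidableEq ι] {F : Type} [Field F] [Fintype F] {Q : QuadraticForm F (ι → F)}

/-- the map `E Q₁ → E Q` -/
def hU {Q₁ : QuadraticForm F (U6 F)} (e : Emb Q₁ Q) : ↥(E Q₁) →* ↥(E Q) :=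
  (e.hom.comp (E Q₁).subtype).codRestrict (E Q) fun g => e.hom_mem_E g.2

omit [Fintype F] in
theorem injective_comp (hG : Good Q) {Q₁ : QuadraticForm F (U6 F)} (e : Emb Q₁ Q)
    (hd : 6 < Fintype.card ι) : Function.Injective ((toPOmega hG).comp (hU e)) := by
  rw [injective_iff_map_eq_one]
  intro g hg
  obtain ⟨c, hc⟩ := scalar_of_center hG (center_of_toPOmega hG hg)
  have h1 : Module.finrank F (U6 F) < Module.finrank F (ι → F) := by
    rw [Module.finrank_fintype_fun_eq_card, Module.finrank_fintype_fun_eq_card, Fintype.card_sum, Fintype.card_sum,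
      Fintype.card_fin]
    omega
  obtain ⟨v, hv, hv0⟩ := (Submodule.ne_bot_iff _).1 (LinearMap.ker_ne_bot_of_finrank_lt (f := e.c) h1)
  have hcv : e.c v = 0 := hv
  have h2 : e.hom g.1 v = c • v := hc v
  rw [hom_apply, hcv, map_zero, sub_zero, map_zero, add_zero] at h2
  have h3 : c = 1 := by
    have h4 : (1 - c) • v = 0 := by rw [sub_smul, one_smul, ← h2, sub_self]
    have h5 := (smul_eq_zero.1 h4).resolve_right hv0
    exact (sub_eq_zero.1 h5).symm
  apply Subtype.ext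
  apply e.hom_injective
  rw [Subgroup.coe_one, map_one]
  ext1 w
  have h6 : e.hom g.1 w = c • w := hc w
  rw [h6, h3, one_smul]
  rfl

seal _root_.Finset.sum _root_.dotProduct in
/-- **`K = PΩ(V)`, `dim V > 6`, has `(y, M)` with `M = Ω₆⁻(3) = 2.U₄(3)`.** -/
theorem hasU_of_emb {K : Type*} [Group K] (f : K ≃* Cfsg.POmega F ⇑Q) (hG : Good Q) (e : Emb (minusForm 2 F 0 1) Q)
    (h3 : Fintype.card F = 3) (hd : 6 < Fintype.card ι) :
    ∃ (y : K) (M : Subgroup K), y ∈ M ∧ orderOf y = 2 ∧ CompIn (Subgroup.centralizer ({y} : Set K)) M ∧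
      Nat.card ↥(Subgroup.center ↥M) = 2 ∧ XU43 (↥M ⧸ Subgroup.center ↥M) := by
  have h30 := three_zero h3
  have h2 : (2 : F) ≠ 0 := two_ne h3
  have hG₁ := good_six h3
  obtain ⟨π, hπ⟩ : ∃ π : ↥(E Q) →* K, π = f.symm.toMonoidHom.comp (toPOmega hG) := ⟨_, rfl⟩
  have hπs : Function.Surjective π := by
    rw [hπ]
    exact f.symm.surjective.comp (toPOmega_surjective hG)
  have hπk : ∀ h, π h = 1 → h ∈ Subgroup.center ↥(E Q) := by
    intro h hh
    rw [hπ] at hh
    exact center_of_toPOmega hG (f.symm.injective (hh.trans (map_one f.symm).symm))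
  have hinj : Function.Injective (π.comp (hU e)) := by
    rw [hπ]
    exact f.symm.injective.comp (injective_comp hG e hd)
  set ψ := π.comp (hU e) with hψ
  let eM : ↥(E (minusForm 2 F 0 1)) ≃* ↥ψ.range := MonoidHom.ofInjective hinj
  refine ⟨ψ (nU h3), ψ.range, ⟨_, rfl⟩, ?_, ?_, ?_, ?_⟩
  · rw [orderOf_injective ψ hinj, orderOf_nU h3]
  · refine compIn_of (isQuasisimple_E hG₁) π hπs hπk (hU e) hinj (n := nU h3) (nU_comm h3) ?_
    intro h hh a
    obtain ⟨g₁, hg₁, hc⟩ := e.exists_conj h2 (E_le_O h.2) (congrArg Subtype.val hh)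
    exact ⟨⟨g₁ * a.1 * g₁⁻¹, conj_mem_E hg₁ a.2⟩, Subtype.ext (hc a.1)⟩
  · rw [Nat.card_congr (Subgroup.centerCongr eM.symm).toEquiv]
    exact card_center h3
  · have e1 : ↥ψ.range ≃* Cfsg.Omega F ⇑(minusForm 2 F 0 1) := eM.symm.trans (toOmega hG₁)
    have e2 : (↥ψ.range ⧸ Subgroup.center ↥ψ.range) ≃* Cfsg.POmega F ⇑(minusForm 2 F 0 1) :=
      quotientCenterCongr e1
    have : Fact (Nat.Prime 3) := ⟨Nat.prime_three⟩
    have : Fintype (GaloisField 3 2) := Fintype.ofFinite _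
    have h9 : Fintype.card (GaloisField 3 2) = 3 ^ 2 := by
      rw [← Nat.card_eq_fintype_card, GaloisField.card 3 2 (by norm_num)]
    rw [coe_minusForm] at e2
    obtain ⟨e3⟩ := Cfsg.Agent.S0303.result h3 h9 0 1 (aniso_one h30 h3)
    exact ⟨GaloisField 3 2, inferInstance, inferInstance, by rw [h9]; norm_num, ⟨e2.trans e3⟩⟩

end Main

/-! ### The rows -/

section Rows

/-- The conclusion `HasU K` of the K-facts (literal). -/
def HU (K : Type*) [Group K] : Prop :=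
  ∃ (y : K) (M : Subgroup K), y ∈ M ∧ orderOf y = 2 ∧ CompIn (Subgroup.centralizer ({y} : Set K)) M ∧
    Nat.card ↥(Subgroup.center ↥M) = 2 ∧ XU43 (↥M ⧸ Subgroup.center ↥M)

variable {K : Type*} [Group K]

theorem o7 (h : ∃ (F : Type) (_ : Field F) (_ : Fintype F), Fintype.card F = 3 ∧
    Nonempty (K ≃* Cfsg.POmega F (Cfsg.quadFormOdd 3 F))) : HU K := by
  obtain ⟨F, _, _, h3, ⟨f⟩⟩ := h
  rw [← coe_oddForm] at f
  have hG : Good (oddForm 3 F) := by
    apply good_of_finite (nondeg_oddForm 3 F (two_ne h3))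
    rw [Module.finrank_fintype_fun_eq_card, Fintype.card_sum, Fintype.card_sum, Fintype.card_fin,
      Fintype.card_unit]
    omega
  have W : Six (oddForm 3 F) := sixOf (wodd 3 F) le_rfl (Pi.single (Sum.inl ()) 1)
    (by rw [coe_oddForm, quadFormOdd_apply]; simp)
    (fun i => by
      show polar (oddForm 3 F) _ (Pi.single (Sum.inr (Sum.inl _)) 1) = 0
      rw [polar_oddForm]; simp)
    (fun i => by
      show polar (oddForm 3 F) _ (Pi.single (Sum.inr (Sum.inr _)) 1) = 0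
      rw [polar_oddForm]; simp)
  refine hasU_of_emb f hG (W.emb (three_zero h3) (two_ne h3)) h3 ?_
  rw [Fintype.card_sum, Fintype.card_sum, Fintype.card_fin, Fintype.card_unit]
  omega

theorem o8p (h : ∃ (F : Type) (_ : Field F) (_ : Fintype F), Fintype.card F = 3 ∧
    Nonempty (K ≃* Cfsg.POmega F (Cfsg.quadFormPlus 4 F))) : HU K := by
  obtain ⟨F, _, _, h3, ⟨f⟩⟩ := h
  rw [← coe_plusForm] at f
  have hG : Good (plusForm 4 F) := by
    apply good_of_finite (nondeg_plusForm 4 F)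
    rw [Module.finrank_fintype_fun_eq_card, Fintype.card_sum, Fintype.card_fin]
    omega
  have W : Six (plusForm 4 F) := sixOf (wplus 4 F) (by omega) ((wplus 4 F).e 3 + (wplus 4 F).f 3)
    (by
      have h1 := polar_self' (Q := plusForm 4 F) ((wplus 4 F).e 3 + (wplus 4 F).f 3)
      rw [polar_add_left, polar_add_right, polar_add_right, W_ee (wplus 4 F), W_ef (wplus 4 F), W_fe (wplus 4 F),
        W_ff (wplus 4 F), if_pos rfl] at h1
      apply mul_left_cancel₀ (two_ne h3)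
      rw [← h1]
      ring)
    (fun i => by
      rw [polar_add_left, W_ee (wplus 4 F), W_fe (wplus 4 F), if_neg, add_zero]
      intro hc
      have h7 : (3 : ℕ) = i.1 := congrArg Fin.val hc
      omega)
    (fun i => by
      rw [polar_add_left, W_ef (wplus 4 F), W_ff (wplus 4 F), if_neg, add_zero]
      intro hc
      have h7 : (3 : ℕ) = i.1 := congrArg Fin.val hc
      omega)
  refine hasU_of_emb f hG (W.emb (three_zero h3) (two_ne h3)) h3 ?_
  rw [Fintype.card_sum, Fintype.card_fin]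
  omega

theorem o8m (h : ∃ (F : Type) (_ : Field F) (_ : Fintype F) (b c : F), Fintype.card F = 3 ∧
    (∀ z₁ z₂ : F, z₁ ^ 2 + b * z₁ * z₂ + c * z₂ ^ 2 = 0 → z₁ = 0 ∧ z₂ = 0) ∧
    Nonempty (K ≃* Cfsg.POmega F (Cfsg.quadFormMinus 3 F b c))) : HU K := by
  obtain ⟨F, _, _, b, c, h3, hbc, ⟨f⟩⟩ := h
  rw [← coe_minusForm] at f
  have hG : Good (minusForm 3 F b c) := by
    apply good_of_finite (nondeg_minusForm 3 F b c hbc)
    rw [Module.finrank_fintype_fun_eq_card, Fintype.card_sum, Fintype.card_sum, Fintype.card_fin,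
      Fintype.card_fin]
    omega
  have W : Six (minusForm 3 F b c) := sixOf (wminus 3 F b c hbc) le_rfl (Pi.single (Sum.inr 0) 1)
    (by rw [coe_minusForm, quadFormMinus_apply]; simp)
    (fun i => by
      show polar (minusForm 3 F b c) _ (Pi.single (Sum.inl (Sum.inl _)) 1) = 0
      rw [polar_minusForm]; simp only [_root_.Fin.isValue, _root_.ne_eq, _root_.reduceCtorEq, _root_.not_false_eq_true, _root_.Pi.single_eq_of_ne, _root_.Fin.castLE_refl, _root_.Sum.inl.injEq, _root_.MulZeroClass.mul_zero, _root_.add_zero, _root_.Finset.sum_const_zero, _root_.Pi.single_eq_same, _root_.mul_one, _root_.Sum.inr.injEq, _root_.one_ne_zero])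
    (fun i => by
      show polar (minusForm 3 F b c) _ (Pi.single (Sum.inl (Sum.inr _)) 1) = 0
      rw [polar_minusForm]; simp)
  refine hasU_of_emb f hG (W.emb (three_zero h3) (two_ne h3)) h3 ?_
  rw [Fintype.card_sum, Fintype.card_sum, Fintype.card_fin, Fintype.card_fin]
  omega

end Rows

end Cfsg.Agent.OddHalf.NI3.K.OrthU
end

private theorem dce_cb490abea25a : _root_.True := by
  try have : _root_.True := by simp only [_root_.Cfsg.Agent.OddHalf.NI3.FThree.QQ.eq_1]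
  try have : _root_.True := by simp only [_root_.Cfsg.Agent.OddHalf.NI3.K.OrthU.pv.eq_1]
  try have : _root_.True := by simp only [_root_.Cfsg.Agent.OddHalf.NI3.K.OrthU.nU.congr_simp]
  try have : _root_.True := by simp only [_root_.Cfsg.Agent.OddHalf.NI3.K.OrthU.hv.eq_1]
  exact _root_.True.intro
end

-- part: OddHalf/D6/Final
section
set_option linter.all false

/-!
# ODD half, node D6: assembly

`d6z`: the node D6 (`Z(K) = 1`) from `Missing`:

* `ni`: the facts of node NI for `q > 3` (`NI.Assemble.Facts`);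
* `three`: the rows of rank at least 2 over the field with 3 elements (`D6.Cut.Three`).

The rows `PSL(2,q)` (`D6.LTwoMain`) and Ree (`EightTorus.Rows`) are unconditional.
-/

set_option autoImplicit false

namespace Cfsg.Agent.OddHalf.D6.Final

open Subgroup Cfsg Cfsg.Agent.OddHalf.Iface Cfsg.Agent.OddHalf.LieOddFam

universe u

/-- What is missing in D6. -/
structure Missing (S7 : ∀ (N : Type u) [Group N], N → N → Subgroup N → Subgroup N → Subgroup N → Prop) : Prop where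
  ni : NI.Assemble.Facts S7
  three : Cut.Three.{u}

variable {S7 : ∀ (N : Type u) [Group N], N → N → Subgroup N → Subgroup N → Subgroup N → Prop}

/-- The rows from the row over the field with 3 elements. -/
theorem rows (h : Cut.Row.{u} (fun X _ => Rk X 3)) : Cut.Rows.{u} where
  l27 _ _ C _ S hc _ h := LTwoMain.row27 C S hc h
  l2 _ _ C _ S hc _ h := LTwoMain.rowBig C S hc h
  ree G _ C K S hc _ h := EightTorus.Rows.ree G C K S hc h
  three := h

/-- **D6** (`Z(K) = 1`). -/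
theorem d6z_of (H : NI.Assemble.Facts S7) (h : Cut.Row.{u} (fun X _ => Rk X 3)) : Cut.D6z.{u} :=
  NI.Assemble.d6_of H (rows h)

end Cfsg.Agent.OddHalf.D6.Final
end

-- part: OddHalf/D7F4/RowOne
section
prune_inst 0xc00002444062020000000582310002041c000190006004018c4100400008a300000001000d201001500a8200000100081354008002000000002004000001000000881202b008000000000e000084400000000000000000000000000000000004000000000
set_option linter.all false
open scoped Cfsg.Agent.FastGrp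

-- part: OddHalf/D7F4/RowO
section
-- merged: Cfsg.Agent.OddHalf.D7F4.KInd
section

/-!
# F4(q): the level sets are independent (S1765, node D7)

`ind_up`, `ind_up_dual` : a root group meets the product of the root groups of higher level trivially, for the functional
`lv` and for `lv ∘ dual`; `exists_other`, `not_mem_Up`: the remaining K-facts of `not_mem_short`, `not_mem_long`.
-/

set_option autoImplicit false

namespace Cfsg.Agent.OddHalf.D7F4.KInd

open CoxeterSystem Cfsg.Agent.ChevalleyStructure.CoxeterGeom Cfsg.Agent.Tits.Roots Cfsg.Agent.Tits.Core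
open Cfsg.Lie Cfsg.Agent.ChevalleyStructure Cfsg.Agent.ChevalleyStructure.CoxeterGeomTypes
open Cfsg.Agent.Nodes Cfsg.Agent.Nodes.Reps Cfsg.Agent.Nodes.BNOf Cfsg.Agent.Nodes.Unique Cfsg.Agent.Nodes.RGDChev
  Cfsg.Agent.Nodes.KindF Cfsg.Agent.KFacts.ChevTwo Cfsg.Agent.KFacts.ChevTwoTab Cfsg.Agent.KFacts.ChevTwoInst
  Cfsg.Agent.KFacts.F4Star Cfsg.Agent.KFacts.F4Cent Cfsg.Agent.KFacts.F4Pair Cfsg.Agent.KFacts.F4Torus
  Cfsg.Agent.KFacts.F4Model Cfsg.Agent.KFacts.RgdInd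
open Cfsg.Agent.OddHalf.D7F4.Model hiding add

private noncomputable def _root_.Cfsg.Agent.LsF.f9092b3_0 : {f // @Cfsg.Agent.OddHalf.D7F4.Model.rts = f} := ⟨_, by first | (delta Cfsg.Agent.OddHalf.D7F4.Model.rts; rewrite [Cfsg.Agent.LsF.ineg_pat, Cfsg.Agent.LsF.vecCons_eq]; exact rfl) | exact rfl⟩
private noncomputable def _root_.Cfsg.Agent.LsF.f9092b3_1 : {f // @Cfsg.Agent.OddHalf.D7F4.Model.B = f} := ⟨_, by first | (delta Cfsg.Agent.OddHalf.D7F4.Model.B; rewrite [Cfsg.Agent.LsF.iadd_pat, Cfsg.Agent.LsF.imul_pat, Cfsg.Agent.LsF.isub_pat]; exact rfl) | exact rfl⟩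
theorem B_le : ∀ x ∈ rts, ∀ z ∈ rts, B x z ≤ B z z := by (refine of_decide_eq_true ?_; (try (rewrite [Cfsg.Agent.LsF.f9092b3_0.2, Cfsg.Agent.LsF.f9092b3_1.2, Cfsg.Agent.LsF.idecLe_eq, Cfsg.Agent.LsF.dBAll_eq, Cfsg.Agent.LsF.decide_eq])); decide +kernel)

theorem lv_smul (m : ℤ) (x : Fin 4 → ℤ) : lv (m • x) = m * lv x := by
  unfold lv; simp only [Pi.smul_apply, smul_eq_mul]; ring

theorem B_smul (m : ℤ) (x y : Fin 4 → ℤ) : B (m • x) y = m * B x y := by
  unfold B; simp only [Pi.smul_apply, smul_eq_mul]; ring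

/-- `lv` as a homomorphism -/
def lvh : (Fin 4 → ℤ) →+ ℤ where
  toFun := lv
  map_zero' := by decide
  map_add' := lv_add

/-- `lv ∘ tau` -/
def lvt (x : Fin 4 → ℤ) : ℤ := lv (tau x)

theorem lvt_add (x y : Fin 4 → ℤ) : lvt (x + y) = lvt x + lvt y := by
  simp only [lvt, lv, tau, Pi.add_apply]
  simp only [_root_.Fin.isValue, _root_.Matrix.cons_val_zero, _root_.Matrix.cons_val_one, _root_.Matrix.cons_val]
  ring

theorem lvt_smul (m : ℤ) (x : Fin 4 → ℤ) : lvt (m • x) = m * lvt x := by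
  simp only [lvt, lv, tau, Pi.smul_apply, smul_eq_mul]
  simp
  ring

/-- `lv ∘ tau` as a homomorphism -/
def lvth : (Fin 4 → ℤ) →+ ℤ where
  toFun := lvt
  map_zero' := by decide
  map_add' := lvt_add

theorem lvt_eq : ∀ x ∈ rts, 2 * lvt x = B x x * lv (dual x) := by decide +kernel

theorem closed_lv (k : ℤ) (hk : 0 ≤ k) : Closed cF isType.isCartan {x | x ∈ Phi ∧ k < lv x} := by
  rintro x ⟨hx, hkx⟩ y ⟨hy, hky⟩ z ⟨hz, m, a, b, hm, ha, hb, he⟩
  have hz' : z ∈ Phi := (phi_iff cF z).2 hz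
  refine ⟨hz', ?_⟩
  have e1 : m * B z z = a * B x z + b * B y z := by
    rw [← B_smul, he, B_add, B_smul, B_smul]
  have e2 : m * lv z = a * lv x + b * lv y := by
    rw [← lv_smul, he, lv_add, lv_smul, lv_smul]
  have h1 := B_le x hx z hz'
  have h2 := B_le y hy z hz'
  have h3 : 0 < B z z := by rcases _root_.Cfsg.Agent.OddHalf.D7F4.Model.norm z hz' with h | h <;> omega
  have h4 : m ≤ a + b := by
    by_contra hlt
    push Not at hlt
    nlinarith only [ha, hb, e1, h1, h2, h3, hlt]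
  have h5 : m * k < m * lv z := by nlinarith only [hk, hkx, hky, ha, hb, e2, h4]
  exact lt_of_mul_lt_mul_left h5 hm.le

theorem closed_dual (k : ℤ) (hk : 0 ≤ k) : Closed cF isType.isCartan {x | x ∈ Phi ∧ k < lv (dual x)} := by
  rintro x ⟨hx, hkx⟩ y ⟨hy, hky⟩ z ⟨hz, m, a, b, hm, ha, hb, he⟩
  have hz' : z ∈ Phi := (phi_iff cF z).2 hz
  refine ⟨hz', ?_⟩
  have e1 : m * B z z = a * B x z + b * B y z := by
    rw [← B_smul, he, B_add, B_smul, B_smul]
  have e2 : m * lvt z = a * lvt x + b * lvt y := by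
    rw [← lvt_smul, he, lvt_add, lvt_smul, lvt_smul]
  have f1 := lvt_eq x hx
  have f2 := lvt_eq y hy
  have f3 := lvt_eq z hz'
  have h1 : B x z ≤ B x x := by rw [B_symm]; exact B_le z hz' x hx
  have h2 : B y z ≤ B y y := by rw [B_symm]; exact B_le z hz' y hy
  have h3 : 0 < B z z := by rcases _root_.Cfsg.Agent.OddHalf.D7F4.Model.norm z hz' with h | h <;> omega
  have h4 : 0 < B x x := by rcases _root_.Cfsg.Agent.OddHalf.D7F4.Model.norm x hx with h | h <;> omega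
  have h5 : 0 < B y y := by rcases _root_.Cfsg.Agent.OddHalf.D7F4.Model.norm y hy with h | h <;> omega
  have h6 : m * B z z ≤ a * B x x + b * B y y := by
    rw [e1]
    exact add_le_add (mul_le_mul_of_nonneg_left h1 ha.le) (mul_le_mul_of_nonneg_left h2 hb.le)
  have h7 : (m * B z z) * lv (dual z) = a * B x x * lv (dual x) + b * B y y * lv (dual y) := by
    calc (m * B z z) * lv (dual z) = m * (2 * lvt z) := by rw [f3]; ring
      _ = a * (2 * lvt x) + b * (2 * lvt y) := by linear_combination 2 * e2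
      _ = _ := by rw [f1, f2]; ring
  have h8 : 0 < a * B x x := mul_pos ha h4
  have h9 : 0 < b * B y y := mul_pos hb h5
  have h10 : 0 < m * B z z := mul_pos hm h3
  have h11 : (m * B z z) * k < (m * B z z) * lv (dual z) := by
    rw [h7]
    have g1 : a * B x x * k < a * B x x * lv (dual x) := mul_lt_mul_of_pos_left hkx h8
    have g2 : b * B y y * k < b * B y y * lv (dual y) := mul_lt_mul_of_pos_left hky h9
    nlinarith only [hk, h6, g1, g2]
  exact lt_of_mul_lt_mul_left h11 h10.le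

universe u

variable {F : Type u} [Field F] [Finite F] [CharP F 2]

theorem ind_of (f : (Fin 4 → ℤ) →+ ℤ) {S : Set (Fin 4 → ℤ)} (hS : ∀ x ∈ S, x ∈ Phi ∧ 0 < f x)
    (hc : Closed cF isType.isCartan S) {a : Fin 4 → ℤ} (ha : a ∈ Phi) (hfa : 0 < f a) (haS : a ∉ S) :
    ∀ x ∈ XF F a, x ∈ RGD.Sup (XF F) S → x = 1 := by
  have := finW
  have : Fact (Nat.Prime 2) := ⟨Nat.prime_two⟩
  intro x hx hx'
  have h1 := inf_eq_of_pos (rgd (K := F) isType cF 2) f (S := {a}) (S' := S)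
    (by intro w hw; rw [Set.mem_singleton_iff] at hw; rw [hw]; exact ⟨(phi_iff cF a).1 ha, hfa⟩)
    (fun w hw => ⟨(phi_iff cF w).1 (hS w hw).1, (hS w hw).2⟩)
    (closed_singleton ((phi_iff cF a).1 ha)) hc
  have h2 : x ∈ RGD.Sup (XF F) {a} ⊓ RGD.Sup (XF F) S :=
    Subgroup.mem_inf.2 ⟨RGD.le_Sup (S := {a}) rfl hx, hx'⟩
  rw [h1] at h2
  have h3 : ({a} ∩ S : Set (Fin 4 → ℤ)) = ∅ := by
    ext w
    simp only [Set.mem_inter_iff, Set.mem_singleton_iff, Set.mem_empty_iff_false, iff_false]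
    rintro ⟨rfl, h4⟩
    exact haS h4
  rw [h3] at h2
  exact Subgroup.mem_bot.1 ((RGD.Sup_le fun z hz => absurd hz (Set.notMem_empty z) : RGD.Sup (XF F) ∅ ≤ ⊥) h2)

theorem ind_up : ∀ a ∈ rts, 0 < lv a → ∀ x ∈ XF F a,
    x ∈ (⨆ b : Fin 4 → ℤ, ⨆ _ : b ∈ Phi ∧ lv a < lv b, XF F b) → x = 1 := by
  intro a ha h0 x hx hx'
  refine ind_of lvh (S := {x | x ∈ Phi ∧ lv a < lv x}) (fun w hw => ⟨hw.1, lt_trans h0 hw.2⟩)
    (closed_lv _ h0.le) ha h0 (fun h => lt_irrefl _ h.2) x hx ?_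
  have hle : (⨆ b : Fin 4 → ℤ, ⨆ _ : b ∈ Phi ∧ lv a < lv b, XF F b) ≤ RGD.Sup (XF F) {x | x ∈ Phi ∧ lv a < lv x} :=
    iSup₂_le fun b hb => RGD.le_Sup (S := {x | x ∈ Phi ∧ lv a < lv x}) hb
  exact hle hx'

theorem dual_pos : ∀ a ∈ rts, 0 < lv (dual a) → 0 < lvt a := by decide +kernel

theorem ind_up_dual : ∀ a ∈ rts, 0 < lv a → ∀ x ∈ XF F (dual a),
    x ∈ (⨆ b : Fin 4 → ℤ, ⨆ _ : b ∈ Phi ∧ lv a < lv b, XF F (dual b)) → x = 1 := by
  intro a ha h0 x hx hx'
  have hda := dual_dual a ha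
  refine ind_of lvth (S := {x | x ∈ Phi ∧ lv a < lv (dual x)})
    (fun w hw => ⟨hw.1, dual_pos w hw.1 (lt_trans h0 hw.2)⟩)
    (closed_dual _ h0.le) (dual_mem a ha) (dual_pos _ (dual_mem a ha) (by rw [hda]; exact h0))
    (fun h => by have := h.2; rw [hda] at this; exact lt_irrefl _ this) x hx ?_
  have hle : (⨆ b : Fin 4 → ℤ, ⨆ _ : b ∈ Phi ∧ lv a < lv b, XF F (dual b)) ≤
      RGD.Sup (XF F) {x | x ∈ Phi ∧ lv a < lv (dual x)} :=
    iSup₂_le fun b hb => RGD.le_Sup (S := {x | x ∈ Phi ∧ lv a < lv (dual x)})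
      ⟨dual_mem b hb.1, by rw [dual_dual b hb.1]; exact hb.2⟩
  exact hle hx'

/-- `|F| > 2` -/
theorem exists_other (h2 : ∃ c : F, c ≠ 0 ∧ c ≠ 1) : ∀ s ∈ rts, ∀ x ∈ XF F s, ∃ y ∈ XF F s, y ≠ 1 ∧ y ≠ x := by
  intro s hs x hx
  obtain ⟨u, rfl⟩ := (mem_X hs).1 hx
  obtain ⟨c, hc0, hc1⟩ := h2
  have D := dat (K := F)
  have hinj : ∀ v w : F, eF F s v = eF F s w → v = w := by
    intro v w h
    exact D.injective ((phi_iff cF s).1 hs) h
  by_cases hu : u = 1
  · refine ⟨eF F s c, (mem_X hs).2 ⟨c, rfl⟩, fun h => hc0 (e_eq_one hs h), fun h => hc1 ?_⟩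
    rw [hinj _ _ h, hu]
  · refine ⟨eF F s 1, (mem_X hs).2 ⟨1, rfl⟩, fun h => one_ne_zero (e_eq_one hs h), fun h => hu ?_⟩
    exact (hinj _ _ h).symm

end Cfsg.Agent.OddHalf.D7F4.KInd

end

-- merged: Cfsg.Agent.OddHalf.D7F4.TDField
section

/-!
# K = F4(q): the Sylow 2-subgroup of `C_G(t)` with outer part of field type (S1765, node D7)

`T = ⟨t, g⟩ U`, `g` acts on the root groups by a field automorphism: `g x_a(c) g⁻¹ = x_a(φ c)`. `TD.of_field` is the
structure `TD` of `OutO`.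

* `card_fix_sq_le` : an automorphism `φ ≠ 1` of a finite field `F` fixes at most `√|F|` elements.
-/

set_option autoImplicit false

namespace Cfsg.Agent.OddHalf.D7F4

open Subgroup

/-- `|Fix φ|² ≤ |F|` -/
theorem card_fix_sq_le {F : Type*} [Field F] [Finite F] (φ : F ≃+* F) {a : F} (ha : φ a ≠ a) :
    Nat.card {c : F // φ c = c} ^ 2 ≤ Nat.card F := by
  rw [pow_two, ← Nat.card_prod]
  refine Nat.card_le_card_of_injective (fun z : {c : F // φ c = c} × {c : F // φ c = c} => (z.1 : F) + a * z.2) ?_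
  rintro ⟨⟨x, hx⟩, ⟨y, hy⟩⟩ ⟨⟨x', hx'⟩, ⟨y', hy'⟩⟩ h
  have h1 : x + a * y = x' + a * y' := h
  have h2 : a * (y - y') = x' - x := by linear_combination h1
  have h3 : y = y' := by
    by_contra hne
    apply ha
    have h4 : y - y' ≠ 0 := sub_ne_zero.2 hne
    have h5 : φ a * (y - y') = x' - x := by
      have := congrArg φ h2
      rwa [map_mul, map_sub, map_sub, hx, hx', hy, hy'] at this
    exact mul_right_cancel₀ h4 (h5.trans h2.symm)
  subst h3
  have h4 : x = x' := add_right_cancel h1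
  subst h4
  rfl

section

variable {L G F : Type*} [Group G] [Field F] [Finite F]

/-- **The structure `TD` for an outer part of field type.** -/
theorem TD.of_field {t g : G} {T : Subgroup G} {Φ : Set L} {lv : L → ℤ} {X : L → Subgroup G} (e : L → F → G)
    (tt : t * t = 1)
    (heX : ∀ a ∈ Φ, ∀ x, x ∈ X a ↔ ∃ c, x = e a c) (heI : ∀ a ∈ Φ, Function.Injective (e a))
    (te : ∀ a ∈ Φ, ∀ c, t * e a c = e a c * t)
    (hcK : ∀ y : G, y * t = t * y → (∀ a ∈ Φ, ∀ c, y * e a c = e a c * y) → y = 1 ∨ y = t)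
    (T2 : IsPGroup 2 T) (tT : t ∈ T) (Tc : ∀ d ∈ T, d * t = t * d)
    (Tmax : ∀ P : Subgroup G, IsPGroup 2 P → T ≤ P → (∀ x ∈ P, x * t = t * x) → P ≤ T)
    (UT : Up Φ lv X ≤ T) (gT : g ∈ T) (φ : F ≃+* F) (hg : ∀ a ∈ Φ, ∀ c, g * e a c * g⁻¹ = e a (φ c))
    (hfac : ∀ x ∈ T, ∃ y ∈ _root_.Subgroup.closure ({t, g} : Set G), ∃ u ∈ Up Φ lv X, x = y * u) :
    TD t T (closure ({t, g} : Set G)) (Up Φ lv X) Φ lv X := by
  have ti : t⁻¹ = t := inv_eq_of_mul_eq_one_left tt
  -- the elements of `D` act by field automorphisms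
  let E : Subgroup G :=
    { carrier := {y | ∃ ψ : F ≃+* F, ∀ a ∈ Φ, ∀ c, y * e a c * y⁻¹ = e a (ψ c)}
      one_mem' := ⟨RingEquiv.refl F, fun a _ c => by rw [one_mul, inv_one, mul_one]; rfl⟩
      mul_mem' := by
        rintro y z ⟨ψ, hy⟩ ⟨χ, hz⟩
        refine ⟨χ.trans ψ, fun a ha c => ?_⟩
        calc y * z * e a c * (y * z)⁻¹ = y * (z * e a c * z⁻¹) * y⁻¹ := by group
          _ = e a (ψ (χ c)) := by rw [hz a ha, hy a ha]
      inv_mem' := by
        rintro y ⟨ψ, hy⟩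
        refine ⟨ψ.symm, fun a ha c => ?_⟩
        have h1 := hy a ha (ψ.symm c)
        rw [RingEquiv.apply_symm_apply] at h1
        rw [← h1]; group }
  have hDE : _root_.Subgroup.closure ({t, g} : Set G) ≤ E := by
    rw [closure_le]
    rintro y (rfl | rfl)
    · exact ⟨RingEquiv.refl F, fun a ha c => by rw [te a ha, mul_inv_cancel_right]; rfl⟩
    · exact ⟨φ, hg⟩
  have hDT : closure ({t, g} : Set G) ≤ T := by
    rw [closure_le]
    rintro y (rfl | rfl)
    · exact tT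
    · exact gT
  have DX : ∀ y ∈ closure ({t, g} : Set G), ∀ a ∈ Φ, ∀ x ∈ X a, y * x * y⁻¹ ∈ X a := by
    intro y hy a ha x hx
    obtain ⟨ψ, hψ⟩ := hDE hy
    obtain ⟨c, rfl⟩ := (heX a ha x).1 hx
    rw [hψ a ha]
    exact (heX a ha _).2 ⟨_, rfl⟩
  have DU : ∀ y ∈ closure ({t, g} : Set G), ∀ x ∈ Up Φ lv X, y * x * y⁻¹ ∈ Up Φ lv X := by
    intro y hy x hx
    have h2 : Up Φ lv X ≤ (Up Φ lv X).comap (MulAut.conj y).toMonoidHom := by
      refine iSup₂_le fun a ha v hv => ?_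
      exact (le_iSup₂_of_le (f := fun a (_ : a ∈ Φ ∧ 0 < lv a) => X a) a ha le_rfl) (DX y hy a ha.1 v hv)
    exact h2 hx
  have hgt : g * t = t * g := Tc g gT
  have hDab : ∀ y ∈ closure ({t, g} : Set G), ∀ z ∈ closure ({t, g} : Set G), y * z = z * y := by
    have h1 : closure ({t, g} : Set G) ≤ centralizer ({t, g} : Set G) := by
      rw [closure_le]
      rintro y hy
      rw [SetLike.mem_coe, mem_centralizer_iff]
      rintro z hz
      rcases hy with rfl | rfl <;> rcases hz with rfl | rfl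
      · rfl
      · exact hgt
      · exact hgt.symm
      · rfl
    intro y hy z hz
    exact mem_centralizer_iff.1 (closure_le_centralizer_centralizer _ hz) y (h1 hy)
  refine { T2 := T2, tT := tT, Tc := Tc, Tmax := Tmax, UT := UT, ab := ?_, DT := hDT, fac := hfac
           DX := fun y hy a ha _ => DX y hy a ha, fix := ?_ }
  · intro a ha b hb
    obtain ⟨y, hy, u, hu, rfl⟩ := hfac a ha
    obtain ⟨z, hz, v, hv, rfl⟩ := hfac b hb
    have hyz := hDab y hy z hz
    have e1 : y * u * (z * v) * (y * u)⁻¹ * (z * v)⁻¹ =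
        (y * u * y⁻¹) * ((y * z) * (v * u⁻¹) * (y * z)⁻¹) * (z * v⁻¹ * z⁻¹) := by
      calc y * u * (z * v) * (y * u)⁻¹ * (z * v)⁻¹ = (y * u * y⁻¹) * ((y * z) * (v * u⁻¹) * (y * z)⁻¹) *
            ((y * z) * y⁻¹ * v⁻¹ * z⁻¹) := by group
        _ = _ := by rw [hyz, mul_inv_cancel_right]
    rw [e1]
    exact mul_mem (mul_mem (DU y hy u hu) (DU _ (mul_mem hy hz) _ (mul_mem hv (inv_mem hu)))) (DU z hz _ (inv_mem hv))
  · intro y hy _ hy1 hy2 a ha h0
    obtain ⟨ψ, hψ⟩ := hDE hy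
    have hne : ∃ c, ψ c ≠ c := by
      by_contra hcon
      push Not at hcon
      rcases hcK y (Tc y (hDT hy)) (fun b hb c => by
        have h1 := hψ b hb c
        rw [hcon c] at h1
        exact mul_inv_eq_iff_eq_mul.1 h1) with h1 | h1
      · exact hy1 (h1 ▸ one_mem _)
      · exact hy2 (by rw [h1, tt]; exact one_mem _)
    obtain ⟨c₀, hc₀⟩ := hne
    have h1 := card_fix_sq_le ψ hc₀
    have h2 : Nat.card (X a) = Nat.card F := by
      symm
      refine Nat.card_congr (Equiv.ofBijective (fun c => (⟨e a c, (heX a ha _).2 ⟨c, rfl⟩⟩ : X a)) ⟨?_, ?_⟩)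
      · intro c d hcd
        exact heI a ha (congrArg Subtype.val hcd)
      · rintro ⟨x, hx⟩
        obtain ⟨c, rfl⟩ := (heX a ha x).1 hx
        exact ⟨c, rfl⟩
    have h3 : Nat.card (X a ⊓ centralizer {y} : Subgroup G) ≤ Nat.card {c : F // ψ c = c} := by
      have key : ∀ x : (X a ⊓ centralizer {y} : Subgroup G), ∃ c : {c : F // ψ c = c}, (x : G) = e a c := by
        rintro ⟨x, hx1, hx2⟩
        obtain ⟨c, rfl⟩ := (heX a ha x).1 hx1
        refine ⟨⟨c, ?_⟩, rfl⟩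
        apply heI a ha
        rw [← hψ a ha]
        have := mem_centralizer_singleton_iff.1 hx2
        rw [← this, mul_inv_cancel_right]
      choose k hk using key
      refine Nat.card_le_card_of_injective k ?_
      intro x x' hxx
      apply Subtype.ext
      rw [hk x, hk x', hxx]
    rw [h2]
    exact (Nat.pow_le_pow_left h3 2).trans h1

end

end Cfsg.Agent.OddHalf.D7F4

end

-- merged: Cfsg.Agent.OddHalf.D7F4.RowO
section

/-!
# K = F4(q), q ≥ 4 even, exactly one of the two lengths is moved: the row (S1765, node D7)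

`Frame t f`, `XG f a = f (X_a)`. From the K-facts `KF`, the doubled root groups `WS` / `WL` of the moved length, `NM` for
the other length, and the Sylow 2-subgroup `T = ⟨t, g⟩ U` with `g` of field type: `t ∉ [G, G]`.
-/

set_option autoImplicit false

namespace Cfsg.Agent.OddHalf.D7F4

open CoxeterSystem Cfsg.Agent.ChevalleyStructure.CoxeterGeom Cfsg.Agent.Tits.Roots Cfsg.Agent.Tits.Core
open Cfsg.Lie Cfsg.Agent.ChevalleyStructure Cfsg.Agent.ChevalleyStructure.CoxeterGeomTypes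
open Cfsg.Agent.Nodes Cfsg.Agent.Nodes.Reps Cfsg.Agent.Nodes.BNOf Cfsg.Agent.Nodes.Unique Cfsg.Agent.Nodes.RGDChev
  Cfsg.Agent.Nodes.KindF Cfsg.Agent.KFacts.ChevTwo Cfsg.Agent.KFacts.ChevTwoTab Cfsg.Agent.KFacts.ChevTwoInst
  Cfsg.Agent.KFacts.F4Star Cfsg.Agent.KFacts.F4Cent Cfsg.Agent.KFacts.F4Pair Cfsg.Agent.KFacts.F4Torus
  Cfsg.Agent.KFacts.F4Model Cfsg.Agent.KFacts.RgdInd
open Cfsg.Agent.OddHalf.D7F4.Model hiding add

universe u

variable {G : Type*} [Group G] {F : Type u} [Field F] [Finite F] [CharP F 2] {t : G}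

variable {f : ↥(chevF4.group F) →* G}

theorem mem_XG {a : Fin 4 → ℤ} (ha : a ∈ rts) {x : G} : x ∈ XG f a ↔ ∃ c, x = f (eF F a c) := by
  constructor
  · rintro ⟨y, hy, rfl⟩
    obtain ⟨c, rfl⟩ := (mem_X ha).1 hy
    exact ⟨c, rfl⟩
  · rintro ⟨c, rfl⟩
    exact ⟨_, (mem_X ha).2 ⟨c, rfl⟩, rfl⟩

omit [Finite F] [CharP F 2] in
theorem up_eq : Up Phi lv (XG f) = (Up Phi lv (XF F)).map f := by
  unfold Up XG
  rw [Subgroup.map_iSup]
  congr 1
  funext a
  rw [Subgroup.map_iSup]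

theorem XG_ind (hf : Function.Injective f) : ∀ a ∈ rts, 0 < lv a → ∀ x ∈ XG f a,
    x ∈ (⨆ b : Fin 4 → ℤ, ⨆ _ : b ∈ Phi ∧ lv a < lv b, XG f b) → x = 1 := by
  rintro a ha h0 _ ⟨x, hx, rfl⟩ hx'
  have e : (⨆ b : Fin 4 → ℤ, ⨆ _ : b ∈ Phi ∧ lv a < lv b, XG f b) =
      (⨆ b : Fin 4 → ℤ, ⨆ _ : b ∈ Phi ∧ lv a < lv b, XF F b).map f := by
    unfold XG
    rw [Subgroup.map_iSup]
    congr 1
    funext b
    rw [Subgroup.map_iSup]
  rw [e] at hx'
  obtain ⟨y, hy, hyx⟩ := hx'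
  rw [hf hyx] at hy
  rw [KInd.ind_up a ha h0 x hx hy, map_one]

theorem XG_ind_dual (hf : Function.Injective f) : ∀ a ∈ rts, 0 < lv a → ∀ x ∈ XG f (dual a),
    x ∈ (⨆ b : Fin 4 → ℤ, ⨆ _ : b ∈ Phi ∧ lv a < lv b, XG f (dual b)) → x = 1 := by
  rintro a ha h0 _ ⟨x, hx, rfl⟩ hx'
  have e : (⨆ b : Fin 4 → ℤ, ⨆ _ : b ∈ Phi ∧ lv a < lv b, XG f (dual b)) =
      (⨆ b : Fin 4 → ℤ, ⨆ _ : b ∈ Phi ∧ lv a < lv b, XF F (dual b)).map f := by
    unfold XG
    rw [Subgroup.map_iSup]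
    congr 1
    funext b
    rw [Subgroup.map_iSup]
  rw [e] at hx'
  obtain ⟨y, hy, hyx⟩ := hx'
  rw [hf hyx] at hy
  rw [KInd.ind_up_dual a ha h0 x hx hy, map_one]

theorem XG_other (hf : Function.Injective f) (h2 : ∃ c : F, c ≠ 0 ∧ c ≠ 1) : ∀ s ∈ rts, ∀ x ∈ XG f s,
    ∃ y ∈ XG f s, y ≠ 1 ∧ y ≠ x := by
  rintro s hs _ ⟨x, hx, rfl⟩
  obtain ⟨y, hy, h1, h3⟩ := KInd.exists_other h2 s hs x hx
  refine ⟨f y, ⟨y, hy, rfl⟩, fun h => h1 (hf (by rw [h, map_one])), fun h => h3 (hf h)⟩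

namespace Frame

/-- `t ∉ U` -/
theorem not_mem_up (R : Frame t f) : t ∉ Up Phi lv (XG f) := by
  rw [up_eq]
  rintro ⟨y, -, hy⟩
  exact R.not_mem_range (fun z hz => eq_one_of_comm cF (fun x _ u => hz _)) y hy

/-- An element of `C(t)` centralising the root elements. -/
theorem eq_one_or (R : Frame t f) {y : G} (hy : y * t = t * y)
    (h : ∀ a ∈ rts, ∀ c, y * f (eF F a c) = f (eF F a c) * y) : y = 1 ∨ y = t := by
  refine R.cK y hy fun x => ?_
  have h2 : RGDLib.G1 cF isType.isCartan (XF F) ≤ (Subgroup.centralizer ({y} : Set G)).comap f := by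
    refine RGD.Sup_le fun a ha v hv => ?_
    rw [Subgroup.mem_comap, Subgroup.mem_centralizer_singleton_iff]
    obtain ⟨u, rfl⟩ := (mem_X ((phi_iff cF a).2 ha)).1 hv
    exact (h a ((phi_iff cF a).2 ha) u).symm
  have h3 : x ∈ (Subgroup.centralizer ({y} : Set G)).comap f := h2 (by
    rw [show RGDLib.G1 cF isType.isCartan (XF F) = ⊤ from G1_eq_top isType cF]; exact Subgroup.mem_top x)
  rw [Subgroup.mem_comap, Subgroup.mem_centralizer_singleton_iff] at h3
  exact h3.symm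

/-- **The Sylow 2-subgroup of `C(t)` with outer part of field type.** -/
theorem td (R : Frame t f) {T : Subgroup G} (T2 : IsPGroup 2 T) (tT : t ∈ T) (Tc : ∀ d ∈ T, d * t = t * d)
    (Tmax : ∀ P : Subgroup G, IsPGroup 2 P → T ≤ P → (∀ x ∈ P, x * t = t * x) → P ≤ T)
    (UT : Up Phi lv (XG f) ≤ T) {g : G} (gT : g ∈ T) (φ : F ≃+* F) (δ : (Fin 4 → ℤ) → F) (hδ : ∀ a ∈ rts, δ a ≠ 0)
    (hg : ∀ a ∈ rts, ∀ c, g * f (eF F a (δ a * c)) * g⁻¹ = f (eF F a (δ a * φ c)))
    (hfac : ∀ x ∈ T, ∃ y ∈ Subgroup.closure ({t, g} : Set G), ∃ u ∈ Up Phi lv (XG f), x = y * u) :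
    TD t T (Subgroup.closure ({t, g} : Set G)) (Up Phi lv (XG f)) Phi lv (XG f) := by
  have hs : ∀ a ∈ rts, ∀ c, eF F a c = eF F a (δ a * ((δ a)⁻¹ * c)) := by
    intro a ha c
    rw [mul_inv_cancel_left₀ (hδ a ha)]
  refine TD.of_field (fun a c => f (eF F a (δ a * c))) R.tt ?_ ?_ ?_ ?_ T2 tT Tc Tmax UT gT φ hg hfac
  · intro a ha x
    rw [mem_XG ha]
    constructor
    · rintro ⟨c, rfl⟩
      exact ⟨(δ a)⁻¹ * c, by rw [hs a ha c]⟩
    · rintro ⟨c, rfl⟩
      exact ⟨_, rfl⟩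
  · intro a ha c c' h
    have h1 := (dat (K := F)).injective ((phi_iff cF a).1 ha) (R.inj h)
    exact mul_left_cancel₀ (hδ a ha) h1
  · intro a _ c
    exact (R.ft _).symm
  · intro y hy h
    refine R.eq_one_or hy fun a ha c => ?_
    rw [hs a ha c]
    exact h a ha _

variable [Finite G]

/-- **Short moved, long not moved**: `t ∉ [G, G]`. -/
theorem not_mem_short (R : Frame t f) (h2 : ∃ c : F, c ≠ 0 ∧ c ≠ 1) (hK : KF t (XG f))
    {W : (Fin 4 → ℤ) → Subgroup G} (hW : WS t (XG f) W)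
    (hNM : ∀ r ∈ rts, B r r = 4 → ∀ x ∈ XG f r, ∀ g : G, g⁻¹ * t * g = t * x → x = 1)
    {T D : Subgroup G} (hT : TD t T D (Up Phi lv (XG f)) Phi lv (XG f))
    (hDW : ∀ y ∈ D, ∀ s ∈ rts, B s s = 2 → 0 < lv s → ∀ w ∈ W s, y * w * y⁻¹ ∈ W s) :
    t ∉ _root_.commutator G :=
  D7F4.not_mem_short hK hW hNM (XG_other R.inj h2) (XG_ind R.inj) R.not_mem_up hT hDW

/-- **Long moved, short not moved**: `t ∉ [G, G]`. -/
theorem not_mem_long (R : Frame t f) (h2 : ∃ c : F, c ≠ 0 ∧ c ≠ 1) (hK : KF t (XG f))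
    {W : (Fin 4 → ℤ) → Subgroup G} (hW : WL t (XG f) W)
    (hNM : ∀ r ∈ rts, B r r = 2 → ∀ x ∈ XG f r, ∀ g : G, g⁻¹ * t * g = t * x → x = 1)
    {T D : Subgroup G} (hT : TD t T D (Up Phi lv (XG f)) Phi lv (XG f))
    (hDW : ∀ y ∈ D, ∀ s ∈ rts, B s s = 4 → 0 < lv s → ∀ w ∈ W s, y * w * y⁻¹ ∈ W s) :
    t ∉ _root_.commutator G :=
  D7F4.not_mem_long hK hW hNM (XG_other R.inj h2) (XG_ind_dual R.inj) R.not_mem_up hT hDW

end Frame

end Cfsg.Agent.OddHalf.D7F4

end
end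

-- part: OddHalf/D7F4/KInst
section
/-!
# K = F4(q), q ≥ 4 even: the K-facts `KF`, `KG` in `G` (S1765, node D7; helper186)

`f : F₄(F) → G` the frame of helper588, `XG f a = f (X_a)`. `InnerX F`: an automorphism of `F₄(F)` which is trivial on one
root group is inner (helper640).

* `innerX : InnerX F`;
* `kf : Frame t f → InnerX F → 2 < |F| → KF t (XG f)`;
* `kg : Frame t f → InnerX F → KG t (XG f)`.
-/

set_option autoImplicit false
set_option Elab.async false

namespace Cfsg.Agent.OddHalf.D7F4.KInst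

open CoxeterSystem Cfsg.Agent.ChevalleyStructure.CoxeterGeom Cfsg.Agent.Tits.Roots Cfsg.Agent.Tits.Core
open Cfsg.Lie Cfsg.Agent.ChevalleyStructure Cfsg.Agent.ChevalleyStructure.Elts
  Cfsg.Agent.ChevalleyStructure.RootVec Cfsg.Agent.ChevalleyStructure.CoxeterGeomTypes
open Cfsg.Agent.Nodes Cfsg.Agent.Nodes.Reps Cfsg.Agent.Nodes.BNOf Cfsg.Agent.Nodes.RGDChev Cfsg.Agent.Nodes.Coroot
  Cfsg.Agent.Nodes.KindF Cfsg.Agent.KFacts.ChevTwo Cfsg.Agent.KFacts.ChevTwoTab Cfsg.Agent.KFacts.ChevTwoInst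
  Cfsg.Agent.KFacts.F4Star Cfsg.Agent.KFacts.F4Cent Cfsg.Agent.KFacts.F4Pair Cfsg.Agent.KFacts.F4Torus
  Cfsg.Agent.KFacts.F4Model
open Cfsg.Agent.OddHalf.D7F4 Cfsg.Agent.OddHalf.D7F4.Model
open scoped commutatorElement

universe u

variable {G : Type*} [Group G] {F : Type u} [Field F]

variable (F) in
/-- automorphisms trivial on one root group are inner -/
def InnerX : Prop := ∀ a ∈ rts, ∀ α : MulAut ↥(chevF4.group F), (∀ x ∈ XF F a, α x = x) → ∃ z, ∀ y, α y = z * y * z⁻¹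

theorem innerX [Finite F] [CharP F 2] : InnerX F := fun a ha α hα => by
  obtain ⟨g, -, h⟩ := KFacts.F4Aut.inner_of_fix_X cF ((phi_iff cF a).1 ha) hα
  exact ⟨g, fun y => by rw [h, MulAut.conj_apply]⟩

variable {t : G} {f : ↥(chevF4.group F) →* G}

/-- elements of `C(t)` centralising one root group -/
theorem mem_C (R : Frame t f) (hI : InnerX F) {a : Fin 4 → ℤ} (ha : a ∈ rts) {g : G} (hg : g * t = t * g)
    (h : ∀ x ∈ XG f a, g * x = x * g) : ∃ z, g = f z ∨ g = t * f z := by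
  obtain ⟨α, hα⟩ := R.exists_aut hg
  obtain ⟨z, hz⟩ := hI a ha α (fun x hx => R.inj (by
    rw [← hα, h (f x) ⟨x, hx, rfl⟩, mul_inv_cancel_right]))
  exact ⟨z, R.mem_of_conj hg fun y => by rw [hα, hz]⟩

variable [Finite F] [CharP F 2]

/-- centralisers in `C(t)` from centralisers in `K` -/
theorem cent (R : Frame t f) (hI : InnerX F) {S : Set (Fin 4 → ℤ)} {a₀ : Fin 4 → ℤ} (h₀ : a₀ ∈ S)
    (hS : ∀ a ∈ S, a ∈ rts) {C : Subgroup ↥(chevF4.group F)} (hC : ∀ z, Cm z S → z ∈ C) {g : G} (hg : g * t = t * g)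
    (h : ∀ a ∈ S, ∀ x ∈ XG f a, g * x = x * g) : ∃ z ∈ C, g = f z ∨ g = t * f z := by
  obtain ⟨z, hz⟩ := mem_C R hI (hS a₀ h₀) hg (h a₀ h₀)
  refine ⟨z, hC z fun a ha => ?_, hz⟩
  have h1 : eF F a 1 ∈ XF F a := (mem_X (hS a ha)).2 ⟨1, rfl⟩
  refine ⟨eF F a 1, h1, fun h2 => one_ne_zero (e_eq_one (hS a ha) h2), R.inj ?_⟩
  rw [map_mul, map_mul]
  have h3 := h a ha _ ⟨_, h1, rfl⟩
  rcases hz with rfl | hz
  · exact h3
  · have h4 : f z = t * g := by rw [hz, ← mul_assoc, R.tt, one_mul]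
    have h5 := R.ft (eF F a 1)
    calc f z * f (eF F a 1) = t * (g * f (eF F a 1)) := by rw [h4, mul_assoc]
      _ = (t * f (eF F a 1)) * g := by rw [h3]; group
      _ = f (eF F a 1) * f z := by rw [← h5, h4]; group

/-! ### the torus -/

/-- `X_a ∩ X_b X_c = 1` for commuting root groups -/
theorem ind3 (hF : 2 < Nat.card F) {a b c : Fin 4 → ℤ} (ha : a ∈ rts) (hb : b ∈ rts) (hc : c ∈ rts) (hab : b ≠ a)
    (hab' : b ≠ -a) (hac : a ≠ c) (h1 : 0 ≤ B a b) (h2 : 0 ≤ B a c) (h3 : 0 ≤ B b c) {x y z : ↥(chevF4.group F)}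
    (hx : x ∈ XF F a) (hy : y ∈ XF F b) (hz : z ∈ XF F c) (h : x * y * z = 1) : x = 1 := by
  have := finW
  obtain ⟨d, hd⟩ : ∃ d : Fˣ, d ≠ 1 := by
    by_contra hcon
    push Not at hcon
    have h4 : Nat.card F ≤ 2 := by
      classical
      have := Fintype.ofFinite F
      have h5 : Nat.card Fˣ = 1 := by
        rw [Nat.card_eq_one_iff_unique]
        exact ⟨⟨fun a b => by rw [hcon a, hcon b]⟩, ⟨1⟩⟩
      rw [Nat.card_eq_fintype_card, Fintype.card_units] at h5
      rw [Nat.card_eq_fintype_card]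
      omega
    omega
  obtain ⟨δ, hδ, e1, e2⟩ := torus_fix (K := F) cF ((phi_iff cF a).1 ha) ((phi_iff cF b).1 hb) hab hab' d
  obtain ⟨χ, hχ⟩ := (sysF (K := F) cF).chi δ hδ
  obtain ⟨u, rfl⟩ := (mem_X ha).1 hx
  obtain ⟨v, rfl⟩ := (mem_X hb).1 hy
  obtain ⟨w, rfl⟩ := (mem_X hc).1 hz
  have hz' : δ * eF F c w * δ⁻¹ ∈ XF F c := by
    rw [hχ c ((phi_iff cF c).1 hc)]
    exact (mem_X hc).2 ⟨_, rfl⟩
  have hx' : eF F a (d * u) ∈ XF F a := (mem_X ha).2 ⟨_, rfl⟩
  have h5 : eF F a (d * u) * eF F b v * (δ * eF F c w * δ⁻¹) = 1 := by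
    rw [← e1, ← e2 v]
    calc δ * eF F a u * δ⁻¹ * (δ * eF F b v * δ⁻¹) * (δ * eF F c w * δ⁻¹)
        = δ * (eF F a u * eF F b v * eF F c w) * δ⁻¹ := by group
      _ = 1 := by rw [h]; group
  -- commute
  have k1 := X0 ha hb h1 _ hx _ hy
  have k1' := X0 ha hb h1 _ hx' _ hy
  have h6 : (eF F a u)⁻¹ * eF F a (d * u) = eF F c w * (δ * eF F c w * δ⁻¹)⁻¹ := by
    have h7 : eF F a (d * u) = (δ * eF F c w * δ⁻¹)⁻¹ * (eF F b v)⁻¹ := by
      have h8 : (eF F a (d * u)) * (eF F b v * (δ * eF F c w * δ⁻¹)) = 1 := by rw [← mul_assoc]; exact h5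
      rw [eq_inv_of_mul_eq_one_left (h8 :), mul_inv_rev]
    have h9 : (eF F a u)⁻¹ = eF F b v * eF F c w := by
      rw [mul_assoc] at h
      exact inv_eq_of_mul_eq_one_right h
    have k2 := X0 hb hc h3 _ hy _ hz
    have k3 := X0 hb hc h3 _ hy _ (inv_mem hz')
    rw [h7, h9]
    calc eF F b v * eF F c w * ((δ * eF F c w * δ⁻¹)⁻¹ * (eF F b v)⁻¹)
        = (eF F b v * eF F c w) * (δ * eF F c w * δ⁻¹)⁻¹ * (eF F b v)⁻¹ := by group
      _ = (eF F c w * eF F b v) * (δ * eF F c w * δ⁻¹)⁻¹ * (eF F b v)⁻¹ := by rw [k2]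
      _ = eF F c w * (eF F b v * (δ * eF F c w * δ⁻¹)⁻¹) * (eF F b v)⁻¹ := by group
      _ = eF F c w * ((δ * eF F c w * δ⁻¹)⁻¹ * eF F b v) * (eF F b v)⁻¹ := by rw [k3]
      _ = _ := by group
  have h7 : (eF F a u)⁻¹ * eF F a (d * u) = 1 :=
    ind ha hc hac _ (mul_mem (inv_mem hx) hx') (by rw [h6]; exact mul_mem hz (inv_mem hz'))
  have h8 : eF F a u = eF F a (d * u) := inv_mul_eq_one.1 h7
  have h9 : u = d * u := (dat (K := F)).injective ((phi_iff cF a).1 ha) h8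
  have h10 : u = 0 := by
    by_contra hu
    apply hd
    apply Units.ext
    rw [Units.val_one]
    exact mul_right_cancel₀ hu (by rw [one_mul]; exact h9.symm)
  rw [h10, e_zero ha]

/-! ### elements -/

theorem mem_e {f : ↥(chevF4.group F) →* G} {a : Fin 4 → ℤ} (ha : a ∈ rts) {x : G} :
    x ∈ XG f a ↔ ∃ u, x = f (eF F a u) := by
  constructor
  · rintro ⟨y, hy, rfl⟩
    obtain ⟨u, rfl⟩ := (mem_X ha).1 hy
    exact ⟨u, rfl⟩
  · rintro ⟨u, rfl⟩
    exact ⟨_, (mem_X ha).2 ⟨u, rfl⟩, rfl⟩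

theorem fcomm (f : ↥(chevF4.group F) →* G) (x y : ↥(chevF4.group F)) :
    f x * f y * (f x)⁻¹ * (f y)⁻¹ = f ⁅x, y⁆ := by
  rw [commutatorElement_def, map_mul, map_mul, map_mul, map_inv, map_inv]

theorem psi0_iff {a b c : Fin 4 → ℤ} (ha : a ∈ rts) (hb : b ∈ rts) :
    c ∈ Psi cF 0 0 a b ↔ c ∈ rts ∧ 0 ≤ B c a ∧ 0 ≤ B c b := by
  have key : c ∈ rts → ∀ d ∈ rts, (0 ≤ cpr cF isType.isCartan c d ↔ 0 ≤ B c d) := fun hc d hd =>
    cpr_nonneg_iff cF hc hd
  constructor
  · rintro ⟨hc, h1, h2⟩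
    have hc' : c ∈ rts := (phi_iff cF c).2 hc
    refine ⟨hc', ?_⟩
    rcases lg_or_sh cF hc with h3 | h3
    · exact ⟨(key hc' a ha).1 (h1 h3).1, (key hc' b hb).1 (h1 h3).2⟩
    · exact ⟨(key hc' a ha).1 (h2 h3).1, (key hc' b hb).1 (h2 h3).2⟩
  · rintro ⟨hc, h1, h2⟩
    exact ⟨(phi_iff cF c).1 hc, fun _ => ⟨(key hc a ha).2 h1, (key hc b hb).2 h2⟩,
      fun _ => ⟨(key hc a ha).2 h1, (key hc b hb).2 h2⟩⟩

theorem exL : ∀ s ∈ rts, ∀ s' ∈ rts, B s s = 2 → B s' s' = 2 → B s s' < 2 → -2 < B s s' →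
    ∃ a ∈ rts, B a a = 4 ∧ 0 ≤ B a s ∧ 0 ≤ B a s' := by (set_option synthInstance.maxSize 2000 in open scoped Cfsg.Agent.Lib.Hoist in (refine of_decide_eq_true ?_; (try (delta Cfsg.Agent.Lib.Hoist.hC; rewrite [Cfsg.Agent.LsF.f9092b3_0.2, Cfsg.Agent.LsF.f9092b3_1.2, Cfsg.Agent.LsF.ineg_pat, Cfsg.Agent.LsF.instIDecEq_eq, Cfsg.Agent.LsF.idecLe_eq, Cfsg.Agent.LsF.idecLt_eq, Cfsg.Agent.LsF.dAnd_eq, Cfsg.Agent.LsF.dIff_eq, Cfsg.Agent.LsF.dBAll_eq, Cfsg.Agent.LsF.dBEx_eq, Cfsg.Agent.LsF.decide_eq])); decide +kernel))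

theorem exS : ∀ s ∈ rts, ∀ s' ∈ rts, B s s = 4 → B s' s' = 4 → B s s' < 4 → -4 < B s s' →
    ∃ a ∈ rts, B a a = 2 ∧ 0 ≤ B a s ∧ 0 ≤ B a s' := by (refine of_decide_eq_true ?_; (try (rewrite [Cfsg.Agent.LsF.f9092b3_0.2, Cfsg.Agent.LsF.f9092b3_1.2, Cfsg.Agent.LsF.ineg_pat, Cfsg.Agent.LsF.instIDecEq_eq, Cfsg.Agent.LsF.idecLe_eq, Cfsg.Agent.LsF.idecLt_eq, Cfsg.Agent.LsF.dAnd_eq, Cfsg.Agent.LsF.dBAll_eq, Cfsg.Agent.LsF.dBEx_eq, Cfsg.Agent.LsF.decide_eq])); decide +kernel)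

@[reducible] private def dec4 (f g : Fin 4 → ℤ) : Decidable (f = g) :=
  decidable_of_iff (f 0 = g 0 ∧ f 1 = g 1 ∧ f 2 = g 2 ∧ f 3 = g 3)
    ⟨fun h => funext fun i => by
      fin_cases i
      exacts [h.1, h.2.1, h.2.2.1, h.2.2.2], fun h => h ▸ ⟨rfl, rfl, rfl, rfl⟩⟩

private noncomputable def _root_.Cfsg.Agent.LsF.f9092b3_2 : {f // @Cfsg.Agent.OddHalf.D7F4.KInst.dec4 = f} := ⟨_, by first | (delta Cfsg.Agent.OddHalf.D7F4.KInst.dec4; rewrite [Cfsg.Agent.LsF.instIDecEq_eq, Cfsg.Agent.LsF.dAnd_eq, Cfsg.Agent.LsF.dIff_eq]; exact rfl) | exact rfl⟩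
attribute [local instance high] dec4 in
theorem exM : ∀ s ∈ rts, ∀ s' ∈ rts, B s s = 4 → B s' s' = 4 → B s s' = 0 → ∃ m ∈ rts, m + m = s + s' := by
  (refine of_decide_eq_true ?_; (try (rewrite [Cfsg.Agent.LsF.f9092b3_0.2, Cfsg.Agent.LsF.f9092b3_1.2, Cfsg.Agent.LsF.f9092b3_2.2, Cfsg.Agent.LsF.instIAdd_eq, Cfsg.Agent.LsF.instIDecEq_eq, Cfsg.Agent.LsF.dBAll_eq, Cfsg.Agent.LsF.dBEx_eq, Cfsg.Agent.LsF.decide_eq])); decide +kernel)

/-- product decompositions -/
theorem prod3 {s s' : Fin 4 → ℤ} {Z : Subgroup ↥(chevF4.group F)} {z : ↥(chevF4.group F)}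
    (hz : z ∈ RGD.Sup (XF F) (_root_.Cfsg.Agent.KFacts.F4Cent.Cone cF s s'))
    (hle : RGD.Sup (XF F) (_root_.Cfsg.Agent.KFacts.F4Cent.Cone cF s s') ≤ XF F s ⊔ XF F s' ⊔ Z)
    (h1 : ∀ a ∈ XF F s, ∀ c ∈ Z, a * c = c * a) (h2 : ∀ a ∈ XF F s', ∀ c ∈ Z, a * c = c * a)
    (h3 : ∀ a ∈ XF F s, ∀ b ∈ XF F s', b⁻¹ * a⁻¹ * b * a ∈ Z) (R : Frame t f) {c : G} (hc : c = f z ∨ c = t * f z) :
    ∃ x ∈ XG f s, ∃ y ∈ XG f s', ∃ w ∈ Z.map f, c = x * y * w ∨ c = t * (x * y * w) := by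
  obtain ⟨x, hx, y, hy, w, hw, rfl⟩ := mem_sup3 (A := XF F s) (B := XF F s') (C := Z) h1 h2
    (fun a ha b hb => ⟨_, h3 a ha b hb, by group⟩) (hle hz)
  refine ⟨f x, ⟨x, hx, rfl⟩, f y, ⟨y, hy, rfl⟩, f w, ⟨w, hw, rfl⟩, ?_⟩
  rw [map_mul, map_mul] at hc
  exact hc

theorem comm_same {a b : Fin 4 → ℤ} (ha : a ∈ rts) (hb : b ∈ rts) (hl : B a a = B b b) (h : B a b < 0) (hab : a ≠ -b)
    {x y : ↥(chevF4.group F)} (hx : x ∈ XF F a) (hy : y ∈ XF F b) : ⁅x, y⁆ ∈ XF F (a + b) := by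
  obtain ⟨u, rfl⟩ := (mem_X ha).1 hx
  obtain ⟨v, rfl⟩ := (mem_X hb).1 hy
  rw [comm1 ha hb hl h hab]
  exact (mem_X (roots.add a ha b hb h hab)).2 ⟨_, rfl⟩

theorem k2s (R : Frame t f) (hI : InnerX F) : ∀ s ∈ rts, ∀ s' ∈ rts, B s s = 2 → B s' s' = 2 → B s s' < 2 →
    -2 < B s s' → ∀ c, c * t = t * c →
    (∀ a ∈ rts, (B a a = 4 ∧ 0 ≤ B a s ∧ 0 ≤ B a s' ∨ B a a = 2 ∧ 0 < B a s ∧ 0 < B a s') →
      ∀ x ∈ XG f a, c * x = x * c) →
    ∃ x ∈ XG f s, ∃ y ∈ XG f s', ∃ z, (B s s' = 1 ∧ z = 1 ∨ B s s' ≤ 0 ∧ z ∈ XG f (s + s')) ∧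
      (c = x * y * z ∨ c = t * (x * y * z)) := by
  intro s hs s' hs' h1 h2 h3 h4 c hct hc
  have Rr := roots
  have hss : B s' s = B s s' := Rr.symm _ _
  have hne : s' ≠ -s := by
    rintro rfl
    rw [Rr.neg_right] at h4
    omega
  have hne' : s ≠ -s' := by
    rintro rfl
    exact hne (_root_.neg_neg s').symm
  obtain ⟨a₀, ha₀, e1, e2, e3⟩ := exL s hs s' hs' h1 h2 h3 h4
  have hL : ¬ Lg cF s := by rw [lg_iff cF hs]; omega
  have hL' : ¬ Lg cF s' := by rw [lg_iff cF hs']; omega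
  have hS' : Sh cF s' := (sh_iff cF hs').2 h2
  obtain ⟨z, hz, hcz⟩ := cent (S := Psi cF 0 1 s s') (C := RGD.Sup (XF F) (_root_.Cfsg.Agent.KFacts.F4Cent.Cone cF s s')) R hI
    ((KBridge.psiL_iff cF hs hs').2 ⟨ha₀, Or.inl ⟨e1, e2, e3⟩⟩)
    (fun a ha => ((KBridge.psiL_iff cF hs hs').1 ha).1)
    (fun z hz => cent_pairL cF ((phi_iff cF s).1 hs) ((phi_iff cF s').1 hs') hne
      (fun h => absurd h hL) (fun h => absurd (h.2 hS') hL) hz) hct
    (fun a ha x hx => hc a ((KBridge.psiL_iff cF hs hs').1 ha).1 ((KBridge.psiL_iff cF hs hs').1 ha).2 x hx)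
  have cp := cpr_of_short cF hs hs' h2
  have cp' := cpr_of_short cF hs' hs h1
  rcases lt_or_ge 0 (B s s') with h5 | h5
  · -- 60°
    obtain ⟨x, hx, y, hy, w, hw, e⟩ := prod3 (Z := ⊥) hz (RGD.Sup_le fun c hc => by
        obtain ⟨hcr, hcc⟩ := hc
        rcases hcc with rfl | rfl | ⟨k1, -, -⟩ | ⟨k1, -, -⟩ | ⟨k1, -, -⟩ | ⟨-, k1, -⟩ | ⟨k1, -, -, -⟩
        · exact le_sup_of_le_left le_sup_left
        · exact le_sup_of_le_left le_sup_right
        · exact absurd k1 (by rw [cp]; omega)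
        · exact absurd k1 (by rw [cp]; omega)
        · exact absurd k1 (by rw [cp]; omega)
        · exact absurd k1 hL
        · exact absurd k1 (by rw [cp]; omega))
      (fun a _ c hc => by rw [Subgroup.mem_bot.1 hc]; group) (fun a _ c hc => by rw [Subgroup.mem_bot.1 hc]; group)
      (fun a ha b hb => by
        have := X0 hs hs' (by omega) a ha b hb
        rw [Subgroup.mem_bot]
        calc b⁻¹ * a⁻¹ * b * a = (a * b)⁻¹ * (b * a) := by group
          _ = 1 := by rw [this]; group) R hcz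
    obtain ⟨w', hw', rfl⟩ := hw
    rw [Subgroup.mem_bot.1 hw', map_one] at e
    exact ⟨x, hx, y, hy, 1, Or.inl ⟨by omega, rfl⟩, e⟩
  · have hle : RGD.Sup (XF F) (_root_.Cfsg.Agent.KFacts.F4Cent.Cone cF s s') ≤ XF F s ⊔ XF F s' ⊔ XF F (s + s') := RGD.Sup_le fun c hc => by
      obtain ⟨hcr, hcc⟩ := hc
      rcases hcc with rfl | rfl | ⟨-, -, rfl⟩ | ⟨k1, -, -⟩ | ⟨k1, k2, -⟩ | ⟨-, k1, -⟩ | ⟨-, -, -, rfl⟩
      · exact le_sup_of_le_left le_sup_left
      · exact le_sup_of_le_left le_sup_right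
      · exact le_sup_right
      · exact absurd k1 (by rw [cp]; omega)
      · exact absurd k2 (by rw [cp']; omega)
      · exact absurd k1 hL
      · exact le_sup_right
    have hm : s + s' ∈ rts := by
      rcases eq_or_ne (B s s') 0 with h6 | h6
      · exact (Rr.add_90 hs hs' h1 h2 h6).1
      · exact Rr.add s hs s' hs' (by omega) hne'
    obtain ⟨x, hx, y, hy, w, hw, e⟩ := prod3 hz hle
      (X0 hs hm (by rw [Rr.add_right]; omega)) (X0 hs' hm (by rw [Rr.add_right]; omega))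
      (fun a ha b hb => by
        rcases eq_or_ne (B s s') 0 with h6 | h6
        · have := X0 hs hs' (by omega) a ha b hb
          have e : b⁻¹ * a⁻¹ * b * a = 1 := by
            calc b⁻¹ * a⁻¹ * b * a = (a * b)⁻¹ * (b * a) := by group
              _ = 1 := by rw [this]; group
          rw [e]; exact one_mem _
        · have h7 := comm_same hs' hs (by omega) (by omega) hne (inv_mem hb) (inv_mem ha)
          rw [add_comm s' s] at h7
          have e : ⁅b⁻¹, a⁻¹⁆ = b⁻¹ * a⁻¹ * b * a := by rw [commutatorElement_def, inv_inv, inv_inv]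
          rwa [e] at h7) R hcz
    exact ⟨x, hx, y, hy, w, Or.inr ⟨h5, hw⟩, e⟩

theorem k2l (R : Frame t f) (hI : InnerX F) : ∀ s ∈ rts, ∀ s' ∈ rts, B s s = 4 → B s' s' = 4 → B s s' < 4 →
    -4 < B s s' → ∀ c, c * t = t * c →
    (∀ a ∈ rts, (B a a = 2 ∧ 0 ≤ B a s ∧ 0 ≤ B a s' ∨ B a a = 4 ∧ 0 < B a s ∧ 0 < B a s') →
      ∀ x ∈ XG f a, c * x = x * c) →
    ∃ x ∈ XG f s, ∃ y ∈ XG f s', ∃ z, (B s s' = 2 ∧ z = 1 ∨ B s s' = 0 ∧ (∃ m ∈ rts, m + m = s + s' ∧ z ∈ XG f m) ∨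
      B s s' = -2 ∧ z ∈ XG f (s + s')) ∧ (c = x * y * z ∨ c = t * (x * y * z)) := by
  intro s hs s' hs' h1 h2 h3 h4 c hct hc
  have Rr := roots
  have hss : B s' s = B s s' := Rr.symm _ _
  have hev := (Rr.ll s hs s' hs' h1 h2).1
  have hne : s' ≠ -s := by
    rintro rfl
    rw [Rr.neg_right] at h4
    omega
  have hne' : s ≠ -s' := by
    rintro rfl
    exact hne (_root_.neg_neg s').symm
  obtain ⟨a₀, ha₀, e1, e2, e3⟩ := exS s hs s' hs' h1 h2 h3 h4
  have hL : ¬ Sh cF s := by rw [sh_iff cF hs]; omega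
  have hLg : Lg cF s := (lg_iff cF hs).2 h1
  have hL' : ¬ Sh cF s' := by rw [sh_iff cF hs']; omega
  obtain ⟨z, hz, hcz⟩ := cent (S := Psi cF 1 0 s s') (C := RGD.Sup (XF F) (_root_.Cfsg.Agent.KFacts.F4Cent.Cone cF s s')) R hI
    ((KBridge.psiS_iff cF hs hs').2 ⟨ha₀, Or.inl ⟨e1, e2, e3⟩⟩)
    (fun a ha => ((KBridge.psiS_iff cF hs hs').1 ha).1)
    (fun z hz => cent_pairS cF ((phi_iff cF s).1 hs) ((phi_iff cF s').1 hs') hne
      (fun h => absurd h hL) (fun h => absurd (h.1 hLg) hL') hz) hct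
    (fun a ha x hx => hc a ((KBridge.psiS_iff cF hs hs').1 ha).1 ((KBridge.psiS_iff cF hs hs').1 ha).2 x hx)
  have cp := cpr_of_long cF hs hs' h2
  have cp' := cpr_of_long cF hs' hs h1
  have h5 : B s s' = 2 ∨ B s s' = 0 ∨ B s s' = -2 := by (clear * - h3 h4 cp; omega)
  rcases h5 with h5 | h5 | h5
  · -- 60°
    obtain ⟨x, hx, y, hy, w, hw, e⟩ := prod3 (Z := ⊥) hz (RGD.Sup_le fun c hc => by
        obtain ⟨hcr, hcc⟩ := hc
        rcases hcc with rfl | rfl | ⟨k1, -, -⟩ | ⟨k1, -, -⟩ | ⟨k1, -, -⟩ | ⟨k1, -, -, -⟩ | ⟨-, k1, -, -⟩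
        · exact le_sup_of_le_left le_sup_left
        · exact le_sup_of_le_left le_sup_right
        · exfalso; (clear * - cp h5 k1; omega)
        · exfalso; (clear * - cp h5 k1; omega)
        · exfalso; omega
        · exfalso; (clear * - cp h5 k1; omega)
        · exact absurd k1 hL)
      (fun a _ c hc => by rw [Subgroup.mem_bot.1 hc]; group) (fun a _ c hc => by rw [Subgroup.mem_bot.1 hc]; group)
      (fun a ha b hb => by
        have := X0 hs hs' (by (clear * - h5; omega)) a ha b hb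
        rw [Subgroup.mem_bot]
        calc b⁻¹ * a⁻¹ * b * a = (a * b)⁻¹ * (b * a) := by group
          _ = 1 := by rw [this]; group) R hcz
    obtain ⟨w', hw', rfl⟩ := hw
    rw [Subgroup.mem_bot.1 hw', map_one] at e
    exact ⟨x, hx, y, hy, 1, Or.inl ⟨h5, rfl⟩, e⟩
  · -- orthogonal
    obtain ⟨m, hm, hmm⟩ := exM s hs s' hs' h1 h2 h5
    have hsm : 2 * B s m = 4 := by
      have : B s (m + m) = 4 := by rw [hmm, Rr.add_right]; (clear * - h1 h5; omega)
      rw [Rr.add_right] at this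
      omega
    have hsm' : 2 * B s' m = 4 := by
      have : B s' (m + m) = 4 := by rw [hmm, Rr.add_right]; (clear * - h2 hss h5; omega)
      rw [Rr.add_right] at this
      omega
    obtain ⟨x, hx, y, hy, w, hw, e⟩ := prod3 (Z := XF F m) hz (RGD.Sup_le fun c hc => by
        obtain ⟨hcr, hcc⟩ := hc
        rcases hcc with rfl | rfl | ⟨k1, -, -⟩ | ⟨k1, -, -⟩ | ⟨k1, -, -⟩ | ⟨-, -, -, k1⟩ | ⟨-, k1, -, -⟩
        · exact le_sup_of_le_left le_sup_left
        · exact le_sup_of_le_left le_sup_right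
        · exfalso; (clear * - cp h5 k1; omega)
        · exfalso; (clear * - cp h5 k1; omega)
        · exfalso; omega
        · have : c = m := by
            funext i
            have k2 := congrFun k1 i
            have k3 := congrFun hmm i
            simp only [Pi.add_apply, Pi.smul_apply, smul_eq_mul] at k2 k3
            omega
          rw [this]
          exact le_sup_right
        · exact absurd k1 hL)
      (X0 hs hm (by omega)) (X0 hs' hm (by omega))
      (fun a ha b hb => by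
        have := X0 hs hs' (by (clear * - h5; omega)) a ha b hb
        have e : b⁻¹ * a⁻¹ * b * a = 1 := by
          calc b⁻¹ * a⁻¹ * b * a = (a * b)⁻¹ * (b * a) := by group
            _ = 1 := by rw [this]; group
        rw [e]; exact one_mem _) R hcz
    exact ⟨x, hx, y, hy, w, Or.inr (Or.inl ⟨h5, m, hm, hmm, hw⟩), e⟩
  · -- 120°
    have hm : s + s' ∈ rts := Rr.add s hs s' hs' (by (clear * - h5; omega)) hne'
    obtain ⟨x, hx, y, hy, w, hw, e⟩ := prod3 (Z := XF F (s + s')) hz (RGD.Sup_le fun c hc => by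
        obtain ⟨hcr, hcc⟩ := hc
        rcases hcc with rfl | rfl | ⟨-, -, rfl⟩ | ⟨k1, -, -⟩ | ⟨-, k1, -⟩ | ⟨k1, -, -, -⟩ | ⟨-, k1, -, -⟩
        · exact le_sup_of_le_left le_sup_left
        · exact le_sup_of_le_left le_sup_right
        · exact le_sup_right
        · exfalso; (clear * - cp h5 k1; omega)
        · exfalso; (clear * - hss cp' h5 k1; omega)
        · exfalso; (clear * - cp h5 k1; omega)
        · exact absurd k1 hL)
      (X0 hs hm (by rw [Rr.add_right]; (clear * - h1 h5; omega))) (X0 hs' hm (by rw [Rr.add_right]; (clear * - h2 hss h5; omega)))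
      (fun a ha b hb => by
        have h7 := comm_same hs' hs (by omega) (by (clear * - hss h5; omega)) hne (inv_mem hb) (inv_mem ha)
        rw [add_comm s' s] at h7
        have e : ⁅b⁻¹, a⁻¹⁆ = b⁻¹ * a⁻¹ * b * a := by rw [commutatorElement_def, inv_inv, inv_inv]
        rwa [e] at h7) R hcz
    exact ⟨x, hx, y, hy, w, Or.inr (Or.inr ⟨h5, hw⟩), e⟩

/-- **The K-facts `KF`.** -/
theorem kf (R : Frame t f) (hI : InnerX F) (hF : 2 < Nat.card F) : KF t (XG f) where
  tt := R.tt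
  tX := by
    rintro a - _ ⟨y, -, rfl⟩
    exact (R.ft y).symm
  Xne a ha := ⟨f (eF F a 1), (mem_e ha).2 ⟨1, rfl⟩, fun h => one_ne_zero (e_eq_one ha (R.inj (by rw [h, map_one])))⟩
  Xsq := by
    intro a ha x hx
    obtain ⟨u, rfl⟩ := (mem_e ha).1 hx
    rw [← map_mul, (dat (K := F)).sq ((phi_iff cF a).1 ha), map_one]
  X0 := by
    rintro a ha b hb h _ ⟨x, hx, rfl⟩ _ ⟨y, hy, rfl⟩
    rw [← map_mul, X0 ha hb h x hx y hy, map_mul]
  X1 := by
    rintro a ha b hb hl h hab _ ⟨x, hx, rfl⟩ _ ⟨y, hy, rfl⟩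
    rw [fcomm]
    exact ⟨_, comm_same ha hb hl h hab hx hy, rfl⟩
  X1nd := by
    intro a ha b hb hl h hab x hx y hy hxy
    obtain ⟨u, rfl⟩ := (mem_e ha).1 hx
    obtain ⟨v, rfl⟩ := (mem_e hb).1 hy
    have h1 : f ⁅eF F a u, eF F b v⁆ = 1 := by rw [← fcomm, hxy]; group
    rw [comm1 ha hb hl h hab] at h1
    have h2 := e_eq_one (roots.add a ha b hb h hab) (R.inj (by rw [h1, map_one]))
    rcases mul_eq_zero.1 h2 with h3 | h3
    · left; rw [h3, e_zero ha, map_one]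
    · right; rw [h3, e_zero hb, map_one]
  X1surj := by
    intro a ha b hb hl h hab y hy hy1 z hz
    obtain ⟨v, rfl⟩ := (mem_e hb).1 hy
    obtain ⟨c, rfl⟩ := (mem_e (roots.add a ha b hb h hab)).1 hz
    have hv : v ≠ 0 := by
      rintro rfl
      exact hy1 (by rw [e_zero hb, map_one])
    refine ⟨f (eF F a (c / v)), (mem_e ha).2 ⟨_, rfl⟩, ?_⟩
    rw [fcomm, comm1 ha hb hl h hab, div_mul_cancel₀ c hv]
  X2 := by
    intro a ha b hb h1 h2 h3 x hx y hy
    obtain ⟨u, rfl⟩ := (mem_e ha).1 hx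
    obtain ⟨v, rfl⟩ := (mem_e hb).1 hy
    obtain ⟨m1, m2, m3, m4, m5⟩ := roots.add_ls ha hb h1 h2 h3
    refine ⟨f (eF F (a + b) (u * v)), (mem_e m1).2 ⟨_, rfl⟩, f (eF F (a + b + b) (u * v ^ 2)), (mem_e m4).2 ⟨_, rfl⟩, ?_⟩
    rw [fcomm, comm2 ha hb h1 h2 h3, map_mul]
  X2nd := by
    intro a ha b hb h1 h2 h3 x hx y hy hxy
    obtain ⟨u, rfl⟩ := (mem_e ha).1 hx
    obtain ⟨v, rfl⟩ := (mem_e hb).1 hy
    obtain ⟨m1, m2, m3, m4, m5⟩ := roots.add_ls ha hb h1 h2 h3
    have h4 : f ⁅eF F a u, eF F b v⁆ = 1 := by rw [← fcomm, hxy]; group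
    have h5 := R.inj (h4.trans (map_one f).symm)
    rw [comm2 ha hb h1 h2 h3] at h5
    have hne : a + b ≠ a + b + b := by
      intro e
      rw [← e] at m5
      omega
    have h6 : eF F (a + b) (u * v) = 1 := ind m1 m4 hne _ ((mem_X m1).2 ⟨_, rfl⟩) (by
      rw [eq_inv_of_mul_eq_one_left (h5 :)]
      exact inv_mem ((mem_X m4).2 ⟨_, rfl⟩))
    rcases mul_eq_zero.1 (e_eq_one m1 h6) with h7 | h7
    · left; rw [h7, e_zero ha, map_one]
    · right; rw [h7, e_zero hb, map_one]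
  ind := by
    rintro a ha b hb hab _ ⟨x, hx, rfl⟩ ⟨y, hy, e⟩
    rw [R.inj e] at hy
    rw [ind ha hb hab x hx hy, map_one]
  ind3s := by
    rintro a ha b hb h1 h2 h3 _ ⟨x, hx, rfl⟩ _ ⟨y, hy, rfl⟩ _ ⟨z, hz, rfl⟩ h
    obtain ⟨m1, m2⟩ := roots.add_90 ha hb h1 h2 h3
    have hba : b ≠ a := by
      rintro rfl
      omega
    have hba' : b ≠ -a := by
      rintro rfl
      rw [roots.neg_right] at h3
      omega
    have hac : a ≠ a + b := by
      intro e
      rw [← e] at m2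
      omega
    have h4 := roots.symm b a
    rw [ind3 hF ha hb m1 hba hba' hac (by omega) (by rw [roots.add_right]; omega) (by rw [roots.add_right]; omega)
      hx hy hz (R.inj (by rw [map_mul, map_mul, h, map_one])), map_one]
  ind3l := by
    rintro a ha b hb h1 h2 h3 m hm hmm _ ⟨x, hx, rfl⟩ _ ⟨y, hy, rfl⟩ _ ⟨z, hz, rfl⟩ h
    have hba : b ≠ a := by
      rintro rfl
      omega
    have hba' : b ≠ -a := by
      rintro rfl
      rw [roots.neg_right] at h3
      omega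
    have h4 := roots.symm b a
    have hsm : 2 * B a m = 4 := by
      have : B a (m + m) = 4 := by rw [hmm, roots.add_right]; omega
      rw [roots.add_right] at this
      omega
    have hsm' : 2 * B b m = 4 := by
      have : B b (m + m) = 4 := by rw [hmm, roots.add_right]; omega
      rw [roots.add_right] at this
      omega
    have hac : a ≠ m := by
      rintro rfl
      omega
    rw [ind3 hF ha hb hm hba hba' hac (by omega) (by omega) (by omega)
      hx hy hz (R.inj (by rw [map_mul, map_mul, h, map_one])), map_one]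
  K2s := k2s R hI
  K2l := k2l R hI

/-- **The additional K-facts `KG`.** -/
theorem kg (R : Frame t f) (hI : InnerX F) : CCModel.KG t (XG f) where
  KX := by
    intro a ha b hb h1 h2 h3 c hct hc
    have Rr := roots
    have hne : b ≠ -a := by
      rintro rfl
      rw [Rr.neg_right, Rr.neg_left, h1] at h2
      omega
    have hL' : ¬ Lg cF b := by rw [lg_iff cF hb]; omega
    have hS : ¬ Sh cF a := by rw [sh_iff cF ha]; omega
    obtain ⟨z, hz, hcz⟩ := cent (S := Psi cF 0 0 a b) (C := RGD.Sup (XF F) (_root_.Cfsg.Agent.KFacts.F4Cent.Cone cF a b)) R hI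
      ((psi0_iff ha hb).2 ⟨ha, by omega, h3⟩) (fun a' ha' => ((psi0_iff ha hb).1 ha').1)
      (fun z hz => cent_pair cF ((phi_iff cF a).1 ha) ((phi_iff cF b).1 hb) hne hz) hct
      (fun a' ha' x hx => hc a' ((psi0_iff ha hb).1 ha').1 ((psi0_iff ha hb).1 ha').2.1
        ((psi0_iff ha hb).1 ha').2.2 x hx)
    have cp := cpr_of_short cF ha hb h2
    obtain ⟨x, hx, y, hy, w, hw, e⟩ := prod3 (Z := ⊥) hz (RGD.Sup_le fun c hc => by
        obtain ⟨hcr, hcc⟩ := hc
        rcases hcc with rfl | rfl | ⟨k1, -, -⟩ | ⟨k1, -, -⟩ | ⟨k1, -, -⟩ | ⟨-, -, k1, -⟩ | ⟨-, k1, -, -⟩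
        · exact le_sup_of_le_left le_sup_left
        · exact le_sup_of_le_left le_sup_right
        · exfalso; omega
        · exfalso; omega
        · exfalso; omega
        · exact absurd k1 hL'
        · exact absurd k1 hS)
      (fun a _ c hc => by rw [Subgroup.mem_bot.1 hc]; group) (fun a _ c hc => by rw [Subgroup.mem_bot.1 hc]; group)
      (fun a' ha' b' hb' => by
        have := X0 ha hb h3 a' ha' b' hb'
        rw [Subgroup.mem_bot]
        calc b'⁻¹ * a'⁻¹ * b' * a' = (a' * b')⁻¹ * (b' * a') := by group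
          _ = 1 := by rw [this]; group) R hcz
    obtain ⟨w', hw', rfl⟩ := hw
    rw [Subgroup.mem_bot.1 hw', map_one, mul_one] at e
    exact ⟨x, hx, y, hy, e⟩
  KP := by
    intro a ha c hct hc
    obtain ⟨z, hz, hcz⟩ := cent (S := {c | IsRoot cF isType.isCartan c ∧ 0 ≤ cpr cF isType.isCartan c a})
      (C := XF F a) (a₀ := a) R hI
      ⟨(phi_iff cF a).1 ha, (cpr_nonneg_iff cF ha ha).2 (by have := roots.norm_pos ha; omega)⟩
      (fun a' ha' => (phi_iff cF a').2 ha'.1) (fun z hz => cent_P cF ((phi_iff cF a).1 ha) hz) hct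
      (fun a' ha' x hx => hc a' ((phi_iff cF a').2 ha'.1)
        ((cpr_nonneg_iff cF ((phi_iff cF a').2 ha'.1) ha).1 ha'.2) x hx)
    exact ⟨f z, ⟨z, hz, rfl⟩, hcz⟩
  X2p := by
    intro a ha b hb h1 h2 h3 p hp
    obtain ⟨m1, m2, m3, m4, m5⟩ := roots.add_ls ha hb h1 h2 h3
    obtain ⟨c, rfl⟩ := (mem_e m1).1 hp
    refine ⟨f (eF F a c), (mem_e ha).2 ⟨_, rfl⟩, f (eF F b 1), (mem_e hb).2 ⟨_, rfl⟩, f (eF F (a + b + b) c),
      (mem_e m4).2 ⟨_, rfl⟩, ?_⟩
    rw [fcomm, comm2 ha hb h1 h2 h3, map_mul, mul_one, one_pow, mul_one]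
  X2q := by
    intro a ha b hb h1 h2 h3 q hq
    obtain ⟨m1, m2, m3, m4, m5⟩ := roots.add_ls ha hb h1 h2 h3
    obtain ⟨c, rfl⟩ := (mem_e m4).1 hq
    refine ⟨f (eF F a c), (mem_e ha).2 ⟨_, rfl⟩, f (eF F b 1), (mem_e hb).2 ⟨_, rfl⟩, f (eF F (a + b) c),
      (mem_e m1).2 ⟨_, rfl⟩, ?_⟩
    rw [fcomm, comm2 ha hb h1 h2 h3, map_mul, mul_one, one_pow, mul_one]

end Cfsg.Agent.OddHalf.D7F4.KInst
end

-- part: OddHalf/D7F4/Lead
section
/-!
# Leading terms in the unipotent group of F4(q), `q` even (S1765, node D7; K-facts for the END with an outer part)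

On the explicit root system `Model` with the generic functional `lv`; `U = Ab X 0`, `Ab X k = ⟨X b : k < lv b⟩`,
`ρ` the highest root, `σ` the highest short root.

* `lead`: `u = x u'`, `1 ≠ x ∈ X r`, `u' ∈ Ab X (lv r)`, `a > 0`, `|a| = |r|`, `(a, r) < 0`: no `1 ≠ y ∈ X a` commutes
  with `u`; `exists_lead`: every `1 ≠ u ∈ U` is of this form;
* `main`: `u ∈ U` lies in `X ρ X σ` or there is `a > 0` such that no `1 ≠ y ∈ X a` commutes with `u`;
* `many` (k3): a noncentral element of `U` has at least `q` conjugates;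
* `cent_of_comm`: `u ∈ U` commuting with all commutators of positive root elements of the same length lies in
  `X ρ X σ X (ρ - α₃) X (σ - α₀)`;
* `k1`: `C_T([T, T]) ≤ ⟨t⟩ X ρ X σ` as soon as `T` has an element of field or of graph type.
-/

set_option autoImplicit false

namespace Cfsg.Agent.OddHalf.D7F4.Lead

open Model

/-! ### Root combinatorics -/

/-- the highest root -/
def ρ : Fin 4 → ℤ := ![2, 4, 3, 2]
/-- the highest short root -/
def σ : Fin 4 → ℤ := ![2, 3, 2, 1]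
/-- `ρ - α₃` -/
def ρ' : Fin 4 → ℤ := ![2, 4, 3, 1]
/-- `σ - α₀` -/
def σ' : Fin 4 → ℤ := ![1, 3, 2, 1]
/-- the long end node -/
def α3 : Fin 4 → ℤ := ![0, 0, 0, 1]
/-- the short end node -/
def α0 : Fin 4 → ℤ := ![1, 0, 0, 0]

theorem ρ_mem : ρ ∈ rts := by decide +kernel
theorem σ_mem : σ ∈ rts := by decide +kernel
theorem ρ'_mem : ρ' ∈ rts := by decide +kernel
theorem σ'_mem : σ' ∈ rts := by decide +kernel
theorem α3_mem : α3 ∈ rts := by decide +kernel
theorem α0_mem : α0 ∈ rts := by decide +kernel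
theorem ρ_pos : 0 < lv ρ := by decide +kernel
theorem σ_pos : 0 < lv σ := by decide +kernel
theorem ρ'_pos : 0 < lv ρ' := by decide +kernel
theorem α3_pos : 0 < lv α3 := by decide +kernel
theorem α0_pos : 0 < lv α0 := by decide +kernel
theorem lv_ρ : lv ρ = 35 := by decide +kernel

/-- `ρ`, `σ` are dominant -/
theorem dom : ∀ a ∈ rts, 0 < lv a → 0 ≤ B ρ a ∧ 0 ≤ B σ a := by decide +kernel

theorem up : ∀ r ∈ rts, 0 < lv r → r = ρ ∨ r = σ ∨ ∃ a ∈ rts, 0 < lv a ∧ B r r = B a a ∧ B r a < 0 := by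
  decide +kernel

private noncomputable def _root_.Cfsg.Agent.LsF.f9092b3_3 : {f // @Cfsg.Agent.OddHalf.D7F4.Model.lv = f} := ⟨_, by first | (delta Cfsg.Agent.OddHalf.D7F4.Model.lv; rewrite [Cfsg.Agent.LsF.iadd_pat, Cfsg.Agent.LsF.imul_pat]; exact rfl) | exact rfl⟩
private noncomputable def _root_.Cfsg.Agent.LsF.f9092b3_4 : {f // @Cfsg.Agent.OddHalf.D7F4.Lead.ρ = f} := ⟨_, by first | (delta Cfsg.Agent.OddHalf.D7F4.Lead.ρ; rewrite [Cfsg.Agent.LsF.vecCons_eq]; exact rfl) | exact rfl⟩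
private noncomputable def _root_.Cfsg.Agent.LsF.f9092b3_5 : {f // @Cfsg.Agent.OddHalf.D7F4.Lead.σ = f} := ⟨_, by first | (delta Cfsg.Agent.OddHalf.D7F4.Lead.σ; rewrite [Cfsg.Agent.LsF.vecCons_eq]; exact rfl) | exact rfl⟩
private noncomputable def _root_.Cfsg.Agent.LsF.f9092b3_6 : {f // @Cfsg.Agent.OddHalf.D7F4.Lead.ρ' = f} := ⟨_, by first | (delta Cfsg.Agent.OddHalf.D7F4.Lead.ρ'; rewrite [Cfsg.Agent.LsF.vecCons_eq]; exact rfl) | exact rfl⟩
private noncomputable def _root_.Cfsg.Agent.LsF.f9092b3_7 : {f // @Cfsg.Agent.OddHalf.D7F4.Lead.σ' = f} := ⟨_, by first | (delta Cfsg.Agent.OddHalf.D7F4.Lead.σ'; rewrite [Cfsg.Agent.LsF.vecCons_eq]; exact rfl) | exact rfl⟩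
theorem up2 : ∀ r ∈ rts, 0 < lv r → r = ρ ∨ r = σ ∨ r = ρ' ∨ r = σ' ∨ ∃ a ∈ rts, ∃ b ∈ rts, 0 < lv a ∧ 0 < lv b ∧
    B a a = B b b ∧ B a b < 0 ∧ B r r = B a a ∧ B r (a + b) < 0 ∧ B r r = B (a + b) (a + b) := by
  (set_option synthInstance.maxSize 2000 in open scoped Cfsg.Agent.Lib.Hoist in (refine of_decide_eq_true ?_; (try (delta Cfsg.Agent.Lib.Hoist.xC; rewrite [Cfsg.Agent.LsF.f9092b3_0.2, Cfsg.Agent.LsF.f9092b3_3.2, Cfsg.Agent.LsF.f9092b3_4.2, Cfsg.Agent.LsF.f9092b3_5.2, Cfsg.Agent.LsF.f9092b3_6.2, Cfsg.Agent.LsF.f9092b3_7.2, Cfsg.Agent.LsF.f9092b3_1.2, Cfsg.Agent.LsF.finFintype_eq, Cfsg.Agent.LsF.dPi_eq, Cfsg.Agent.LsF.instIAdd_eq, Cfsg.Agent.LsF.instIDecEq_eq, Cfsg.Agent.LsF.idecLt_eq, Cfsg.Agent.LsF.dAnd_eq, Cfsg.Agent.LsF.dOr_eq, Cfsg.Agent.LsF.dIff_eq, Cfsg.Agent.LsF.dBAll_eq, Cfsg.Agent.LsF.dBEx_eq, Cfsg.Agent.LsF.decide_eq])); decide +kernel))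

theorem low2 : ∀ a ∈ rts, ∀ b ∈ rts, 0 < lv a → 0 < lv b → B a a = B b b → B a b < 0 →
    0 ≤ B ρ (a + b) ∧ 0 ≤ B σ (a + b) ∧ 0 ≤ B ρ' (a + b) ∧ 0 ≤ B σ' (a + b) := by
  (set_option synthInstance.maxSize 2000 in open scoped Cfsg.Agent.Lib.Hoist in (refine of_decide_eq_true ?_; (try (delta Cfsg.Agent.Lib.Hoist.hC; rewrite [Cfsg.Agent.LsF.f9092b3_0.2, Cfsg.Agent.LsF.f9092b3_3.2, Cfsg.Agent.LsF.f9092b3_1.2, Cfsg.Agent.LsF.f9092b3_4.2, Cfsg.Agent.LsF.f9092b3_5.2, Cfsg.Agent.LsF.f9092b3_6.2, Cfsg.Agent.LsF.f9092b3_7.2, Cfsg.Agent.LsF.instIAdd_eq, Cfsg.Agent.LsF.instIDecEq_eq, Cfsg.Agent.LsF.idecLe_eq, Cfsg.Agent.LsF.idecLt_eq, Cfsg.Agent.LsF.dAnd_eq, Cfsg.Agent.LsF.dIff_eq, Cfsg.Agent.LsF.dBAll_eq, Cfsg.Agent.LsF.decide_eq])); decide +kernel))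

/-! ### The filtration -/

variable {G : Type*} [Group G] {t : G} {X : (Fin 4 → ℤ) → Subgroup G}

/-- the group generated by the root groups above level `k` -/
def Ab (X : (Fin 4 → ℤ) → Subgroup G) (k : ℤ) : Subgroup G := ⨆ b : Fin 4 → ℤ, ⨆ _ : b ∈ Phi ∧ k < lv b, X b

theorem le_Ab {k : ℤ} {b : Fin 4 → ℤ} (hb : b ∈ rts) (hk : k < lv b) : X b ≤ Ab X k :=
  le_iSup₂_of_le (f := fun b (_ : b ∈ Phi ∧ k < lv b) => X b) b ⟨hb, hk⟩ le_rfl

theorem Ab_le {k : ℤ} {H : Subgroup G} (h : ∀ b ∈ rts, k < lv b → X b ≤ H) : Ab X k ≤ H :=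
  iSup₂_le fun b hb => h b hb.1 hb.2

theorem Ab_mono {k l : ℤ} (h : k ≤ l) : Ab X l ≤ Ab X k :=
  Ab_le fun _ hb hk => le_Ab hb (lt_of_le_of_lt h hk)

theorem Ab_top {k : ℤ} (h : 35 ≤ k) : Ab X k = ⊥ := by
  rw [eq_bot_iff]
  refine Ab_le fun b hb hk => ?_
  have := lv_le b hb
  omega

/-- the standing hypothesis -/
def Dir (X : (Fin 4 → ℤ) → Subgroup G) : Prop := ∀ a ∈ rts, 0 < lv a → ∀ x ∈ X a, x ∈ Ab X (lv a) → x = 1

theorem pos_ne_neg {a b : Fin 4 → ℤ} (ha0 : 0 < lv a) (hb0 : 0 < lv b) : a ≠ -b := by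
  rintro rfl
  have h1 := lv_add (-b) b
  rw [neg_add_cancel] at h1
  have h2 := lv_add (0 : Fin 4 → ℤ) 0
  rw [add_zero] at h2
  omega

/-- Commutators of positive root elements. -/
theorem comm_mem (hK : KF t X) {a b : Fin 4 → ℤ} (ha : a ∈ rts) (hb : b ∈ rts) (ha0 : 0 < lv a) (hb0 : 0 < lv b)
    {x y : G} (hx : x ∈ X a) (hy : y ∈ X b) : x * y * x⁻¹ * y⁻¹ ∈ Ab X (lv a + lv b - 1) := by
  have hne := pos_ne_neg ha0 hb0
  have hsum := lv_add a b
  by_cases h0 : 0 ≤ B a b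
  · rw [hK.X0 a ha b hb h0 x hx y hy]
    have : y * x * x⁻¹ * y⁻¹ = 1 := by group
    rw [this]; exact one_mem _
  have h0' : B a b < 0 := not_le.1 h0
  have hm := roots.add a ha b hb h0' hne
  rcases _root_.Cfsg.Agent.OddHalf.D7F4.Model.norm a ha with h2 | h4
  · rcases norm b hb with k2 | k4
    · exact le_Ab hm (by omega) (hK.X1 a ha b hb (by omega) h0' hne x hx y hy)
    · have hs : B b a = B a b := B_symm b a
      have h5 : B b a = -2 := by
        have := ls b hb a ha k4 h2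
        omega
      obtain ⟨z, hz, w, hw, e⟩ := hK.X2 b hb a ha k4 h2 h5 y hy x hx
      obtain ⟨m1, -, -, m4, -⟩ := roots.add_ls hb ha k4 h2 h5
      have e1 : x * y * x⁻¹ * y⁻¹ = (y * x * y⁻¹ * x⁻¹)⁻¹ := by group
      rw [e1, e]
      have l1 := lv_add b a
      have l2 := lv_add (b + a) a
      exact inv_mem (mul_mem (le_Ab m1 (by omega) hz) (le_Ab m4 (by omega) hw))
  · rcases _root_.Cfsg.Agent.OddHalf.D7F4.Model.norm b hb with k2 | k4
    · have h5 : B a b = -2 := by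
        have := ls a ha b hb h4 k2
        omega
      obtain ⟨z, hz, w, hw, e⟩ := hK.X2 a ha b hb h4 k2 h5 x hx y hy
      obtain ⟨m1, -, -, m4, -⟩ := roots.add_ls ha hb h4 k2 h5
      rw [e]
      have l2 := lv_add (a + b) b
      exact mul_mem (le_Ab m1 (by omega) hz) (le_Ab m4 (by omega) hw)
    · exact le_Ab hm (by omega) (hK.X1 a ha b hb (by omega) h0' hne x hx y hy)

/-- `U` normalises `Ab X k`. -/
theorem norm_Ab (hK : KF t X) {k : ℤ} (hk : 0 ≤ k) {u w : G} (hu : u ∈ Ab X 0) (hw : w ∈ Ab X k) :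
    u * w * u⁻¹ ∈ Ab X k := by
  have h1 : ∀ a ∈ rts, 0 < lv a → ∀ x ∈ X a, ∀ w ∈ Ab X k, x * w * x⁻¹ ∈ Ab X k := by
    intro a ha ha0 x hx w hw
    have hle : Ab X k ≤ (Ab X k).comap (MulAut.conj x).toMonoidHom := by
      refine Ab_le fun b hb hkb y hy => ?_
      show x * y * x⁻¹ ∈ Ab X k
      have h2 := mul_mem (Ab_mono (by omega) (comm_mem hK ha hb ha0 (by omega) hx hy) : _ ∈ Ab X k)
        (le_Ab hb hkb hy)
      have h3 : x * y * x⁻¹ * y⁻¹ * y = x * y * x⁻¹ := by group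
      rwa [h3] at h2
    exact hle hw
  let S : Subgroup G :=
    { carrier := {x | ∀ w, w ∈ Ab X k ↔ x * w * x⁻¹ ∈ Ab X k}
      one_mem' := fun w => by rw [one_mul, inv_one, mul_one]
      mul_mem' := fun {a b} ha hb w => by
        rw [hb w, ha (b * w * b⁻¹)]
        have : a * (b * w * b⁻¹) * a⁻¹ = a * b * w * (a * b)⁻¹ := by group
        rw [this]
      inv_mem' := fun {a} ha w => by
        rw [ha (a⁻¹ * w * a⁻¹⁻¹)]
        have : a * (a⁻¹ * w * a⁻¹⁻¹) * a⁻¹ = w := by group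
        rw [this] }
  have hle : Ab X 0 ≤ S := by
    refine Ab_le fun a ha ha0 x hx w => ⟨fun hw => h1 a ha ha0 x hx w hw, fun hw => ?_⟩
    have h2 := h1 a ha ha0 _ (inv_mem hx) _ hw
    have h3 : x⁻¹ * (x * w * x⁻¹) * x⁻¹⁻¹ = w := by group
    rwa [h3] at h2
  exact (hle hu w).1 hw

/-- **The leading term lemma.** -/
theorem lead (hK : KF t X) (hD : Dir X) {r a : Fin 4 → ℤ} (hr : r ∈ rts) (hr0 : 0 < lv r) (ha : a ∈ rts)
    (ha0 : 0 < lv a) (hn : B r r = B a a) (hra : B r a < 0) {x u' y : G} (hx : x ∈ X r) (hx1 : x ≠ 1)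
    (hu' : u' ∈ Ab X (lv r)) (hy : y ∈ X a) (hy1 : y ≠ 1) : x * u' * y ≠ y * (x * u') := by
  intro hcomm
  have hne := pos_ne_neg hr0 ha0
  have hc := roots.add r hr a ha hra hne
  have hsum := lv_add r a
  let S : Subgroup G :=
    { carrier := {w | w ∈ Ab X 0 ∧ w * y * w⁻¹ * y⁻¹ ∈ Ab X (lv r + lv a)}
      one_mem' := ⟨one_mem _, by
        have : (1 : G) * y * 1⁻¹ * y⁻¹ = 1 := by group
        rw [this]; exact one_mem _⟩
      mul_mem' := by
        rintro v w ⟨hv, hv'⟩ ⟨hw, hw'⟩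
        refine ⟨mul_mem hv hw, ?_⟩
        have h1 := mul_mem (norm_Ab hK (by omega) hv hw') hv'
        have h2 : v * (w * y * w⁻¹ * y⁻¹) * v⁻¹ * (v * y * v⁻¹ * y⁻¹) = v * w * y * (v * w)⁻¹ * y⁻¹ := by group
        rwa [h2] at h1
      inv_mem' := by
        rintro v ⟨hv, hv'⟩
        refine ⟨inv_mem hv, ?_⟩
        have h1 := norm_Ab hK (by omega) (inv_mem hv) (inv_mem hv')
        have h2 : v⁻¹ * (v * y * v⁻¹ * y⁻¹)⁻¹ * v⁻¹⁻¹ = v⁻¹ * y * v⁻¹⁻¹ * y⁻¹ := by group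
        rwa [h2] at h1 }
  have hle : Ab X (lv r) ≤ S := by
    refine Ab_le fun b hb hkb w hw => ⟨le_Ab hb (by omega) hw, ?_⟩
    exact Ab_mono (by omega) (comm_mem hK hb ha (by omega) ha0 hw hy)
  have h1 := (hle hu').2
  have h2 := norm_Ab hK (by omega) (le_Ab hr hr0 hx) h1
  have h3 : x * y * x⁻¹ * y⁻¹ = (x * (u' * y * u'⁻¹ * y⁻¹) * x⁻¹)⁻¹ := by
    have h4 : x * (u' * y * u'⁻¹ * y⁻¹) * x⁻¹ * (x * y * x⁻¹ * y⁻¹) = 1 := by
      calc x * (u' * y * u'⁻¹ * y⁻¹) * x⁻¹ * (x * y * x⁻¹ * y⁻¹) = (x * u' * y) * (x * u')⁻¹ * y⁻¹ := by group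
        _ = 1 := by rw [hcomm]; group
    exact eq_inv_of_mul_eq_one_right h4
  have h6 : x * y * x⁻¹ * y⁻¹ ∈ Ab X (lv (r + a)) := by
    rw [h3, hsum]; exact inv_mem h2
  have h4 := hD (r + a) hc (by omega) _ (hK.X1 r hr a ha hn hra hne x hx y hy) h6
  have h5 : x * y = y * x := by
    calc x * y = (x * y * x⁻¹ * y⁻¹) * (y * x) := by group
      _ = y * x := by rw [h4, one_mul]
  rcases hK.X1nd r hr a ha hn hra hne x hx y hy h5 with h6 | h6
  · exact hx1 h6
  · exact hy1 h6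

/-- Every nontrivial element has a leading term. -/
theorem exists_lead (hK : KF t X) : ∀ (n : ℕ) (k : ℤ), 0 ≤ k → 35 ≤ k + n → ∀ u ∈ Ab X k, u ≠ 1 →
    ∃ r ∈ rts, k < lv r ∧ ∃ x ∈ X r, x ≠ 1 ∧ ∃ u' ∈ Ab X (lv r), u = x * u' := by
  intro n
  induction n with
  | zero =>
    intro k _ hk u hu hu1
    rw [Ab_top (by simpa using hk)] at hu
    exact absurd (Subgroup.mem_bot.1 hu) hu1
  | succ n ih =>
    intro k hk0 hk u hu hu1
    by_cases hex : ∃ r ∈ rts, lv r = k + 1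
    · obtain ⟨r, hr, hrk⟩ := hex
      -- `Ab X k = X r * Ab X (k+1)`
      let S : Subgroup G :=
        { carrier := {u | ∃ x ∈ X r, ∃ w ∈ Ab X (k + 1), u = x * w}
          one_mem' := ⟨1, one_mem _, 1, one_mem _, (mul_one 1).symm⟩
          mul_mem' := by
            rintro _ _ ⟨x, hx, w, hw, rfl⟩ ⟨x', hx', w', hw', rfl⟩
            refine ⟨x * x', mul_mem hx hx', (x'⁻¹ * w * x'⁻¹⁻¹) * w', mul_mem ?_ hw', by group⟩
            exact norm_Ab hK (by omega) (le_Ab hr (by omega) (inv_mem hx')) hw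
          inv_mem' := by
            rintro _ ⟨x, hx, w, hw, rfl⟩
            exact ⟨x⁻¹, inv_mem hx, x * w⁻¹ * x⁻¹, norm_Ab hK (by omega) (le_Ab hr (by omega) hx) (inv_mem hw),
              by group⟩ }
      have hS : Ab X k ≤ S := by
        refine Ab_le fun b hb hkb x hx => ?_
        rcases (show k + 1 ≤ lv b by omega).lt_or_eq with h1 | h1
        · exact ⟨1, one_mem _, x, le_Ab hb h1 hx, (one_mul x).symm⟩
        · have : r = b := lv_inj r hr b hb (by omega) (by omega)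
          subst this
          exact ⟨x, hx, 1, one_mem _, (mul_one x).symm⟩
      obtain ⟨x, hx, w, hw, rfl⟩ := hS hu
      by_cases hx1 : x = 1
      · rw [hx1, one_mul] at hu1 ⊢
        obtain ⟨r', h1, h2, h3⟩ := ih (k + 1) (by omega) (by push_cast at hk; omega) w hw hu1
        exact ⟨r', h1, by omega, h3⟩
      · exact ⟨r, hr, by omega, x, hx, hx1, w, by rw [hrk]; exact hw, rfl⟩
    · have h1 : Ab X k ≤ Ab X (k + 1) := by
        refine Ab_le fun b hb hkb => le_Ab hb ?_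
        rcases (show k + 1 ≤ lv b by omega).lt_or_eq with h1 | h1
        · exact h1
        · exact absurd ⟨b, hb, h1.symm⟩ hex
      obtain ⟨r', h2, h3, h4⟩ := ih (k + 1) (by omega) (by push_cast at hk; omega) u (h1 hu) hu1
      exact ⟨r', h2, by omega, h4⟩

/-- `X ρ` and `X σ` are central in `U`. -/
theorem central (hK : KF t X) {r : Fin 4 → ℤ} (hr : r = ρ ∨ r = σ) {z u : G} (hz : z ∈ X r) (hu : u ∈ Ab X 0) :
    z * u = u * z := by
  have hrm : r ∈ rts := by
    rcases hr with rfl | rfl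
    · exact ρ_mem
    · exact σ_mem
  have hle : Ab X 0 ≤ Subgroup.centralizer ({z} : Set G) := by
    refine Ab_le fun a ha ha0 y hy => Subgroup.mem_centralizer_singleton_iff.2 ?_
    have h1 : 0 ≤ B r a := by
      rcases hr with rfl | rfl
      · exact (dom a ha ha0).1
      · exact (dom a ha ha0).2
    exact (hK.X0 r hrm a ha h1 z hz y hy).symm
  exact (Subgroup.mem_centralizer_singleton_iff.1 (hle hu)).symm

/-- **The main result.** -/
theorem main (hK : KF t X) (hD : Dir X) {u : G} (hu : u ∈ Ab X 0) :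
    (∃ z₁ ∈ X ρ, ∃ z₂ ∈ X σ, u = z₁ * z₂) ∨ ∃ a ∈ rts, 0 < lv a ∧ ∀ y ∈ X a, y ≠ 1 → u * y ≠ y * u := by
  -- elements above `σ`
  have key : ∀ u ∈ Ab X 0, u ≠ 1 → (∀ r ∈ rts, 0 < lv r → ∀ x ∈ X r, x ≠ 1 → ∀ u' ∈ Ab X (lv r), u = x * u' → r ≠ σ) →
      u ∈ X ρ ∨ ∃ a ∈ rts, 0 < lv a ∧ ∀ y ∈ X a, y ≠ 1 → u * y ≠ y * u := by
    intro u hu hu1 hσ
    obtain ⟨r, hr, hr0, x, hx, hx1, u', hu', rfl⟩ := exists_lead hK 35 0 le_rfl (by norm_num) u hu hu1
    rcases up r hr hr0 with rfl | rfl | ⟨a, ha, ha0, hn, hra⟩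
    · left
      rw [lv_ρ, Ab_top le_rfl] at hu'
      rw [Subgroup.mem_bot.1 hu', mul_one]
      exact hx
    · exact absurd rfl (hσ _ hr hr0 x hx hx1 u' hu' rfl)
    · exact Or.inr ⟨a, ha, ha0, fun y hy hy1 => lead hK hD hr hr0 ha ha0 hn hra hx hx1 hu' hy hy1⟩
  by_cases hu1 : u = 1
  · exact Or.inl ⟨1, one_mem _, 1, one_mem _, by rw [hu1, mul_one]⟩
  obtain ⟨r, hr, hr0, x, hx, hx1, u', hu', rfl⟩ := exists_lead hK 35 0 le_rfl (by norm_num) u hu hu1
  rcases up r hr hr0 with rfl | rfl | ⟨a, ha, ha0, hn, hra⟩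
  · left
    rw [lv_ρ, Ab_top le_rfl] at hu'
    exact ⟨x, hx, 1, one_mem _, by rw [Subgroup.mem_bot.1 hu']⟩
  · -- leading term in `X σ`
    by_cases hu'1 : u' = 1
    · exact Or.inl ⟨1, one_mem _, x, hx, by rw [hu'1, one_mul, mul_one]⟩
    obtain ⟨r, hr', hr0', x', hx', hx1', u'', hu'', e⟩ := exists_lead hK 35 (lv σ) hr0.le (by omega) u' hu' hu'1
    rcases up r hr' (by omega) with rfl | rfl | ⟨a, ha, ha0, hn, hra⟩
    · left
      rw [lv_ρ, Ab_top le_rfl] at hu''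
      refine ⟨x', hx', x, hx, ?_⟩
      rw [e, Subgroup.mem_bot.1 hu'', mul_one]
      exact (central hK (Or.inl rfl) hx' (le_Ab hr hr0 hx)).symm
    · omega
    · right
      refine ⟨a, ha, ha0, fun y hy hy1 hc => ?_⟩
      have h1 := central hK (Or.inr rfl) hx (le_Ab ha ha0 hy)
      apply lead hK hD hr' (by omega) ha ha0 hn hra hx' hx1' hu'' hy hy1
      rw [← e]
      have h2 : x * (u' * y) = x * (y * u') := by
        calc x * (u' * y) = x * u' * y := by group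
          _ = y * (x * u') := hc
          _ = (y * x) * u' := by group
          _ = (x * y) * u' := by rw [h1]
          _ = x * (y * u') := by group
      exact mul_left_cancel h2
  · exact Or.inr ⟨a, ha, ha0, fun y hy hy1 => lead hK hD hr hr0 ha ha0 hn hra hx hx1 hu' hy hy1⟩

/-- **(k3)** Noncentral elements have many conjugates. -/
theorem many [Finite G] (hK : KF t X) (hD : Dir X) {q : ℕ} (hq : ∀ a ∈ rts, q ≤ Nat.card (X a)) {u : G}
    (hu : u ∈ Ab X 0) (hn : ∃ c ∈ Ab X 0, c * u ≠ u * c) : q ≤ Set.ncard {x | ∃ c ∈ Ab X 0, x = c * u * c⁻¹} := by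
  rcases main hK hD hu with ⟨z₁, hz₁, z₂, hz₂, rfl⟩ | ⟨a, ha, ha0, h⟩
  · exfalso
    obtain ⟨c, hc, hcu⟩ := hn
    apply hcu
    have h1 := central hK (Or.inl rfl) hz₁ hc
    have h2 := central hK (Or.inr rfl) hz₂ hc
    calc c * (z₁ * z₂) = (c * z₁) * z₂ := by group
      _ = (z₁ * c) * z₂ := by rw [h1]
      _ = z₁ * (c * z₂) := by group
      _ = z₁ * (z₂ * c) := by rw [h2]
      _ = z₁ * z₂ * c := by group
  refine (hq a ha).trans ?_
  have h1 : Nat.card (X a) = Set.ncard ((X a : Set G)) := (Nat.card_coe_set_eq _)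
  rw [h1]
  refine Set.ncard_le_ncard_of_injOn (fun y => y * u * y⁻¹) ?_ ?_ (Set.toFinite _)
  · intro y hy
    exact ⟨y, le_Ab ha ha0 hy, rfl⟩
  · intro y hy y' hy' hyy
    have hyy' : y * u * y⁻¹ = y' * u * y'⁻¹ := hyy
    by_contra hne
    apply h (y'⁻¹ * y) (mul_mem (inv_mem hy') hy)
    · intro h2
      apply hne
      exact (inv_mul_eq_one.1 h2).symm
    · calc u * (y'⁻¹ * y) = y'⁻¹ * (y' * u * y'⁻¹) * y := by group
        _ = y'⁻¹ * (y * u * y⁻¹) * y := by rw [hyy']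
        _ = y'⁻¹ * y * u := by group

/-! ### The centraliser of the commutators -/

/-- `u` commutes with all commutators of positive root elements for roots of the same length -/
def CC (X : (Fin 4 → ℤ) → Subgroup G) (u : G) : Prop :=
  ∀ a ∈ rts, ∀ b ∈ rts, 0 < lv a → 0 < lv b → B a a = B b b → ∀ x ∈ X a, ∀ y ∈ X b,
    u * (x * y * x⁻¹ * y⁻¹) = x * y * x⁻¹ * y⁻¹ * u

theorem CC.mul {u v : G} (hu : CC X u) (hv : CC X v) : CC X (u * v) := by
  intro a ha b hb ha0 hb0 hab x hx y hy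
  rw [mul_assoc, hv a ha b hb ha0 hb0 hab x hx y hy, ← mul_assoc, hu a ha b hb ha0 hb0 hab x hx y hy, mul_assoc]

theorem CC.inv {u : G} (hu : CC X u) : CC X u⁻¹ := by
  intro a ha b hb ha0 hb0 hab x hx y hy
  have h := hu a ha b hb ha0 hb0 hab x hx y hy
  have h1 : Commute u (x * y * x⁻¹ * y⁻¹) := h
  exact h1.inv_left.eq

/-- the four root groups satisfy `CC` -/
theorem CC.of_mem (hK : KF t X) {r : Fin 4 → ℤ} (hr : r = ρ ∨ r = σ ∨ r = ρ' ∨ r = σ') {z : G} (hz : z ∈ X r) :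
    CC X z := by
  intro a ha b hb ha0 hb0 hab x hx y hy
  have hne := pos_ne_neg ha0 hb0
  by_cases h0 : 0 ≤ B a b
  · rw [hK.X0 a ha b hb h0 x hx y hy]
    have : y * x * x⁻¹ * y⁻¹ = 1 := by group
    rw [this, mul_one, one_mul]
  · have h0' : B a b < 0 := not_le.1 h0
    have h1 := hK.X1 a ha b hb hab h0' hne x hx y hy
    obtain ⟨l1, l2, l3, l4⟩ := low2 a ha b hb ha0 hb0 hab h0'
    have hm := roots.add a ha b hb h0' hne
    rcases hr with rfl | rfl | rfl | rfl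
    · exact hK.X0 _ ρ_mem _ hm l1 z hz _ h1
    · exact hK.X0 _ σ_mem _ hm l2 z hz _ h1
    · exact hK.X0 _ ρ'_mem _ hm l3 z hz _ h1
    · exact hK.X0 _ σ'_mem _ hm l4 z hz _ h1

theorem cent_of_comm (hK : KF t X) (hD : Dir X) {u : G} (hu : u ∈ Ab X 0) (hc : CC X u) :
    ∃ z₁ ∈ X ρ, ∃ z₂ ∈ X σ, ∃ p ∈ X ρ', ∃ q ∈ X σ', u = z₁ * z₂ * p * q := by
  -- the four root groups commute
  have c1 : ∀ r s : Fin 4 → ℤ, (r = ρ ∨ r = σ ∨ r = ρ' ∨ r = σ') → (s = ρ ∨ s = σ ∨ s = ρ' ∨ s = σ') →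
      ∀ x ∈ X r, ∀ y ∈ X s, x * y = y * x := by
    have hB : ∀ r ∈ [ρ, σ, ρ', σ'], ∀ s ∈ [ρ, σ, ρ', σ'], r ∈ rts ∧ s ∈ rts ∧ 0 ≤ B r s := by decide +kernel
    intro r s hr hs x hx y hy
    obtain ⟨h1, h2, h3⟩ := hB r (by simpa using hr) s (by simpa using hs)
    exact hK.X0 r h1 s h2 h3 x hx y hy
  have aux : ∀ (n : ℕ) (k : ℤ), 0 ≤ k → 35 ≤ k + n → ∀ u ∈ Ab X k, CC X u →
      ∃ z₁ ∈ X ρ, ∃ z₂ ∈ X σ, ∃ p ∈ X ρ', ∃ q ∈ X σ', u = z₁ * z₂ * p * q := by
    intro n
    induction n with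
    | zero =>
      intro k _ hk u hu _
      rw [Ab_top (by simpa using hk)] at hu
      exact ⟨1, one_mem _, 1, one_mem _, 1, one_mem _, 1, one_mem _, by
        rw [Subgroup.mem_bot.1 hu]; group⟩
    | succ n ih =>
      intro k hk0 hk u hu hcu
      by_cases hu1 : u = 1
      · exact ⟨1, one_mem _, 1, one_mem _, 1, one_mem _, 1, one_mem _, by rw [hu1]; group⟩
      obtain ⟨r, hr, hkr, x, hx, hx1, u', hu', rfl⟩ := exists_lead hK (n + 1) k hk0 hk u hu hu1
      have hr0 : 0 < lv r := by omega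
      have hstep : (r = ρ ∨ r = σ ∨ r = ρ' ∨ r = σ') := by
        rcases up2 r hr hr0 with h | h | h | h | ⟨a, ha, b, hb, ha0, hb0, hab, hab0, hra, hn, hn2⟩
        · exact Or.inl h
        · exact Or.inr (Or.inl h)
        · exact Or.inr (Or.inr (Or.inl h))
        · exact Or.inr (Or.inr (Or.inr h))
        · exfalso
          have hne := pos_ne_neg ha0 hb0
          have hm := roots.add a ha b hb hab0 hne
          obtain ⟨y, hy, hy1⟩ := hK.Xne b hb
          obtain ⟨w, hw, hw1⟩ := hK.Xne (a + b) hm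
          obtain ⟨x', hx', e⟩ := hK.X1surj a ha b hb hab hab0 hne y hy hy1 w hw
          have h1 := hcu a ha b hb ha0 hb0 hab x' hx' y hy
          rw [e] at h1
          have hab' := lv_add a b
          exact lead hK hD hr hr0 hm (by omega) hn2 hn hx hx1 hu' hw hw1 h1
      have hcx : CC X x := CC.of_mem hK hstep hx
      have hcu' : CC X u' := by
        have h1 := hcx.inv.mul hcu
        rwa [inv_mul_cancel_left] at h1
      obtain ⟨z₁, hz₁, z₂, hz₂, p, hp, q, hq, e⟩ := ih (k + 1) (by omega) (by push_cast at hk; omega) u'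
        (Ab_mono (by omega) hu') hcu'
      rcases hstep with rfl | rfl | rfl | rfl
      · exact ⟨x * z₁, mul_mem hx hz₁, z₂, hz₂, p, hp, q, hq, by rw [e]; group⟩
      · refine ⟨z₁, hz₁, x * z₂, mul_mem hx hz₂, p, hp, q, hq, ?_⟩
        have h1 := c1 σ ρ (by simp) (by simp) x hx z₁ hz₁
        rw [e]
        calc x * (z₁ * z₂ * p * q) = (x * z₁) * z₂ * p * q := by group
          _ = (z₁ * x) * z₂ * p * q := by rw [h1]
          _ = z₁ * (x * z₂) * p * q := by group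
      · refine ⟨z₁, hz₁, z₂, hz₂, x * p, mul_mem hx hp, q, hq, ?_⟩
        have h1 := c1 ρ' ρ (by simp) (by simp) x hx z₁ hz₁
        have h2 := c1 ρ' σ (by simp) (by simp) x hx z₂ hz₂
        rw [e]
        calc x * (z₁ * z₂ * p * q) = (x * z₁) * z₂ * p * q := by group
          _ = z₁ * (x * z₂) * p * q := by rw [h1]; group
          _ = z₁ * z₂ * (x * p) * q := by rw [h2]; group
      · refine ⟨z₁, hz₁, z₂, hz₂, p, hp, x * q, mul_mem hx hq, ?_⟩
        have h1 := c1 σ' ρ (by simp) (by simp) x hx z₁ hz₁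
        have h2 := c1 σ' σ (by simp) (by simp) x hx z₂ hz₂
        have h3 := c1 σ' ρ' (by simp) (by simp) x hx p hp
        rw [e]
        calc x * (z₁ * z₂ * p * q) = (x * z₁) * z₂ * p * q := by group
          _ = z₁ * (x * z₂) * p * q := by rw [h1]; group
          _ = z₁ * z₂ * (x * p) * q := by rw [h2]; group
          _ = z₁ * z₂ * p * (x * q) := by rw [h3]; group
  exact aux 35 0 le_rfl (by norm_num) u hu hc

/-- An outer element of field type or of graph type. -/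
def Outer (X : (Fin 4 → ℤ) → Subgroup G) (y : G) : Prop :=
  ((∃ x ∈ X α3, y * x * y⁻¹ ∈ X α3 ∧ y * x * y⁻¹ ≠ x) ∧ ∃ x ∈ X α0, y * x * y⁻¹ ∈ X α0 ∧ y * x * y⁻¹ ≠ x) ∨
    ∃ x ∈ X α3, x ≠ 1 ∧ y * x * y⁻¹ ∈ X α0

/-- **(k1)** -/
theorem k1 (hK : KF t X) (hD : Dir X) {T : Subgroup G} (hUT : Ab X 0 ≤ T) (hTt : ∀ d ∈ T, d * t = t * d)
    (hout : ∀ c ∈ T, (∀ x ∈ X ρ, c * x = x * c) → c ∈ Ab X 0 ∨ t * c ∈ Ab X 0) {y : G} (hyT : y ∈ T)
    (hy : Outer X y) {c : G} (hc : c ∈ T) (hcc : ∀ a ∈ T, ∀ b ∈ T, c * (a * b * a⁻¹ * b⁻¹) = a * b * a⁻¹ * b⁻¹ * c) :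
    c ∈ X ρ ⊔ X σ ∨ t * c ∈ X ρ ⊔ X σ := by
  -- elements of `U`
  have key : ∀ u ∈ Ab X 0, (∀ a ∈ T, ∀ b ∈ T, u * (a * b * a⁻¹ * b⁻¹) = a * b * a⁻¹ * b⁻¹ * u) → u ∈ X ρ ⊔ X σ := by
    intro u hu hcu
    have hCC : CC X u := fun a ha b hb ha0 hb0 _ x hx y hy =>
      hcu x (hUT (le_Ab ha ha0 hx)) y (hUT (le_Ab hb hb0 hy))
    obtain ⟨z₁, hz₁, z₂, hz₂, p, hp, q, hq, rfl⟩ := cent_of_comm hK hD hu hCC
    have b1 : B ρ' α0 = 0 ∧ B σ' α3 = 0 ∧ B ρ' α3 = -2 ∧ B σ' α0 = -1 ∧ B ρ' ρ' = B α3 α3 ∧ B σ' σ' = B α0 α0 ∧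
      ρ' + α3 = ρ ∧ σ' + α0 = σ ∧ ρ' ≠ -α3 ∧ σ' ≠ -α0 ∧ 0 ≤ B ρ' σ' := by decide +kernel
    obtain ⟨b1, b2, b3, b4, b5, b6, b7, b8, b9, b10, b11⟩ := b1
    have pc0 : ∀ x ∈ X α0, p * x = x * p := fun x hx => hK.X0 _ ρ'_mem _ α0_mem (by omega) p hp x hx
    have qc3 : ∀ x ∈ X α3, q * x = x * q := fun x hx => hK.X0 _ σ'_mem _ α3_mem (by omega) q hq x hx
    have hzc : ∀ w ∈ Ab X 0, z₁ * z₂ * w = w * (z₁ * z₂) := by
      intro w hw
      have e1 := central hK (Or.inl rfl) hz₁ hw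
      have e2 := central hK (Or.inr rfl) hz₂ hw
      calc z₁ * z₂ * w = z₁ * (z₂ * w) := by group
        _ = z₁ * (w * z₂) := by rw [e2]
        _ = (z₁ * w) * z₂ := by group
        _ = (w * z₁) * z₂ := by rw [e1]
        _ = w * (z₁ * z₂) := by group
    -- `p q` commutes with `m ∈ [T,T] ∩ U`
    have hpq : ∀ a ∈ T, ∀ b ∈ T, a * b * a⁻¹ * b⁻¹ ∈ Ab X 0 →
        p * q * (a * b * a⁻¹ * b⁻¹) = a * b * a⁻¹ * b⁻¹ * (p * q) := by
      intro a ha b hb hm
      have e1 := hcu a ha b hb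
      have e2 := hzc _ hm
      have e3 : z₁ * z₂ * (p * q * (a * b * a⁻¹ * b⁻¹)) = z₁ * z₂ * (a * b * a⁻¹ * b⁻¹ * (p * q)) := by
        calc z₁ * z₂ * (p * q * (a * b * a⁻¹ * b⁻¹)) = z₁ * z₂ * p * q * (a * b * a⁻¹ * b⁻¹) := by group
          _ = a * b * a⁻¹ * b⁻¹ * (z₁ * z₂ * p * q) := e1
          _ = (a * b * a⁻¹ * b⁻¹ * (z₁ * z₂)) * (p * q) := by group
          _ = (z₁ * z₂ * (a * b * a⁻¹ * b⁻¹)) * (p * q) := by rw [e2]
          _ = z₁ * z₂ * (a * b * a⁻¹ * b⁻¹ * (p * q)) := by group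
      exact mul_left_cancel e3
    have hp1 : p = 1 ∧ q = 1 := by
      rcases hy with ⟨⟨x, hx, hx', hne⟩, v, hv, hv', hnv⟩ | ⟨x, hx, hx1, hx'⟩
      · constructor
        · have hm : y * x * y⁻¹ * x⁻¹ ∈ X α3 := mul_mem hx' (inv_mem hx)
          have h1 := hpq y hyT x (hUT (le_Ab α3_mem α3_pos hx)) (le_Ab α3_mem α3_pos hm)
          have h2 : p * (y * x * y⁻¹ * x⁻¹) = y * x * y⁻¹ * x⁻¹ * p := by
            have h3 := qc3 _ hm
            have h4 : p * (y * x * y⁻¹ * x⁻¹) * q = y * x * y⁻¹ * x⁻¹ * p * q := by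
              calc p * (y * x * y⁻¹ * x⁻¹) * q = p * ((y * x * y⁻¹ * x⁻¹) * q) := by group
                _ = p * (q * (y * x * y⁻¹ * x⁻¹)) := by rw [h3]
                _ = p * q * (y * x * y⁻¹ * x⁻¹) := by group
                _ = y * x * y⁻¹ * x⁻¹ * (p * q) := h1
                _ = y * x * y⁻¹ * x⁻¹ * p * q := by group
            exact mul_right_cancel h4
          rcases hK.X1nd _ ρ'_mem _ α3_mem b5 (by omega) b9 p hp _ hm h2 with h3 | h3
          · exact h3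
          · exact absurd (mul_inv_eq_one.1 h3) hne
        · have hm : y * v * y⁻¹ * v⁻¹ ∈ X α0 := mul_mem hv' (inv_mem hv)
          have h1 := hpq y hyT v (hUT (le_Ab α0_mem α0_pos hv)) (le_Ab α0_mem α0_pos hm)
          have h2 : q * (y * v * y⁻¹ * v⁻¹) = y * v * y⁻¹ * v⁻¹ * q := by
            have h3 := pc0 _ hm
            have h4 : p * (q * (y * v * y⁻¹ * v⁻¹)) = p * (y * v * y⁻¹ * v⁻¹ * q) := by
              calc p * (q * (y * v * y⁻¹ * v⁻¹)) = p * q * (y * v * y⁻¹ * v⁻¹) := by group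
                _ = y * v * y⁻¹ * v⁻¹ * (p * q) := h1
                _ = (y * v * y⁻¹ * v⁻¹ * p) * q := by group
                _ = (p * (y * v * y⁻¹ * v⁻¹)) * q := by rw [h3]
                _ = p * (y * v * y⁻¹ * v⁻¹ * q) := by group
            exact mul_left_cancel h4
          rcases hK.X1nd _ σ'_mem _ α0_mem b6 (by omega) b10 q hq _ hm h2 with h3 | h3
          · exact h3
          · exact absurd (mul_inv_eq_one.1 h3) hnv
      · -- graph type
        obtain ⟨x', rfl'⟩ : ∃ x', x' = y * x * y⁻¹ := ⟨_, rfl⟩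
        rw [← rfl'] at hx'
        have hx'1 : x' ≠ 1 := by
          intro h
          apply hx1
          rw [rfl'] at h
          calc x = y⁻¹ * (y * x * y⁻¹) * y := by group
            _ = 1 := by rw [h]; group
        have hxi := inv_mem hx
        have h1 := hpq y hyT x (hUT (le_Ab α3_mem α3_pos hx)) (by
          rw [← rfl']
          exact mul_mem (le_Ab α0_mem α0_pos hx') (le_Ab α3_mem α3_pos hxi))
        rw [← rfl'] at h1
        -- `A = [q, x'] ∈ X σ`, `C = [p, x⁻¹] ∈ X ρ`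
        have hA := hK.X1 _ σ'_mem _ α0_mem b6 (by omega) b10 q hq x' hx'
        have hC := hK.X1 _ ρ'_mem _ α3_mem b5 (by omega) b9 p hp _ hxi
        rw [b8] at hA
        rw [b7] at hC
        have g1 := pc0 x' hx'
        have g2 := qc3 _ hxi
        obtain ⟨A, hAe⟩ : ∃ A, A = q * x' * q⁻¹ * x'⁻¹ := ⟨_, rfl⟩
        obtain ⟨C, hCe⟩ : ∃ C, C = p * x⁻¹ * p⁻¹ * x⁻¹⁻¹ := ⟨_, rfl⟩
        rw [← hAe] at hA
        rw [← hCe] at hC
        have hqx : q * x' = A * x' * q := by rw [hAe]; group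
        have hpx : p * x⁻¹ = C * x⁻¹ * p := by rw [hCe]; group
        have hAU : A ∈ Ab X 0 := le_Ab σ_mem σ_pos hA
        have hCU : C ∈ Ab X 0 := le_Ab ρ_mem ρ_pos hC
        have cA : ∀ w ∈ Ab X 0, A * w = w * A := fun w hw => central hK (Or.inr rfl) hA hw
        have cC : ∀ w ∈ Ab X 0, C * w = w * C := fun w hw => central hK (Or.inl rfl) hC hw
        have hpU : p ∈ Ab X 0 := le_Ab ρ'_mem ρ'_pos hp
        have hx'U : x' ∈ Ab X 0 := le_Ab α0_mem α0_pos hx'
        have h2 : p * q * (x' * x⁻¹) = A * C * (x' * x⁻¹ * (p * q)) := by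
          calc p * q * (x' * x⁻¹) = p * (q * x') * x⁻¹ := by group
            _ = p * (A * x' * q) * x⁻¹ := by rw [hqx]
            _ = p * A * x' * (q * x⁻¹) := by group
            _ = p * A * x' * (x⁻¹ * q) := by rw [g2]
            _ = (p * A) * (x' * x⁻¹ * q) := by group
            _ = (A * p) * (x' * x⁻¹ * q) := by rw [cA p hpU]
            _ = A * (p * x') * (x⁻¹ * q) := by group
            _ = A * (x' * p) * (x⁻¹ * q) := by rw [g1]
            _ = A * x' * (p * x⁻¹) * q := by group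
            _ = A * x' * (C * x⁻¹ * p) * q := by rw [hpx]
            _ = A * (x' * C) * (x⁻¹ * p * q) := by group
            _ = A * (C * x') * (x⁻¹ * p * q) := by rw [cC x' hx'U]
            _ = A * C * (x' * x⁻¹ * (p * q)) := by group
        have h3 : x' * x⁻¹ * (p * q) = A * C * (x' * x⁻¹ * (p * q)) := by
          rw [← h2]
          exact h1.symm
        have hAC : A * C = 1 := by
          have h4 : (1 : G) * (x' * x⁻¹ * (p * q)) = A * C * (x' * x⁻¹ * (p * q)) := by rw [one_mul]; exact h3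
          exact (mul_right_cancel h4).symm
        have hne2 : ρ ≠ σ := by decide +kernel
        have hA1 : A = 1 := by
          apply hK.ind ρ ρ_mem σ σ_mem hne2 A _ hA
          have h4 : A = C⁻¹ := eq_inv_of_mul_eq_one_left hAC
          rw [h4]; exact inv_mem hC
        have hC1 : C = 1 := by rw [hA1, one_mul] at hAC; exact hAC
        constructor
        · rw [hC1, one_mul] at hpx
          rcases hK.X1nd _ ρ'_mem _ α3_mem b5 (by omega) b9 p hp _ hxi hpx with h3 | h3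
          · exact h3
          · exact absurd (inv_eq_one.1 h3) hx1
        · rw [hA1, one_mul] at hqx
          rcases hK.X1nd _ σ'_mem _ α0_mem b6 (by omega) b10 q hq _ hx' hqx with h3 | h3
          · exact h3
          · exact absurd h3 hx'1
    rw [hp1.1, hp1.2, mul_one, mul_one]
    exact mul_mem (Subgroup.mem_sup_left hz₁) (Subgroup.mem_sup_right hz₂)
  -- `c` commutes with `X ρ`
  have h1 : ∀ x ∈ X ρ, c * x = x * c := by
    intro x hx
    have b1 : B α3 α3 = B ρ' ρ' ∧ B α3 ρ' < 0 ∧ α3 ≠ -ρ' ∧ α3 + ρ' = ρ := by decide +kernel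
    obtain ⟨b1, b2, b3, b4⟩ := b1
    obtain ⟨w, hw, hw1⟩ := hK.Xne ρ' ρ'_mem
    obtain ⟨v, hv, e⟩ := hK.X1surj α3 α3_mem ρ' ρ'_mem b1 b2 b3 w hw hw1 x (by rw [b4]; exact hx)
    rw [← e]
    exact hcc v (hUT (le_Ab α3_mem α3_pos hv)) w (hUT (le_Ab ρ'_mem ρ'_pos hw))
  rcases hout c hc h1 with h2 | h2
  · exact Or.inl (key c h2 hcc)
  · right
    apply key _ h2
    intro a ha b hb
    have h3 := hTt _ (mul_mem (mul_mem (mul_mem ha hb) (inv_mem ha)) (inv_mem hb))
    calc t * c * (a * b * a⁻¹ * b⁻¹) = t * (c * (a * b * a⁻¹ * b⁻¹)) := by group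
      _ = t * (a * b * a⁻¹ * b⁻¹ * c) := by rw [hcc a ha b hb]
      _ = (t * (a * b * a⁻¹ * b⁻¹)) * c := by group
      _ = (a * b * a⁻¹ * b⁻¹ * t) * c := by rw [h3]
      _ = a * b * a⁻¹ * b⁻¹ * (t * c) := by group

/-- `U` is generated by involutions. -/
theorem gen (hK : KF t X) (P : Subgroup G) (h : ∀ u ∈ Ab X 0, u * u = 1 → u ∈ P) : Ab X 0 ≤ P :=
  Ab_le fun a ha ha0 x hx => h x (le_Ab ha ha0 hx) (hK.Xsq a ha x hx)

end Cfsg.Agent.OddHalf.D7F4.Lead
end

-- part: OddHalf/D7F4/FrOut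
section
-- merged: Cfsg.Agent.OddHalf.D7F4.FrontF4
section

/-!
# `F₄(q)`, `q ≥ 4` even: start of fusion in the frame (ODD D7; helper588)

`R : Frame t f`, `|F| > 2`. `XG f a := (XF F a).map f`.

* `Frame.ctx` : the hypotheses of `FusionOut`;
* `Frame.moved_or1`, `Frame.moved_or2` : `X_ρ` (`X_σ`) is moved or `t` is not conjugate to `t x`, `1 ≠ x ∈ X_ρ` (`X_σ`);
* `Frame.exists_moved` : if `t` is conjugate to `t z ≠ t`, `z ∈ Z(U)`, then `X_ρ` or `X_σ` is moved.
-/

set_option autoImplicit false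
set_option Elab.async false
set_option linter.unusedSectionVars false

namespace Cfsg.Agent.OddHalf.D7F4

open CoxeterSystem Cfsg.Agent.ChevalleyStructure.CoxeterGeom Cfsg.Agent.Tits.Roots Cfsg.Agent.Tits.Core
open Cfsg.Lie Cfsg.Agent.ChevalleyStructure Cfsg.Agent.ChevalleyStructure.Elts
  Cfsg.Agent.ChevalleyStructure.RootVec Cfsg.Agent.ChevalleyStructure.CoxeterGeomTypes
open Cfsg.Agent.Nodes Cfsg.Agent.Nodes.Reps Cfsg.Agent.Nodes.BNOf Cfsg.Agent.Nodes.RGDChev Cfsg.Agent.Nodes.Coroot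
  Cfsg.Agent.Nodes.KindF Cfsg.Agent.Nodes.Bruhat Cfsg.Agent.KFacts.ChevTwo Cfsg.Agent.KFacts.ChevTwoTab
  Cfsg.Agent.KFacts.ChevTwoInst Cfsg.Agent.KFacts.RgdTI
  Cfsg.Agent.KFacts.F4Star Cfsg.Agent.KFacts.F4Cent Cfsg.Agent.KFacts.F4Pair Cfsg.Agent.KFacts.F4Torus
  Cfsg.Agent.KFacts.F4Perf
open Cfsg.Agent.OddHalf.D7F4.KFront Cfsg.Agent.OddHalf.D7F4.Fusion
open scoped commutatorElement

universe u

variable {G : Type*} [Group G] {F : Type u} [Field F]

variable [Finite F] [CharP F 2]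

theorem tor_conj {h : ↥(chevF4.group F)} (hh : h ∈ TF F) {a : Fin 4 → ℤ} (ha : IsRoot c4 isType.isCartan a) :
    ∀ x ∈ XF F a, h * x * h⁻¹ ∈ XF F a := by
  intro x hx
  obtain ⟨t, rfl⟩ := (mem_XF ha).1 hx
  obtain ⟨χ, hχ⟩ := (sysF (K := F) c4).chi h hh
  rw [hχ a ha t]
  exact e_mem_X ha _

theorem tor_U {h : ↥(chevF4.group F)} (hh : h ∈ TF F) : ∀ x ∈ UK F, h * x * h⁻¹ ∈ UK F := by
  intro x hx
  have h1 := (rgd (K := F) isType c4 2).T_le_normalizer_U hh
  exact (Subgroup.mem_normalizer_iff.1 h1 x).1 hx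

theorem maps_map {f : ↥(chevF4.group F) →* G} {h : ↥(chevF4.group F)} {X : Subgroup ↥(chevF4.group F)}
    (h1 : ∀ x ∈ X, h * x * h⁻¹ ∈ X) (h2 : ∀ x ∈ X, h⁻¹ * x * h⁻¹⁻¹ ∈ X) : Maps (f h) (X.map f) (X.map f) := by
  intro y
  constructor
  · rintro ⟨x, hx, rfl⟩
    refine ⟨_, h2 x hx, ?_⟩
    rw [map_mul, map_mul, map_inv, inv_inv]
  · rintro ⟨x, hx, hxy⟩
    refine ⟨_, h1 x hx, ?_⟩
    rw [map_mul, map_mul, map_inv, hxy]; group

theorem card_XF {a : Fin 4 → ℤ} (ha : IsRoot c4 isType.isCartan a) : Nat.card (XF F a) = Nat.card F := by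
  symm
  refine Nat.card_congr (Equiv.ofBijective (fun t => (⟨eF F a t, e_mem_X ha t⟩ : XF F a)) ⟨?_, ?_⟩)
  · intro s t h
    exact (dat (K := F)).injective ha (congrArg Subtype.val h)
  · rintro ⟨x, hx⟩
    obtain ⟨t, rfl⟩ := (mem_XF ha).1 hx
    exact ⟨t, rfl⟩

theorem dis12 (hF : 2 < Nat.card F) : ∀ x, x ∈ X1 F → x ∈ X2 F → x = 1 := by
  intro x h1 h2
  have D := dat (K := F)
  obtain ⟨s, rfl⟩ := (mem_XF (rv (by norm_num))).1 h1
  obtain ⟨u, hu⟩ := (mem_XF (rv (by norm_num))).1 h2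
  obtain ⟨l, hl, hl2⟩ := exists_zpow_ne hF
  have hl1 : l ≠ 1 := by
    have := hl2 1 one_ne_zero (by norm_num) (by norm_num)
    rwa [zpow_one] at this
  have hne : v 44 ≠ v 47 := fun h => absurd (v_inj (by norm_num) (by norm_num) h) (by norm_num)
  have hne' : v 44 ≠ -v 47 := by
    rw [← v_neg (by norm_num)]
    exact fun h => absurd (v_inj (by norm_num) (by norm_num) h) (by norm_num)
  obtain ⟨t, ht, h3, h4⟩ := torus_fix (K := F) c4 (rv (r := 47) (by norm_num)) (rv (r := 44) (by norm_num)) hne hne'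
    (Units.mk0 l hl)
  have h5 := h3 s
  rw [← hu, h4 u, hu, Units.val_mk0] at h5
  have h6 := D.injective (rv (r := 47) (by norm_num)) h5
  have h7 : (l - 1) * s = 0 := by
    rw [sub_mul, one_mul, ← h6, sub_self]
  rcases mul_eq_zero.1 h7 with h7 | h7
  · exact absurd (sub_eq_zero.1 h7) hl1
  · rw [h7, D.zero (rv (by norm_num))]

theorem big (hF : 2 < Nat.card F) {r : ℕ} (hr : r < 48) {a : ↥(chevF4.group F)} (ha : a ∈ XF F (v r)) :
    ∃ a' ∈ XF F (v r), a' ≠ 1 ∧ a' ≠ a := by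
  classical
  have := Fintype.ofFinite F
  obtain ⟨s, rfl⟩ := (mem_XF (rv hr)).1 ha
  obtain ⟨c, hc⟩ : ∃ c : F, c ∉ ({0, s} : Finset F) := by
    by_contra hcon
    push Not at hcon
    have h1 : (Finset.univ : Finset F) ⊆ {0, s} := fun x _ => hcon x
    have h2 := Finset.card_le_card h1
    rw [Finset.card_univ, ← Nat.card_eq_fintype_card] at h2
    have h3 : ({0, s} : Finset F).card ≤ 2 := Finset.card_le_two
    omega
  rw [Finset.mem_insert, Finset.mem_singleton, not_or] at hc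
  exact ⟨eF F (v r) c, e_mem_X (rv hr) c, (dat (K := F)).ne_one (rv hr) hc.1, fun h =>
    hc.2 ((dat (K := F)).injective (rv hr) h)⟩

namespace Frame

variable {t : G} {f : ↥(chevF4.group F) →* G}

theorem map_comm (f : ↥(chevF4.group F) →* G) (g x : ↥(chevF4.group F)) : ⁅f g, f x⁆ = f ⁅g, x⁆ := by
  rw [commutatorElement_def, commutatorElement_def, map_mul, map_mul, map_mul, map_inv, map_inv]

theorem com_of {f : ↥(chevF4.group F) →* G} {A B : Subgroup ↥(chevF4.group F)}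
    (h : ∀ a ∈ A, ∀ b ∈ B, a * b = b * a) : ∀ a ∈ A.map f, ∀ b ∈ B.map f, a * b = b * a := by
  rintro _ ⟨a, ha, rfl⟩ _ ⟨b, hb, rfl⟩
  rw [← map_mul, h a ha b hb, map_mul]

/-- `N(U)` permutes `X_ρ`, `X_σ` -/
theorem perm [Finite G] (R : Frame t f) (hF : 2 < Nat.card F) (n : G) (hn : Maps n ((UK F).map f) ((UK F).map f)) :
    (Maps n (XG f (v 47)) (XG f (v 47)) ∧ Maps n (XG f (v 44)) (XG f (v 44))) ∨
      (Maps n (XG f (v 47)) (XG f (v 44)) ∧ Maps n (XG f (v 44)) (XG f (v 47))) := by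
  have D := dat (K := F)
  have hX1 := X1_le_U (K := F)
  have hX2 := X2_le_U (K := F)
  have cardm : ∀ X : Subgroup ↥(chevF4.group F), Nat.card (X.map f) = Nat.card X := fun X =>
    (Nat.card_congr (X.equivMapOfInjective f R.inj).toEquiv).symm
  refine perm_of (com_of fun a ha b hb => (L_comm1 (U_le_L hb) ha).symm)
    (com_of fun a ha b hb => (L_comm2 (U_le_L hb) ha).symm) ?_ ?_ ?_ ?_ ?_ ?_ ?_ ?_ ?_ n hn
  · rintro _ ⟨a, ha, rfl⟩ ⟨b, hb, hab⟩
    rw [R.inj hab] at hb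
    rw [dis12 hF a ha hb, map_one]
  · rw [cardm, cardm, card_XF (rv (by norm_num)), card_XF (rv (by norm_num))]
  · refine ⟨f (eF F (v 47) 1), ⟨_, e_mem_X (rv (by norm_num)) 1, rfl⟩, fun h => ?_⟩
    rw [← map_one f] at h
    exact D.ne_one (rv (by norm_num)) one_ne_zero (R.inj h)
  · rw [← Subgroup.map_commutator]; exact Subgroup.map_mono X1_le_der
  · rw [← Subgroup.map_commutator]; exact Subgroup.map_mono X2_le_der
  · intro z hz hc
    rw [← Subgroup.map_commutator] at hz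
    obtain ⟨y, -, rfl⟩ := hz
    have h1 : y ∈ ZK F := mem_Z_of_comm fun u hu => R.inj (by
      rw [map_mul, map_mul, hc _ ⟨u, hu, rfl⟩])
    obtain ⟨a, ha, b, hb, rfl⟩ := mem_ZK.1 h1
    exact ⟨f a, ⟨a, ha, rfl⟩, f b, ⟨b, hb, rfl⟩, map_mul _ _ _⟩
  · refine ⟨f (eF F (v 46) 1), ⟨_, e_mem_U (by norm_num) (by norm_num) 1, rfl⟩, ?_, ?_⟩
    · rintro _ ⟨u, hu, rfl⟩
      rw [map_comm]
      exact ⟨_, comm46 1 u hu, rfl⟩
    · rintro _ ⟨y, hy, rfl⟩
      obtain ⟨s, rfl⟩ := (mem_XF (rv (by norm_num))).1 hy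
      refine ⟨f (eF F (v 24) s), ⟨_, e_mem_U (by norm_num) (by norm_num) s, rfl⟩, ?_⟩
      rw [map_comm, c46_24, one_mul]
  · refine ⟨f (eF F (v 40) 1), ⟨_, e_mem_U (by norm_num) (by norm_num) 1, rfl⟩, ?_, ?_⟩
    · rintro _ ⟨u, hu, rfl⟩
      rw [map_comm]
      exact ⟨_, comm40 1 u hu, rfl⟩
    · rintro _ ⟨y, hy, rfl⟩
      obtain ⟨s, rfl⟩ := (mem_XF (rv (by norm_num))).1 hy
      refine ⟨f (eF F (v 33) s), ⟨_, e_mem_U (by norm_num) (by norm_num) s, rfl⟩, ?_⟩
      rw [map_comm, c40_33, one_mul]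
  · rintro _ ⟨g, hg, rfl⟩ hgZ
    have h1 : ∀ u ∈ UK F, ⁅g, u⁆ ∈ ZK F := by
      intro u hu
      obtain ⟨_, ⟨a, ha, rfl⟩, _, ⟨b, hb, rfl⟩, hab⟩ := hgZ _ ⟨u, hu, rfl⟩
      rw [map_comm, ← map_mul] at hab
      rw [R.inj hab]
      exact mem_ZK.2 ⟨a, ha, b, hb, rfl⟩
    rcases tri hF h1 with h | h | h
    · left
      rintro _ ⟨u, hu, rfl⟩
      rw [map_comm]
      exact ⟨_, h u hu, rfl⟩
    · right; left
      rintro _ ⟨u, hu, rfl⟩
      rw [map_comm]
      exact ⟨_, h u hu, rfl⟩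
    · right; right
      rintro _ ⟨a, ha, rfl⟩ _ ⟨b, hb, rfl⟩
      obtain ⟨u, hu, hx⟩ := h a ha b hb
      exact ⟨f u, ⟨u, hu, rfl⟩, by rw [map_comm, hx, map_mul]⟩

/-- **The hypotheses of the fusion hold in a frame.** -/
theorem ctx [Finite G] (R : Frame t f) (hF : 2 < Nat.card F) :
    FusionOut.Ctx t f.range ((UK F).map f) (XG f (v 47)) (XG f (v 44)) ((TF F).map f) where
  tt := R.tt
  Kt := by
    rintro _ ⟨y, rfl⟩
    exact R.ft y
  perf := R.perf
  UK := by
    rintro _ ⟨y, -, rfl⟩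
    exact ⟨y, rfl⟩
  pU := (kf0 hF).pU.map f
  maxU := by
    intro P hP hU hPK
    have h1 : P.comap f ≤ UK F := (kf0 hF).maxU _ (hP.comap_of_injective f R.inj) (by
      intro x hx
      exact hU ⟨x, hx, rfl⟩)
    intro x hx
    obtain ⟨y, rfl⟩ := hPK hx
    exact ⟨y, h1 hx, rfl⟩
  X₁U := Subgroup.map_mono X1_le_U
  X₂U := Subgroup.map_mono X2_le_U
  c₁ := com_of fun _ ha _ hb => (L_comm1 (U_le_L hb) ha).symm
  c₂ := com_of fun _ ha _ hb => (L_comm2 (U_le_L hb) ha).symm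
  sq₁ := by
    rintro _ ⟨x, hx, rfl⟩
    rw [← map_mul, sq_X (by norm_num) hx, map_one]
  sq₂ := by
    rintro _ ⟨x, hx, rfl⟩
    rw [← map_mul, sq_X (by norm_num) hx, map_one]
  cov := by
    refine ⟨(LK F).map f, ?_, Subgroup.map_mono U_le_L, ?_, ?_, ?_⟩
    · rw [← Subgroup.map_commutator, LK_perfect hF]
    · rintro _ ⟨y, -, rfl⟩
      exact ⟨y, rfl⟩
    · exact com_of fun _ ha _ hb => (L_comm1 hb ha).symm
    · exact com_of fun _ ha _ hb => (L_comm2 hb ha).symm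
  Ht := by
    rintro _ ⟨h, -, rfl⟩
    exact R.ft h
  HU := by
    rintro _ ⟨h, hh, rfl⟩
    exact maps_map (tor_U hh) (tor_U (inv_mem hh))
  H₁ := by
    rintro _ ⟨h, hh, rfl⟩
    exact maps_map (tor_conj hh (rv (by norm_num))) (tor_conj (inv_mem hh) (rv (by norm_num)))
  H₂ := by
    rintro _ ⟨h, hh, rfl⟩
    exact maps_map (tor_conj hh (rv (by norm_num))) (tor_conj (inv_mem hh) (rv (by norm_num)))
  Htr := by
    rintro _ ⟨a, ha, rfl⟩ _ ⟨b, hb, rfl⟩ _ ⟨a', ha', rfl⟩ _ ⟨b', hb', rfl⟩ h1 h2 h3 h4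
    have D := dat (K := F)
    have ne : ∀ {y : ↥(chevF4.group F)}, f y ≠ 1 → y ≠ 1 := fun h h' => h (by rw [h', map_one])
    obtain ⟨a, ha0, rfl⟩ := (sysF (K := F) c4).exists_e (rv (r := 47) (by norm_num)) ha (ne h1)
    obtain ⟨b, hb0, rfl⟩ := (sysF (K := F) c4).exists_e (rv (r := 44) (by norm_num)) hb (ne h2)
    obtain ⟨a', ha0', rfl⟩ := (sysF (K := F) c4).exists_e (rv (r := 47) (by norm_num)) ha' (ne h3)
    obtain ⟨b', hb0', rfl⟩ := (sysF (K := F) c4).exists_e (rv (r := 44) (by norm_num)) hb' (ne h4)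
    have hne : v 44 ≠ v 47 := fun h => absurd (v_inj (by norm_num) (by norm_num) h) (by norm_num)
    have hne' : v 44 ≠ -v 47 := by
      rw [← v_neg (by norm_num)]
      exact fun h => absurd (v_inj (by norm_num) (by norm_num) h) (by norm_num)
    obtain ⟨s, hs, h5, h6⟩ := torus_pair (K := F) c4 (rv (r := 47) (by norm_num)) (rv (r := 44) (by norm_num)) hne hne'
      (Units.mk0 (a' * a⁻¹) (mul_ne_zero ha0' (inv_ne_zero ha0)))
      (Units.mk0 (b' * b⁻¹) (mul_ne_zero hb0' (inv_ne_zero hb0)))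
    have h7 := h5 a
    have h8 := h6 b
    rw [Units.val_mk0, inv_mul_cancel_right₀ ha0] at h7
    rw [Units.val_mk0, inv_mul_cancel_right₀ hb0] at h8
    refine ⟨f s⁻¹, ⟨s⁻¹, inv_mem hs, rfl⟩, ?_, ?_⟩
    · rw [← h7, map_inv, inv_inv, map_mul, map_mul, map_inv]
    · rw [← h8, map_inv, inv_inv, map_mul, map_mul, map_inv]
  big₁ := by
    rintro _ ⟨a, ha, rfl⟩
    obtain ⟨a', ha', h1, h2⟩ := big hF (by norm_num) ha
    exact ⟨f a', ⟨a', ha', rfl⟩, fun h => h1 (R.inj (by rw [h, map_one])), fun h => h2 (R.inj h)⟩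
  big₂ := by
    rintro _ ⟨a, ha, rfl⟩
    obtain ⟨a', ha', h1, h2⟩ := big hF (by norm_num) ha
    exact ⟨f a', ⟨a', ha', rfl⟩, fun h => h1 (R.inj (by rw [h, map_one])), fun h => h2 (R.inj h)⟩
  perm := R.perm hF

/-- `X_ρ` is moved or `t` is not conjugate to `t x`, `1 ≠ x ∈ X_ρ`. -/
theorem moved_or1 [Finite G] (R : Frame t f) (hF : 2 < Nat.card F) :
    Moved t (XG f (v 47)) ∨ ∀ g : G, ∀ x ∈ XG f (v 47), g⁻¹ * t * g = t * x → x = 1 := (R.ctx hF).moved_or

/-- `X_σ` is moved or `t` is not conjugate to `t x`, `1 ≠ x ∈ X_σ`. -/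
theorem moved_or2 [Finite G] (R : Frame t f) (hF : 2 < Nat.card F) :
    Moved t (XG f (v 44)) ∨ ∀ g : G, ∀ x ∈ XG f (v 44), g⁻¹ * t * g = t * x → x = 1 := (R.ctx hF).symm.moved_or

/-- If `t` is conjugate to `t z ≠ t`, `z ∈ Z(U)`, then `X_ρ` or `X_σ` is moved. -/
theorem exists_moved [Finite G] (R : Frame t f) (hF : 2 < Nat.card F) {g : G} {z : ↥(chevF4.group F)} (hz : z ∈ ZK F)
    (hz1 : z ≠ 1) (hg : g⁻¹ * t * g = t * f z) : Moved t (XG f (v 47)) ∨ Moved t (XG f (v 44)) := by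
  obtain ⟨a, ha, b, hb, rfl⟩ := mem_ZK.1 hz
  refine (R.ctx hF).exists_moved (a := f a) (b := f b) ⟨a, ha, rfl⟩ ⟨b, hb, rfl⟩ ?_ (by rw [hg, map_mul])
  rw [← map_mul, ← map_one f]
  exact fun h => hz1 (R.inj h)

end Frame

end Cfsg.Agent.OddHalf.D7F4

end

-- merged: Cfsg.Agent.OddHalf.D7F4.FrOut
section

/-!
# `K = F₄(q)`, `q` even: the frame with the outer 2-part (S1765, node D7)

`T` a maximal 2-subgroup of `C_G(t)` containing `f(U)`. After a conjugation of `f` by an element of the torus there is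
`g ∈ T` with `T = D f(U)`, `D = {g^n, t g^n}`, such that all elements of `D` act in coordinates as field or graph
automorphisms.

* `FrO` : the data; `exists_frO` : existence;
* `FrO.acts_D`, `FrO.disj`, `FrO.fac`, `FrO.ab`, `FrO.hone`, `FrO.hout`, `FrO.k2`, `FrO.outer`, `FrO.fix`, `FrO.td`.
-/

set_option autoImplicit false
set_option Elab.async false
set_option linter.unusedSectionVars false

namespace Cfsg.Agent.OddHalf.D7F4.FrOut

open CoxeterSystem Cfsg.Agent.ChevalleyStructure.CoxeterGeom Cfsg.Agent.Tits.Roots Cfsg.Agent.Tits.Core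
open Cfsg.Lie Cfsg.Agent.ChevalleyStructure Cfsg.Agent.ChevalleyStructure.Elts
  Cfsg.Agent.ChevalleyStructure.RootVec Cfsg.Agent.ChevalleyStructure.CoxeterGeomTypes
open Cfsg.Agent.Nodes Cfsg.Agent.Nodes.Reps Cfsg.Agent.Nodes.BNOf Cfsg.Agent.Nodes.RGDChev Cfsg.Agent.Nodes.Coroot
  Cfsg.Agent.Nodes.KindF Cfsg.Agent.KFacts.ChevTwo Cfsg.Agent.KFacts.ChevTwoTab
  Cfsg.Agent.KFacts.ChevTwoInst Cfsg.Agent.KFacts.F4Star Cfsg.Agent.KFacts.F4Cent Cfsg.Agent.KFacts.F4Pair
  Cfsg.Agent.KFacts.F4Torus Cfsg.Agent.KFacts.F4Perf Cfsg.Agent.KFacts.RgdGraph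
open Cfsg.Agent.OddHalf.D7F4 Cfsg.Agent.OddHalf.D7F4.Model Cfsg.Agent.OddHalf.D7F4.KFront
  Cfsg.Agent.OddHalf.D7F4.Adapted

universe u

variable {G : Type*} [Group G] {F : Type u} [Field F] {f : ↥(chevF4.group F) →* G} {t g : G}

/-! ### Field and graph automorphisms in coordinates -/

/-- `d` acts as the field automorphism `φ` -/
def Fld (f : ↥(chevF4.group F) →* G) (d : G) (φ : F ≃+* F) : Prop :=
  ∀ r ∈ rts, ∀ a, d * f (eF F r a) * d⁻¹ = f (eF F r (φ a))

/-- `d` acts as a graph automorphism with `φ` -/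
def Gra (f : ↥(chevF4.group F) →* G) (d : G) (φ : F ≃+* F) : Prop :=
  (∀ r ∈ rts, B r r = 4 → ∀ a, d * f (eF F r a) * d⁻¹ = f (eF F (dual r) (φ a))) ∧
    ∀ r ∈ rts, B r r = 2 → ∀ a, d * f (eF F r a) * d⁻¹ = f (eF F (dual r) ((φ a) ^ 2))

theorem acts_iff {d : G} : Acts f d ↔ (∃ φ, Fld f d φ) ∨ ∃ φ, Gra f d φ := Iff.rfl

theorem Fld.one : Fld f (1 : G) (RingEquiv.refl F) := by
  intro r _ a
  rw [one_mul, inv_one, mul_one]
  rfl

theorem Fld.of_comm {d : G} (h : ∀ y, d * f y = f y * d) : Fld f d (RingEquiv.refl F) := by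
  intro r _ a
  rw [h, mul_inv_cancel_right]
  rfl

theorem Fld.mul {d e : G} {φ ψ : F ≃+* F} (hd : Fld f d φ) (he : Fld f e ψ) : Fld f (d * e) (ψ.trans φ) := by
  intro r hr a
  have h1 : d * e * f (eF F r a) * (d * e)⁻¹ = d * (e * f (eF F r a) * e⁻¹) * d⁻¹ := by group
  rw [h1, he r hr, hd r hr]
  rfl

theorem Fld.mul_gra {d e : G} {φ ψ : F ≃+* F} (hd : Fld f d φ) (he : Gra f e ψ) : Gra f (d * e) (ψ.trans φ) := by
  have h1 : ∀ r a, d * e * f (eF F r a) * (d * e)⁻¹ = d * (e * f (eF F r a) * e⁻¹) * d⁻¹ := by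
    intro r a; group
  refine ⟨fun r hr hB a => ?_, fun r hr hB a => ?_⟩
  · rw [h1, he.1 r hr hB, hd _ (dual_mem r hr)]
    rfl
  · rw [h1, he.2 r hr hB, hd _ (dual_mem r hr), map_pow]
    rfl

theorem Gra.mul_fld {d e : G} {φ ψ : F ≃+* F} (hd : Gra f d φ) (he : Fld f e ψ) : Gra f (d * e) (ψ.trans φ) := by
  have h1 : ∀ r a, d * e * f (eF F r a) * (d * e)⁻¹ = d * (e * f (eF F r a) * e⁻¹) * d⁻¹ := by
    intro r a; group
  refine ⟨fun r hr hB a => ?_, fun r hr hB a => ?_⟩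
  · rw [h1, he r hr, hd.1 r hr hB]
    rfl
  · rw [h1, he r hr, hd.2 r hr hB]
    rfl

theorem Gra.mul [Finite F] [CharP F 2] {d e : G} {φ ψ : F ≃+* F} (hd : Gra f d φ) (he : Gra f e ψ) :
    ∃ χ, Fld f (d * e) χ := by
  obtain ⟨fr, hfr, -⟩ := exists_frob (F := F)
  refine ⟨(ψ.trans φ).trans fr, fun r hr a => ?_⟩
  have h1 : d * e * f (eF F r a) * (d * e)⁻¹ = d * (e * f (eF F r a) * e⁻¹) * d⁻¹ := by group
  have h2 : ((ψ.trans φ).trans fr) a = (φ (ψ a)) ^ 2 := hfr _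
  rw [h1, h2]
  rcases _root_.Cfsg.Agent.OddHalf.D7F4.Model.norm r hr with hB | hB
  · rw [he.2 r hr hB, hd.1 _ (dual_mem r hr) (dn2 r hr hB), dual_dual r hr, map_pow]
  · rw [he.1 r hr hB, hd.2 _ (dual_mem r hr) (dn4 r hr hB), dual_dual r hr]

theorem Acts.mul' [Finite F] [CharP F 2] {d e : G} (hd : Acts f d) (he : Acts f e) : Acts f (d * e) := by
  rw [acts_iff] at *
  rcases hd with ⟨φ, hd⟩ | ⟨φ, hd⟩ <;> rcases he with ⟨ψ, he⟩ | ⟨ψ, he⟩
  · exact Or.inl ⟨_, hd.mul he⟩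
  · exact Or.inr ⟨_, hd.mul_gra he⟩
  · exact Or.inr ⟨_, hd.mul_fld he⟩
  · exact Or.inl (hd.mul he)

theorem acts_pow [Finite F] [CharP F 2] {d : G} (hd : Acts f d) (n : ℕ) : Acts f (d ^ n) := by
  induction n with
  | zero =>
    rw [pow_zero]
    exact Or.inl ⟨_, Fld.one⟩
  | succ n ih =>
    rw [pow_succ]
    exact Acts.mul' ih hd

section

variable [Finite F] [CharP F 2]

theorem e_inj {r : Fin 4 → ℤ} (hr : r ∈ rts) {a b : F} (h : eF F r a = eF F r b) : a = b :=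
  (dat (K := F)).injective ((KBridge.isRoot_iff' c4).2 hr) h

/-- two elements inducing the same automorphism -/
theorem comm_of_fld {d : G} {φ : F ≃+* F} (hd : Fld f d φ) (h : ∀ a, φ a = a) : ∀ y, d * f y = f y * d := by
  let S : Subgroup ↥(chevF4.group F) :=
    { carrier := {y | d * f y = f y * d}
      one_mem' := by show d * f 1 = f 1 * d; rw [map_one, mul_one, one_mul]
      mul_mem' := by
        intro a b (ha : d * f a = f a * d) (hb : d * f b = f b * d)
        show d * f (a * b) = f (a * b) * d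
        rw [map_mul, ← mul_assoc, ha, mul_assoc, hb, mul_assoc]
      inv_mem' := by
        intro a (ha : d * f a = f a * d)
        show d * f a⁻¹ = f a⁻¹ * d
        rw [map_inv]
        have h1 : Commute d (f a) := ha
        exact h1.inv_right.eq }
  have h1 : (⊤ : Subgroup ↥(chevF4.group F)) ≤ S := by
    rw [← G1_eq_top (K := F) isType c4]
    refine RGD.Sup_le fun x hx y hy => ?_
    obtain ⟨a, rfl⟩ := (mem_XF hx).1 hy
    show d * f (eF F x a) = f (eF F x a) * d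
    have h2 := hd x ((KBridge.isRoot_iff' c4).1 hx) a
    rw [h a] at h2
    exact mul_inv_eq_iff_eq_mul.1 h2
  exact fun y => h1 (Subgroup.mem_top y)

end

/-! ### The group `D` -/

/-- `D = {g^n, t g^n}` -/
def DD (t g : G) (tt : t * t = 1) (gt : g * t = t * g) : Subgroup G where
  carrier := {d | ∃ n : ℤ, d = g ^ n ∨ d = t * g ^ n}
  one_mem' := ⟨0, Or.inl (zpow_zero g).symm⟩
  mul_mem' := by
    have hc : ∀ n : ℤ, g ^ n * t = t * g ^ n := fun n => (show Commute g t from gt).zpow_left n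
    rintro a b ⟨m, rfl | rfl⟩ ⟨n, rfl | rfl⟩
    · exact ⟨m + n, Or.inl (zpow_add g m n).symm⟩
    · refine ⟨m + n, Or.inr ?_⟩
      rw [zpow_add, ← mul_assoc, hc, mul_assoc]
    · refine ⟨m + n, Or.inr ?_⟩
      rw [zpow_add, mul_assoc]
    · refine ⟨m + n, Or.inl ?_⟩
      calc t * g ^ m * (t * g ^ n) = t * (g ^ m * t) * g ^ n := by group
        _ = t * (t * g ^ m) * g ^ n := by rw [hc]
        _ = (t * t) * (g ^ m * g ^ n) := by group
        _ = g ^ (m + n) := by rw [tt, one_mul, zpow_add]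
  inv_mem' := by
    have hc : ∀ n : ℤ, g ^ n * t = t * g ^ n := fun n => (show Commute g t from gt).zpow_left n
    have ti : t⁻¹ = t := inv_eq_of_mul_eq_one_left tt
    rintro a ⟨m, rfl | rfl⟩
    · exact ⟨-m, Or.inl (zpow_neg g m).symm⟩
    · refine ⟨-m, Or.inr ?_⟩
      rw [mul_inv_rev, ti, ← zpow_neg, hc]

/-- The frame with its outer 2-part. -/
structure FrO (t : G) (f : ↥(chevF4.group F) →* G) (T : Subgroup G) (g : G) : Prop where
  R : Frame t f
  T2 : IsPGroup 2 T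
  Tc : ∀ d ∈ T, d * t = t * d
  Tmax : ∀ P : Subgroup G, IsPGroup 2 P → T ≤ P → (∀ x ∈ P, x * t = t * x) → P ≤ T
  tT : t ∈ T
  UT : (UK F).map f ≤ T
  TK : ∀ y, f y ∈ T → y ∈ UK F
  nU : ∀ d ∈ T, ∀ x ∈ (UK F).map f, d * x * d⁻¹ ∈ (UK F).map f
  gT : g ∈ T
  acts : Acts f g
  gen : ∀ x ∈ T, ∃ m : ℤ, ∃ u ∈ UK F, x = f u * g ^ m ∨ x = f u * t * g ^ m

variable [Finite F] [CharP F 2]

/-- **Existence.** -/
theorem exists_frO [Finite G] (hF : 2 < Nat.card F) (R : Frame t f) {T : Subgroup G} (T2 : IsPGroup 2 T)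
    (Tc : ∀ d ∈ T, d * t = t * d)
    (Tmax : ∀ P : Subgroup G, IsPGroup 2 P → T ≤ P → (∀ x ∈ P, x * t = t * x) → P ≤ T)
    (UT : (UK F).map f ≤ T) :
    ∃ s ∈ (chevF4.diagonalSubgroup F).subgroupOf (chevF4.group F), ∃ g, FrO t (_root_.Cfsg.Agent.OddHalf.D7F4.Adapted.cf f s) T g ∧
      (UK F).map (cf f s) = (UK F).map f ∧ ∀ r ∈ rts, XG (cf f s) r = XG f r := by
  have ti := R.tinv
  have tT : t ∈ T := by
    have h1 : IsPGroup 2 (Subgroup.zpowers t) := by
      rw [IsPGroup.iff_card]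
      rcases (Nat.dvd_prime Nat.prime_two).1 (orderOf_dvd_of_pow_eq_one (by rw [pow_two]; exact R.tt : t ^ 2 = 1)) with h | h
      · exact ⟨0, by rw [Nat.card_zpowers, h, pow_zero]⟩
      · exact ⟨1, by rw [Nat.card_zpowers, h, pow_one]⟩
    have h2 : IsPGroup 2 (T ⊔ Subgroup.zpowers t : Subgroup G) := by
      refine IsPGroup.to_sup_of_normal_right' T2 h1 ?_
      intro d hd
      have hdt : ∀ n : ℤ, d * t ^ n * d⁻¹ = t ^ n := fun n => by
        rw [((show Commute d t from Tc d hd).zpow_right n).eq, mul_inv_cancel_right]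
      rw [Subgroup.mem_normalizer_iff]
      intro x
      constructor
      · rintro ⟨n, rfl⟩
        exact ⟨n, (hdt n).symm⟩
      · rintro ⟨n, hn⟩
        have hn' : t ^ n = d * x * d⁻¹ := hn
        refine ⟨n, ?_⟩
        show t ^ n = x
        have h3 : x = d⁻¹ * (d * x * d⁻¹) * d := by group
        have h4 : d⁻¹ * t ^ n * d = t ^ n := by
          calc d⁻¹ * t ^ n * d = d⁻¹ * (d * t ^ n * d⁻¹) * d := by rw [hdt]
            _ = t ^ n := by group
        rw [h3, ← hn', h4]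
    refine Tmax _ h2 le_sup_left ?_ (Subgroup.mem_sup_right (Subgroup.mem_zpowers t))
    have h3 : T ⊔ Subgroup.zpowers t ≤ Subgroup.centralizer ({t} : Set G) := by
      rw [sup_le_iff]
      refine ⟨fun x hx => Subgroup.mem_centralizer_singleton_iff.2 (Tc x hx), ?_⟩
      rw [Subgroup.zpowers_le]
      exact Subgroup.mem_centralizer_singleton_iff.2 rfl
    exact fun x hx => Subgroup.mem_centralizer_singleton_iff.1 (h3 hx)
  have TK : ∀ y, f y ∈ T → y ∈ UK F := by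
    intro y hy
    have h1 : IsPGroup 2 (T.comap f) := T2.comap_of_injective f R.inj
    exact (kf0 hF).maxU (T.comap f) h1 (fun u hu => UT ⟨u, hu, rfl⟩) hy
  have nU : ∀ d ∈ T, ∀ x ∈ (UK F).map f, d * x * d⁻¹ ∈ (UK F).map f := by
    rintro d hd _ ⟨u, hu, rfl⟩
    obtain ⟨y', hy'⟩ := R.nK d (Tc d hd) u
    rw [hy']
    refine ⟨y', TK y' ?_, rfl⟩
    rw [← hy']
    exact mul_mem (mul_mem hd (UT ⟨u, hu, rfl⟩)) (inv_mem hd)
  have hSU : T ≤ Subgroup.normalizer (((UK F).map f : Subgroup G) : Set G) := by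
    intro d hd
    rw [Subgroup.mem_normalizer_iff]
    intro x
    refine ⟨fun hx => nU d hd x hx, fun hx => ?_⟩
    have h1 := nU d⁻¹ (inv_mem hd) _ hx
    have h2 : d⁻¹ * (d * x * d⁻¹) * d⁻¹⁻¹ = x := by group
    rwa [h2] at h1
  obtain ⟨s, hs, hR, hU, hX, g, hg, hA, hgen⟩ := exists_gen_frame c4 R T2 Tc hSU UT
  have hU' : (UK F).map (_root_.Cfsg.Agent.OddHalf.D7F4.Adapted.cf f s) = (UK F).map f := hU
  refine ⟨s, hs, g, ⟨hR, T2, Tc, Tmax, tT, ?_, ?_, ?_, hg, hA, hgen⟩, hU', ?_⟩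
  · rw [hU']; exact UT
  · intro y hy
    have h1 : IsPGroup 2 (T.comap (cf f s)) := T2.comap_of_injective (cf f s) hR.inj
    exact (kf0 hF).maxU (T.comap (cf f s)) h1 (fun u hu => by
      show cf f s u ∈ T
      apply UT
      rw [← hU']
      exact ⟨u, hu, rfl⟩) hy
  · rw [hU']; exact nU
  · intro r hr
    exact hX r ((KBridge.isRoot_iff' c4).2 hr)

namespace FrO

variable {T : Subgroup G}

/-- The group `D`. -/
def D (O : FrO t f T g) : Subgroup G := DD t g O.R.tt (O.Tc g O.gT)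

theorem D_le (O : FrO t f T g) : O.D ≤ T := by
  rintro d ⟨n, rfl | rfl⟩
  · exact zpow_mem O.gT n
  · exact mul_mem O.tT (zpow_mem O.gT n)

theorem t_mem_D (O : FrO t f T g) : t ∈ O.D := ⟨0, Or.inr (by rw [zpow_zero, mul_one])⟩

theorem D_comm (O : FrO t f T g) {d e : G} (hd : d ∈ O.D) (he : e ∈ O.D) : d * e = e * d := by
  have gt : Commute g t := O.Tc g O.gT
  have h1 : ∀ n : ℤ, Commute t (g ^ n) := fun n => (gt.zpow_left n).symm
  obtain ⟨m, rfl | rfl⟩ := hd <;> obtain ⟨n, rfl | rfl⟩ := he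
  · exact (Commute.zpow_zpow_self g m n).eq
  · exact ((h1 m).symm.mul_right (Commute.zpow_zpow_self g m n)).eq
  · exact ((h1 n).mul_left (Commute.zpow_zpow_self g m n)).eq
  · exact (((Commute.refl t).mul_right (h1 n)).mul_left ((h1 m).symm.mul_right (Commute.zpow_zpow_self g m n))).eq

variable [Finite G]

/-- Every element of `D` acts in coordinates. -/
theorem acts_D (O : FrO t f T g) {d : G} (hd : d ∈ O.D) : Acts f d := by
  have h1 : ∀ n : ℤ, Acts f (g ^ n) := by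
    intro n
    have h2 : g ^ n ∈ Submonoid.powers g :=
      ((isOfFinOrder_of_finite g).mem_powers_iff_mem_zpowers).2 ⟨n, rfl⟩
    obtain ⟨m, hm⟩ := h2
    have hm' : g ^ m = g ^ n := hm
    rw [← hm']
    exact acts_pow O.acts m
  have ht : Acts f t := Or.inl ⟨_, Fld.of_comm fun y => (O.R.ft y).symm⟩
  obtain ⟨n, rfl | rfl⟩ := hd
  · exact h1 n
  · exact Acts.mul' ht (h1 n)

/-- An element of `D` which commutes with `X_ρ` is `1` or `t`. -/
theorem D_cent (O : FrO t f T g) {d : G} (hd : d ∈ O.D) (h : ∀ x ∈ XG f Lead.ρ, d * x = x * d) : d = 1 ∨ d = t := by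
  have hr := (KBridge.isRoot_iff' c4).2 Lead.ρ_mem
  have h0 : ∀ a, d * f (eF F Lead.ρ a) * d⁻¹ = f (eF F Lead.ρ a) := fun a => by
    rw [h _ ⟨_, e_mem_X hr a, rfl⟩, mul_inv_cancel_right]
  rcases O.acts_D hd with ⟨φ, hφ⟩ | ⟨φ, hφ⟩
  · have h1 : ∀ a, φ a = a := by
      intro a
      have h2 := hφ _ Lead.ρ_mem a
      rw [h0] at h2
      exact (e_inj Lead.ρ_mem (O.R.inj h2)).symm
    exact O.R.cK d (O.Tc d (O.D_le hd)) (comm_of_fld hφ h1)
  · exfalso
    have h1 : B Lead.ρ Lead.ρ = 4 ∧ dual Lead.ρ = Lead.σ := by decide +kernel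
    have h2 := hφ.1 _ Lead.ρ_mem h1.1 1
    rw [h0, map_one, h1.2] at h2
    have h3 := O.R.inj h2
    have h4 : eF F Lead.ρ (1 : F) = 1 := by
      refine KFacts.F4Model.ind Lead.ρ_mem Lead.σ_mem (by decide +kernel) _ (e_mem_X hr 1) ?_
      rw [h3]
      exact e_mem_X ((KBridge.isRoot_iff' c4).2 Lead.σ_mem) 1
    exact (dat (K := F)).ne_one hr one_ne_zero h4

/-- `D ∩ U = 1` -/
theorem disj (O : FrO t f T g) {d : G} (hd : d ∈ O.D) (hU : d ∈ (UK F).map f) : d = 1 := by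
  obtain ⟨u, hu, rfl⟩ := hU
  have h1 : ∀ x ∈ XG f Lead.ρ, f u * x = x * f u := by
    rintro _ ⟨x, hx, rfl⟩
    rw [← map_mul, ← map_mul]
    congr 1
    have e : v 47 = Lead.ρ := by rw [KBridge.vv_eq]; decide +kernel
    rw [← e] at hx
    exact L_comm1 (U_le_L hu) hx
  rcases O.D_cent hd h1 with h2 | h2
  · exact h2
  · exfalso
    refine O.R.not_mem_range (fun z hz => eq_one_of_comm c4 fun x _ a => hz _) u h2

/-- `T = D U` -/
theorem fac (O : FrO t f T g) : ∀ x ∈ T, ∃ d ∈ O.D, ∃ u ∈ (UK F).map f, x = d * u := by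
  intro x hx
  obtain ⟨m, u, hu, h⟩ := O.gen x hx
  have key : ∀ d ∈ O.D, x = f u * d → ∃ d ∈ O.D, ∃ u ∈ (UK F).map f, x = d * u := by
    intro d hd e
    refine ⟨d, hd, d⁻¹ * f u * d⁻¹⁻¹, O.nU _ (inv_mem (O.D_le hd)) _ ⟨u, hu, rfl⟩, ?_⟩
    rw [e]; group
  rcases h with h | h
  · exact key _ ⟨m, Or.inl rfl⟩ h
  · exact key _ ⟨m, Or.inr rfl⟩ (by rw [h, mul_assoc])

/-- `T / U` is abelian. -/
theorem ab (O : FrO t f T g) : ∀ a ∈ T, ∀ b ∈ T, a * b * a⁻¹ * b⁻¹ ∈ (UK F).map f := by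
  intro a ha b hb
  obtain ⟨d, hd, u, hu, rfl⟩ := O.fac a ha
  obtain ⟨e, he, v, hv, rfl⟩ := O.fac b hb
  have hc := O.D_comm hd he
  have n := O.nU
  have hdT := O.D_le hd
  have heT := O.D_le he
  -- `[d u, e v] = (d (u (e (v u⁻¹) e⁻¹)) d⁻¹) [d, e] (e v⁻¹ e⁻¹)`
  have h1 : d * u * (e * v) * (d * u)⁻¹ * (e * v)⁻¹ =
      (d * (u * (e * (v * u⁻¹) * e⁻¹)) * d⁻¹) * (d * e * d⁻¹ * e⁻¹) * (e * v⁻¹ * e⁻¹) := by group
  have h2 : d * e * d⁻¹ * e⁻¹ = 1 := by rw [hc]; group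
  rw [h1, h2, mul_one]
  exact mul_mem (n d hdT _ (mul_mem hu (n e heT _ (mul_mem hv (inv_mem hu))))) (n e heT _ (inv_mem hv))

/-- Involutions of `D` outside `⟨t⟩`. -/
theorem hone (O : FrO t f T g) : ∀ e ∈ O.D, ∀ d ∈ O.D, e * e = 1 → d * d = 1 → e ≠ 1 → e ≠ t → d ≠ 1 → d ≠ t →
    d = e ∨ d = t * e := by
  have tt := O.R.tt
  have gt : Commute g t := O.Tc g O.gT
  have hc : ∀ n : ℤ, g ^ n * t = t * g ^ n := fun n => (gt.zpow_left n).eq
  -- the part in `⟨g⟩`
  have h1 : ∀ e ∈ O.D, e * e = 1 → e ≠ 1 → e ≠ t → ∃ n : ℤ, g ^ n * g ^ n = 1 ∧ g ^ n ≠ 1 ∧ (e = g ^ n ∨ e = t * g ^ n) := by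
    rintro e ⟨n, rfl | rfl⟩ he he1 het
    · exact ⟨n, he, he1, Or.inl rfl⟩
    · refine ⟨n, ?_, fun h => het (by rw [h, mul_one]), Or.inr rfl⟩
      calc g ^ n * g ^ n = (t * t) * (g ^ n * g ^ n) := by rw [tt, one_mul]
        _ = t * (t * g ^ n) * g ^ n := by group
        _ = t * (g ^ n * t) * g ^ n := by rw [hc]
        _ = t * g ^ n * (t * g ^ n) := by group
        _ = 1 := he
  -- at most one involution in `⟨g⟩`
  have h2 : ∀ m n : ℤ, g ^ m * g ^ m = 1 → g ^ m ≠ 1 → g ^ n * g ^ n = 1 → g ^ n ≠ 1 → g ^ m = g ^ n := by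
    intro m n hm hm1 hn hn1
    have key : ∀ x : Subgroup.zpowers g, (x : G) * x = 1 → (x : G) ≠ 1 → orderOf x = 2 := by
      intro x hx hx1
      refine orderOf_eq_prime (Subtype.ext ?_) (fun h => hx1 (congrArg Subtype.val h))
      rw [Subgroup.coe_pow, pow_two]
      exact hx
    have k1 := key ⟨g ^ m, m, rfl⟩ hm hm1
    have k2 := key ⟨g ^ n, n, rfl⟩ hn hn1
    have := Fintype.ofFinite (Subgroup.zpowers g)
    have hcard : (Finset.univ.filter (fun x : Subgroup.zpowers g => orderOf x = 2)).card = 1 := by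
      have h3 := IsCyclic.card_orderOf_eq_totient (α := Subgroup.zpowers g) (d := 2) (by
        rw [← k1]; exact orderOf_dvd_card)
      rw [h3]
      decide
    obtain ⟨z, hz⟩ := Finset.card_eq_one.1 hcard
    have m1 : (⟨g ^ m, m, rfl⟩ : Subgroup.zpowers g) ∈ ({z} : Finset _) := by
      rw [← hz, Finset.mem_filter]; exact ⟨Finset.mem_univ _, k1⟩
    have m2 : (⟨g ^ n, n, rfl⟩ : Subgroup.zpowers g) ∈ ({z} : Finset _) := by
      rw [← hz, Finset.mem_filter]; exact ⟨Finset.mem_univ _, k2⟩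
    rw [Finset.mem_singleton] at m1 m2
    exact congrArg Subtype.val (m1.trans m2.symm)
  intro e he d hd hee hdd he1 het hd1 hdt
  obtain ⟨m, m1, m2, m3⟩ := h1 e he hee he1 het
  obtain ⟨n, n1, n2, n3⟩ := h1 d hd hdd hd1 hdt
  have h3 := h2 m n m1 m2 n1 n2
  rw [← h3] at n3
  rcases m3 with m3 | m3 <;> rcases n3 with n3 | n3
  · left; rw [m3, n3]
  · right; rw [m3, n3]
  · right; rw [m3, n3, ← mul_assoc, tt, one_mul]
  · left; rw [m3, n3]

/-- **(R)** for `T`: an element of `T` commuting with `X_ρ` lies in `⟨t⟩ U`. -/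
theorem hout' (O : FrO t f T g) : ∀ c ∈ T, (∀ x ∈ XG f Lead.ρ, c * x = x * c) →
    c ∈ (UK F).map f ∨ t * c ∈ (UK F).map f := by
  intro c hc h
  obtain ⟨d, hd, u, hu, rfl⟩ := O.fac c hc
  obtain ⟨w, hw, rfl⟩ := hu
  have h1 : ∀ x ∈ XG f Lead.ρ, f w * x = x * f w := by
    rintro _ ⟨x, hx, rfl⟩
    rw [← map_mul, ← map_mul]
    congr 1
    have e : v 47 = Lead.ρ := by rw [KBridge.vv_eq]; decide +kernel
    rw [← e] at hx
    exact L_comm1 (U_le_L hw) hx
  have h2 : ∀ x ∈ XG f Lead.ρ, d * x = x * d := by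
    intro x hx
    have h3 : Commute (d * f w) x := h x hx
    have h4 : Commute (f w) x := h1 x hx
    have h5 := h3.mul_left h4.inv_left
    rw [mul_inv_cancel_right] at h5
    exact h5
  rcases O.D_cent hd h2 with rfl | rfl
  · left; rw [one_mul]; exact ⟨w, hw, rfl⟩
  · right; rw [← mul_assoc, O.R.tt, one_mul]; exact ⟨w, hw, rfl⟩

/-- `U` in the notation of `Lead` and of `OutO`. -/
theorem map_UK (f : ↥(chevF4.group F) →* G) : (UK F).map f = Lead.Ab (XG f) 0 := by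
  have hpos : ∀ x ∈ rts, (0 < lv x ↔ ∀ i, 0 ≤ x i) := by decide +kernel
  apply le_antisymm
  · rw [Subgroup.map_le_iff_le_comap]
    refine RGD.Sup_le fun x hx y hy => ?_
    have h1 := (KBridge.isRoot_iff' c4).1 hx.1
    exact Lead.le_Ab h1 ((hpos x h1).2 hx.2) ⟨y, hy, rfl⟩
  · refine Lead.Ab_le fun b hb hb0 => Subgroup.map_mono (RGD.le_Sup ⟨(KBridge.isRoot_iff' c4).2 hb, (hpos b hb).1 hb0⟩)

theorem hout (O : FrO t f T g) : ∀ c ∈ T, (∀ x ∈ XG f Lead.ρ, c * x = x * c) →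
    c ∈ Lead.Ab (XG f) 0 ∨ t * c ∈ Lead.Ab (XG f) 0 := by
  rw [← map_UK]
  exact O.hout'

/-- **(k2)** -/
theorem k2 (O : FrO t f T g) : ∀ c ∈ T, (∀ z ∈ XG f Lead.ρ ⊔ XG f Lead.σ, c * z = z * c) →
    c ∈ Lead.Ab (XG f) 0 ∨ t * c ∈ Lead.Ab (XG f) 0 :=
  fun c hc h => O.hout c hc fun x hx => h x (Subgroup.mem_sup_left hx)

/-- Elements of `D` outside `⟨t⟩` are outer. -/
theorem outer (O : FrO t f T g) {d : G} (hd : d ∈ O.D) (hd1 : d ≠ 1) (hdt : d ≠ t) : Lead.Outer (XG f) d := by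
  have h3 := (KBridge.isRoot_iff' c4).2 Lead.α3_mem
  have h0 := (KBridge.isRoot_iff' c4).2 Lead.α0_mem
  rcases O.acts_D hd with ⟨φ, hφ⟩ | ⟨φ, hφ⟩
  · left
    obtain ⟨a, ha⟩ : ∃ a, φ a ≠ a := by
      by_contra hcon
      push Not at hcon
      rcases O.R.cK d (O.Tc d (O.D_le hd)) (comm_of_fld hφ hcon) with h | h
      · exact hd1 h
      · exact hdt h
    refine ⟨⟨_, ⟨_, e_mem_X h3 a, rfl⟩, ?_, ?_⟩, _, ⟨_, e_mem_X h0 a, rfl⟩, ?_, ?_⟩
    · rw [hφ _ Lead.α3_mem]; exact ⟨_, e_mem_X h3 _, rfl⟩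
    · rw [hφ _ Lead.α3_mem]; exact fun h => ha (e_inj Lead.α3_mem (O.R.inj h))
    · rw [hφ _ Lead.α0_mem]; exact ⟨_, e_mem_X h0 _, rfl⟩
    · rw [hφ _ Lead.α0_mem]; exact fun h => ha (e_inj Lead.α0_mem (O.R.inj h))
  · right
    have h1 : B Lead.α3 Lead.α3 = 4 ∧ dual Lead.α3 = Lead.α0 := by decide +kernel
    refine ⟨f (eF F Lead.α3 1), ⟨_, e_mem_X h3 1, rfl⟩, fun h => ?_, ?_⟩
    · exact (dat (K := F)).ne_one h3 one_ne_zero (O.R.inj (h.trans (map_one f).symm))
    · rw [hφ.1 _ Lead.α3_mem h1.1, h1.2]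
      exact ⟨_, e_mem_X h0 _, rfl⟩

/-- The frame of `Out.Exclude`. -/
theorem fr (O : FrO t f T g) {Us : Subgroup G} (Us2 : IsPGroup 2 Us) (norm : ∀ d ∈ T, ∀ w ∈ Us, d * w * d⁻¹ ∈ Us)
    (hU : ∀ w, w ∈ (UK F).map f ↔ w ∈ Us ∧ w * t = t * w) : Out.Exclude.Fr t T ((UK F).map f) Us where
  tt := O.R.tt
  T2 := O.T2
  tT := O.tT
  Tc := O.Tc
  Tmax := O.Tmax
  Us2 := Us2
  norm := norm
  UT := O.UT
  hU := hU
  ab := O.ab

end FrO

end Cfsg.Agent.OddHalf.D7F4.FrOut

end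
end

-- part: OddHalf/D7F4Ex/Wsq
section
/-!
# `w ^ 2 = 1` on the doubled root groups of the short roots, `q ≥ 4`

`s = s0`, `s' = s1`, `r = s - s'` short roots; `u ∈ W s'` with `u⁻¹ u ^ t = x_{s'} 1`.
`x_r g` moves `u` to `τ w x_{s'} y u` with `τ ∈ {1, t}`, `w ∈ W s`; `x_r g` is an involution: `y = c0 + τ`;
`x_r (g + h) = x_r g x_r h`: `y` and `τ` are additive in `g`. Hence `c0 = 0`.
-/

set_option autoImplicit false

namespace Cfsg.Agent.OddHalf.D7F4Ex.Wsq

open Cfsg.Agent.OddHalf.D7F4.Model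

/-- the short root `s'` -/
def s1 : Fin 4 → ℤ := ![1, 3, 2, 1]

/-- `r = s0 - s1` -/
def r0 : Fin 4 → ℤ := ![1, 0, 0, 0]

instance (s a : Fin 4 → ℤ) : Decidable (Cs s a) := by unfold Cs; infer_instance

theorem t_s1 : s1 ∈ rts ∧ B s1 s1 = 2 ∧ B s0 s0 = 2 ∧ B s0 s1 = 1 ∧ s0 ≠ s1 := by decide +kernel
theorem t_r0 : r0 ∈ rts ∧ B r0 r0 = B s1 s1 ∧ B r0 s1 < 0 ∧ r0 ≠ -s1 ∧ r0 + s1 = s0 := by decide +kernel
theorem t_cs : Cs s0 r0 ∧ Cs s0 s1 ∧ Cs s1 s0 ∧ Cs s0 s0 ∧ Cs s1 s1 := by decide +kernel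

theorem tab : ∀ a ∈ rts, Cs s0 a → Cs s1 a → 0 ≤ B r0 a ∨
    (B r0 r0 = B a a ∧ B r0 a < 0 ∧ r0 ≠ -a ∧ r0 + a ∈ rts ∧ Cs s1 (r0 + a)) ∨
    (B a a = 4 ∧ B r0 r0 = 2 ∧ B a r0 = -2 ∧ a + r0 ∈ rts ∧ a + r0 + r0 ∈ rts ∧ Cs s1 (a + r0) ∧
      Cs s1 (a + r0 + r0)) := by decide +kernel

variable {F : Type*} [Field F] {G : Type*} [Group G]

/-- `1` or `t` -/
def pw (t : G) (b : Bool) : G := if b then t else 1

theorem pw_mul {t : G} (tt : t * t = 1) (a b : Bool) : pw t a * pw t b = pw t (xor a b) := by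
  cases a <;> cases b <;> simp [pw, tt]

theorem pw_comm {t g : G} (h : t * g = g * t) (b : Bool) : pw t b * g = g * pw t b := by
  cases b
  · show 1 * g = g * 1
    rw [one_mul, mul_one]
  · exact h

section

variable {t : G} {E : (Fin 4 → ℤ) → F → G} {T : (Fin 4 → Fˣ) →* G} {W : (Fin 4 → ℤ) → Subgroup G} {κ c0 : F}
  (D : Dbs t E T W κ c0)

include D

theorem WX {s a : Fin 4 → ℤ} (hs : s ∈ rts) (h2 : B s s = 2) (ha : a ∈ rts) (h : Cs s a) {w : G} (hw : w ∈ W s)
    (u : F) : w * E a u = E a u * w :=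
  (D.dbl s hs h2).WP w hw _ (Subgroup.subset_closure (Or.inl ⟨a, ha, h, u, rfl⟩))

/-- `t` normalises `W s`. -/
theorem Wt {s : Fin 4 → ℤ} (hs : s ∈ rts) (h2 : B s s = 2) {w : G} (hw : w ∈ W s) : t * w * t ∈ W s := by
  have h := mul_mem hw ((D.dbl s hs h2).XW ((D.dbl s hs h2).brk w hw))
  rwa [mul_inv_cancel_left] at h

theorem pwW {s : Fin 4 → ℤ} (hs : s ∈ rts) (h2 : B s s = 2) {w : G} (hw : w ∈ W s) (b : Bool) :
    ∃ w' ∈ W s, w * pw t b = pw t b * w' := by
  cases b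
  · exact ⟨w, hw, by show w * 1 = 1 * w; rw [one_mul, mul_one]⟩
  · refine ⟨t * w * t, Wt D hs h2 hw, ?_⟩
    show w * t = t * (t * w * t)
    rw [mul_assoc t w t, ← mul_assoc t t, D.tt, one_mul]

theorem uniq {b : Bool} {v : G} (hv : v ∈ W s0) {z : F} (h : pw t b * v * E s1 z = 1) : b = false ∧ z = 0 := by
  obtain ⟨m1, b1, b0, -, hne⟩ := t_s1
  obtain ⟨-, c01, -, -, -⟩ := t_cs
  cases b
  · refine ⟨rfl, ?_⟩
    have h1 : v = E s1 z := by
      have : v * E s1 z = 1 := by rw [← h]; show v * E s1 z = 1 * v * E s1 z; rw [one_mul]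
      rw [← D.chart.inv m1 z]
      exact eq_inv_of_mul_eq_one_left this
    have h2 : v ∈ XE E s0 := (D.dbl s0 s0_mem b0).cent v hv (by rw [h1]; exact D.tE _ m1 z)
    obtain ⟨x, hx⟩ := (D.chart.mem_XE s0_mem).1 h2
    exact D.chart.sep _ s0_mem _ m1 hne x z (hx.trans h1)
  · exfalso
    have h1 : t * (v * E s1 z) = 1 := by rw [← mul_assoc]; exact h
    have h2 : t = (v * E s1 z)⁻¹ := eq_inv_of_mul_eq_one_left h1
    obtain ⟨w, hw, hw1⟩ := (D.dbl s0 s0_mem b0).surj (E s0 1) (mem_XE' E s0 1)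
    have h3 : Commute w (v * E s1 z) :=
      Commute.mul_right (D.comm s0 s0_mem b0 w hw v hv) (WX D s0_mem b0 m1 c01 hw z)
    have h4 : Commute w t := by rw [h2]; exact h3.inv_right
    have h5 : E s0 (1 : F) = 1 := by
      rw [← hw1, ← h4.eq, mul_assoc w t t, D.tt, mul_one, inv_mul_cancel]
    exact one_ne_zero (D.chart.inj _ s0_mem _ h5)

theorem uniq2 {b b' : Bool} {v v' : G} (hv : v ∈ W s0) (hv' : v' ∈ W s0) {z z' : F}
    (h : pw t b * v * E s1 z = pw t b' * v' * E s1 z') : b = b' ∧ z = z' := by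
  obtain ⟨m1, b1, b0, -, hne⟩ := t_s1
  obtain ⟨-, c01, -, -, -⟩ := t_cs
  have hp : pw t b' * pw t b' = 1 := by rw [pw_mul D.tt]; cases b' <;> rfl
  have h1 : pw t (xor b' b) * (v * v'⁻¹) * E s1 (z + z') = 1 := by
    have e1 : v'⁻¹ * E s1 z = E s1 z * v'⁻¹ := WX D s0_mem b0 m1 c01 (inv_mem hv') z
    have e2 := WX D s0_mem b0 m1 c01 hv' z'
    calc pw t (xor b' b) * (v * v'⁻¹) * E s1 (z + z')
        = pw t b' * pw t b * v * (v'⁻¹ * E s1 z) * E s1 z' := by
          rw [← pw_mul D.tt, D.chart.add _ m1]; group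
      _ = pw t b' * (pw t b * v * E s1 z) * v'⁻¹ * E s1 z' := by rw [e1]; group
      _ = (pw t b' * pw t b') * (v' * E s1 z') * v'⁻¹ * E s1 z' := by rw [h]; group
      _ = E s1 z' * E s1 z' := by rw [hp, e2]; group
      _ = 1 := D.chart.sq m1 z'
  obtain ⟨h2, h3⟩ := uniq D (mul_mem hv (inv_mem hv')) h1
  refine ⟨?_, ?_⟩
  · cases b <;> cases b' <;> simp_all only [_root_.ne_eq, _root_.bne_self_eq_false, _root_.Bool.bne_false, _root_.Bool.true_eq_false, _root_.Bool.bne_true, _root_.Bool.not_false]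
  · calc z = z + (z' + z') := by rw [D.chart.two, add_zero]
      _ = (z + z') + z' := by ring
      _ = z' := by rw [h3, zero_add]

/-- `x_r g` on `u` -/
theorem stepA (K : K2E t E) {u : G} (hu : u ∈ W s1) (hu2 : u⁻¹ * (t * u * t) = E s1 1) (g : F) :
    ∃ b : Bool, ∃ w ∈ W s0, ∃ y, w⁻¹ * (t * w * t) = E s0 g ∧
      E r0 g * u * (E r0 g)⁻¹ = pw t b * w * E s1 y * u := by
  obtain ⟨m1, b1, b0, b01, hne⟩ := t_s1
  obtain ⟨mr, r1, r2, r3, r4⟩ := t_r0
  obtain ⟨c0r, c01, c10, c00, c11⟩ := t_cs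
  obtain ⟨w, hw, hw1⟩ := (D.dbl s0 s0_mem b0).surj (E s0 g) (mem_XE' E s0 g)
  have hgi := D.chart.inv mr g
  have hgg := D.chart.sq mr g
  -- `t u t`, `t w t`
  have tut : t * u * t = u * E s1 1 := by rw [← hu2, mul_inv_cancel_left]
  have twt : t * w * t = w * E s0 g := by rw [← hw1, mul_inv_cancel_left]
  have tinv : t⁻¹ = t := inv_eq_of_mul_eq_one_left D.tt
  have conj_inv : ∀ x : G, t * x⁻¹ * t = (t * x * t)⁻¹ := fun x => by
    rw [mul_inv_rev, mul_inv_rev, tinv, mul_assoc]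
  have conj_mul : ∀ x y : G, t * (x * y) * t = (t * x * t) * (t * y * t) := fun x y => by
    calc t * (x * y) * t = t * x * 1 * y * t := by group
      _ = t * x * (t * t) * y * t := by rw [D.tt]
      _ = _ := by group
  have tgt : t * E r0 g * t = E r0 g := by rw [D.tE _ mr, mul_assoc, D.tt, mul_one]
  have gs' : E r0 g * E s1 1 * (E r0 g)⁻¹ = E s0 g * E s1 1 := by
    have := D.chart.conj1 mr m1 r1 r2 r3 g 1
    rwa [r4, mul_one] at this
  have uX := WX D m1 b1 s0_mem c10 hu g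
  -- `k`
  have hk1 : t * (E r0 g * u * (E r0 g)⁻¹ * u⁻¹ * w⁻¹) * t = E r0 g * u * (E r0 g)⁻¹ * u⁻¹ * w⁻¹ := by
    rw [conj_mul, conj_mul, conj_mul, conj_mul, conj_inv w, conj_inv u, conj_inv (E r0 g), tgt, tut, twt]
    calc E r0 g * (u * E s1 1) * (E r0 g)⁻¹ * (u * E s1 1)⁻¹ * (w * E s0 g)⁻¹
        = E r0 g * u * (E r0 g)⁻¹ * (E r0 g * E s1 1 * (E r0 g)⁻¹) * (E s1 1)⁻¹ * u⁻¹ * (E s0 g)⁻¹ * w⁻¹ := by
          group
      _ = E r0 g * u * (E r0 g)⁻¹ * (u⁻¹ * (u * E s0 g)) * u⁻¹ * (E s0 g)⁻¹ * w⁻¹ := by rw [gs']; group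
      _ = E r0 g * u * (E r0 g)⁻¹ * (u⁻¹ * (E s0 g * u)) * u⁻¹ * (E s0 g)⁻¹ * w⁻¹ := by rw [uX]
      _ = _ := by group
  have hk2 : E r0 g * u * (E r0 g)⁻¹ * u⁻¹ * w⁻¹ * t = t * (E r0 g * u * (E r0 g)⁻¹ * u⁻¹ * w⁻¹) := by
    generalize E r0 g * u * (E r0 g)⁻¹ * u⁻¹ * w⁻¹ = k at hk1
    calc k * t = (t * t) * (k * t) := by rw [D.tt, one_mul]
      _ = t * (t * k * t) := by group
      _ = t * k := by rw [hk1]
  have hUc : ∀ a ∈ rts, Cs s0 a → Cs s1 a → ∀ v, Commute (E r0 g * u * (E r0 g)⁻¹) (E a v) := by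
    intro a ha h0 h1 v
    have key : Commute u (E r0 g * E a v * (E r0 g)⁻¹) := by
      rcases tab a ha h0 h1 with h | ⟨h2, h3, h4, h5, h6⟩ | ⟨h2, h3, h4, h5, h6, h7, h8⟩
      · rw [D.chart.c0 _ mr _ ha h g v, mul_inv_cancel_right]
        exact WX D m1 b1 ha h1 hu v
      · rw [D.chart.conj1 mr ha h2 h3 h4]
        exact Commute.mul_right (WX D m1 b1 h5 h6 hu _) (WX D m1 b1 ha h1 hu v)
      · rw [D.chart.conj2' ha mr h2 h3 h4]
        exact Commute.mul_right (Commute.mul_right (WX D m1 b1 h5 h7 hu _) (WX D m1 b1 h6 h8 hu _))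
          (WX D m1 b1 ha h1 hu v)
    have e1 : E r0 g * (E r0 g * E a v * (E r0 g)⁻¹) * (E r0 g)⁻¹ = E a v := by
      rw [hgi]
      calc E r0 g * (E r0 g * E a v * E r0 g) * E r0 g = (E r0 g * E r0 g) * E a v * (E r0 g * E r0 g) := by group
        _ = E a v := by rw [hgg, one_mul, mul_one]
    have h3 := (Commute.conj_iff (E r0 g)).2 key
    rwa [e1] at h3
  obtain ⟨x, y, hxy⟩ := K s0 s0_mem s1 m1 b0 b1 b01 _ hk2 (by
    intro a ha h0 h1 v
    have h2 := hUc a ha h0 h1 v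
    have h3 : Commute u (E a v) := WX D m1 b1 ha h1 hu v
    have h4 : Commute w (E a v) := WX D s0_mem b0 ha h0 hw v
    exact ((h2.mul_left h3.inv_left).mul_left h4.inv_left).eq)
  have hw' : E s0 x * w ∈ W s0 := mul_mem ((D.dbl s0 s0_mem b0).XW (mem_XE' E s0 x)) hw
  have hw'' : (E s0 x * w)⁻¹ * (t * (E s0 x * w) * t) = E s0 g := by
    rw [conj_mul, D.tE _ s0_mem, mul_assoc (E s0 x) t t, D.tt, mul_one, mul_inv_rev, twt]
    group
  have e3 : ∀ y, w * E s1 y = E s1 y * w := WX D s0_mem b0 m1 c01 hw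
  have e2 : E r0 g * u * (E r0 g)⁻¹ = (E r0 g * u * (E r0 g)⁻¹ * u⁻¹ * w⁻¹) * w * u := by group
  rcases hxy with h | h
  · refine ⟨false, E s0 x * w, hw', y, hw'', ?_⟩
    rw [e2, h]
    show _ = 1 * (E s0 x * w) * E s1 y * u
    rw [mul_assoc (E s0 x) (E s1 y) w, ← e3]
    group
  · refine ⟨true, E s0 x * w, hw', y, hw'', ?_⟩
    rw [e2, h]
    show _ = t * (E s0 x * w) * E s1 y * u
    rw [mul_assoc t, mul_assoc (E s0 x) (E s1 y) w, ← e3]
    group

/-- `x_r g` is an involution. -/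
theorem stepB {u : G} {g y : F} {b : Bool} {w : G} (hg : g ≠ 0) (hw : w ∈ W s0)
    (hw1 : w⁻¹ * (t * w * t) = E s0 g) (h : E r0 g * u * (E r0 g)⁻¹ = pw t b * w * E s1 y * u) :
    y = c0 + (if b then 1 else 0) := by
  obtain ⟨m1, b1, b0, b01, hne⟩ := t_s1
  obtain ⟨mr, r1, r2, r3, r4⟩ := t_r0
  obtain ⟨c0r, c01, c10, c00, c11⟩ := t_cs
  have hgi := D.chart.inv mr g
  have hgg := D.chart.sq mr g
  have twt : t * w * t = w * E s0 g := by rw [← hw1, mul_inv_cancel_left]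
  have gs' : E r0 g * E s1 y = E s0 (g * y) * E s1 y * E r0 g := by
    have := D.chart.conj1 mr m1 r1 r2 r3 g y
    rw [r4] at this
    rw [← this]; group
  have gw : E r0 g * w = w * E r0 g := (WX D s0_mem b0 mr c0r hw g).symm
  have gt : E r0 g * pw t b = pw t b * E r0 g := (pw_comm (D.tE _ mr g) b).symm
  have x0w : E s0 (g * y) * w = w * E s0 (g * y) := (WX D s0_mem b0 s0_mem c00 hw _).symm
  have x1w : E s1 y * w = w * E s1 y := (WX D s0_mem b0 m1 c01 hw _).symm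
  have x1t : E s1 y * pw t b = pw t b * E s1 y := (pw_comm (D.tE _ m1 y) b).symm
  have x0t : E s0 (g * y) * pw t b = pw t b * E s0 (g * y) := (pw_comm (D.tE _ s0_mem _) b).symm
  have e1 : u = pw t b * w * E s0 (g * y) * E s1 y * (pw t b * w * E s1 y * u) := by
    calc u = (E r0 g * E r0 g) * u * (E r0 g * E r0 g)⁻¹ := by rw [hgg]; group
      _ = E r0 g * (E r0 g * u * (E r0 g)⁻¹) * (E r0 g)⁻¹ := by group
      _ = (E r0 g * pw t b) * w * E s1 y * u * (E r0 g)⁻¹ := by rw [h]; group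
      _ = pw t b * (E r0 g * w) * E s1 y * u * (E r0 g)⁻¹ := by rw [gt]; group
      _ = pw t b * w * (E r0 g * E s1 y) * u * (E r0 g)⁻¹ := by rw [gw]; group
      _ = pw t b * w * E s0 (g * y) * E s1 y * (E r0 g * u * (E r0 g)⁻¹) := by rw [gs']; group
      _ = _ := by rw [h]
  have e2 : pw t b * w * pw t b * w * E s0 (g * y) = 1 := by
    have e3 : pw t b * w * E s0 (g * y) * E s1 y * (pw t b * w * E s1 y) = 1 := by
      have := mul_right_cancel (b := u) (a := (1 : G)) (c := pw t b * w * E s0 (g * y) * E s1 y * (pw t b * w * E s1 y))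
        (by rw [one_mul]; rw [mul_assoc _ _ u]; exact e1)
      exact this.symm
    calc pw t b * w * pw t b * w * E s0 (g * y)
        = pw t b * w * pw t b * (E s0 (g * y) * w) := by rw [x0w]; group
      _ = pw t b * w * (E s0 (g * y) * pw t b) * w := by rw [x0t]; group
      _ = pw t b * w * E s0 (g * y) * pw t b * w * (E s1 y * E s1 y) := by rw [D.chart.sq m1, mul_one]; group
      _ = pw t b * w * E s0 (g * y) * pw t b * (E s1 y * w) * E s1 y := by rw [x1w]; group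
      _ = pw t b * w * E s0 (g * y) * (E s1 y * pw t b) * w * E s1 y := by rw [x1t]; group
      _ = 1 := by rw [← e3]; group
  have hsq := D.sq s0 s0_mem b0 w hw g hw1
  cases b
  · have e4 : E s0 (c0 * g + g * y) = 1 := by
      rw [D.chart.add _ s0_mem, ← hsq, ← e2]
      show _ = 1 * w * 1 * w * E s0 (g * y)
      group
    have e5 := D.chart.inj _ s0_mem _ e4
    have e6 : g * (c0 + y) = 0 := by rw [← e5]; ring
    have e7 := (mul_eq_zero.1 e6).resolve_left hg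
    show y = c0 + 0
    calc y = (c0 + c0) + y := by rw [D.chart.two, zero_add]
      _ = c0 + (c0 + y) := by ring
      _ = c0 + 0 := by rw [e7]
  · have e4 : E s0 (c0 * g + g + g * y) = 1 := by
      rw [D.chart.add _ s0_mem, D.chart.add _ s0_mem, ← hsq, ← e2]
      show _ = t * w * t * w * E s0 (g * y)
      rw [twt, mul_assoc w (E s0 g) w, ← WX D s0_mem b0 s0_mem c00 hw g]
      group
    have e5 := D.chart.inj _ s0_mem _ e4
    have e6 : g * (c0 + 1 + y) = 0 := by rw [← e5]; ring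
    have e7 := (mul_eq_zero.1 e6).resolve_left hg
    show y = c0 + 1
    calc y = ((c0 + 1) + (c0 + 1)) + y := by rw [D.chart.two, zero_add]
      _ = (c0 + 1) + (c0 + 1 + y) := by ring
      _ = c0 + 1 := by rw [e7, add_zero]

/-- `x_r (g + h) = x_r g x_r h` -/
theorem stepC {u : G} {g h y1 y2 y3 : F} {b1 b2 b3 : Bool} {w1 w2 w3 : G} (hw1 : w1 ∈ W s0) (hw2 : w2 ∈ W s0)
    (hw3 : w3 ∈ W s0) (h1 : E r0 g * u * (E r0 g)⁻¹ = pw t b1 * w1 * E s1 y1 * u)
    (h2 : E r0 h * u * (E r0 h)⁻¹ = pw t b2 * w2 * E s1 y2 * u)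
    (h3 : E r0 (g + h) * u * (E r0 (g + h))⁻¹ = pw t b3 * w3 * E s1 y3 * u) :
    xor b1 b2 = b3 ∧ y1 + y2 = y3 := by
  obtain ⟨m1, bb1, b0, b01, hne⟩ := t_s1
  obtain ⟨mr, r1, r2, r3, r4⟩ := t_r0
  obtain ⟨c0r, c01, c10, c00, c11⟩ := t_cs
  have gs' : E r0 h * E s1 y1 = E s0 (h * y1) * E s1 y1 * E r0 h := by
    have := D.chart.conj1 mr m1 r1 r2 r3 h y1
    rw [r4] at this
    rw [← this]; group
  have gw : E r0 h * w1 = w1 * E r0 h := (WX D s0_mem b0 mr c0r hw1 h).symm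
  have gt : E r0 h * pw t b1 = pw t b1 * E r0 h := (pw_comm (D.tE _ mr h) b1).symm
  have x1w : E s1 y1 * w2 = w2 * E s1 y1 := (WX D s0_mem b0 m1 c01 hw2 _).symm
  have x1t : E s1 y1 * pw t b2 = pw t b2 * E s1 y1 := (pw_comm (D.tE _ m1 y1) b2).symm
  have x0t : E s0 (h * y1) * pw t b2 = pw t b2 * E s0 (h * y1) := (pw_comm (D.tE _ s0_mem _) b2).symm
  obtain ⟨w1', hw1', e0⟩ := pwW D s0_mem b0 hw1 b2
  have e1 : pw t b3 * w3 * E s1 y3 * u = pw t (xor b1 b2) * (w1' * E s0 (h * y1) * w2) * E s1 (y1 + y2) * u := by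
    calc pw t b3 * w3 * E s1 y3 * u = E r0 (h + g) * u * (E r0 (h + g))⁻¹ := by rw [← h3, add_comm]
      _ = E r0 h * (E r0 g * u * (E r0 g)⁻¹) * (E r0 h)⁻¹ := by rw [D.chart.add _ mr]; group
      _ = (E r0 h * pw t b1) * w1 * E s1 y1 * u * (E r0 h)⁻¹ := by rw [h1]; group
      _ = pw t b1 * (E r0 h * w1) * E s1 y1 * u * (E r0 h)⁻¹ := by rw [gt]; group
      _ = pw t b1 * w1 * (E r0 h * E s1 y1) * u * (E r0 h)⁻¹ := by rw [gw]; group
      _ = pw t b1 * w1 * E s0 (h * y1) * E s1 y1 * (E r0 h * u * (E r0 h)⁻¹) := by rw [gs']; group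
      _ = pw t b1 * w1 * E s0 (h * y1) * (E s1 y1 * pw t b2) * w2 * E s1 y2 * u := by rw [h2]; group
      _ = pw t b1 * w1 * (E s0 (h * y1) * pw t b2) * (E s1 y1 * w2) * E s1 y2 * u := by rw [x1t]; group
      _ = pw t b1 * (w1 * pw t b2) * E s0 (h * y1) * w2 * (E s1 y1 * E s1 y2) * u := by rw [x0t, x1w]; group
      _ = (pw t b1 * pw t b2) * (w1' * E s0 (h * y1) * w2) * E s1 (y1 + y2) * u := by
        rw [e0, D.chart.add _ m1]; group
      _ = _ := by rw [pw_mul D.tt]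
  have e2 := mul_right_cancel e1
  obtain ⟨e3, e4⟩ := uniq2 D hw3 (mul_mem (mul_mem hw1' ((D.dbl s0 s0_mem b0).XW (mem_XE' E s0 _))) hw2) e2
  exact ⟨e3.symm, e4.symm⟩

theorem c0_zero (K : K2E t E) : c0 = 0 := by
  obtain ⟨m1, b1, b0, b01, hne⟩ := t_s1
  obtain ⟨u, hu, hu2⟩ := (D.dbl s1 m1 b1).surj (E s1 1) (mem_XE' E s1 1)
  obtain ⟨μ, hμ⟩ := D.chart.big
  have hμ0 : (μ : F) ≠ 0 := μ.ne_zero
  have hμ1 : (1 : F) + μ ≠ 0 := by
    intro h
    apply hμ
    apply Units.ext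
    calc (μ : F) = (1 + 1) + μ := by rw [D.chart.two, zero_add]
      _ = 1 + (1 + μ) := by ring
      _ = 1 := by rw [h, add_zero]
  obtain ⟨b1, w1, hw1, y1, hd1, h1⟩ := stepA D K hu hu2 1
  obtain ⟨b2, w2, hw2, y2, hd2, h2⟩ := stepA D K hu hu2 (μ : F)
  obtain ⟨b3, w3, hw3, y3, hd3, h3⟩ := stepA D K hu hu2 (1 + (μ : F))
  have a1 := stepB D one_ne_zero hw1 hd1 h1
  have a2 := stepB D hμ0 hw2 hd2 h2
  have a3 := stepB D hμ1 hw3 hd3 h3
  obtain ⟨e1, e2⟩ := stepC D hw1 hw2 hw3 h1 h2 h3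
  rw [a1, a2, a3, ← e1] at e2
  have two := D.chart.two
  have k1 := two 1
  have k2 := two c0
  have k3 : c0 = (c0 + c0) + c0 := by rw [k2, zero_add]
  cases b1 <;> cases b2
  · show c0 = 0
    have e3 : (c0 + 0) + (c0 + 0) = c0 + 0 := e2
    rw [add_zero, k2] at e3
    exact e3.symm
  · have e3 : (c0 + 0) + (c0 + 1) = c0 + 1 := e2
    linear_combination e3
  · have e3 : (c0 + 1) + (c0 + 0) = c0 + 1 := e2
    linear_combination e3
  · have e3 : (c0 + 1) + (c0 + 1) = c0 + 0 := e2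
    rw [two, add_zero] at e3
    exact e3.symm

end

end Cfsg.Agent.OddHalf.D7F4Ex.Wsq

namespace Cfsg.Agent.OddHalf.D7F4Ex

open Cfsg.Agent.OddHalf.D7F4.Model

variable {F : Type*} [Field F] {G : Type*} [Group G] {t : G} {E : (Fin 4 → ℤ) → F → G}
  {T : (Fin 4 → Fˣ) →* G} {W : (Fin 4 → ℤ) → Subgroup G} {κ c0 : F}

/-- `w ^ 2 = x_s (c0 a)` with `c0 = 0`. -/
theorem Dbs.c0_eq (D : Dbs t E T W κ c0) (K : K2E t E) : c0 = 0 := Wsq.c0_zero D K

/-- **The doubled root groups of the short roots have exponent two.** -/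
theorem Dbs.sq_one (D : Dbs t E T W κ c0) (K : K2E t E) : ∀ s ∈ rts, B s s = 2 → ∀ w ∈ W s, w * w = 1 := by
  intro s hs h2 w hw
  obtain ⟨a, ha⟩ := (D.chart.mem_XE hs).1 ((D.dbl s hs h2).brk w hw)
  rw [D.sq s hs h2 w hw a ha.symm, D.c0_eq K, zero_mul, D.chart.zero hs]

end Cfsg.Agent.OddHalf.D7F4Ex
end

-- part: OddHalf/D7F4/RowOne
section
/-!
# K = F₄(q), q ≥ 4 even: exactly one of the two lengths is moved (S1765, node D7)

`O : FrO t f T g`, `D : Dbs ..` the doubled root groups of the moved length, the other length is not moved: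
`t ∉ [G, G]` (`row_short`, `row_long`).

* `moved_conj`, `gra_moved` : no element of `C(t)` acts as a graph automorphism;
* `nm_long`, `nm_short` : no root group of the length which is not moved is moved;
* `eqv_fld` : an element of `C(t)` acting as a field automorphism normalises the doubled root groups;
* `k2e_short`, `k2e_long`, `ws`, `wl` : the structures `WS`, `WL`.
-/

set_option autoImplicit false
set_option Elab.async false
set_option linter.unusedSectionVars false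

namespace Cfsg.Agent.OddHalf.D7F4.RowOne

open Subgroup Cfsg.Lie
open Cfsg.Agent.ChevalleyStructure Cfsg.Agent.ChevalleyStructure.Elts
open Cfsg.Agent.KFacts.ChevTwoTab Cfsg.Agent.KFacts.ChevTwoInst Cfsg.Agent.KFacts.F4Pair
  Cfsg.Agent.KFacts.F4Torus Cfsg.Agent.KFacts.F4Cent
open Cfsg.Agent.OddHalf.D7F4 Cfsg.Agent.OddHalf.D7F4.Model Cfsg.Agent.OddHalf.D7F4.FrOut
  Cfsg.Agent.OddHalf.D7F4.Fusion Cfsg.Agent.OddHalf.D7F4.Adapted Cfsg.Agent.OddHalf.D7F4.KFront
  Cfsg.Agent.OddHalf.D7F4Ex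

universe u

/-! ### Groups -/

section Grp

variable {G : Type*} [Group G]

theorem moved_conj {t d : G} {X Y : Subgroup G} (hd : d * t = t * d) (h1 : ∀ x ∈ X, d * x * d⁻¹ ∈ Y)
    (h2 : ∀ y ∈ Y, d⁻¹ * y * d ∈ X) (h : Moved t X) : Moved t Y := by
  obtain ⟨n, a1, a2, a3, a4⟩ := h
  have e1 : d⁻¹ * t * d = t := by rw [mul_assoc, ← hd, inv_mul_cancel_left]
  refine ⟨d * n * d⁻¹, ?_, ?_, ?_, ?_⟩
  · intro y hy
    have h3 := h1 _ (a1 _ (h2 y hy))
    have e : d * (n * (d⁻¹ * y * d) * n⁻¹) * d⁻¹ = d * n * d⁻¹ * y * (d * n * d⁻¹)⁻¹ := by group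
    rwa [e] at h3
  · intro y hy
    have h3 := h1 _ (a2 _ (h2 y hy))
    have e : d * (n⁻¹ * (d⁻¹ * y * d) * n) * d⁻¹ = (d * n * d⁻¹)⁻¹ * y * (d * n * d⁻¹) := by group
    rwa [e] at h3
  · have h3 := h1 _ a3
    have e : d * (t * (n * t * n⁻¹)) * d⁻¹ = t * (d * n * d⁻¹ * t * (d * n * d⁻¹)⁻¹) := by
      calc d * (t * (n * t * n⁻¹)) * d⁻¹ = (d * t) * (n * t * n⁻¹) * d⁻¹ := by group
        _ = t * (d * n * t * n⁻¹ * d⁻¹) := by rw [hd]; group
        _ = t * (d * n * (d⁻¹ * t * d) * n⁻¹ * d⁻¹) := by rw [e1]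
        _ = _ := by group
    rwa [e] at h3
  · intro h3
    apply a4
    calc n * t * n⁻¹ = n * (d⁻¹ * t * d) * n⁻¹ := by rw [e1]
      _ = d⁻¹ * (d * n * d⁻¹ * t * (d * n * d⁻¹)⁻¹) * d := by group
      _ = d⁻¹ * t * d := by rw [h3]
      _ = t := e1

theorem conj_closure {S : Set G} {k : G} (h1 : ∀ x ∈ S, k * x * k⁻¹ ∈ S) (h2 : ∀ x ∈ S, k⁻¹ * x * k ∈ S) (x : G) :
    x ∈ _root_.Subgroup.closure S ↔ k * x * k⁻¹ ∈ closure S := by
  have key : ∀ k : G, (∀ x ∈ S, k * x * k⁻¹ ∈ S) → ∀ x ∈ closure S, k * x * k⁻¹ ∈ closure S := by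
    intro k h x hx
    have h3 : closure S ≤ (closure S).comap (MulAut.conj k).toMonoidHom := by
      rw [closure_le]
      intro y hy
      exact _root_.Subgroup.subset_closure (h y hy)
    exact h3 hx
  constructor
  · exact key k h1 x
  · intro h
    have h3 := key k⁻¹ (by rw [inv_inv]; exact h2) _ h
    have e : k⁻¹ * (k * x * k⁻¹) * k⁻¹⁻¹ = x := by group
    rwa [e] at h3

end Grp

variable {G : Type*} [Group G] {F : Type u} [Field F] {f : ↥(chevF4.group F) →* G} {t g : G}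

/-! ### Moved root groups -/

section Moved

variable [Finite F] [CharP F 2]

/-- A graph automorphism interchanges the moved lengths. -/
theorem gra_moved {d : G} {φ : F ≃+* F} (hd : d * t = t * d) (h : Gra f d φ) :
    Moved t (XG f Lead.ρ) ↔ Moved t (XG f Lead.σ) := by
  have tab : B Lead.ρ Lead.ρ = 4 ∧ dual Lead.ρ = Lead.σ := by decide +kernel
  have h1 : ∀ x ∈ XG f Lead.ρ, d * x * d⁻¹ ∈ XG f Lead.σ := by
    intro x hx
    obtain ⟨u, rfl⟩ := (mem_XG Lead.ρ_mem).1 hx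
    rw [h.1 _ Lead.ρ_mem tab.1, tab.2]
    exact (mem_XG Lead.σ_mem).2 ⟨_, rfl⟩
  have h2 : ∀ y ∈ XG f Lead.σ, d⁻¹ * y * d ∈ XG f Lead.ρ := by
    intro y hy
    obtain ⟨u, rfl⟩ := (mem_XG Lead.σ_mem).1 hy
    have h3 := h.1 _ Lead.ρ_mem tab.1 (φ.symm u)
    rw [tab.2, RingEquiv.apply_symm_apply] at h3
    rw [← h3]
    have e : d⁻¹ * (d * f (eF F Lead.ρ (φ.symm u)) * d⁻¹) * d = f (eF F Lead.ρ (φ.symm u)) := by group
    rw [e]
    exact (mem_XG Lead.ρ_mem).2 ⟨_, rfl⟩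
  refine ⟨moved_conj hd h1 h2, moved_conj (d := d⁻¹) ?_ (by rw [inv_inv]; exact h2) (by rw [inv_inv]; exact h1)⟩
  rw [inv_mul_eq_iff_eq_mul, ← mul_assoc, hd, mul_inv_cancel_right]

private theorem t_of {n : ℤ} {r₀ : Fin 4 → ℤ} (h₀ : r₀ ∈ rts) (W : List (ℕ × ℕ)) (hl : rts.length ≤ W.length)
    (h : ∀ p ∈ rts.zip W, B p.1 p.1 = n → rfl' (rts.getD p.2.2 r₀) p.1 ∈ rts ∧
      rfl' (rts.getD p.2.1 r₀) (rfl' (rts.getD p.2.2 r₀) p.1) = r₀) :
    ∀ r ∈ rts, B r r = n → ∃ a ∈ rts, ∃ b ∈ rts, rfl' b r ∈ rts ∧ rfl' a (rfl' b r) = r₀ := by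
  have h1 : ∀ i, rts.getD i r₀ ∈ rts := fun i => by
    rcases Nat.lt_or_ge i rts.length with hi | hi
    · rw [List.getD_eq_getElem _ _ hi]
      exact List.getElem_mem hi
    · rwa [List.getD_eq_default _ _ hi]
  intro r hr hn
  rw [← List.map_fst_zip hl] at hr
  obtain ⟨p, hp, rfl⟩ := List.mem_map.1 hr
  exact ⟨_, h1 _, _, h1 _, h p hp hn⟩

private noncomputable def _root_.Cfsg.Agent.LsF.f9092b3_8 : {f // @Cfsg.Agent.OddHalf.D7F4Ex.rfl' = f} := ⟨_, by first | (delta Cfsg.Agent.OddHalf.D7F4Ex.rfl'; rewrite [Cfsg.Agent.LsF.f9092b3_1.2, Cfsg.Agent.LsF.imul_pat, Cfsg.Agent.LsF.instISub_eq]; exact rfl) | exact rfl⟩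
attribute [local instance high] KInst.dec4 in
theorem t_long : ∀ r ∈ rts, B r r = 4 → ∃ a ∈ rts, ∃ b ∈ rts, rfl' b r ∈ rts ∧ rfl' a (rfl' b r) = Lead.ρ :=
  t_of Lead.ρ_mem [(6, 0), (1, 0), (2, 0), (0, 0), (4, 0), (5, 0), (3, 0), (0, 0), (0, 0), (0, 0), (0, 0), (0, 0), (0, 0), (0, 0), (0, 0), (15, 0),
    (16, 0), (7, 0), (0, 0), (0, 0), (0, 0), (21, 0), (8, 0), (23, 0), (6, 1), (9, 0), (2, 1), (0, 0), (0, 0), (0, 0), (11, 0), (4, 1),
    (3, 1), (0, 0), (0, 0), (0, 0), (0, 0), (0, 0), (0, 0), (0, 0), (0, 0), (18, 0), (15, 1), (7, 1), (0, 0), (8, 1), (9, 2), (0, 0)] (by decide) (by (refine of_decide_eq_true ?_; (try (rewrite [Cfsg.Agent.LsF.f9092b3_0.2, Cfsg.Agent.LsF.f9092b3_1.2, Cfsg.Agent.LsF.f9092b3_8.2, Cfsg.Agent.LsF.f9092b3_4.2, Cfsg.Agent.LsF.f9092b3_2.2, Cfsg.Agent.LsF.zip_eq, Cfsg.Agent.LsF.getD_eq, Cfsg.Agent.LsF.instIDecEq_eq, Cfsg.Agent.LsF.dAnd_eq, Cfsg.Agent.LsF.dBAll_eq, Cfsg.Agent.LsF.dMem_eq, Cfsg.Agent.LsF.decide_eq]));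 decide +kernel))

attribute [local instance high] KInst.dec4 in
theorem t_short : ∀ r ∈ rts, B r r = 2 → ∃ a ∈ rts, ∃ b ∈ rts, rfl' b r ∈ rts ∧ rfl' a (rfl' b r) = Lead.σ :=
  t_of Lead.σ_mem [(0, 0), (0, 0), (0, 0), (6, 0), (0, 0), (0, 0), (0, 0), (10, 0), (12, 0), (13, 0), (13, 1), (14, 0), (14, 1), (14, 2), (14, 3),
    (0, 0), (0, 0), (0, 0), (15, 0), (1, 0), (2, 0), (0, 0), (0, 0), (0, 0), (0, 0), (0, 0), (0, 0), (4, 0), (5, 0), (3, 0), (0, 0),
    (0, 0), (0, 0), (7, 0), (8, 0), (9, 0), (10, 1), (11, 0), (12, 1), (13, 2), (14, 4), (0, 0), (0, 0), (0, 0), (0, 0), (0, 0),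
    (0, 0), (0, 0)] (by decide) (by (refine of_decide_eq_true ?_; (try (rewrite [Cfsg.Agent.LsF.f9092b3_0.2, Cfsg.Agent.LsF.f9092b3_1.2, Cfsg.Agent.LsF.f9092b3_8.2, Cfsg.Agent.LsF.f9092b3_5.2, Cfsg.Agent.LsF.f9092b3_2.2, Cfsg.Agent.LsF.zip_eq, Cfsg.Agent.LsF.getD_eq, Cfsg.Agent.LsF.instIDecEq_eq, Cfsg.Agent.LsF.dAnd_eq, Cfsg.Agent.LsF.dBAll_eq, Cfsg.Agent.LsF.dMem_eq, Cfsg.Agent.LsF.decide_eq])); decide +kernel))

theorem nm_of (hq : ∃ μ : Fˣ, μ ≠ 1) (R : Frame t f) {r r₀ : Fin 4 → ℤ} (hr : r ∈ rts) (hr₀ : r₀ ∈ rts)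
    (h : ∃ a ∈ rts, ∃ b ∈ rts, rfl' b r ∈ rts ∧ rfl' a (rfl' b r) = r₀)
    (hNM : ∀ g : G, ∀ x ∈ XG f r₀, g⁻¹ * t * g = t * x → x = 1) :
    ∀ x ∈ XG f r, ∀ g : G, g⁻¹ * t * g = t * x → x = 1 := by
  intro x hx g hg
  obtain ⟨a, ha, b, hb, hm, h0⟩ := h
  obtain ⟨u, rfl⟩ := (mem_XG hr).1 hx
  have C := chartY (F := F) hq
  obtain ⟨n, hn⟩ : ∃ n : ↥(chevF4.group F), n = nE (eF F) a * nE (eF F) b := ⟨_, rfl⟩
  have e1 : n * eF F r u * n⁻¹ = eF F r₀ u := by
    have e0 : nE (eF F) a * nE (eF F) b * eF F r u * (nE (eF F) a * nE (eF F) b)⁻¹ =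
        nE (eF F) a * (nE (eF F) b * eF F r u * (nE (eF F) b)⁻¹) * (nE (eF F) a)⁻¹ := by group
    rw [hn, e0, C.nrf b hb r hr, C.nrf a ha _ hm, h0]
  have e2 : f n * f (eF F r u) * (f n)⁻¹ = f (eF F r₀ u) := by rw [← e1, map_mul, map_mul, map_inv]
  have h1 := hNM (g * (f n)⁻¹) _ ((mem_XG hr₀).2 ⟨u, rfl⟩) (by
    rw [← e2]
    calc (g * (f n)⁻¹)⁻¹ * t * (g * (f n)⁻¹) = f n * (g⁻¹ * t * g) * (f n)⁻¹ := by group
      _ = (f n * t) * f (eF F r u) * (f n)⁻¹ := by rw [hg]; group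
      _ = _ := by rw [R.ft]; group)
  rw [← e2] at h1
  calc f (eF F r u) = (f n)⁻¹ * (f n * f (eF F r u) * (f n)⁻¹) * f n := by group
    _ = 1 := by rw [h1]; group

theorem v47 : v 47 = Lead.ρ := by rw [KBridge.vv_eq]; decide +kernel
theorem v44 : v 44 = Lead.σ := by rw [KBridge.vv_eq]; decide +kernel

theorem exists_unit (hF : 2 < Nat.card F) : ∃ μ : Fˣ, μ ≠ 1 := by
  classical
  have := Fintype.ofFinite F
  obtain ⟨c, hc⟩ : ∃ c : F, c ∉ ({0, 1} : Finset F) := by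
    by_contra hcon
    push Not at hcon
    have h1 : (Finset.univ : Finset F) ⊆ {0, 1} := fun x _ => hcon x
    have h2 := Finset.card_le_card h1
    rw [Finset.card_univ, ← Nat.card_eq_fintype_card] at h2
    have h3 : ({0, 1} : Finset F).card ≤ 2 := Finset.card_le_two
    omega
  rw [Finset.mem_insert, Finset.mem_singleton, not_or] at hc
  exact ⟨Units.mk0 c hc.1, fun h => hc.2 (by have := congrArg Units.val h; simpa using this)⟩

theorem exists_ne (hF : 2 < Nat.card F) : ∃ c : F, c ≠ 0 ∧ c ≠ 1 := by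
  obtain ⟨μ, hμ⟩ := exists_unit hF
  exact ⟨μ, μ.ne_zero, fun h => hμ (Units.ext h)⟩

theorem nm_long [Finite G] (hF : 2 < Nat.card F) (R : Frame t f) (hn : ¬ Moved t (XG f (v 47))) :
    ∀ r ∈ rts, B r r = 4 → ∀ x ∈ XG f r, ∀ g : G, g⁻¹ * t * g = t * x → x = 1 := by
  intro r hr h
  have h1 := (R.moved_or1 hF).resolve_left hn
  rw [v47] at h1
  exact nm_of (exists_unit hF) R hr Lead.ρ_mem (t_long r hr h) h1

theorem nm_short [Finite G] (hF : 2 < Nat.card F) (R : Frame t f) (hn : ¬ Moved t (XG f (v 44))) :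
    ∀ r ∈ rts, B r r = 2 → ∀ x ∈ XG f r, ∀ g : G, g⁻¹ * t * g = t * x → x = 1 := by
  intro r hr h
  have h1 := (R.moved_or2 hF).resolve_left hn
  rw [v44] at h1
  exact nm_of (exists_unit hF) R hr Lead.σ_mem (t_short r hr h) h1

end Moved

/-! ### Field automorphisms -/

section Fld

variable {E : (Fin 4 → ℤ) → F → ↥(chevF4.group F)} {T : (Fin 4 → Fˣ) →* ↥(chevF4.group F)}

theorem one_of_comm (C : KC E T) {y : ↥(chevF4.group F)} (h : ∀ a ∈ rts, ∀ u, y * E a u = E a u * y) : y = 1 := by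
  obtain ⟨m1, b1, b0, -, hne⟩ := Wsq.t_s1
  obtain ⟨u, hu⟩ := C.cent s0 s0_mem b0 y fun a ha _ v => h a ha v
  obtain ⟨v, hv⟩ := C.cent Wsq.s1 m1 b1 y fun a ha _ v => h a ha v
  have h1 := C.chart.sep _ s0_mem _ m1 hne u v (hu.trans hv.symm)
  rw [← hv, h1, C.chart.zero m1]

/-- the torus element `φ ∘ ν` -/
def mapU (φ : F ≃+* F) (ν : Fin 4 → Fˣ) : Fin 4 → Fˣ := fun i => Units.map (φ : F →* F) (ν i)

theorem chd_mapU (φ : F ≃+* F) (ν : Fin 4 → Fˣ) (a : Fin 4 → ℤ) :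
    ((chd (mapU φ ν) a : Fˣ) : F) = φ (chd ν a : Fˣ) := by
  have h : chd (mapU φ ν) a = Units.map (φ : F →* F) (chd ν a) := by
    unfold chd mapU
    rw [map_prod]
    refine Finset.prod_congr rfl fun i _ => ?_
    rw [map_zpow]
  rw [h]
  rfl

theorem conj_T (C : KC E T) (R : Frame t f) {y : G} (hy : y * t = t * y) {φ : F ≃+* F}
    (h : ∀ a ∈ rts, ∀ u, y * f (E a u) * y⁻¹ = f (E a (φ u))) (ν : Fin 4 → Fˣ) :
    y * f (T ν) * y⁻¹ = f (T (mapU φ ν)) := by
  obtain ⟨y', hy'⟩ := R.nK y hy (T ν)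
  have h2 : ∀ a ∈ rts, ∀ u, y' * E a u * y'⁻¹ = E a (((chd (mapU φ ν) a : Fˣ) : F) * u) := by
    intro a ha u
    apply R.inj
    have h3 := h a ha (φ.symm u)
    rw [RingEquiv.apply_symm_apply] at h3
    rw [map_mul, map_mul, map_inv, ← hy', ← h3]
    calc y * f (T ν) * y⁻¹ * (y * f (E a (φ.symm u)) * y⁻¹) * (y * f (T ν) * y⁻¹)⁻¹
        = y * (f (T ν) * f (E a (φ.symm u)) * (f (T ν))⁻¹) * y⁻¹ := by group
      _ = y * f (T ν * E a (φ.symm u) * (T ν)⁻¹) * y⁻¹ := by rw [map_mul, map_mul, map_inv]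
      _ = f (E a (((chd (mapU φ ν) a : Fˣ) : F) * u)) := by
        rw [C.chart.tor a ha, h a ha, map_mul, RingEquiv.apply_symm_apply, chd_mapU]
  have h4 : (T (mapU φ ν))⁻¹ * y' = 1 := one_of_comm C fun a ha u => by
    have h5 := h2 a ha u
    rw [← C.chart.tor a ha] at h5
    have h6 : y' * E a u = T (mapU φ ν) * E a u * (T (mapU φ ν))⁻¹ * y' := by rw [← h5]; group
    rw [mul_assoc, h6]; group
  rw [hy', ← inv_mul_eq_one.1 h4]

/-- **An element of `C(t)` acting as a field automorphism normalises the doubled root groups.** -/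
theorem eqv_fld (C : KC E T) (R : Frame t f) {W : (Fin 4 → ℤ) → Subgroup G} {κ c0 : F}
    (D : Dbs t (fun a u => f (E a u)) (f.comp T) W κ c0) {y : G} (hy : y * t = t * y) {φ : F ≃+* F}
    (h : ∀ a ∈ rts, ∀ u, y * f (E a u) * y⁻¹ = f (E a (φ u))) :
    ∀ s ∈ rts, B s s = 2 → ∀ w ∈ W s, y * w * y⁻¹ ∈ W s := by
  intro s hs hB w hw
  have hy' : y⁻¹ * t = t * y⁻¹ := by rw [inv_mul_eq_iff_eq_mul, ← mul_assoc, hy, mul_inv_cancel_right]
  have h' : ∀ a ∈ rts, ∀ u, y⁻¹ * f (E a u) * y⁻¹⁻¹ = f (E a (φ.symm u)) := by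
    intro a ha u
    have h3 := h a ha (φ.symm u)
    rw [RingEquiv.apply_symm_apply] at h3
    rw [← h3]; group
  have hT := conj_T C R hy h
  have hT' := conj_T C R hy' h'
  have e1 : ∀ u : Fˣ, ((u : Fˣ) : F) = 1 → u = 1 := fun u hu => Units.ext hu
  refine D.eqv s hs hB s hs hB y hy (fun ν => ⟨mapU φ ν, hT ν⟩) ?_ ?_ w hw
  · intro x
    refine conj_closure ?_ ?_ x
    · rintro _ ⟨u, rfl⟩
      exact ⟨φ u, (h s hs u).symm⟩
    · rintro _ ⟨u, rfl⟩
      refine ⟨φ.symm u, ?_⟩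
      have h3 := h' s hs u
      rw [inv_inv] at h3
      exact h3.symm
  · intro x
    refine conj_closure ?_ ?_ x
    · rintro _ (⟨a, ha, hc, u, rfl⟩ | ⟨ν, hc, rfl⟩)
      · exact Or.inl ⟨a, ha, hc, φ u, (h a ha u).symm⟩
      · refine Or.inr ⟨mapU φ ν, ?_, (hT ν).symm⟩
        apply e1
        rw [chd_mapU, hc, Units.val_one, map_one]
    · rintro _ (⟨a, ha, hc, u, rfl⟩ | ⟨ν, hc, rfl⟩)
      · refine Or.inl ⟨a, ha, hc, φ.symm u, ?_⟩
        have h3 := h' a ha u
        rw [inv_inv] at h3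
        exact h3.symm
      · refine Or.inr ⟨mapU φ.symm ν, ?_, ?_⟩
        · apply e1
          rw [chd_mapU, hc, Units.val_one, map_one]
        · have h3 := hT' ν
          rw [inv_inv] at h3
          exact h3.symm

end Fld

/-! ### The rows -/

section Rows

variable [Finite F] [CharP F 2] {T : Subgroup G}

/-- an element of `D` acts as a field automorphism if exactly one length is moved -/
theorem fld_of [Finite G] (O : FrO t f T g) (hne : ¬ (Moved t (XG f Lead.ρ) ↔ Moved t (XG f Lead.σ))) {y : G}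
    (hy : y ∈ O.D) : ∃ φ, Fld f y φ := by
  rcases O.acts_D hy with h | ⟨φ, h⟩
  · exact h
  · exact absurd (gra_moved (O.Tc y (O.D_le hy)) h) hne

theorem closure_le_D (O : FrO t f T g) : _root_.Subgroup.closure ({t, g} : Set G) ≤ O.D := by
  rw [closure_le]
  rintro y (rfl | rfl)
  · exact O.t_mem_D
  · exact ⟨1, Or.inl (zpow_one _).symm⟩

theorem D_le_closure (O : FrO t f T g) {y : G} (hy : y ∈ O.D) : y ∈ _root_.Subgroup.closure ({t, g} : Set G) := by
  have ht : t ∈ closure ({t, g} : Set G) := _root_.Subgroup.subset_closure (Or.inl rfl)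
  have hg : g ∈ closure ({t, g} : Set G) := _root_.Subgroup.subset_closure (Or.inr rfl)
  obtain ⟨n, rfl | rfl⟩ := hy
  · exact zpow_mem hg n
  · exact mul_mem ht (zpow_mem hg n)

theorem td [Finite G] (O : FrO t f T g) (hne : ¬ (Moved t (XG f Lead.ρ) ↔ Moved t (XG f Lead.σ))) :
    TD t T (_root_.Subgroup.closure ({t, g} : Set G)) (Up Phi lv (XG f)) Phi lv (XG f) := by
  obtain ⟨φ, hφ⟩ := fld_of O hne (y := g) ⟨1, Or.inl (zpow_one _).symm⟩
  have hU : (UK F).map f = Up Phi lv (XG f) := FrO.map_UK f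
  refine O.R.td O.T2 O.tT O.Tc O.Tmax (by rw [← hU]; exact O.UT) O.gT φ (fun _ => 1) (fun _ _ => one_ne_zero) ?_ ?_
  · intro a ha c
    rw [one_mul, one_mul]
    exact hφ a ha c
  · intro x hx
    obtain ⟨d, hd, u, hu, e⟩ := O.fac x hx
    exact ⟨d, D_le_closure O hd, u, by rw [← hU]; exact hu, e⟩

/-- **Short moved, long not moved.** -/
theorem row_short [Finite G] (hF : 2 < Nat.card F) (O : FrO t f T g) {W : (Fin 4 → ℤ) → Subgroup G} {κ c0 : F}
    (D : Dbs t (fun a u => f (eF F a u)) (f.comp TH) W κ c0) (hW : WS t (XG f) W)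
    (hm : Moved t (XG f (v 44))) (hn : ¬ Moved t (XG f (v 47))) : t ∉ _root_.commutator G := by
  have hne : ¬ (Moved t (XG f Lead.ρ) ↔ Moved t (XG f Lead.σ)) := by
    rw [← v47, ← v44]
    exact fun h => hn (h.2 hm)
  have C := kc_short (F := F) (exists_unit hF)
  refine O.R.not_mem_short (exists_ne hF) (KInst.kf O.R KInst.innerX hF) hW (nm_long hF O.R hn) (td O hne) ?_
  intro y hy s hs h2 _ w hw
  have hyD := closure_le_D O hy
  obtain ⟨φ, hφ⟩ := fld_of O hne hyD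
  exact eqv_fld C O.R D (O.Tc y (O.D_le hyD)) hφ s hs h2 w hw

/-- **Long moved, short not moved.** -/
theorem row_long [Finite G] (hF : 2 < Nat.card F) (O : FrO t f T g) (rt : F ≃+* F) (hrt : ∀ u, rt u ^ 2 = u)
    {W : (Fin 4 → ℤ) → Subgroup G} {κ c0 : F}
    (D : Dbs t (fun a u => f (dualE rt (eF F) a u)) (f.comp (TH.comp (dualH rt))) W κ c0)
    (hW : WL t (XG f) (fun a => W (dual a)))
    (hm : Moved t (XG f (v 47))) (hn : ¬ Moved t (XG f (v 44))) : t ∉ _root_.commutator G := by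
  have hne : ¬ (Moved t (XG f Lead.ρ) ↔ Moved t (XG f Lead.σ)) := by
    rw [← v47, ← v44]
    exact fun h => hn (h.1 hm)
  have C := kc_long (F := F) (exists_unit hF) rt hrt
  refine O.R.not_mem_long (exists_ne hF) (KInst.kf O.R KInst.innerX hF) hW (nm_short hF O.R hn) (td O hne) ?_
  intro y hy s hs h4 _ w hw
  have hyD := closure_le_D O hy
  obtain ⟨φ, hφ⟩ := fld_of O hne hyD
  refine eqv_fld C O.R D (O.Tc y (O.D_le hyD)) (φ := φ) ?_ _ (dual_mem s hs) (dn4 s hs h4) w hw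
  intro a ha u
  have hc : φ (rt u) = rt (φ u) := by
    rw [← rt_sq rt hrt (φ (rt u)), ← map_pow, hrt]
  rcases k_norm a ha with ⟨h, -⟩ | ⟨h, -⟩
  · rw [dualE_short rt h, dualE_short rt h]
    exact hφ _ (dual_mem a ha) u
  · rw [dualE_long rt h, dualE_long rt h, ← hc]
    exact hφ _ (dual_mem a ha) _

end Rows

end Cfsg.Agent.OddHalf.D7F4.RowOne
end

private theorem dce_f34ad0f3a97e : _root_.True := by
  try have : _root_.True := by simp only [_root_.Cfsg.Agent.OddHalf.D7F4Ex.Wsq.pw.eq_1]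
  try have : _root_.True := by simp only [_root_.Cfsg.Agent.OddHalf.D7F4.Model.lv.eq_1]
  try have : _root_.True := by simp only [_root_.Cfsg.Agent.OddHalf.D7F4.KInd.lvt.eq_1]
  exact _root_.True.intro
end

-- part: OddHalf/D4/O2/Row_mg
section
prune_inst 0x10040100000000000010200002001800000000408800808001020000640000020000000000101002000000000000004c00000000000000000000000001001000000030000000020000000000400000000000000000000000000000000000000000000
set_option linter.all false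
open scoped Cfsg.Agent.FastGrp

-- part: OddHalf/D4/O2/Row
section
-- merged: Cfsg.Agent.OddHalf.D4.SigmaEnd
section

/-!
# ODD, D4: the `Z*` step for a full pair

`D = K ∩ N(L)`, `N = K ∩ C(L)` (a configuration `Conf α β D N`), `O(N) = 1` (`NoOdd N`).

* `central_of_iso` : `e` an involution normalising `N` such that `e * e ^ n` of 2-power order only if `e ^ n = e`:
  then `e` centralises `N`;
* `eq_pair_of_self` : `w ∈ N` an involution with `C_N(w) = {1, w}`: then `N = {1, w}`;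
* `fix_of_odd` : `e ∈ D` an involution such that `e * f` has odd order for the conjugates `f` of `e` under `N` and for
  `f = γ e`, if `e * f ∈ N`: then `γ e = e`;
* `fix_of_conf` : so the involutions of a class `Sig` which are centralised by one of `α`, `β`, `α β` are centralised by all
  of them;
-/

set_option autoImplicit false

namespace Cfsg.Agent.OddHalf.D4.SigmaEnd

open Subgroup

variable {G : Type*} [Group G]

/-- `O(N) = 1`. -/
def NoOdd (N : Subgroup G) : Prop :=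
  ∀ X : Subgroup G, X ≤ N → (∀ n ∈ N, ∀ x ∈ X, n * x * n⁻¹ ∈ X) → Odd (Nat.card ↥X) → X = ⊥

/-- `N ⟨e⟩`. -/
def adj (N : Subgroup G) (e : G) (he : e * e = 1) (hn : ∀ n ∈ N, e * n * e⁻¹ ∈ N) : Subgroup G where
  carrier := {h | h ∈ N ∨ h * e ∈ N}
  one_mem' := Or.inl N.one_mem
  mul_mem' := by
    have hei : e⁻¹ = e := inv_eq_of_mul_eq_one_left he
    rintro a b (ha | ha) (hb | hb)
    · exact Or.inl (N.mul_mem ha hb)
    · right
      show a * b * e ∈ N
      rw [mul_assoc]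
      exact N.mul_mem ha hb
    · right
      show a * b * e ∈ N
      have h1 : a * b * e = (a * e) * (e * b * e⁻¹) := by
        calc a * b * e = a * (e * e) * b * e := by rw [he, mul_one]
          _ = (a * e) * (e * b * e) := by group
          _ = _ := by rw [hei]
      rw [h1]
      exact N.mul_mem ha (hn b hb)
    · left
      show a * b ∈ N
      have h1 : a * b = (a * e) * (e * (b * e) * e⁻¹) := by
        calc a * b = a * (e * e) * b * (e * e⁻¹) := by rw [he]; group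
          _ = _ := by group
      rw [h1]
      exact N.mul_mem ha (hn _ hb)
  inv_mem' := by
    have hei : e⁻¹ = e := inv_eq_of_mul_eq_one_left he
    rintro a (ha | ha)
    · exact Or.inl (N.inv_mem ha)
    · right
      show a⁻¹ * e ∈ N
      have h1 : a⁻¹ * e = e * (a * e)⁻¹ * e⁻¹ := by
        calc a⁻¹ * e = (e * e⁻¹) * a⁻¹ * e := by group
          _ = (e * e⁻¹) * a⁻¹ * e⁻¹ := by rw [hei]
          _ = _ := by group
      rw [h1]
      exact hn _ (N.inv_mem ha)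

theorem mem_of_sq [Finite G] {N : Subgroup G} {x : G} (hx : Odd (orderOf x)) (h : x * x ∈ N) : x ∈ N := by
  obtain ⟨k, hk⟩ := hx
  have h1 : x = (x * x) ^ (k + 1) := by
    rw [← pow_two, ← pow_mul]
    have h2 : 2 * (k + 1) = orderOf x + 1 := by omega
    rw [h2, pow_succ, pow_orderOf_eq_one, one_mul]
  rw [h1]
  exact N.pow_mem h _

/-- **The `Z*` step.** -/
theorem central_of_iso [Finite G] {N : Subgroup G} {e : G} (he : e * e = 1) (he1 : e ≠ 1)
    (hn : ∀ n ∈ N, e * n * e⁻¹ ∈ N) (hO : NoOdd N)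
    (hiso : ∀ n ∈ N, (∃ k : ℕ, (e * (n * e * n⁻¹)) ^ 2 ^ k = 1) → n * e * n⁻¹ = e) :
    ∀ n ∈ N, n * e = e * n := by
  have hei : e⁻¹ = e := inv_eq_of_mul_eq_one_left he
  set H := adj N e he hn with hH
  have heH : e ∈ H := Or.inr (by rw [he]; exact N.one_mem)
  have hNH : N ≤ H := fun n hn => Or.inl hn
  set u : ↥H := ⟨e, heH⟩ with hu
  have hu2 : orderOf u = 2 := by
    apply orderOf_eq_prime
    · rw [pow_two]; exact Subtype.ext he
    · intro h; exact he1 (congrArg Subtype.val h)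
  have hp : IsPGroup 2 ↥(zpowers u) := by
    rw [IsPGroup.iff_card]
    exact ⟨1, by rw [Nat.card_zpowers, hu2]; norm_num⟩
  obtain ⟨P, hP⟩ := hp.exists_le_sylow
  have huP : u ∈ P := hP (mem_zpowers u)
  have key : ∀ g : ↥H, ∃ n ∈ N, ((g * u * g⁻¹ : ↥H) : G) = n * e * n⁻¹ := by
    rintro ⟨g, hg | hg⟩
    · exact ⟨g, hg, rfl⟩
    · refine ⟨g * e, hg, ?_⟩
      show g * e * g⁻¹ = g * e * e * (g * e)⁻¹
      group
  obtain ⟨Nn, hNn, hodd, hcomm⟩ := Cfsg.Agent.S0215.result P u hu2 huP (by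
    intro g hg
    obtain ⟨n, hnN, h1⟩ := key g
    have h2 : u * (g * u * g⁻¹) ∈ P := P.mul_mem huP hg
    obtain ⟨k, hk⟩ := P.2 ⟨_, h2⟩
    have h3 : (u * (g * u * g⁻¹)) ^ 2 ^ k = 1 := congrArg Subtype.val hk
    have h4 : (e * (n * e * n⁻¹)) ^ 2 ^ k = 1 := by
      rw [← h1]
      exact congrArg Subtype.val h3
    apply Subtype.ext
    rw [h1]
    exact hiso n hnN ⟨k, h4⟩)
  have hXN : Nn.map H.subtype ≤ N := by
    rintro _ ⟨x, hx, rfl⟩
    have hxo : Odd (orderOf (x : G)) := by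
      rw [Subgroup.orderOf_coe]
      have h1 : orderOf (⟨x, hx⟩ : ↥Nn) ∣ Nat.card ↥Nn := _root_.orderOf_dvd_natCard _
      rw [Subgroup.orderOf_mk] at h1
      exact Odd.of_dvd_nat hodd h1
    rcases x.2 with h1 | h1
    · exact h1
    · apply mem_of_sq hxo
      have h2 : (x : G) * x = ((x : G) * e) * (e * ((x : G) * e) * e⁻¹) := by
        calc (x : G) * x = x * (e * e) * x * (e * e⁻¹) := by rw [he]; group
          _ = _ := by group
      show (x : G) * x ∈ N
      rw [h2]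
      exact N.mul_mem h1 (hn _ h1)
  have hX := hO (Nn.map H.subtype) hXN (by
    rintro n hnN _ ⟨x, hx, rfl⟩
    exact ⟨(⟨n, hNH hnN⟩ : ↥H) * x * (⟨n, hNH hnN⟩ : ↥H)⁻¹, hNn.conj_mem x hx _, rfl⟩) (by
    rw [Nat.card_congr (Nn.equivMapOfInjective _ H.subtype_injective).toEquiv.symm]
    exact hodd)
  intro n hnN
  have h1 := hcomm ⟨n, hNH hnN⟩
  have h2 : e * n * e⁻¹ * n⁻¹ ∈ Nn.map H.subtype := ⟨_, h1, rfl⟩
  rw [hX, mem_bot] at h2
  calc n * e = (e * n * e⁻¹ * n⁻¹) * n * e := by rw [h2, one_mul]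
    _ = e * n := by group

/-- The involutions in a 2-power chain. -/
theorem exists_pow_two {x : G} (hx : x ≠ 1) {k : ℕ} (hk : x ^ 2 ^ k = 1) :
    ∃ j : ℕ, x ^ j ≠ 1 ∧ x ^ j * x ^ j = 1 := by
  induction k with
  | zero => exact absurd (by simpa using hk) hx
  | succ k ih =>
    by_cases h : x ^ 2 ^ k = 1
    · exact ih h
    · exact ⟨2 ^ k, h, by rw [← pow_add, ← two_mul, ← pow_succ']; exact hk⟩

/-- An involution `w` of `N` with `C_N(w) = {1, w}`. -/
theorem eq_pair_of_self [Finite G] {N : Subgroup G} {w : G} (hw : w ∈ N) (hw2 : w * w = 1) (hw1 : w ≠ 1)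
    (hC : ∀ n ∈ N, n * w = w * n → n = 1 ∨ n = w) (hO : NoOdd N) : ∀ n ∈ N, n = 1 ∨ n = w := by
  have hwi : w⁻¹ = w := inv_eq_of_mul_eq_one_left hw2
  have h := central_of_iso hw2 hw1 (fun n hn => N.mul_mem (N.mul_mem hw hn) (N.inv_mem hw)) hO (by
    rintro n hn ⟨k, hk⟩
    set w' := n * w * n⁻¹ with hw'
    have hw'N : w' ∈ N := N.mul_mem (N.mul_mem hn hw) (N.inv_mem hn)
    have hw'2 : w' * w' = 1 := by
      calc w' * w' = n * (w * w) * n⁻¹ := by rw [hw']; group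
        _ = 1 := by rw [hw2]; group
    have hw'i : w'⁻¹ = w' := inv_eq_of_mul_eq_one_left hw'2
    set x := w * w' with hx
    by_cases hx1 : x = 1
    · have : w' = w⁻¹ := eq_inv_of_mul_eq_one_right hx1
      rw [this, hwi]
    obtain ⟨j, hj1, hj2⟩ := exists_pow_two hx1 hk
    have hxN : x ∈ N := N.mul_mem hw hw'N
    have hinv : w * x * w⁻¹ = x⁻¹ := by
      calc w * x * w⁻¹ = (w * w) * w' * w⁻¹ := by rw [hx]; group
        _ = w'⁻¹ * w⁻¹ := by rw [hw2, one_mul, hw'i]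
        _ = x⁻¹ := by rw [hx]; group
    have hz : x ^ j * w = w * x ^ j := by
      have h1 : w * x ^ j * w⁻¹ = (x ^ j)⁻¹ := by
        rw [← conj_pow, hinv, inv_pow]
      have h2 : (x ^ j)⁻¹ = x ^ j := inv_eq_of_mul_eq_one_left hj2
      rw [h2] at h1
      calc x ^ j * w = (w * x ^ j * w⁻¹) * w := by rw [h1]
        _ = w * x ^ j := by group
    have hzw : x ^ j = w := (hC _ (N.pow_mem hxN j) hz).resolve_left hj1
    have hxw : x * w = w * x := by
      rw [← hzw]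
      exact (pow_succ' x j).symm.trans (pow_succ x j)
    have hw'w : w' * w = w * w' := by
      have h1 : w' = w * x := by rw [hx, ← mul_assoc, hw2, one_mul]
      rw [h1, mul_assoc, hxw]
    rcases hC w' hw'N hw'w with h3 | h3
    · exfalso
      apply hw1
      have h4 : w = n⁻¹ * w' * n := by rw [hw']; group
      rw [h4, h3]; group
    · exact h3)
  intro n hn
  exact hC n hn (h n hn)

/-- An involution `e` centralised "up to odd order". -/
theorem fix_of_odd [Finite G] {N : Subgroup G} {e e' : G} (he : e * e = 1) (he1 : e ≠ 1)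
    (hn : ∀ n ∈ N, e * n * e⁻¹ ∈ N) (hO : NoOdd N)
    (hodd : ∀ n ∈ N, e * (n * e * n⁻¹) ∈ N → Odd (orderOf (e * (n * e * n⁻¹))))
    (he' : e' * e' = 1) (hN : e * e' ∈ N) (ho : Odd (orderOf (e * e'))) : e' = e := by
  have hei : e⁻¹ = e := inv_eq_of_mul_eq_one_left he
  have hei' : e'⁻¹ = e' := inv_eq_of_mul_eq_one_left he'
  have h1 := central_of_iso he he1 hn hO (by
    rintro n hnN ⟨k, hk⟩
    have h2 : e * (n * e * n⁻¹) ∈ N := by
      have h3 : e * (n * e * n⁻¹) = (e * n * e⁻¹) * n⁻¹ := by rw [hei]; group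
      rw [h3]
      exact N.mul_mem (hn n hnN) (N.inv_mem hnN)
    have h4 := hodd n hnN h2
    have h5 : e * (n * e * n⁻¹) = 1 := by
      rw [← orderOf_eq_one_iff]
      have h6 : orderOf (e * (n * e * n⁻¹)) ∣ 2 ^ k := orderOf_dvd_of_pow_eq_one hk
      rcases (Nat.dvd_prime_pow Nat.prime_two).1 h6 with ⟨m, _, hm⟩
      rw [hm] at h4 ⊢
      rcases Nat.eq_zero_or_pos m with h7 | h7
      · rw [h7, pow_zero]
      · exfalso
        exact (Nat.not_odd_iff_even.2 ((even_two).pow_of_ne_zero (by omega))) h4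
    have h6 := eq_inv_of_mul_eq_one_right h5
    rw [h6, hei])
  have h2 := h1 _ hN
  have h3 : (e * e') * (e * e') = 1 := by
    have h4 : e' * e = e * e' := by
      calc e' * e = (e⁻¹ * e) * e' * e := by group
        _ = e⁻¹ * ((e * e') * e) := by group
        _ = e⁻¹ * (e * (e * e')) := by rw [h2]
        _ = e * e' := by group
    calc (e * e') * (e * e') = e * (e' * e) * e' := by group
      _ = e * (e * e') * e' := by rw [h4]
      _ = (e * e) * (e' * e') := by group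
      _ = 1 := by rw [he, he', one_mul]
  have h4 : e * e' = 1 := by
    obtain ⟨k, hk⟩ := ho
    have h5 : (e * e') ^ orderOf (e * e') = 1 := pow_orderOf_eq_one _
    rw [hk, pow_succ, pow_mul, pow_two, h3, one_pow, one_mul] at h5
    exact h5
  have := eq_inv_of_mul_eq_one_right h4
  rw [this, hei]

/-- `C_N(γ) = 1` for `γ = α, β, α β` gives `O(N) = 1`. -/
theorem noOdd_of_conf {M : Type*} [Group M] [Finite M] {α β : MulAut M} {D N : Subgroup M} (h : Conf α β D N)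
    (hK : ∀ γ : MulAut M, (γ = α ∨ γ = β ∨ γ = α * β) → ∀ X : Subgroup M, (∀ x ∈ X, γ x = x) →
      (∀ g, γ g = g → ∀ x ∈ X, g * x * g⁻¹ ∈ X) → Odd (Nat.card ↥X) → X = ⊥) : NoOdd N := by
  set O : Subgroup M := (Cfsg.pPrimeCore 2 ↥N).map N.subtype with hOdef
  have hON : O ≤ N := by
    rintro _ ⟨x, _, rfl⟩
    exact x.2
  have hcardO : Odd (Nat.card ↥O) := by
    have h1 : Nat.card ↥O = Nat.card ↥(Cfsg.pPrimeCore 2 ↥N) :=
      Nat.card_congr ((Cfsg.pPrimeCore 2 ↥N).equivMapOfInjective N.subtype N.subtype_injective).toEquiv.symm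
    rw [h1]
    exact Nat.coprime_two_right.1 (Cfsg.Agent.Lib.Cores.pPrimeCore_coprime (G := ↥N) 2)
  -- invariance under automorphisms normalising `N`
  have hinv : ∀ φ : MulAut M, (∀ n ∈ N, φ n ∈ N) → (∀ n ∈ N, φ⁻¹ n ∈ N) → ∀ x ∈ O, φ x ∈ O := by
    intro φ h1 h2
    let e : ↥N ≃* ↥N :=
      { toFun := fun n => ⟨φ n, h1 n n.2⟩
        invFun := fun n => ⟨φ⁻¹ n, h2 n n.2⟩
        left_inv := fun n => Subtype.ext (MulAut.inv_apply_self M φ n)
        right_inv := fun n => Subtype.ext (MulAut.apply_inv_self M φ n)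
        map_mul' := fun a b => Subtype.ext (map_mul φ _ _) }
    rintro _ ⟨x, hx, rfl⟩
    have h3 : e x ∈ Cfsg.pPrimeCore 2 ↥N := by
      rw [← Cfsg.Agent.Lib.Cores.map_equiv_pPrimeCore e 2]
      exact ⟨x, hx, rfl⟩
    exact ⟨e x, h3, rfl⟩
  have hOD : ∀ d ∈ D, ∀ x ∈ O, d * x * d⁻¹ ∈ O := by
    intro d hd x hx
    have h1 : ∀ n ∈ N, d⁻¹ * n * d ∈ N := by
      intro n hn
      have := h.norm d⁻¹ (D.inv_mem hd) n hn
      rwa [inv_inv] at this
    have := hinv (MulAut.conj d) (fun n hn => by rw [MulAut.conj_apply]; exact h.norm d hd n hn)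
      (fun n hn => by rw [MulAut.conj_inv_apply]; exact h1 n hn) x hx
    rwa [MulAut.conj_apply] at this
  have hsq : ∀ γ : MulAut M, (γ = α ∨ γ = β ∨ γ = α * β) → γ * γ = 1 := by
    rintro γ (rfl | rfl | rfl)
    · exact h.aa
    · exact h.bb
    · calc α * β * (α * β) = α * (β * α) * β := by group
        _ = α * (α * β) * β := by rw [h.ab]
        _ = (α * α) * (β * β) := by group
        _ = 1 := by rw [h.aa, h.bb, one_mul]
  have hγN : ∀ γ : MulAut M, (γ = α ∨ γ = β ∨ γ = α * β) → ∀ n ∈ N, γ n ∈ N := by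
    intro γ hγ n hn
    have h1 := N.mul_mem (h.comm γ hγ n (h.le hn)) hn
    rwa [inv_mul_cancel_right] at h1
  have hOγ : ∀ γ : MulAut M, (γ = α ∨ γ = β ∨ γ = α * β) → ∀ x ∈ O, γ x ∈ O := by
    intro γ hγ
    apply hinv γ (hγN γ hγ)
    have h1 : γ⁻¹ = γ := inv_eq_of_mul_eq_one_left (hsq γ hγ)
    rw [h1]
    exact hγN γ hγ
  -- fixed points
  have hfix : ∀ γ : MulAut M, (γ = α ∨ γ = β ∨ γ = α * β) → ∀ x ∈ O, γ x = x → x = 1 := by
    intro γ hγ x hx hfx
    let X : Subgroup M :=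
      { carrier := {x | x ∈ O ∧ γ x = x}
        one_mem' := ⟨O.one_mem, map_one γ⟩
        mul_mem' := fun {a b} ha hb => ⟨O.mul_mem ha.1 hb.1, by rw [map_mul, ha.2, hb.2]⟩
        inv_mem' := fun {a} ha => ⟨O.inv_mem ha.1, by rw [map_inv, ha.2]⟩ }
    have hXO : X ≤ O := fun x hx => hx.1
    have h1 := hK γ hγ X (fun x hx => hx.2) (fun g hg x hx =>
      ⟨hOD g (h.cen γ hγ g hg) x hx.1, by rw [map_mul, map_mul, map_inv, hg, hx.2]⟩)
      (Odd.of_dvd_nat hcardO (card_dvd_of_le hXO))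
    have h2 : x ∈ X := ⟨hx, hfx⟩
    rw [h1, mem_bot] at h2
    exact h2
  have hinvert : ∀ γ : MulAut M, (γ = α ∨ γ = β ∨ γ = α * β) → ∀ x ∈ O, γ x = x⁻¹ := by
    intro γ hγ
    let φ : ↥O →* ↥O :=
      { toFun := fun x => ⟨γ x, hOγ γ hγ x x.2⟩
        map_one' := Subtype.ext (map_one γ)
        map_mul' := fun a b => Subtype.ext (map_mul γ _ _) }
    have h1 : MonoidHom.FixedPointFree φ := by
      intro x hx
      exact Subtype.ext (hfix γ hγ x x.2 (congrArg Subtype.val hx))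
    have h2 : Function.Involutive φ := by
      intro x
      apply Subtype.ext
      show γ (γ x) = x
      exact congrArg (fun f : MulAut M => f x) (hsq γ hγ)
    have h3 := h1.coe_eq_inv_of_involutive h2
    intro x hx
    exact congrArg Subtype.val (congrFun h3 ⟨x, hx⟩)
  have hObot : O = ⊥ := by
    rw [eq_bot_iff]
    intro x hx
    rw [mem_bot]
    apply hfix (α * β) (Or.inr (Or.inr rfl)) x hx
    show α (β x) = x
    rw [hinvert β (Or.inr (Or.inl rfl)) x hx, hinvert α (Or.inl rfl) _ (O.inv_mem hx), inv_inv]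
  intro X hXN hXn hXo
  have h1 : (X.subgroupOf N).Normal := by
    refine ⟨fun n hn g => ?_⟩
    rw [mem_subgroupOf] at hn ⊢
    exact hXn g g.2 n hn
  have h2 : X.subgroupOf N ≤ Cfsg.pPrimeCore 2 ↥N := by
    apply Cfsg.Agent.Lib.Cores.le_pPrimeCore h1
    rw [Nat.coprime_two_right, Nat.card_congr (subgroupOfEquivOfLe hXN).toEquiv]
    exact hXo
  rw [eq_bot_iff]
  intro x hx
  have h3 : x ∈ O := ⟨⟨x, hXN hx⟩, h2 (mem_subgroupOf.2 hx), rfl⟩
  rwa [hObot] at h3

end Cfsg.Agent.OddHalf.D4.SigmaEnd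

end

-- merged: Cfsg.Agent.OddHalf.D4.O2.Base
section

/-!
# ODD, D4, rows `Ω^±_2n(2)`: quadratic forms over the field with two elements
-/

set_option autoImplicit false
set_option linter.unusedSectionVars false

namespace Cfsg.Agent.OddHalf.D4.O2

open QuadraticMap Cfsg.Agent.LieClassical.OrthCore Cfsg.Agent.LieClassical.OrthTrans
  Cfsg.Agent.ClassicalGeometry.OrthAutBasic Cfsg.Agent.ClassicalGeometry.OrthAutRoot
  Cfsg.Agent.ClassicalGeometry.OrthAutSylow

variable {F V : Type*} [Field F] [AddCommGroup V] [Module F V] {Q : QuadraticForm F V}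

/-- The field has two elements. -/
def Two (F : Type*) [Field F] : Prop := ∀ a : F, a = 0 ∨ a = 1

namespace Two

variable (h2 : Two F)

include h2

theorem two : (1 : F) + 1 = 0 := by
  rcases h2 (1 + 1) with h | h
  · exact h
  · exfalso
    exact one_ne_zero (α := F) (by linear_combination h)

theorem two' : (2 : F) = 0 := by
  have := h2.two
  linear_combination this

theorem eq_one {a : F} (h : a ≠ 0) : a = 1 := (h2 a).resolve_left h

theorem eq_zero {a : F} (h : a ≠ 1) : a = 0 := (h2 a).resolve_right h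

theorem add_self (v : V) : v + v = 0 := by
  have : v + v = ((1 : F) + 1) • v := by rw [add_smul, one_smul]
  rw [this, h2.two, zero_smul]

theorem neg_eq (v : V) : -v = v := (eq_neg_of_add_eq_zero_left (h2.add_self v)).symm

theorem sub_eq (v w : V) : v - w = v + w := by rw [sub_eq_add_neg, h2.neg_eq]

theorem addF (a : F) : a + a = 0 := by
  have := h2.two
  linear_combination a * this

theorem negF (a : F) : -a = a := (eq_neg_of_add_eq_zero_left (h2.addF a)).symm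

theorem eq_of_add {v w : V} (h : v + w = 0) : v = w := by
  rw [← h2.neg_eq w]; exact eq_neg_of_add_eq_zero_left h

theorem finite : Finite F := by
  have h : Function.Surjective (fun b : Bool => if b then (1 : F) else 0) := by
    intro a
    rcases h2 a with h | h
    · exact ⟨false, by simp [h]⟩
    · exact ⟨true, by simp [h]⟩
  exact Finite.of_surjective _ h

theorem polar_self (v : V) : polar Q v v = 0 := by
  rw [polar_self', h2.two', zero_mul]

/-- multiples of a vector -/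
theorem smul_cases {u v : V} (h : ∃ c : F, v = c • u) : v = 0 ∨ v = u := by
  obtain ⟨c, rfl⟩ := h
  rcases h2 c with rfl | rfl
  · left; rw [zero_smul]
  · right; rw [one_smul]

theorem mem_span {u v : V} : v ∈ Submodule.span F {u} ↔ v = 0 ∨ v = u := by
  rw [Submodule.mem_span_singleton]
  constructor
  · rintro ⟨c, rfl⟩
    exact h2.smul_cases ⟨c, rfl⟩
  · rintro (rfl | rfl)
    · exact ⟨0, zero_smul _ _⟩
    · exact ⟨1, one_smul _ _⟩

theorem mem_span_pair {u w v : V} : v ∈ Submodule.span F {u, w} ↔ v = 0 ∨ v = u ∨ v = w ∨ v = u + w := by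
  rw [Submodule.mem_span_pair]
  constructor
  · rintro ⟨a, b, rfl⟩
    rcases h2 a with rfl | rfl <;> rcases h2 b with rfl | rfl <;> simp
  · rintro (rfl | rfl | rfl | rfl)
    · exact ⟨0, 0, by simp⟩
    · exact ⟨1, 0, by simp⟩
    · exact ⟨0, 1, by simp⟩
    · exact ⟨1, 1, by simp⟩

/-- `T` over the field with two elements. -/
theorem T_apply {u w : V} (hu : Q u = 0) (hw : polar Q u w = 0) (v : V) :
    T Q u w v = v + polar Q u v • w + polar Q w v • u + (Q w * polar Q u v) • u := by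
  rw [Cfsg.Agent.ClassicalGeometry.OrthAutBasic.T_apply hu hw, h2.sub_eq, h2.sub_eq]

theorem T_perp {u w v : V} (hu : Q u = 0) (hw : polar Q u w = 0) (hv : polar Q u v = 0) :
    T Q u w v = v + polar Q w v • u := by
  rw [Cfsg.Agent.ClassicalGeometry.OrthAutBasic.T_apply_perp hu hw hv, h2.sub_eq]

theorem T_swap {u w : V} (hu : Q u = 0) (hw : Q w = 0) (huw : polar Q u w = 0) :
    T Q u w = T Q w u := by
  rw [Cfsg.Agent.ClassicalGeometry.OrthAutBasic.T_swap hu hw huw, h2.neg_eq]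

theorem T_sq {u w : V} : T Q u w * T Q u w = 1 := by
  by_cases h : Q u = 0 ∧ polar Q u w = 0
  · rw [T_mul h.1 h.2 h.2, h2.add_self, T_zero_right]
  · rw [T_eq_one h, mul_one]

theorem T_inv {u w : V} : (T Q u w)⁻¹ = T Q u w := inv_eq_of_mul_eq_one_left h2.T_sq

theorem T_add_self {u w : V} (hu : Q u = 0) (hw : polar Q u w = 0) : T Q u (w + u) = T Q u w := by
  have := T_add_smul (Q := Q) hu hw (1 : F)
  rwa [one_smul] at this

theorem T_self {u : V} : T Q u u = 1 := by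
  by_cases hu : Q u = 0
  · have := h2.T_add_self (Q := Q) hu (polar_zero_right _ u)
    rw [zero_add, T_zero_right] at this
    exact this
  · exact T_eq_one fun h => hu h.1

/-- lines over the field with two elements -/
theorem ln {u w : V} (hu : Q u = 0) (hw : Q w = 0) (huw : polar Q u w = 0) (hu0 : u ≠ 0) (hw0 : w ≠ 0)
    (hne : w ≠ u) : Ln Q u w :=
  ⟨hu, hw, huw, hu0, fun c hc => by
    rcases h2.smul_cases ⟨c, hc⟩ with h | h
    · exact hw0 h
    · exact hne h⟩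

end Two

theorem Ln.ne2 {u w : V} (h : Ln Q u w) : w ≠ u := by
  have := h.ind 1
  rwa [one_smul] at this

/-! ### Existence of vectors -/

/-- A singular vector orthogonal to given vectors and outside a given subspace. -/
theorem exists_sing_avoid [Finite F] {k : ℕ} (u : Fin k → V) (B : Submodule F V)
    (h : k + Module.finrank F B + 3 ≤ Module.finrank F V) :
    ∃ r, Q r = 0 ∧ (∀ i, polar Q (u i) r = 0) ∧ r ∉ B := by
  have : Module.Finite F V := Module.finite_of_finrank_pos (by omega)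
  obtain ⟨C, hC⟩ := B.exists_isCompl
  have hd : Module.finrank F B + Module.finrank F C = Module.finrank F V :=
    Submodule.finrank_add_eq_of_isCompl hC
  let f : C →ₗ[F] (Fin k → F) := (LinearMap.pi fun i => polarBilin Q (u i)).comp C.subtype
  have h1 := LinearMap.finrank_range_add_finrank_ker f
  have h2 : Module.finrank F (LinearMap.range f) ≤ k := by
    have := Submodule.finrank_le (LinearMap.range f)
    rwa [Module.finrank_fin_fun] at this
  have h3 : Module.finrank F ((LinearMap.ker f).map C.subtype) = Module.finrank F (LinearMap.ker f) :=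
    Submodule.finrank_map_subtype_eq _ _
  obtain ⟨r, hr, hr0, hrQ⟩ := exists_sing_of_three_le (Q := Q) ((LinearMap.ker f).map C.subtype) (by omega)
  obtain ⟨c, hc, rfl⟩ := hr
  refine ⟨c, hrQ, fun i => ?_, fun hB => ?_⟩
  · have := congrFun (LinearMap.mem_ker.1 hc) i
    simpa [f] using this
  · apply hr0
    have := hC.disjoint
    rw [Submodule.disjoint_def] at this
    exact this _ hB c.2

/-- A vector orthogonal to given vectors and outside a given subspace. -/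
theorem exists_avoid {k : ℕ} (u : Fin k → V) (B : Submodule F V)
    (h : k + Module.finrank F B < Module.finrank F V) :
    ∃ r, (∀ i, polar Q (u i) r = 0) ∧ r ∉ B := by
  have : Module.Finite F V := Module.finite_of_finrank_pos (by omega)
  let f : V →ₗ[F] (Fin k → F) := LinearMap.pi fun i => polarBilin Q (u i)
  have h1 := LinearMap.finrank_range_add_finrank_ker f
  have h2 : Module.finrank F (LinearMap.range f) ≤ k := by
    have := Submodule.finrank_le (LinearMap.range f)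
    rwa [Module.finrank_fin_fun] at this
  have h3 : ¬ LinearMap.ker f ≤ B := by
    intro hle
    have := Submodule.finrank_mono hle
    omega
  obtain ⟨r, hr, hrB⟩ := SetLike.not_le_iff_exists.1 h3
  refine ⟨r, fun i => ?_, hrB⟩
  have := congrFun (LinearMap.mem_ker.1 hr) i
  simpa [f] using this

theorem finrank_span_le {k : ℕ} (u : Fin k → V) : Module.finrank F (Submodule.span F (Set.range u)) ≤ k := by
  have := finrank_range_le_card (R := F) u
  rwa [Fintype.card_fin, Set.finrank] at this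

theorem finrank_span_singleton_le (u : V) : Module.finrank F (Submodule.span F {u}) ≤ 1 := by
  have := finrank_span_le (F := F) ![u]
  rwa [Matrix.range_cons, Matrix.range_empty, Set.union_empty] at this

theorem finrank_span_pair_le (u v : V) : Module.finrank F (Submodule.span F {u, v}) ≤ 2 := by
  have := finrank_span_le (F := F) ![u, v]
  rwa [Matrix.range_cons, Matrix.range_cons, Matrix.range_empty, Set.union_empty, Set.singleton_union] at this

/-- Make a vector with `b(e, f) = 1`, `e` singular, singular. -/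
theorem Two.sing_of (h2 : Two F) {e x : V} (he : Q e = 0) (hex : polar Q e x = 1) :
    ∃ c : F, Q (x + c • e) = 0 ∧ polar Q e (x + c • e) = 1 := by
  refine ⟨Q x, ?_, ?_⟩
  · rw [Q_add, QuadraticMap.map_smul, he, polar_smul_right, polar_comm Q x e, hex]
    simp only [smul_eq_mul, mul_zero, add_zero, mul_one]
    exact h2.addF _
  · rw [polar_add_right, polar_smul_right, h2.polar_self, hex]
    simp

end Cfsg.Agent.OddHalf.D4.O2

end

-- merged: Cfsg.Agent.OddHalf.D4.O2.CTwo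
section

/-!
# ODD, D4, rows `Ω^±_2n(2)`: involutions of type `c₂` are not in `N`
-/

set_option autoImplicit false
set_option linter.unusedSectionVars false

namespace Cfsg.Agent.OddHalf.D4.O2

open QuadraticMap Cfsg.Agent.LieClassical.OrthCore Cfsg.Agent.LieClassical.OrthTrans
  Cfsg.Agent.ClassicalGeometry.OrthAutBasic Cfsg.Agent.ClassicalGeometry.OrthAutRoot
  Cfsg.Agent.ClassicalGeometry.OrthAutSylow

variable {F V : Type*} [Field F] [AddCommGroup V] [Module F V] {Q : QuadraticForm F V}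

/-- The traces `D = K ∩ N(L)`, `N = K ∩ C(L)` in the group `E Q`. -/
structure OC (Q : QuadraticForm F V) (D N : Subgroup (V ≃ₗ[F] V)) : Prop where
  le : N ≤ D
  DE : D ≤ E Q
  norm : ∀ d ∈ D, ∀ n ∈ N, d * n * d⁻¹ ∈ N
  cenN : ∀ n ∈ N, n ≠ 1 → n * n = 1 → ∀ x ∈ E Q, x * n = n * x → x ∈ D
  sig : ∀ u w, Ln Q u w → T Q u w ∉ N

/-- `g` centralises `w` and `[g, C(w)] ≤ N`. -/
structure Gd (Q : QuadraticForm F V) (N : Subgroup (V ≃ₗ[F] V)) (w g : V ≃ₗ[F] V) : Prop where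
  mO : g ∈ O Q
  comm : g * w = w * g
  mem : ∀ h ∈ E Q, h * w = w * h → g * h * g⁻¹ * h⁻¹ ∈ N

/-- `p` singular, `q` nonsingular, orthogonal. -/
structure PQ (Q : QuadraticForm F V) (p q : V) : Prop where
  qp : Q p = 0
  p0 : p ≠ 0
  pq : polar Q p q = 0
  qq : Q q = 1

theorem comm_of_fix {g : V ≃ₗ[F] V} (hg : g ∈ O Q) {u w : V} (hu : g u = u) (hw : g w = w) :
    g * T Q u w = T Q u w * g := by
  have := T_conj hg u w
  rw [hu, hw, mul_inv_eq_iff_eq_mul] at this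
  exact this

theorem T_comm {u w w' : V} (hu : Q u = 0) (hw : polar Q u w = 0) (hw' : polar Q u w' = 0) :
    T Q u w * T Q u w' = T Q u w' * T Q u w := by
  rw [T_mul hu hw hw', T_mul hu hw' hw, add_comm]

section

variable (h2 : Two F) {D N : Subgroup (V ≃ₗ[F] V)}

include h2

theorem PQ.sw {p q : V} (h : PQ Q p q) : PQ Q p (q + p) where
  qp := h.qp
  p0 := h.p0
  pq := by rw [polar_add_right, h.pq, h2.polar_self, add_zero]
  qq := by rw [Q_add, h.qp, h.qq, polar_comm, h.pq]; simp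

theorem PQ.qp' {p q : V} (h : PQ Q p q) : polar Q q p = 0 := by rw [polar_comm, h.pq]

theorem PQ.q0 {p q : V} (h : PQ Q p q) : q ≠ 0 := by
  rintro rfl
  have := h.qq
  rw [QuadraticMap.map_zero] at this
  exact zero_ne_one this

theorem PQ.ne {p q : V} (h : PQ Q p q) : p ≠ q := by
  rintro rfl
  have := h.qq
  rw [h.qp] at this
  exact zero_ne_one this

theorem PQ.nsm {p q : V} (h : PQ Q p q) : ∀ c : F, q ≠ c • p := by
  intro c hc
  rcases h2.smul_cases ⟨c, hc⟩ with h' | h'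
  · exact PQ.q0 h2 h h'
  · exact PQ.ne h2 h h'.symm

theorem PQ.nsm' {p q : V} (h : PQ Q p q) : ∀ c : F, p ≠ c • q := by
  intro c hc
  rcases h2.smul_cases ⟨c, hc⟩ with h' | h'
  · exact h.p0 h'
  · exact PQ.ne h2 h h'

theorem PQ.T_apply {p q : V} (h : PQ Q p q) (x : V) :
    T Q p q x = x + polar Q p x • q + polar Q q x • p + polar Q p x • p := by
  rw [h2.T_apply h.qp h.pq, h.qq, one_mul]

theorem PQ.T_ne_one (hQ : Nondeg Q) {p q : V} (h : PQ Q p q) : T Q p q ≠ 1 := by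
  intro e
  obtain ⟨x, hx1, hx2⟩ := exists_sep hQ (PQ.nsm h2 h)
  have h3 : T Q p q x = x := by rw [e]; rfl
  rw [PQ.T_apply h2 h, hx1, hx2] at h3
  apply h.p0
  simpa using h3

/-- An isometry commuting with `T p q` fixes `p`. -/
theorem PQ.fix_p (hQ : Nondeg Q) {p q : V} (h : PQ Q p q) {g : V ≃ₗ[F] V} (hg : g ∈ O Q)
    (hc : g * T Q p q = T Q p q * g) : g p = p := by
  obtain ⟨x, hx1, hx2⟩ := exists_sep hQ (PQ.nsm h2 h)
  have h3 : g (T Q p q x) = T Q p q (g x) := congrArg (fun f : V ≃ₗ[F] V => f x) hc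
  rw [PQ.T_apply h2 h, PQ.T_apply h2 h, hx1, hx2, zero_smul, zero_smul, add_zero, add_zero, one_smul, map_add,
    add_assoc, add_assoc] at h3
  have h4 := add_left_cancel h3
  rcases h2 (polar Q p (g x)) with h5 | h5
  · rw [h5, zero_smul, zero_smul, zero_add, add_zero] at h4
    rcases h2 (polar Q q (g x)) with h6 | h6
    · rw [h6, zero_smul] at h4
      exact absurd ((LinearEquiv.map_eq_zero_iff g).1 h4) h.p0
    · rw [h6, one_smul] at h4
      exact h4
  · exfalso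
    have h7 : Q (g p) = 0 := by rw [mem_O.1 hg, h.qp]
    rw [h4, h5, one_smul, one_smul] at h7
    have h8 : q + (polar Q q (g x) • p + p) = q + (polar Q q (g x) + 1) • p := by module
    rw [h8, Q_add, QuadraticMap.map_smul, polar_smul_right, h.qp, h.qq, PQ.qp' h2 h] at h7
    simp at h7

/-- Elements fixing `p` and `q` are in `D`. -/
theorem OC.mem_D (oc : OC Q D N) (hQ : Nondeg Q) {p q : V} (h : PQ Q p q) (hw : T Q p q ∈ N)
    {g : V ≃ₗ[F] V} (hg : g ∈ E Q) (hc : g * T Q p q = T Q p q * g) : g ∈ D :=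
  oc.cenN _ hw (PQ.T_ne_one h2 hQ h) h2.T_sq g hg hc

/-- `N ∩ Q_p = ⟨w⟩`. -/
theorem OC.step1 [Finite F] (oc : OC Q D N) (hQ : Nondeg Q) (hd : 8 ≤ Module.finrank F V) {p q : V}
    (h : PQ Q p q) (hw : T Q p q ∈ N) {v : V} (hv : polar Q p v = 0) (hN : T Q p v ∈ N) :
    v = 0 ∨ v = p ∨ v = q ∨ v = q + p := by
  have : FiniteDimensional F V := Module.finite_of_finrank_pos (by omega)
  by_contra hcon
  push Not at hcon
  obtain ⟨n0, np, nq, nqp⟩ := hcon
  rcases h2 (Q v) with hv1 | hv1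
  · exact oc.sig _ _ (h2.ln h.qp hv1 hv h.p0 n0 np) hN
  rcases h2 (polar Q q v) with hq | hq
  · have h3 : T Q p (q + v) ∈ N := by
      rw [← T_mul h.qp h.pq hv]
      exact N.mul_mem hw hN
    refine oc.sig _ _ (h2.ln h.qp ?_ ?_ h.p0 ?_ ?_) h3
    · rw [Q_add, h.qq, hv1, hq, add_zero, h2.two]
    · rw [polar_add_right, h.pq, hv, add_zero]
    · intro e
      exact nq (h2.eq_of_add e).symm
    · intro e
      apply nqp
      rw [← e, ← add_assoc, h2.add_self, zero_add]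
  · obtain ⟨r, hr, hr1, hrp⟩ := exists_sing_avoid (Q := Q) ![p, q, v] (Submodule.span F {p}) (by
      have := finrank_span_singleton_le (F := F) p
      omega)
    have hpr : polar Q p r = 0 := hr1 0
    have hqr : polar Q q r = 0 := hr1 1
    have hvr : polar Q v r = 0 := hr1 2
    have hvS : v ∉ Submodule.span F {p, q, r} := by
      intro hmem
      have hle : Submodule.span F {p, q, r} ≤ LinearMap.ker (polarBilin Q q) := by
        rw [Submodule.span_le]
        rintro z (rfl | rfl | rfl)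
        · simpa using PQ.qp' h2 h
        · simpa only [_root_.SetLike.mem_coe, _root_.LinearMap.mem_ker, _root_.QuadraticMap.polarBilin_apply_apply, _root_.QuadraticMap.polar_self, _root_.nsmul_eq_mul, _root_.Nat.cast_ofNat, _root_.mul_eq_zero] using h2.polar_self (Q := Q) z
        · simpa using hqr
      have := hle hmem
      rw [LinearMap.mem_ker, polarBilin_apply_apply, hq] at this
      exact one_ne_zero this
    obtain ⟨s, hs1, hs2⟩ := exists_sep_sub hQ hvS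
    have hps : polar Q p s = 0 := hs2 p (Submodule.subset_span (by simp))
    have hqs : polar Q q s = 0 := hs2 q (Submodule.subset_span (by simp))
    have hrs : polar Q r s = 0 := hs2 r (Submodule.subset_span (by simp))
    have gp : T Q r s p = p := T_fix (by rw [polar_comm, hpr]) (by rw [polar_comm, hps])
    have gq : T Q r s q = q := T_fix (by rw [polar_comm, hqr]) (by rw [polar_comm, hqs])
    have gv : T Q r s v = v + r := by
      rw [h2.T_perp hr hrs (by rw [polar_comm, hvr]), polar_comm Q s v, hs1, one_smul]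
    have gD : T Q r s ∈ D := OC.mem_D h2 oc hQ h hw (T_mem_E r s) (comm_of_fix (T_mem_O r s) gp gq)
    have h3 := oc.norm _ gD _ hN
    rw [T_conj (T_mem_O r s), gp, gv] at h3
    have h4 := N.mul_mem hN h3
    have hvr' : polar Q p (v + r) = 0 := by rw [polar_add_right, hv, hpr, add_zero]
    rw [T_mul h.qp hv hvr', ← add_assoc, h2.add_self, zero_add] at h4
    have hr0 : r ≠ 0 := fun e => hrp (by rw [e]; exact Submodule.zero_mem _)
    have hrp' : r ≠ p := fun e => hrp (by rw [e]; exact Submodule.mem_span_singleton_self _)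
    exact oc.sig _ _ (h2.ln h.qp hr hpr h.p0 hr0 hrp') h4

/-- `[g, Q_p] ≤ N ∩ Q_p`. -/
theorem OC.step2 [Finite F] (oc : OC Q D N) (hQ : Nondeg Q) (hd : 8 ≤ Module.finrank F V) {p q : V}
    (h : PQ Q p q) (hw : T Q p q ∈ N) {g : V ≃ₗ[F] V} (hg : Gd Q N (T Q p q) g) {v : V}
    (hv : polar Q p v = 0) (hqv : polar Q q v = 0) : g v = v ∨ g v = v + p := by
  have gp := PQ.fix_p h2 hQ h hg.mO hg.comm
  have hpv : polar Q p (g v) = 0 := by
    have := polar_map hg.mO p v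
    rw [gp] at this
    rw [this, hv]
  have h3 := hg.mem (T Q p v) (T_mem_E p v) (T_comm h.qp hv h.pq)
  rw [T_conj hg.mO, gp, h2.T_inv, T_mul h.qp hpv hv] at h3
  have hpv2 : polar Q p (g v + v) = 0 := by rw [polar_add_right, hpv, hv, add_zero]
  have hQg : Q (g v) = Q v := mem_O.1 hg.mO v
  have key : ∀ z, g v + v = z → g v = v + z := by
    intro z hz
    rw [← hz, add_comm (g v) v, ← add_assoc, h2.add_self, zero_add]
  rcases OC.step1 h2 oc hQ hd h hw hpv2 h3 with h4 | h4 | h4 | h4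
  · left
    have := key _ h4
    rwa [add_zero] at this
  · right
    exact key _ h4
  · exfalso
    rw [key _ h4, Q_add, h.qq, polar_comm, hqv, add_zero] at hQg
    exact one_ne_zero (by linear_combination hQg : (1 : F) = 0)
  · exfalso
    rw [key _ h4, Q_add, (PQ.sw h2 h).qq, polar_add_right, polar_comm Q v q, hqv, polar_comm Q v p, hv] at hQg
    exact one_ne_zero (by linear_combination hQg : (1 : F) = 0)

/-- `g` is trivial on `⟨p, q⟩^⊥`. -/
theorem OC.step3 [Finite F] (oc : OC Q D N) (hQ : Nondeg Q) (hd : 8 ≤ Module.finrank F V) {p q : V}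
    (h : PQ Q p q) (hw : T Q p q ∈ N) {g : V ≃ₗ[F] V} (hg : Gd Q N (T Q p q) g) {s : V}
    (hs : polar Q p s = 0) (hqs : polar Q q s = 0) : g s = s := by
  have gp := PQ.fix_p h2 hQ h hg.mO hg.comm
  rcases OC.step2 h2 oc hQ hd h hw hg hs hqs with h3 | h3
  · exact h3
  exfalso
  obtain ⟨y, hy⟩ := hQ.exists_polar_eq h.p0 1
  obtain ⟨r, hr, hr1, hrp⟩ := exists_sing_avoid (Q := Q) ![p, q, s, y + g y] (Submodule.span F {p}) (by
    have := finrank_span_singleton_le (F := F) p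
    omega)
  have hpr : polar Q p r = 0 := hr1 0
  have hqr : polar Q q r = 0 := hr1 1
  have hsr : polar Q s r = 0 := hr1 2
  have hyr : polar Q (y + g y) r = 0 := hr1 3
  have hr0 : r ≠ 0 := fun e => hrp (by rw [e]; exact Submodule.zero_mem _)
  have hrp' : r ≠ p := fun e => hrp (by rw [e]; exact Submodule.mem_span_singleton_self _)
  have gr : g r = r := by
    rcases OC.step2 h2 oc hQ hd h hw hg hpr hqr with h4 | h4
    · exact h4
    · exfalso
      have h5 := polar_map hg.mO r y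
      have h6 : polar Q p (g y) = 1 := by
        have := polar_map hg.mO p y
        rw [gp] at this
        rw [this, hy]
      rw [h4, polar_add_left, h6, polar_comm Q r (g y), polar_comm Q r y] at h5
      rw [polar_add_left] at hyr
      have h7 := h2.addF (polar Q (g y) r)
      exact one_ne_zero (by linear_combination h5 + hyr - h7 : (1 : F) = 0)
  have hrs : polar Q r s = 0 := by rw [polar_comm, hsr]
  have hrp2 : polar Q r p = 0 := by rw [polar_comm, hpr]
  have ep : T Q r s p = p := T_fix hrp2 (by rw [polar_comm, hs])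
  have eq : T Q r s q = q := T_fix (by rw [polar_comm, hqr]) (by rw [polar_comm, hqs])
  have h5 := hg.mem (T Q r s) (T_mem_E r s) (comm_of_fix (T_mem_O r s) ep eq)
  have hrsp : polar Q r (s + p) = 0 := by rw [polar_add_right, hrs, hrp2, add_zero]
  rw [T_conj hg.mO, gr, h3, h2.T_inv, T_mul hr hrsp hrs, add_comm s p, add_assoc, h2.add_self, add_zero] at h5
  exact oc.sig _ _ (h2.ln hr h.qp hrp2 hr0 h.p0 hrp'.symm) h5

/-- Vectors orthogonal to the orthogonal complement of `p, q`. -/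
theorem mem_pair (hQ : Nondeg Q) [FiniteDimensional F V] {p q z : V}
    (h : ∀ x, polar Q p x = 0 → polar Q q x = 0 → polar Q z x = 0) : z = 0 ∨ z = p ∨ z = q ∨ z = p + q := by
  rw [← h2.mem_span_pair]
  by_contra hn
  obtain ⟨y, hy1, hy2⟩ := exists_sep_sub hQ hn
  have := h y (hy2 p (Submodule.subset_span (by simp))) (hy2 q (Submodule.subset_span (by simp)))
  rw [hy1] at this
  exact one_ne_zero this

theorem refl_apply2 {q : V} (hq : Q q = 1) (hq' : Q q ≠ 0) (x : V) :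
    refl Q q hq' x = x + polar Q q x • q := by
  rw [refl_apply, hq, h2.sub_eq, inv_one, one_mul]

/-- Isometries which are trivial on `⟨p, q⟩^⊥`. -/
theorem PQ.four (hQ : Nondeg Q) [FiniteDimensional F V] {p q : V} (h : PQ Q p q) {g : V ≃ₗ[F] V} (hg : g ∈ O Q)
    (hfix : ∀ x, polar Q p x = 0 → polar Q q x = 0 → g x = x) (hq' : Q q ≠ 0) :
    g = 1 ∨ g = T Q p q ∨ g = refl Q q hq' ∨ g = T Q p q * refl Q q hq' := by
  obtain ⟨e0, he0q, he0p⟩ := exists_sep hQ (PQ.nsm' h2 h)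
  obtain ⟨e1, he1p, he1q⟩ := exists_sep hQ (PQ.nsm h2 h)
  have agree : ∀ g' : V ≃ₗ[F] V, (∀ x, polar Q p x = 0 → polar Q q x = 0 → g' x = x) → g' e0 = g e0 →
      g' e1 = g e1 → g = g' := by
    intro g' h3 h4 h5
    ext x
    have h6 : x = polar Q p x • e0 + polar Q q x • e1 + (x - polar Q p x • e0 - polar Q q x • e1) := by module
    have h7 : polar Q p (x - polar Q p x • e0 - polar Q q x • e1) = 0 := by
      rw [polar_sub_right, polar_sub_right, polar_smul_right, polar_smul_right, he0p, he1p]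
      simp
    have h8 : polar Q q (x - polar Q p x • e0 - polar Q q x • e1) = 0 := by
      rw [polar_sub_right, polar_sub_right, polar_smul_right, polar_smul_right, he0q, he1q]
      simp
    rw [h6, map_add, map_add, map_smul, map_smul, hfix _ h7 h8, map_add, map_add, map_smul, map_smul,
      h3 _ h7 h8, h4, h5]
  have hz : ∀ e : V, ∀ x, polar Q p x = 0 → polar Q q x = 0 → polar Q (g e + e) x = 0 := by
    intro e x hx1 hx2
    have h3 := polar_map hg e x
    rw [hfix x hx1 hx2] at h3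
    rw [polar_add_left, h3]
    exact h2.addF _
  have hz1 := mem_pair h2 hQ (hz e1)
  have hz0 := mem_pair h2 hQ (hz e0)
  have key : ∀ e z, g e + e = z → g e = e + z := by
    intro e z hz
    rw [← hz, add_comm (g e) e, ← add_assoc, h2.add_self, zero_add]
  have he0p' : polar Q e0 p = 1 := by rw [polar_comm, he0p]
  have he0q' : polar Q e0 q = 0 := by rw [polar_comm, he0q]
  have he1p' : polar Q e1 p = 0 := by rw [polar_comm, he1p]
  have he1q' : polar Q e1 q = 1 := by rw [polar_comm, he1q]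
  have hqp := PQ.qp' h2 h
  have hqq : polar Q q q = 0 := h2.polar_self _
  have hpp : polar Q p p = 0 := h2.polar_self _
  have hQ0 : Q (g e0) = Q e0 := mem_O.1 hg e0
  -- `g e0 = e0` or `g e0 = e0 + (p + q)`
  have h0 : g e0 = e0 ∨ g e0 = e0 + (p + q) := by
    rcases hz0 with h3 | h3 | h3 | h3
    · left
      have := key _ _ h3
      rwa [add_zero] at this
    · exfalso
      rw [key _ _ h3, Q_add, h.qp, he0p'] at hQ0
      exact one_ne_zero (by linear_combination hQ0 : (1 : F) = 0)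
    · exfalso
      rw [key _ _ h3, Q_add, h.qq, he0q'] at hQ0
      exact one_ne_zero (by linear_combination hQ0 : (1 : F) = 0)
    · right
      exact key _ _ h3
  have hB := polar_map hg e0 e1
  have tfix : ∀ x, polar Q p x = 0 → polar Q q x = 0 → refl Q q hq' x = x := by
    intro x _ hx2
    rw [refl_apply2 h2 h.qq, hx2, zero_smul, add_zero]
  have wfix : ∀ x, polar Q p x = 0 → polar Q q x = 0 → T Q p q x = x := by
    intro x hx1 hx2
    exact T_fix hx1 hx2
  have w0 : T Q p q e0 = e0 + (p + q) := by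
    rw [PQ.T_apply h2 h, he0p, he0q]
    module
  have w1 : T Q p q e1 = e1 + p := by
    rw [PQ.T_apply h2 h, he1p, he1q]
    module
  have t0 : refl Q q hq' e0 = e0 := by
    rw [refl_apply2 h2 h.qq, he0q, zero_smul, add_zero]
  have t1 : refl Q q hq' e1 = e1 + q := by
    rw [refl_apply2 h2 h.qq, he1q, one_smul]
  have wq : T Q p q q = q := T_fix h.pq (h2.polar_self q)
  rcases hz1 with h3 | h3 | h3 | h3
  · have g1 : g e1 = e1 := by
      have := key _ _ h3
      rwa [add_zero] at this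
    rcases h0 with g0 | g0
    · left
      exact agree 1 (fun x _ _ => rfl) g0.symm g1.symm
    · exfalso
      rw [g0, g1, polar_add_left, polar_add_left, he1p, he1q] at hB
      exact one_ne_zero (by linear_combination hB : (1 : F) = 0)
  · have g1 := key _ _ h3
    rcases h0 with g0 | g0
    · exfalso
      rw [g0, g1, polar_add_right, he0p'] at hB
      exact one_ne_zero (by linear_combination hB : (1 : F) = 0)
    · right; left
      exact agree _ wfix (w0.trans g0.symm) (w1.trans g1.symm)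
  · have g1 := key _ _ h3
    rcases h0 with g0 | g0
    · right; right; left
      exact agree _ tfix (t0.trans g0.symm) (t1.trans g1.symm)
    · exfalso
      rw [g0, g1] at hB
      simp only [polar_add_left, polar_add_right, he1p, he1q, he0q', h.pq, hqq] at hB
      exact one_ne_zero (by linear_combination hB : (1 : F) = 0)
  · have g1 := key _ _ h3
    rcases h0 with g0 | g0
    · exfalso
      rw [g0, g1] at hB
      simp only [polar_add_right, he0p', he0q'] at hB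
      exact one_ne_zero (by linear_combination hB : (1 : F) = 0)
    · right; right; right
      refine agree _ (fun x hx1 hx2 => ?_) ?_ ?_
      · show T Q p q (refl Q q hq' x) = x
        rw [tfix x hx1 hx2, wfix x hx1 hx2]
      · show T Q p q (refl Q q hq' e0) = _
        rw [t0, w0, g0]
      · show T Q p q (refl Q q hq' e1) = _
        rw [t1, map_add, w1, wq, g1, add_assoc]

/-- `T p v` from three involutions of type `c₂`. -/
theorem PQ.prod3 {p q v : V} (h : PQ Q p q) (hv : Q v = 0) (hv0 : v ≠ 0) (hpv : polar Q p v = 0)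
    (hqv : polar Q q v = 0) : T Q p q * (T Q v q * T Q (p + v) q) = T Q p v := by
  have hvq : polar Q v q = 0 := by rw [polar_comm, hqv]
  have hvp : polar Q v p = 0 := by rw [polar_comm, hpv]
  have hs : Q (p + v) = 0 := by rw [Q_add, h.qp, hv, hpv]; simp
  have hsq : polar Q (p + v) q = 0 := by rw [polar_add_left, h.pq, hvq, add_zero]
  have hqp := PQ.qp' h2 h
  have hqq : polar Q q q = 0 := h2.polar_self _
  have hpp : polar Q p p = 0 := h2.polar_self _
  have hvv : polar Q v v = 0 := h2.polar_self _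
  have h22 := h2.two'
  ext x
  show T Q p q (T Q v q (T Q (p + v) q x)) = T Q p v x
  rw [h2.T_apply hs hsq, h2.T_apply hv hvq, h2.T_apply h.qp h.pq, h2.T_apply h.qp hpv]
  simp only [polar_add_right, polar_add_left, polar_smul_right, h.qq, hv, hvq, hvp, hpv, hqv, hqp, hqq, hpp, hvv,
    h.pq, smul_eq_mul, mul_zero, add_zero, zero_add, one_mul, zero_mul, zero_smul]
  generalize polar Q p x = a
  generalize polar Q v x = b
  generalize polar Q q x = c
  rw [← sub_eq_zero]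
  have : x + (a + b) • q + c • (p + v) + (a + b) • (p + v) + b • q + c • v + b • v + a • q + c • p + a • p -
      (x + a • v + b • p) = (2 * (a + b)) • q + (2 * c + 2 * a) • p + (2 * c + 2 * b) • v := by module
  refine Eq.trans ?_ (this.trans ?_)
  · module
  · rw [h22]; simp

/-- The centraliser of the reflection `t_q` is not in `D` if `T p q ∈ N`. -/
theorem OC.no_refl [Finite F] (oc : OC Q D N) (hQ : Nondeg Q) (hd : 8 ≤ Module.finrank F V) {p q : V}
    (h : PQ Q p q) (hw : T Q p q ∈ N) (hq' : Q q ≠ 0)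
    (hC : ∀ x ∈ E Q, x * refl Q q hq' = refl Q q hq' * x → x ∈ D) : False := by
  have : FiniteDimensional F V := Module.finite_of_finrank_pos (by omega)
  obtain ⟨v, hv, hv1, hvp⟩ := exists_sing_avoid (Q := Q) ![p, q] (Submodule.span F {p}) (by
    have := finrank_span_singleton_le (F := F) p
    omega)
  have hpv : polar Q p v = 0 := hv1 0
  have hqv : polar Q q v = 0 := hv1 1
  have hv0 : v ≠ 0 := fun e => hvp (by rw [e]; exact Submodule.zero_mem _)
  have hvp' : v ≠ p := fun e => hvp (by rw [e]; exact Submodule.mem_span_singleton_self _)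
  have hvq : v ≠ q := by
    rintro rfl
    exact hq' hv
  have hpp : polar Q p p = 0 := h2.polar_self _
  have hcomm : ∀ g : V ≃ₗ[F] V, g ∈ E Q → g q = q → g ∈ D := by
    intro g hg hgq
    apply hC g hg
    have h3 : Q (g q) ≠ 0 := by rw [hgq]; exact hq'
    have h4 := refl_conj (E_le_O hg) hq' h3
    have h5 : refl Q (g q) h3 = refl Q q hq' := by
      congr 1
    rw [h5, mul_inv_eq_iff_eq_mul] at h4
    exact h4
  have hpN : p ∉ Submodule.span F {q, p + v} := by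
    rw [h2.mem_span_pair]
    rintro (e | e | e | e)
    · exact h.p0 e
    · exact PQ.ne h2 h e
    · exact hv0 (by simpa using e)
    · have e2 : q + v = 0 := by
        have : p + (q + v) = p + 0 := by rw [add_zero]; nth_rewrite 2 [e]; abel
        exact add_left_cancel this
      exact hvq (h2.eq_of_add e2).symm
  obtain ⟨s, hs1, hs2⟩ := exists_sep_sub hQ hpN
  have hqs : polar Q q s = 0 := hs2 q (Submodule.subset_span (by simp))
  have hpvs : polar Q (p + v) s = 0 := hs2 (p + v) (Submodule.subset_span (by simp))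
  have hQpv : Q (p + v) = 0 := by rw [Q_add, h.qp, hv, hpv]; simp
  have hqp := PQ.qp' h2 h
  have a1 : T Q (p + v) s p = v := by
    rw [h2.T_perp hQpv hpvs (by rw [polar_add_left, hpp, polar_comm Q v p, hpv, add_zero]), polar_comm Q s p,
      hs1, one_smul, ← add_assoc, h2.add_self, zero_add]
  have a2 : T Q (p + v) s q = q := T_fix (by rw [polar_add_left, h.pq, polar_comm Q v q, hqv, add_zero])
    (by rw [polar_comm, hqs])
  have hpN' : p ∉ Submodule.span F {q, v} := by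
    rw [h2.mem_span_pair]
    rintro (e | e | e | e)
    · exact h.p0 e
    · exact PQ.ne h2 h e
    · exact hvp' e.symm
    · have e2 : Q p = Q (q + v) := by rw [← e]
      rw [Q_add, h.qp, h.qq, hv, hqv] at e2
      simp at e2
  obtain ⟨s', hs1', hs2'⟩ := exists_sep_sub hQ hpN'
  have hqs' : polar Q q s' = 0 := hs2' q (Submodule.subset_span (by simp))
  have hvs' : polar Q v s' = 0 := hs2' v (Submodule.subset_span (by simp))
  have b1 : T Q v s' p = p + v := by
    rw [h2.T_perp hv hvs' (by rw [polar_comm, hpv]), polar_comm Q s' p, hs1', one_smul]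
  have b2 : T Q v s' q = q := T_fix (by rw [polar_comm, hqv]) (by rw [polar_comm, hqs'])
  have n1 := oc.norm _ (hcomm _ (T_mem_E _ _) a2) _ hw
  rw [T_conj (T_mem_O _ _), a1, a2] at n1
  have n2 := oc.norm _ (hcomm _ (T_mem_E _ _) b2) _ hw
  rw [T_conj (T_mem_O _ _), b1, b2] at n2
  have n3 := N.mul_mem hw (N.mul_mem n1 n2)
  rw [PQ.prod3 h2 h hv hv0 hpv hqv] at n3
  exact oc.sig _ _ (h2.ln h.qp hv hpv h.p0 hv0 hvp') n3

end

end Cfsg.Agent.OddHalf.D4.O2

end

-- merged: Cfsg.Agent.OddHalf.D4.O2.Kill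
section

/-!
# ODD, D4, rows `Ω^±_2n(2)`: products of two commuting root elements are not in `N`
-/

set_option autoImplicit false
set_option linter.unusedSectionVars false

namespace Cfsg.Agent.OddHalf.D4.O2

open QuadraticMap Cfsg.Agent.LieClassical.OrthCore Cfsg.Agent.LieClassical.OrthTrans
  Cfsg.Agent.ClassicalGeometry.OrthAutBasic Cfsg.Agent.ClassicalGeometry.OrthAutRoot
  Cfsg.Agent.ClassicalGeometry.OrthAutSylow Cfsg.Agent.OddHalf.D4.SigmaEnd

variable {F V : Type*} [Field F] [AddCommGroup V] [Module F V] {Q : QuadraticForm F V}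

/-- The four-group `⟨a, b⟩` and the traces `D`, `N`. -/
structure OConf (Q : QuadraticForm F V) (D N : Subgroup (V ≃ₗ[F] V)) (a b : V ≃ₗ[F] V) : Prop extends OC Q D N where
  aO : a ∈ O Q
  bO : b ∈ O Q
  aa : a * a = 1
  bb : b * b = 1
  ab : a * b = b * a
  a1 : a ≠ 1
  b1 : b ≠ 1
  ne : a ≠ b
  cen : ∀ y, (y = a ∨ y = b ∨ y = a * b) → ∀ x ∈ E Q, x * y = y * x → x ∈ D
  comm : ∀ y, (y = a ∨ y = b ∨ y = a * b) → ∀ d ∈ D, y * d * y⁻¹ * d⁻¹ ∈ N
  core : NoOdd N

section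

variable (h2 : Two F) {D N : Subgroup (V ≃ₗ[F] V)}

include h2

theorem PQ.refl_sw {p q : V} (h : PQ Q p q) (hq : Q q ≠ 0) (hq' : Q (q + p) ≠ 0) :
    T Q p q * refl Q q hq = refl Q (q + p) hq' := by
  ext x
  show T Q p q (refl Q q hq x) = _
  rw [refl_apply2 h2 h.qq, refl_apply2 h2 (PQ.sw h2 h).qq, PQ.T_apply h2 h]
  simp only [polar_add_right, polar_add_left, polar_smul_right, h.pq, h2.polar_self, smul_eq_mul, mul_zero,
    add_zero]
  module

/-- Elements of `N` centralising `w ∈ N`. -/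
theorem OC.gd (oc : OC Q D N) {w : V ≃ₗ[F] V} (hw : w ∈ N) (hw1 : w ≠ 1) (hw2 : w * w = 1) {n : V ≃ₗ[F] V}
    (hn : n ∈ N) (hc : n * w = w * n) : Gd Q N w n where
  mO := E_le_O (oc.DE (oc.le hn))
  comm := hc
  mem h hh hhw := by
    have h3 := oc.norm h (oc.cenN w hw hw1 hw2 h hh hhw) _ (N.inv_mem hn)
    have h4 : n * h * n⁻¹ * h⁻¹ = n * (h * n⁻¹ * h⁻¹) := by group
    rw [h4]
    exact N.mul_mem hn h3

/-- If `N = {1, w}`, then `a`, `b`, `a b` centralise `w`. -/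
theorem OConf.gd {a b : V ≃ₗ[F] V} (oc : OConf Q D N a b) {w : V ≃ₗ[F] V} (hw : w ∈ N) (hw1 : w ≠ 1)
    (hw2 : w * w = 1) (hN : ∀ n ∈ N, n = 1 ∨ n = w) {y : V ≃ₗ[F] V} (hy : y = a ∨ y = b ∨ y = a * b) :
    Gd Q N w y where
  mO := by
    rcases hy with rfl | rfl | rfl
    · exact oc.aO
    · exact oc.bO
    · exact (O Q).mul_mem oc.aO oc.bO
  comm := by
    have h3 := oc.comm y hy w (oc.le hw)
    rcases hN _ h3 with h4 | h4
    · calc y * w = (y * w * y⁻¹ * w⁻¹) * (w * y) := by group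
        _ = w * y := by rw [h4, one_mul]
    · exfalso
      apply hw1
      have h5 : y * w * y⁻¹ = 1 := by
        calc y * w * y⁻¹ = (y * w * y⁻¹ * w⁻¹) * w := by group
          _ = w * w := by rw [h4]
          _ = 1 := hw2
      calc w = y⁻¹ * (y * w * y⁻¹) * y := by group
        _ = 1 := by rw [h5]; group
  mem h hh hhw := oc.comm y hy h (oc.cenN w hw hw1 hw2 h hh hhw)

/-- **Involutions of type `c₂` are not in `N`.** -/
theorem OConf.c2 [Finite (V ≃ₗ[F] V)] (hQ : Nondeg Q) (hd : 8 ≤ Module.finrank F V) {a b : V ≃ₗ[F] V}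
    (oc : OConf Q D N a b) {p q : V} (h : PQ Q p q) : T Q p q ∉ N := by
  intro hw
  have := h2.finite
  have hfd : FiniteDimensional F V := Module.finite_of_finrank_pos (by omega)
  have hq' : Q q ≠ 0 := by rw [h.qq]; exact one_ne_zero
  have hqp' : Q (q + p) ≠ 0 := by rw [(PQ.sw h2 h).qq]; exact one_ne_zero
  set w := T Q p q with hwdef
  have hw1 : w ≠ 1 := PQ.T_ne_one h2 hQ h
  have hw2 : w * w = 1 := h2.T_sq
  have four : ∀ g, Gd Q N w g → g = 1 ∨ g = w ∨ g = refl Q q hq' ∨ g = w * refl Q q hq' := fun g hg =>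
    PQ.four h2 hQ h hg.mO (fun x hx1 hx2 => OC.step3 h2 oc.toOC hQ hd h hw hg hx1 hx2) hq'
  have tN : refl Q q hq' ∉ N := by
    intro ht
    refine OC.no_refl h2 oc.toOC hQ hd h hw hq' (oc.cenN _ ht ?_ (refl_mul_self hq'))
    intro e
    obtain ⟨y, hy⟩ := hQ.exists_polar_eq (PQ.q0 h2 h) 1
    have h3 : refl Q q hq' y = y := by rw [e]; rfl
    rw [refl_apply2 h2 h.qq, hy, one_smul] at h3
    exact PQ.q0 h2 h (by simpa using h3)
  have hC : ∀ n ∈ N, n * w = w * n → n = 1 ∨ n = w := by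
    intro n hn hc
    rcases four n (OC.gd h2 oc.toOC hw hw1 hw2 hn hc) with h3 | h3 | h3 | h3
    · exact Or.inl h3
    · exact Or.inr h3
    · exact absurd (h3 ▸ hn) tN
    · exfalso
      apply tN
      have h4 := N.mul_mem hw hn
      rw [h3, ← mul_assoc, hw2, one_mul] at h4
      exact h4
  have hN := eq_pair_of_self hw hw2 hw1 hC oc.core
  have key : ∀ y, (y = a ∨ y = b ∨ y = a * b) → y ≠ 1 → y = w := by
    intro y hy hy1
    rcases four y (OConf.gd h2 oc hw hw1 hw2 hN hy) with h3 | h3 | h3 | h3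
    · exact absurd h3 hy1
    · exact h3
    · exfalso
      refine OC.no_refl h2 oc.toOC hQ hd h hw hq' fun x hx hxc => oc.cen y hy x hx ?_
      rw [h3]; exact hxc
    · exfalso
      rw [hwdef, PQ.refl_sw h2 h hq' hqp'] at h3
      have hw' : T Q p (q + p) ∈ N := by rw [h2.T_add_self h.qp h.pq]; exact hw
      refine OC.no_refl h2 oc.toOC hQ hd (PQ.sw h2 h) hw' hqp' fun x hx hxc => oc.cen y hy x hx ?_
      rw [h3]; exact hxc
  exact oc.ne ((key a (Or.inl rfl) oc.a1).trans (key b (Or.inr (Or.inl rfl)) oc.b1).symm)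

/-! ### Type `a_k`, `k ≥ 4` -/

/-- `[V, g]` -/
abbrev DD (g : V ≃ₗ[F] V) : Submodule F V := Cfsg.Agent.ClassicalGeometry.OrthAutRoot.D g

/-- Involutions of type `a_k`, `k ≥ 4`. -/
structure AK (Q : QuadraticForm F V) (w : V ≃ₗ[F] V) : Prop where
  mO : w ∈ O Q
  sq : w * w = 1
  al : ∀ x, polar Q x (w x) = 0
  rk : 4 ≤ Module.finrank F (DD w)

omit h2 in
theorem AK.app {w : V ≃ₗ[F] V} (h : AK Q w) (x : V) : w (w x) = x :=
  congrArg (fun f : V ≃ₗ[F] V => f x) h.sq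

theorem mem_D2 {w : V ≃ₗ[F] V} {u : V} : u ∈ DD w ↔ ∃ x, w x + x = u := by
  rw [Cfsg.Agent.ClassicalGeometry.OrthAutRoot.mem_D]
  constructor
  · rintro ⟨x, hx⟩
    exact ⟨x, by rw [← hx, h2.sub_eq]⟩
  · rintro ⟨x, hx⟩
    exact ⟨x, by rw [← hx, h2.sub_eq]⟩

theorem AK.fix {w : V ≃ₗ[F] V} (h : AK Q w) {u : V} (hu : u ∈ DD w) : w u = u := by
  obtain ⟨x, rfl⟩ := (mem_D2 h2).1 hu
  rw [map_add, h.app, add_comm]

theorem AK.sing {w : V ≃ₗ[F] V} (h : AK Q w) {u : V} (hu : u ∈ DD w) : Q u = 0 := by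
  obtain ⟨x, rfl⟩ := (mem_D2 h2).1 hu
  rw [Q_add, mem_O.1 h.mO, polar_comm, h.al, add_zero]
  exact h2.addF _

/-- `[V, w]` is orthogonal to the fixed vectors. -/
theorem AK.perp {w : V ≃ₗ[F] V} (h : AK Q w) {u v : V} (hu : u ∈ DD w) (hv : w v = v) :
    polar Q u v = 0 := by
  obtain ⟨x, rfl⟩ := (mem_D2 h2).1 hu
  have h3 := polar_map h.mO x v
  rw [hv] at h3
  rw [polar_add_left, h3]
  exact h2.addF _

theorem AK.fix_of {w : V ≃ₗ[F] V} (h : AK Q w) (hQ : Nondeg Q) {v : V}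
    (hv : ∀ u ∈ DD w, polar Q u v = 0) : w v = v := by
  apply h2.eq_of_add
  apply hQ
  intro x
  have h3 := hv (w x + x) ((mem_D2 h2).2 ⟨x, rfl⟩)
  rw [polar_add_left] at h3
  have h4 := polar_map h.mO x (w v)
  rw [h.app] at h4
  rw [polar_comm, polar_add_right, ← h4]
  exact h3

theorem AK.mem_D_of {w : V ≃ₗ[F] V} (h : AK Q w) (hQ : Nondeg Q) [FiniteDimensional F V] {z : V}
    (hz : ∀ v, w v = v → polar Q z v = 0) : z ∈ DD w := by
  by_contra hn
  obtain ⟨y, hy1, hy2⟩ := exists_sep_sub hQ hn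
  have := hz y (AK.fix_of h2 h hQ hy2)
  rw [hy1] at this
  exact one_ne_zero this

/-- `τ_x = T (w x + x) x` centralises `w`. -/
theorem AK.tau {w : V ≃ₗ[F] V} (h : AK Q w) (x : V) :
    Q (w x + x) = 0 ∧ polar Q (w x + x) x = 0 ∧ T Q (w x + x) x * w = w * T Q (w x + x) x := by
  have hu : w x + x ∈ DD w := (mem_D2 h2).2 ⟨x, rfl⟩
  have h3 : Q (w x + x) = 0 := AK.sing h2 h hu
  have h4 : polar Q (w x + x) x = 0 := by
    rw [polar_add_left, h2.polar_self, add_zero, polar_comm, h.al]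
  refine ⟨h3, h4, ?_⟩
  have h5 := T_conj h.mO (w x + x) x
  have h6 : T Q (w x + x) (w x) = T Q (w x + x) x := by
    have h7 : w x = x + (w x + x) := by
      rw [add_comm x (w x + x), add_assoc, h2.add_self, add_zero]
    rw [← h2.T_add_self h3 h4]
    exact congrArg _ h7
  rw [AK.fix h2 h hu, h6, mul_inv_eq_iff_eq_mul] at h5
  exact h5.symm

/-- Elements which are trivial on the fixed vectors of `w`. -/
theorem AK.two_of (oc : OC Q D N) (hQ : Nondeg Q) [FiniteDimensional F V] {w : V ≃ₗ[F] V} (h : AK Q w)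
    {g : V ≃ₗ[F] V} (hg : g ∈ O Q) (hfix : ∀ v, w v = v → g v = v)
    (hc : ∀ x, g * T Q (w x + x) x * g⁻¹ * (T Q (w x + x) x)⁻¹ ∈ N) : g = 1 ∨ g = w := by
  have key : ∀ x, g x = x ∨ g x = w x := by
    intro x
    obtain ⟨t1, t2, _⟩ := AK.tau h2 h x
    have hu : w x + x ∈ DD w := (mem_D2 h2).2 ⟨x, rfl⟩
    have hz : g x + x ∈ DD w := by
      apply AK.mem_D_of h2 h hQ
      intro v hv
      have h3 := polar_map hg x v
      rw [hfix v hv] at h3
      rw [polar_add_left, h3]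
      exact h2.addF _
    have gu : g (w x + x) = w x + x := hfix _ (AK.fix h2 h hu)
    have h3 := hc x
    have h4 : polar Q (w x + x) (g x) = 0 := by
      have := polar_map hg (w x + x) x
      rw [gu] at this
      rw [this, t2]
    rw [T_conj hg, gu, h2.T_inv, T_mul t1 h4 t2] at h3
    by_cases hz0 : g x + x = 0
    · left; exact h2.eq_of_add hz0
    by_cases hu0 : w x + x = 0
    · left
      exact hfix x (h2.eq_of_add hu0)
    by_cases hzu : g x + x = w x + x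
    · right; exact add_right_cancel hzu
    exfalso
    refine oc.sig _ _ (h2.ln t1 (AK.sing h2 h hz) ?_ hu0 hz0 hzu) h3
    exact AK.perp h2 h hu (AK.fix h2 h hz)
  by_contra hcon
  push Not at hcon
  obtain ⟨c1, c2⟩ := hcon
  obtain ⟨x1, hx1⟩ : ∃ x, g x ≠ x := by
    by_contra hn
    push Not at hn
    exact c1 (LinearEquiv.ext hn)
  obtain ⟨x2, hx2⟩ : ∃ x, g x ≠ w x := by
    by_contra hn
    push Not at hn
    exact c2 (LinearEquiv.ext hn)
  have e1 := (key x1).resolve_left hx1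
  have e2 := (key x2).resolve_right hx2
  rcases key (x1 + x2) with h3 | h3
  · rw [map_add, e2] at h3
    exact hx1 (add_right_cancel h3)
  · rw [map_add, map_add, e1] at h3
    exact hx2 (add_left_cancel h3)

/-- `g` with `g w = w g`, `[g, C(w)] ≤ N` is `1` or `w`. -/
theorem AK.two_of_gd (oc : OC Q D N) (hQ : Nondeg Q) [FiniteDimensional F V]
    (hc2 : ∀ p q, PQ Q p q → T Q p q ∉ N) {w : V ≃ₗ[F] V} (h : AK Q w) (hw : w ∈ N) (hw1 : w ≠ 1) {g : V ≃ₗ[F] V}
    (hg : Gd Q N w g) : g = 1 ∨ g = w := by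
  have gw : ∀ x, g (w x) = w (g x) := fun x => congrArg (fun f : V ≃ₗ[F] V => f x) hg.comm
  have gD : ∀ u ∈ DD w, g u ∈ DD w := by
    intro u hu
    obtain ⟨x, rfl⟩ := (mem_D2 h2).1 hu
    exact (mem_D2 h2).2 ⟨g x, by rw [map_add, gw]⟩
  have tauD : ∀ x, T Q (w x + x) x ∈ D := fun x =>
    oc.cenN w hw hw1 h.sq _ (T_mem_E _ _) (AK.tau h2 h x).2.2
  have Tc : ∀ u v, w u = u → w v = v → T Q u v * w = w * T Q u v := fun u v hu hv =>
    (comm_of_fix h.mO hu hv).symm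
  -- isotropic pairs
  have iso : ∀ x r', r' ∈ DD w → polar Q x r' = 0 → w x + x ≠ 0 → r' ≠ 0 → r' ≠ w x + x →
      g (w x + x) = w x + x ∨ g (w x + x) = r' ∨ g (w x + x) = (w x + x) + r' := by
    intro x r' hr' hxr' hr0 hr'0 hne
    set r := w x + x with hrdef
    have hr : r ∈ DD w := (mem_D2 h2).2 ⟨x, rfl⟩
    have hln : Ln Q r r' := h2.ln (AK.sing h2 h hr) (AK.sing h2 h hr') (AK.perp h2 h hr (AK.fix h2 h hr')) hr0 hr'0 hne
    have hln' : Ln Q (g r) (g r') := hln.map hg.mO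
    have h3 := hg.mem (T Q r r') (T_mem_E _ _) (Tc r r' (AK.fix h2 h hr) (AK.fix h2 h hr'))
    rw [T_conj hg.mO, h2.T_inv] at h3
    have hfix3 : ∀ v, w v = v → (T Q (g r) (g r') * T Q r r') v = v := by
      intro v hv
      show T Q (g r) (g r') (T Q r r' v) = v
      rw [T_fix (AK.perp h2 h hr hv) (AK.perp h2 h hr' hv), T_fix (AK.perp h2 h (gD r hr) hv)
        (AK.perp h2 h (gD r' hr') hv)]
    have h4 := AK.two_of h2 oc hQ h (E_le_O (oc.DE (oc.le h3))) hfix3 (by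
      intro x'
      have h5 := oc.norm _ (tauD x') _ (N.inv_mem h3)
      have h6 : ∀ n t : V ≃ₗ[F] V, n * t * n⁻¹ * t⁻¹ = n * (t * n⁻¹ * t⁻¹) := fun n t => by group
      rw [h6]
      exact N.mul_mem h3 h5)
    have conv : ∀ v : V, v ∈ L F (g r) (g r') ↔ v = 0 ∨ v = g r ∨ v = g r' ∨ v = g r + g r' := fun v =>
      h2.mem_span_pair
    rcases h4 with h4 | h4
    · have h5 : T Q (g r) (g r') = T Q r r' := by
        rw [← h2.T_inv (Q := Q) (u := r) (w := r')]
        exact eq_inv_of_mul_eq_one_left h4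
      have h6 := D_T hQ hln'
      rw [h5, D_T hQ hln] at h6
      have h7 : g r ∈ L F r r' := by rw [h6]; exact left_mem_L _ _
      rcases h2.mem_span_pair.1 h7 with h8 | h8 | h8 | h8
      · exact absurd h8 hln'.ne
      · exact Or.inl h8
      · exact Or.inr (Or.inl h8)
      · exact Or.inr (Or.inr h8)
    · -- `w = T (g r) (g r') T r r'`
      obtain ⟨x', hx'⟩ := (mem_D2 h2).1 hr'
      have bx : ∀ y s, w y + y = s → polar Q r y = 0 → polar Q r' y = 0 → s ∈ L F (g r) (g r') := by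
        intro y s hs hy1 hy2
        have h5 : w y = T Q (g r) (g r') y := by
          rw [← h4]
          show T Q (g r) (g r') (T Q r r' y) = _
          rw [T_fix hy1 hy2]
        rw [← hs, h5, h2.T_apply hln'.qu hln'.perp, hln'.qw, mem_L]
        refine ⟨polar Q (g r') y, polar Q (g r) y, ?_⟩
        have h6 := h2.add_self y
        have h7 : y + polar Q (g r) y • g r' + polar Q (g r') y • g r + (0 * polar Q (g r) y) • g r + y =
            (y + y) + (polar Q (g r') y • g r + polar Q (g r) y • g r') := by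
          rw [zero_mul, zero_smul]; abel
        rw [h7, h6, zero_add]
      have hrx : polar Q r x = 0 := (AK.tau h2 h x).2.1
      have hr'x : polar Q r' x = 0 := by rw [polar_comm, hxr']
      have hr'x' : polar Q r' x' = 0 := by rw [← hx']; exact (AK.tau h2 h x').2.1
      have hrx' : polar Q r x' = 0 := by
        have h5 := polar_map h.mO x x'
        rw [← hx', polar_add_right] at hxr'
        have h6 := polar_map h.mO x (w x')
        rw [h.app] at h6
        rw [hrdef, polar_add_left, h6]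
        exact hxr'
      have m1 := (conv _).1 (bx x r hrdef.symm hrx hr'x)
      have m2 := (conv _).1 (bx x' r' hx' hrx' hr'x')
      have g0 : g r ≠ 0 := hln'.ne
      have g0' : g r' ≠ 0 := hln'.ne'
      rcases m1 with m1 | m1 | m1 | m1
      · exact absurd m1 hr0
      · exact Or.inl m1.symm
      · rcases m2 with m2 | m2 | m2 | m2
        · exact absurd m2 hr'0
        · exact Or.inr (Or.inl m2.symm)
        · exact absurd (m2.trans m1.symm) hne
        · right; right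
          have h5 : r + r' = g r' + (g r + g r') := congrArg₂ (· + ·) m1 m2
          rw [h5, add_comm (g r') (g r + g r'), add_assoc, h2.add_self, add_zero]
      · rcases m2 with m2 | m2 | m2 | m2
        · exact absurd m2 hr'0
        · exact Or.inr (Or.inl m2.symm)
        · right; right
          have h5 : r + r' = (g r + g r') + g r' := congrArg₂ (· + ·) m1 m2
          rw [h5, add_assoc, h2.add_self, add_zero]
        · exact absurd (m2.trans m1.symm) hne
  -- `g` is trivial on `[V, w]`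
  have triv : ∀ u ∈ DD w, g u = u := by
    intro u hu
    by_cases hu0 : u = 0
    · rw [hu0, map_zero]
    obtain ⟨x, hx⟩ := (mem_D2 h2).1 hu
    let S : Submodule F V := DD w ⊓ LinearMap.ker (polarBilin Q x)
    have hS : 3 ≤ Module.finrank F S := by
      let f : DD w →ₗ[F] F := (polarBilin Q x).comp (DD w).subtype
      have h3 := LinearMap.finrank_range_add_finrank_ker f
      have h4 : Module.finrank F (LinearMap.range f) ≤ 1 := by
        have := Submodule.finrank_le (LinearMap.range f)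
        rwa [Module.finrank_self] at this
      have h5 : (LinearMap.ker f).map (DD w).subtype ≤ S := by
        rintro _ ⟨y, hy, rfl⟩
        exact ⟨y.2, hy⟩
      have h6 := Submodule.finrank_mono h5
      rw [Submodule.finrank_map_subtype_eq] at h6
      have := h.rk
      omega
    obtain ⟨r1, hr1, hr1u⟩ : ∃ r1 ∈ S, r1 ∉ Submodule.span F {u} := by
      by_contra hn
      push Not at hn
      have h3 := Submodule.finrank_mono (show S ≤ Submodule.span F {u} from hn)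
      have h4 := finrank_span_singleton_le (F := F) u
      omega
    obtain ⟨r2, hr2, hr2u⟩ : ∃ r2 ∈ S, r2 ∉ Submodule.span F {u, r1} := by
      by_contra hn
      push Not at hn
      have h3 := Submodule.finrank_mono (show S ≤ Submodule.span F {u, r1} from hn)
      have h4 := finrank_span_pair_le (F := F) u r1
      omega
    rw [h2.mem_span] at hr1u
    rw [h2.mem_span_pair] at hr2u
    push Not at hr1u hr2u
    obtain ⟨a1, a2⟩ := hr1u
    obtain ⟨b1, b2, b3, b4⟩ := hr2u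
    have hxr1 : polar Q x r1 = 0 := by simpa using hr1.2
    have hxr2 : polar Q x r2 = 0 := by simpa using hr2.2
    have i1 := iso x r1 hr1.1 hxr1 (by rw [hx]; exact hu0) a1 (by rw [hx]; exact a2)
    have i2 := iso x r2 hr2.1 hxr2 (by rw [hx]; exact hu0) b1 (by rw [hx]; exact b2)
    rw [hx] at i1 i2
    rcases i1 with i1 | i1 | i1
    · exact i1
    · rcases i2 with i2 | i2 | i2
      · exact i2
      · exact absurd (i2.symm.trans i1) b3
      · exfalso
        apply b4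
        rw [← i1, i2, ← add_assoc, h2.add_self, zero_add]
    · rcases i2 with i2 | i2 | i2
      · exact i2
      · exact absurd (i2.symm.trans i1) b4
      · exact absurd (add_left_cancel (i2.symm.trans i1)) b3
  -- two nonzero vectors in `[V, w]`
  obtain ⟨u1, hu1, hu10⟩ : ∃ u ∈ DD w, u ≠ 0 := by
    by_contra hn
    push Not at hn
    have h3 := Submodule.finrank_mono (show DD w ≤ ⊥ from fun x hx => by
      rw [hn x hx]; exact Submodule.zero_mem _)
    have := h.rk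
    rw [finrank_bot] at h3
    omega
  obtain ⟨u2, hu2, hu2n⟩ : ∃ u ∈ DD w, u ∉ Submodule.span F {u1} := by
    by_contra hn
    push Not at hn
    have h3 := Submodule.finrank_mono (show DD w ≤ Submodule.span F {u1} from hn)
    have h4 := finrank_span_singleton_le (F := F) u1
    have := h.rk
    omega
  rw [h2.mem_span] at hu2n
  push Not at hu2n
  obtain ⟨hu20, hu21⟩ := hu2n
  have trivV : ∀ v, w v = v → g v = v := by
    intro v hv
    have key : ∀ u ∈ DD w, u ≠ 0 → g v + v = 0 ∨ g v + v = u := by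
      intro u hu hu0
      have hqu := AK.sing h2 h hu
      have huv := AK.perp h2 h hu hv
      have h3 := hg.mem (T Q u v) (T_mem_E _ _) (Tc u v (AK.fix h2 h hu) hv)
      have hugv : polar Q u (g v) = 0 := by
        have := polar_map hg.mO u v
        rw [triv u hu] at this
        rw [this, huv]
      rw [T_conj hg.mO, triv u hu, h2.T_inv, T_mul hqu hugv huv] at h3
      have hz : polar Q u (g v + v) = 0 := by rw [polar_add_right, hugv, huv, add_zero]
      rcases h2 (Q (g v + v)) with h4 | h4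
      · by_contra hcon
        push Not at hcon
        exact oc.sig _ _ (h2.ln hqu h4 hz hu0 hcon.1 hcon.2) h3
      · exact absurd h3 (hc2 u _ ⟨hqu, hu0, hz, h4⟩)
    apply h2.eq_of_add
    rcases key u1 hu1 hu10 with h3 | h3
    · exact h3
    · rcases key u2 hu2 hu20 with h4 | h4
      · exact h4
      · exact absurd (h4.symm.trans h3) hu21
  exact AK.two_of h2 oc hQ h hg.mO trivV fun x => hg.mem _ (T_mem_E _ _) (AK.tau h2 h x).2.2

/-- **Involutions of type `a_k`, `k ≥ 4`, are not in `N`.** -/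
theorem OConf.ak [Finite (V ≃ₗ[F] V)] (hQ : Nondeg Q) (hd : 8 ≤ Module.finrank F V) {a b : V ≃ₗ[F] V}
    (oc : OConf Q D N a b) {w : V ≃ₗ[F] V} (h : AK Q w) (hw1 : w ≠ 1) : w ∉ N := by
  intro hw
  have hfd : FiniteDimensional F V := Module.finite_of_finrank_pos (by omega)
  have hc2 : ∀ p q, PQ Q p q → T Q p q ∉ N := fun p q hpq => OConf.c2 h2 hQ hd oc hpq
  have hN := eq_pair_of_self hw h.sq hw1 (fun n hn hc =>
    AK.two_of_gd h2 oc.toOC hQ hc2 h hw hw1 (OC.gd h2 oc.toOC hw hw1 h.sq hn hc)) oc.core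
  have key : ∀ y, (y = a ∨ y = b ∨ y = a * b) → y ≠ 1 → y = w := fun y hy hy1 =>
    (AK.two_of_gd h2 oc.toOC hQ hc2 h hw hw1 (OConf.gd h2 oc hw hw1 h.sq hN hy)).resolve_left hy1
  exact oc.ne ((key a (Or.inl rfl) oc.a1).trans (key b (Or.inr (Or.inl rfl)) oc.b1).symm)

end

end Cfsg.Agent.OddHalf.D4.O2

end

-- merged: Cfsg.Agent.OddHalf.D4.O2.Prod
section

/-!
# ODD, D4, rows `Ω^±_2n(2)`: a product of two root elements in `N` has odd order
-/

set_option autoImplicit false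
set_option linter.unusedSectionVars false

namespace Cfsg.Agent.OddHalf.D4.O2

open QuadraticMap Cfsg.Agent.LieClassical.OrthCore Cfsg.Agent.LieClassical.OrthTrans
  Cfsg.Agent.ClassicalGeometry.OrthAutBasic Cfsg.Agent.ClassicalGeometry.OrthAutRoot
  Cfsg.Agent.ClassicalGeometry.OrthAutSylow Cfsg.Agent.OddHalf.D4.SigmaEnd

variable {F V : Type*} [Field F] [AddCommGroup V] [Module F V] {Q : QuadraticForm F V}

section

variable (h2 : Two F) {D N : Subgroup (V ≃ₗ[F] V)}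

include h2

theorem ln_add {u w : V} (h : Ln Q u w) : Ln Q (u + w) w := by
  refine h2.ln ?_ h.qw ?_ ?_ h.ne' ?_
  · rw [Q_add, h.qu, h.qw, h.perp]; simp
  · rw [polar_add_left, h.perp, h2.polar_self, add_zero]
  · intro e
    exact Ln.ne2 h (h2.eq_of_add e).symm
  · intro e
    exact h.ne (by simpa using e.symm)

theorem T_add_left {u w : V} (h : Ln Q u w) : T Q (u + w) w = T Q u w := by
  rw [h2.T_swap (ln_add h2 h).qu h.qw (ln_add h2 h).perp, h2.T_add_self h.qw h.perp', h2.T_swap h.qw h.qu h.perp']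

theorem T_ln {u w : V} (h : Ln Q u w) (v : V) : T Q u w v = v + polar Q u v • w + polar Q w v • u := by
  rw [h2.T_apply h.qu h.perp, h.qw, zero_mul, zero_smul, add_zero]

theorem rank_two {u1 u2 u3 u4 : V} (h12 : Ln Q u1 u2) (h34 : Ln Q u3 u4) (b13 : polar Q u1 u3 = 1)
    (b24 : polar Q u2 u4 = 1) (b14 : polar Q u1 u4 = 0) (b23 : polar Q u2 u3 = 0) :
    (T Q u1 u2 * T Q u3 u4) ^ 3 = 1 := by
  set e := T Q u1 u2 with he
  set f := T Q u3 u4 with hf
  have e2 : e * e = 1 := h2.T_sq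
  have f2 : f * f = 1 := h2.T_sq
  have b31 : polar Q u3 u1 = 1 := by rw [polar_comm, b13]
  have b42 : polar Q u4 u2 = 1 := by rw [polar_comm, b24]
  have b41 : polar Q u4 u1 = 0 := by rw [polar_comm, b14]
  have b32 : polar Q u3 u2 = 0 := by rw [polar_comm, b23]
  have h3 : e * f * e = T Q (u3 + u2) (u4 + u1) := by
    have h4 := T_conj (T_mem_O (Q := Q) u1 u2) u3 u4
    rw [h2.T_inv, T_ln h2 h12 u3, T_ln h2 h12 u4, b13, b23, b14, b24, one_smul, zero_smul, zero_smul, one_smul,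
      add_zero, add_zero] at h4
    exact h4
  have h4 : f * e * f = T Q (u1 + u4) (u2 + u3) := by
    have h4 := T_conj (T_mem_O (Q := Q) u3 u4) u1 u2
    rw [h2.T_inv, T_ln h2 h34 u1, T_ln h2 h34 u2, b31, b41, b32, b42, one_smul, zero_smul, zero_smul, one_smul,
      add_zero, add_zero] at h4
    exact h4
  have q32 : Q (u3 + u2) = 0 := by rw [Q_add, h34.qu, h12.qw, b32]; simp
  have q41 : Q (u4 + u1) = 0 := by rw [Q_add, h34.qw, h12.qu, b41]; simp
  have b : polar Q (u3 + u2) (u4 + u1) = 0 := by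
    simp only [polar_add_left, polar_add_right, h34.perp, b31, b24, h12.perp']
    rw [zero_add, add_zero]
    exact h2.two
  have h5 : e * f * e = f * e * f := by
    rw [h3, h4, h2.T_swap q32 q41 b, add_comm u4 u1, add_comm u3 u2]
  calc (e * f) ^ 3 = (e * f * e) * (f * e * f) := by rw [pow_succ, pow_two]; group
    _ = (f * e * f) * (f * e * f) := by rw [h5]
    _ = f * e * (f * f) * e * f := by group
    _ = f * (e * e) * f := by rw [f2]; group
    _ = 1 := by rw [e2, mul_one, f2]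

theorem odd_of_cube {x : V ≃ₗ[F] V} (h : x ^ 3 = 1) : Odd (orderOf x) := by
  have h3 : orderOf x ∣ 3 := orderOf_dvd_of_pow_eq_one h
  exact Odd.of_dvd_nat (by decide) h3

/-- The form is zero on `⟨u1, u2⟩ × ⟨u3, u4⟩`. -/
theorem rank_zero (hQ : Nondeg Q) [FiniteDimensional F V] (oc : OC Q D N) (hak : ∀ w, AK Q w → w ≠ 1 → w ∉ N)
    {u1 u2 u3 u4 : V} (h12 : Ln Q u1 u2) (h34 : Ln Q u3 u4) (b13 : polar Q u1 u3 = 0)
    (b24 : polar Q u2 u4 = 0) (b14 : polar Q u1 u4 = 0) (b23 : polar Q u2 u3 = 0) (hN : T Q u1 u2 * T Q u3 u4 ∈ N) :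
    T Q u1 u2 * T Q u3 u4 = 1 := by
  -- a common vector
  have common : ∀ p v v', Ln Q p v → Ln Q p v' → polar Q v v' = 0 → T Q p v * T Q p v' ∈ N →
      T Q p v * T Q p v' = 1 := by
    intro p v v' h h' hb hN
    have hp : polar Q p (v + v') = 0 := by rw [polar_add_right, h.perp, h'.perp, add_zero]
    rw [T_mul h.qu h.perp h'.perp] at hN ⊢
    by_cases h0 : v + v' = 0
    · rw [h0, T_zero_right]
    by_cases h1 : v + v' = p
    · rw [h1, h2.T_self]
    exact absurd hN (oc.sig _ _ (h2.ln h.qu (by rw [Q_add, h.qw, h'.qw, hb]; simp) hp h.ne h0 h1))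
  have b31 : polar Q u3 u1 = 0 := by rw [polar_comm, b13]
  have b42 : polar Q u4 u2 = 0 := by rw [polar_comm, b24]
  have b41 : polar Q u4 u1 = 0 := by rw [polar_comm, b14]
  have b32 : polar Q u3 u2 = 0 := by rw [polar_comm, b23]
  -- `u` in the first line, `(u, v)` a basis of the second
  have case1 : ∀ u v, Ln Q u v → T Q u v = T Q u3 u4 → polar Q u1 v = 0 → polar Q u2 v = 0 →
      (u = u1 ∨ u = u2 ∨ u = u1 + u2) → T Q u1 u2 * T Q u3 u4 = 1 := by
    intro u v huv hT hb1 hb2 hu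
    rw [← hT] at hN ⊢
    rcases hu with rfl | rfl | rfl
    · exact common _ _ _ h12 huv hb2 hN
    · rw [h2.T_swap h12.qu h12.qw h12.perp] at hN ⊢
      exact common _ _ _ h12.symm huv hb1 hN
    · rw [← T_add_left h2 h12] at hN ⊢
      exact common _ _ _ (ln_add h2 h12) huv hb2 hN
  by_cases c3 : u3 ∈ Submodule.span F {u1, u2}
  · apply case1 u3 u4 h34 rfl b14 b24
    exact (h2.mem_span_pair.1 c3).resolve_left h34.ne
  by_cases c4 : u4 ∈ Submodule.span F {u1, u2}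
  · apply case1 u4 u3 h34.symm (h2.T_swap h34.qw h34.qu h34.perp') b13 b23
    exact (h2.mem_span_pair.1 c4).resolve_left h34.ne'
  by_cases c5 : u3 + u4 ∈ Submodule.span F {u1, u2}
  · apply case1 (u3 + u4) u4 (ln_add h2 h34) (T_add_left h2 h34) b14 b24
    exact (h2.mem_span_pair.1 c5).resolve_left (ln_add h2 h34).ne
  exfalso
  -- four independent vectors
  have hli : LinearIndependent F ![u1, u2, u3, u4] := by
    rw [Fintype.linearIndependent_iff]
    intro c hc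
    have hc' : c 0 • u1 + c 1 • u2 + c 2 • u3 + c 3 • u4 = 0 := by
      have h3 := hc
      simp only [Fin.sum_univ_four] at h3
      simpa only [_root_.Fin.isValue, _root_.Nat.succ_eq_add_one, _root_.Nat.reduceAdd, _root_.Matrix.cons_val_zero, _root_.Matrix.cons_val_one, _root_.Matrix.cons_val] using h3
    have hm : c 2 • u3 + c 3 • u4 ∈ Submodule.span F {u1, u2} := by
      have h3 : c 2 • u3 + c 3 • u4 = c 0 • u1 + c 1 • u2 := by
        have h4 : (c 0 • u1 + c 1 • u2) + (c 2 • u3 + c 3 • u4) = 0 := by rw [← hc']; abel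
        exact (h2.eq_of_add h4).symm
      rw [h3]
      exact Submodule.mem_span_pair.2 ⟨_, _, rfl⟩
    have h23 : c 2 = 0 ∧ c 3 = 0 := by
      rcases h2 (c 2) with h3 | h3 <;> rcases h2 (c 3) with h4 | h4
      · exact ⟨h3, h4⟩
      · exfalso; apply c4; simpa [h3, h4] using hm
      · exfalso; apply c3; simpa [h3, h4] using hm
      · exfalso; apply c5; simpa [h3, h4] using hm
    rw [h23.1, h23.2, zero_smul, zero_smul, add_zero, add_zero] at hc'
    have h01 := h12.coeff hc'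
    intro i
    fin_cases i
    · exact h01.1
    · exact h01.2
    · exact h23.1
    · exact h23.2
  set w := T Q u1 u2 * T Q u3 u4 with hw
  have hwx : ∀ x, w x = x + polar Q u3 x • u4 + polar Q u4 x • u3 + polar Q u1 x • u2 + polar Q u2 x • u1 := by
    intro x
    show T Q u1 u2 (T Q u3 u4 x) = _
    rw [T_ln h2 h34, T_ln h2 h12]
    simp only [polar_add_right, polar_smul_right, b14, b13, b24, b23, smul_eq_mul, mul_zero, add_zero]
  have fixu : ∀ x, polar Q u1 x = 0 → polar Q u2 x = 0 → polar Q u3 x = 0 → polar Q u4 x = 0 → w x = x := by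
    intro x x1 x2 x3 x4
    rw [hwx, x1, x2, x3, x4]; simp
  have hAK : AK Q w := by
    refine ⟨(O Q).mul_mem (T_mem_O _ _) (T_mem_O _ _), ?_, ?_, ?_⟩
    · have hcomm : T Q u1 u2 * T Q u3 u4 = T Q u3 u4 * T Q u1 u2 := by
        apply comm_of_fix (T_mem_O _ _)
        · exact T_fix b13 b23
        · exact T_fix b14 b24
      calc w * w = T Q u1 u2 * (T Q u3 u4 * T Q u1 u2) * T Q u3 u4 := by rw [hw]; group
        _ = T Q u1 u2 * (T Q u1 u2 * T Q u3 u4) * T Q u3 u4 := by rw [← hcomm]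
        _ = (T Q u1 u2 * T Q u1 u2) * (T Q u3 u4 * T Q u3 u4) := by group
        _ = 1 := by rw [h2.T_sq, h2.T_sq, one_mul]
    · intro x
      rw [hwx]
      simp only [polar_add_right, polar_smul_right, h2.polar_self, smul_eq_mul]
      rw [polar_comm Q x u1, polar_comm Q x u2, polar_comm Q x u3, polar_comm Q x u4]
      have h3 := h2.addF (polar Q u3 x * polar Q u4 x)
      have h4 := h2.addF (polar Q u1 x * polar Q u2 x)
      linear_combination h3 + h4
    · -- the four vectors are in `[V, w]`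
      have hsep : ∀ i : Fin 4, ∃ x, ∀ j : Fin 4, polar Q (![u1, u2, u3, u4] j) x = if j = i then 1 else 0 := by
        intro i
        have h3 : ![u1, u2, u3, u4] i ∉ Submodule.span F (![u1, u2, u3, u4] '' {j | j ≠ i}) :=
          hli.notMem_span_image (by simp)
        obtain ⟨x, hx1, hx2⟩ := exists_sep_sub hQ h3
        refine ⟨x, fun j => ?_⟩
        by_cases hj : j = i
        · rw [hj, if_pos rfl]; exact hx1
        · rw [if_neg hj]
          exact hx2 _ (Submodule.subset_span ⟨j, hj, rfl⟩)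
      have hmem : ∀ i, ![u1, u2, u3, u4] i ∈ DD w := by
        intro i
        fin_cases i
        · obtain ⟨x, hx⟩ := hsep 1
          refine (mem_D2 h2).2 ⟨x, ?_⟩
          have x1 : polar Q u1 x = 0 := hx 0
          have x2 : polar Q u2 x = 1 := hx 1
          have x3 : polar Q u3 x = 0 := hx 2
          have x4 : polar Q u4 x = 0 := hx 3
          rw [hwx, x1, x2, x3, x4, zero_smul, zero_smul, zero_smul, one_smul, add_zero, add_zero, add_zero,
            add_comm x u1, add_assoc, h2.add_self, add_zero]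
          rfl
        · obtain ⟨x, hx⟩ := hsep 0
          refine (mem_D2 h2).2 ⟨x, ?_⟩
          have x1 : polar Q u1 x = 1 := hx 0
          have x2 : polar Q u2 x = 0 := hx 1
          have x3 : polar Q u3 x = 0 := hx 2
          have x4 : polar Q u4 x = 0 := hx 3
          rw [hwx, x1, x2, x3, x4, zero_smul, zero_smul, zero_smul, one_smul, add_zero, add_zero, add_zero,
            add_comm x u2, add_assoc, h2.add_self, add_zero]
          rfl
        · obtain ⟨x, hx⟩ := hsep 3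
          refine (mem_D2 h2).2 ⟨x, ?_⟩
          have x1 : polar Q u1 x = 0 := hx 0
          have x2 : polar Q u2 x = 0 := hx 1
          have x3 : polar Q u3 x = 0 := hx 2
          have x4 : polar Q u4 x = 1 := hx 3
          rw [hwx, x1, x2, x3, x4, zero_smul, zero_smul, zero_smul, one_smul, add_zero, add_zero, add_zero,
            add_comm x u3, add_assoc, h2.add_self, add_zero]
          rfl
        · obtain ⟨x, hx⟩ := hsep 2
          refine (mem_D2 h2).2 ⟨x, ?_⟩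
          have x1 : polar Q u1 x = 0 := hx 0
          have x2 : polar Q u2 x = 0 := hx 1
          have x3 : polar Q u3 x = 1 := hx 2
          have x4 : polar Q u4 x = 0 := hx 3
          rw [hwx, x1, x2, x3, x4, zero_smul, zero_smul, zero_smul, one_smul, add_zero, add_zero, add_zero,
            add_comm x u4, add_assoc, h2.add_self, add_zero]
          rfl
      have h3 : Submodule.span F (Set.range ![u1, u2, u3, u4]) ≤ DD w := by
        rw [Submodule.span_le]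
        rintro _ ⟨i, rfl⟩
        exact hmem i
      have h4 := Submodule.finrank_mono h3
      rw [finrank_span_eq_card hli, Fintype.card_fin] at h4
      exact h4
  refine hak w hAK ?_ hN
  intro hw1
  have h3 := hAK.rk
  have h4 : DD w ≤ ⊥ := by
    intro u hu
    obtain ⟨x, rfl⟩ := (mem_D2 h2).1 hu
    rw [hw1]
    show x + x ∈ _
    rw [h2.add_self]; exact Submodule.zero_mem _
  have h5 := Submodule.finrank_mono h4
  rw [finrank_bot] at h5
  omega

/-- Rank one is impossible. -/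
theorem rank_one (oc : OC Q D N) (hc2 : ∀ p q, PQ Q p q → T Q p q ∉ N)
    {u1 u2 u3 u4 : V} (h12 : Ln Q u1 u2) (h34 : Ln Q u3 u4) (b13 : polar Q u1 u3 = 0)
    (b24 : polar Q u2 u4 = 1) (b14 : polar Q u1 u4 = 0) (b23 : polar Q u2 u3 = 0) :
    T Q u1 u2 * T Q u3 u4 ∉ N := by
  intro hN
  have b31 : polar Q u3 u1 = 0 := by rw [polar_comm, b13]
  by_cases h13 : u1 = u3
  · subst h13
    rw [T_mul h12.qu h12.perp h34.perp] at hN
    refine hc2 _ _ ⟨h12.qu, h12.ne, ?_, ?_⟩ hN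
    · rw [polar_add_right, h12.perp, h34.perp, add_zero]
    · rw [Q_add, h12.qw, h34.qw, b24]; simp
  · have h3 : T Q u1 u2 * T Q u3 u4 * T Q u1 u2 = T Q u3 u4 * T Q u3 u1 := by
      have h4 := T_conj (T_mem_O (Q := Q) u1 u2) u3 u4
      rw [h2.T_inv, T_ln h2 h12 u3, T_ln h2 h12 u4, b13, b23, b14, b24, zero_smul, zero_smul, one_smul,
        add_zero, add_zero, add_zero] at h4
      rw [h4, T_mul h34.qu h34.perp b31]
    have h4 := N.mul_mem hN hN
    have h5 : T Q u1 u2 * T Q u3 u4 * (T Q u1 u2 * T Q u3 u4) = T Q u3 u1 := by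
      calc T Q u1 u2 * T Q u3 u4 * (T Q u1 u2 * T Q u3 u4) = (T Q u1 u2 * T Q u3 u4 * T Q u1 u2) * T Q u3 u4 := by
            group
        _ = T Q u3 u4 * T Q u3 u1 * T Q u3 u4 := by rw [h3]
        _ = T Q u3 u1 * T Q u3 u4 * T Q u3 u4 := by rw [T_comm h34.qu h34.perp b31]
        _ = T Q u3 u1 * (T Q u3 u4 * T Q u3 u4) := by group
        _ = T Q u3 u1 := by rw [h2.T_sq, mul_one]
    rw [h5] at h4
    exact oc.sig _ _ (h2.ln h34.qu h12.qu b31 h34.ne h12.ne h13) h4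

/-- **A product of two root elements in `N` has odd order.** -/
theorem odd_prod (hQ : Nondeg Q) [FiniteDimensional F V] (oc : OC Q D N) (hc2 : ∀ p q, PQ Q p q → T Q p q ∉ N)
    (hak : ∀ w, AK Q w → w ≠ 1 → w ∉ N) {u1 u2 u3 u4 : V} (h12 : Ln Q u1 u2) (h34 : Ln Q u3 u4)
    (hN : T Q u1 u2 * T Q u3 u4 ∈ N) : Odd (orderOf (T Q u1 u2 * T Q u3 u4)) := by
  -- the case `b(u2, u4) = 1`
  have main : ∀ u1 u2 u3 u4, Ln Q u1 u2 → Ln Q u3 u4 → T Q u1 u2 * T Q u3 u4 ∈ N → polar Q u2 u4 = 1 →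
      Odd (orderOf (T Q u1 u2 * T Q u3 u4)) := by
    intro u1 u2 u3 u4 h12 h34 hN b24
    have b42 : polar Q u4 u2 = 1 := by rw [polar_comm, b24]
    obtain ⟨v1, hv1, t1, b14⟩ : ∃ v1, Ln Q v1 u2 ∧ T Q v1 u2 = T Q u1 u2 ∧ polar Q v1 u4 = 0 := by
      rcases h2 (polar Q u1 u4) with h | h
      · exact ⟨u1, h12, rfl, h⟩
      · exact ⟨u1 + u2, ln_add h2 h12, T_add_left h2 h12, by rw [polar_add_left, h, b24, h2.two]⟩
    obtain ⟨v3, hv3, t3, b23⟩ : ∃ v3, Ln Q v3 u4 ∧ T Q v3 u4 = T Q u3 u4 ∧ polar Q u2 v3 = 0 := by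
      rcases h2 (polar Q u2 u3) with h | h
      · exact ⟨u3, h34, rfl, h⟩
      · exact ⟨u3 + u4, ln_add h2 h34, T_add_left h2 h34, by rw [polar_add_right, h, b24, h2.two]⟩
    rw [← t1, ← t3] at hN ⊢
    rcases h2 (polar Q v1 v3) with h | h
    · exact absurd hN (rank_one h2 oc hc2 hv1 hv3 h b24 b14 b23)
    · exact odd_of_cube h2 (rank_two h2 hv1 hv3 h b24 b14 b23)
  have s12 : T Q u1 u2 = T Q u2 u1 := h2.T_swap h12.qu h12.qw h12.perp
  have s34 : T Q u3 u4 = T Q u4 u3 := h2.T_swap h34.qu h34.qw h34.perp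
  rcases h2 (polar Q u2 u4) with b24 | b24
  swap
  · exact main _ _ _ _ h12 h34 hN b24
  rcases h2 (polar Q u1 u4) with b14 | b14
  swap
  · rw [s12] at hN ⊢
    exact main _ _ _ _ h12.symm h34 hN b14
  rcases h2 (polar Q u2 u3) with b23 | b23
  swap
  · rw [s34] at hN ⊢
    exact main _ _ _ _ h12 h34.symm hN b23
  rcases h2 (polar Q u1 u3) with b13 | b13
  swap
  · rw [s12, s34] at hN ⊢
    exact main _ _ _ _ h12.symm h34.symm hN b13
  rw [rank_zero h2 hQ oc hak h12 h34 b13 b24 b14 b23 hN, orderOf_one]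
  exact odd_one

end

end Cfsg.Agent.OddHalf.D4.O2

end

-- merged: Cfsg.Agent.OddHalf.D4.O2.Fix
section

/-!
# ODD, D4, rows `Ω^±_2n(2)`: no four-group of `O(V)` whose involutions centralise the same root elements
-/

set_option autoImplicit false
set_option linter.unusedSectionVars false

namespace Cfsg.Agent.OddHalf.D4.O2

open QuadraticMap Cfsg.Agent.LieClassical.OrthCore Cfsg.Agent.LieClassical.OrthTrans
  Cfsg.Agent.ClassicalGeometry.OrthAutBasic Cfsg.Agent.ClassicalGeometry.OrthAutRoot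
  Cfsg.Agent.ClassicalGeometry.OrthAutSylow

variable {F V : Type*} [Field F] [AddCommGroup V] [Module F V] {Q : QuadraticForm F V}

/-- A four-group `⟨a, b⟩` of isometries whose involutions centralise the same root elements. -/
structure Cst (Q : QuadraticForm F V) (a b : V ≃ₗ[F] V) : Prop where
  aO : a ∈ O Q
  bO : b ∈ O Q
  aa : a * a = 1
  bb : b * b = 1
  ab : a * b = b * a
  a1 : a ≠ 1
  b1 : b ≠ 1
  ne : a ≠ b
  cst : ∀ y y', (y = a ∨ y = b ∨ y = a * b) → (y' = a ∨ y' = b ∨ y' = a * b) → ∀ u w, Ln Q u w →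
    y * T Q u w = T Q u w * y → y' * T Q u w = T Q u w * y'

section

variable (h2 : Two F)

include h2

/-- A singular vector in `U` outside `B`. -/
theorem exists_sing_in [FiniteDimensional F V] (U B : Submodule F V)
    (h : Module.finrank F B + 3 ≤ Module.finrank F U) : ∃ r ∈ U, Q r = 0 ∧ r ∉ B := by
  have := h2.finite
  let B' : Submodule F U := B.comap U.subtype
  obtain ⟨C, hC⟩ := B'.exists_isCompl
  have hd : Module.finrank F B' + Module.finrank F C = Module.finrank F U :=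
    Submodule.finrank_add_eq_of_isCompl hC
  have hB' : Module.finrank F B' ≤ Module.finrank F B := by
    have h3 : Module.finrank F (B'.map U.subtype) = Module.finrank F B' := Submodule.finrank_map_subtype_eq _ _
    rw [← h3]
    apply Submodule.finrank_mono
    rintro _ ⟨x, hx, rfl⟩
    exact hx
  have h3 : Module.finrank F (C.map U.subtype) = Module.finrank F C := Submodule.finrank_map_subtype_eq _ _
  obtain ⟨r, hr, hr0, hrQ⟩ := exists_sing_of_three_le (Q := Q) (C.map U.subtype) (by omega)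
  obtain ⟨c, hc, rfl⟩ := hr
  refine ⟨c, c.2, hrQ, fun hB => hr0 ?_⟩
  have := hC.disjoint
  rw [Submodule.disjoint_def] at this
  have h4 : c = 0 := this c hB hc
  rw [h4]; rfl

theorem exists_in (U B : Submodule F V) [FiniteDimensional F V]
    (h : Module.finrank F B < Module.finrank F U) : ∃ r ∈ U, r ∉ B := by
  by_contra hn
  push Not at hn
  have := Submodule.finrank_mono (show U ≤ B from hn)
  omega

/-- The fixed vectors of `y` orthogonal to `v`. -/
def UU (Q : QuadraticForm F V) (y : V ≃ₗ[F] V) (v : V) : Submodule F V :=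
  LinearMap.ker (y.toLinearMap - LinearMap.id) ⊓ LinearMap.ker (polarBilin Q v)

omit h2 in
theorem mem_UU {y : V ≃ₗ[F] V} {v x : V} : x ∈ UU Q y v ↔ y x = x ∧ polar Q v x = 0 := by
  rw [UU, Submodule.mem_inf, LinearMap.mem_ker, LinearMap.mem_ker, LinearMap.sub_apply, LinearMap.id_apply,
    sub_eq_zero, polarBilin_apply_apply]
  rfl

theorem fix_of_perp (hQ : Nondeg Q) {y : V ≃ₗ[F] V} (hy : y ∈ O Q) (hyy : ∀ x, y (y x) = x) {x : V}
    (h : ∀ z, polar Q (y z + z) x = 0) : y x = x := by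
  apply h2.eq_of_add
  apply hQ
  intro z
  have h3 := h z
  rw [polar_add_left] at h3
  have h4 := polar_map hy z (y x)
  rw [hyy] at h4
  rw [polar_comm, polar_add_right, ← h4]
  exact h3

/-- Two singular lines through `v` consisting of fixed vectors. -/
theorem exists_lines (hQ : Nondeg Q) [FiniteDimensional F V] (hd : 8 ≤ Module.finrank F V) {y : V ≃ₗ[F] V}
    (hy : y ∈ O Q) (hyy : ∀ x, y (y x) = x) {v : V} (hv : Q v = 0) (hyv : y v = v) :
    ∃ r1 r2, (Q r1 = 0 ∧ y r1 = r1 ∧ polar Q v r1 = 0) ∧ (Q r2 = 0 ∧ y r2 = r2 ∧ polar Q v r2 = 0) ∧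
      r1 ∉ Submodule.span F {v} ∧ r2 ∉ Submodule.span F {v, r1} := by
  set U := UU Q y v with hU
  let W : Submodule F V := LinearMap.range (y.toLinearMap - LinearMap.id) ⊔ Submodule.span F {v}
  have hWmem : ∀ z, y z + z ∈ W := by
    intro z
    apply Submodule.mem_sup_left
    exact ⟨z, by rw [LinearMap.sub_apply, LinearMap.id_apply, h2.sub_eq]; rfl⟩
  have hvW : v ∈ W := Submodule.mem_sup_right (Submodule.mem_span_singleton_self v)
  have hvU : v ∈ U := mem_UU.2 ⟨hyv, h2.polar_self v⟩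
  have hWU : W ≤ U := by
    apply sup_le
    · rintro _ ⟨z, rfl⟩
      rw [LinearMap.sub_apply, LinearMap.id_apply, h2.sub_eq]
      refine mem_UU.2 ⟨?_, ?_⟩
      · show y (y z + z) = y z + z
        rw [map_add, hyy, add_comm]
      · show polar Q v (y z + z) = 0
        have h3 := polar_map hy v z
        rw [hyv] at h3
        rw [polar_add_right, h3]
        exact h2.addF _
    · rw [Submodule.span_le]
      rintro z rfl
      exact hvU
  -- `W^⊥ ≤ U`
  let f : V →ₗ[F] Module.Dual F W :=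
    { toFun := fun x => (polarBilin Q x).comp W.subtype
      map_add' := fun x x' => by
        ext s
        simp only [_root_.map_add, _root_.LinearMap.coe_comp, _root_.Submodule.coe_subtype, _root_.Function.comp_apply, _root_.LinearMap.add_apply, _root_.QuadraticMap.polarBilin_apply_apply]
      map_smul' := fun c x => by
        ext s
        simp only [_root_.map_smul, _root_.LinearMap.coe_comp, _root_.LinearMap.coe_smul, _root_.Submodule.coe_subtype, _root_.Function.comp_apply, _root_.Pi.smul_apply, _root_.QuadraticMap.polarBilin_apply_apply, _root_.smul_eq_mul, _root_.RingHom.id_apply, _root_.LinearMap.smul_apply] }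
  have hker : LinearMap.ker f ≤ U := by
    intro x hx
    have h3 : ∀ s ∈ W, polar Q s x = 0 := by
      intro s hs
      have := LinearMap.congr_fun (LinearMap.mem_ker.1 hx) ⟨s, hs⟩
      rw [polar_comm]
      simpa [f] using this
    exact mem_UU.2 ⟨fix_of_perp h2 hQ hy hyy fun z => h3 _ (hWmem z), h3 v hvW⟩
  have h3 := LinearMap.finrank_range_add_finrank_ker f
  have h4 : Module.finrank F (LinearMap.range f) ≤ Module.finrank F W := by
    have := Submodule.finrank_le (LinearMap.range f)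
    rwa [Subspace.dual_finrank_eq] at this
  have h5 := Submodule.finrank_mono hker
  have h6 := Submodule.finrank_mono hWU
  have hsv := finrank_span_singleton_le (F := F) v
  by_cases h7 : 5 ≤ Module.finrank F U
  · obtain ⟨r1, hr1, q1, n1⟩ := exists_sing_in (Q := Q) h2 U (Submodule.span F {v}) (by omega)
    have hsp := finrank_span_pair_le (F := F) v r1
    obtain ⟨r2, hr2, q2, n2⟩ := exists_sing_in (Q := Q) h2 U (Submodule.span F {v, r1}) (by omega)
    have m1 := mem_UU.1 hr1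
    have m2 := mem_UU.1 hr2
    exact ⟨r1, r2, ⟨q1, m1.1, m1.2⟩, ⟨q2, m2.1, m2.2⟩, n1, n2⟩
  · have hWU' : W = U := Submodule.eq_of_le_of_finrank_le hWU (by omega)
    have hiso : ∀ s ∈ U, ∀ t ∈ U, polar Q s t = 0 := by
      intro s hs t ht
      have hker' : LinearMap.ker f = U := Submodule.eq_of_le_of_finrank_le hker (by omega)
      rw [← hker'] at hs
      have := LinearMap.congr_fun (LinearMap.mem_ker.1 hs) ⟨t, by rw [hWU']; exact ht⟩
      simpa [f] using this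
    let q : U →ₗ[F] F :=
      { toFun := fun x => Q (x : V)
        map_add' := fun x x' => by
          show Q ((x : V) + (x' : V)) = _
          rw [Q_add, hiso _ x.2 _ x'.2, add_zero]
        map_smul' := fun c x => by
          show Q (c • (x : V)) = c • Q (x : V)
          rw [QuadraticMap.map_smul]
          rcases h2 c with h | h <;> rw [h] <;> simp }
    have h8 := LinearMap.finrank_range_add_finrank_ker q
    have h9 : Module.finrank F (LinearMap.range q) ≤ 1 := by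
      have := Submodule.finrank_le (LinearMap.range q)
      rwa [Module.finrank_self] at this
    let U0 : Submodule F V := (LinearMap.ker q).map U.subtype
    have h10 : Module.finrank F U0 = Module.finrank F (LinearMap.ker q) := Submodule.finrank_map_subtype_eq _ _
    have hU0 : ∀ x ∈ U0, Q x = 0 ∧ y x = x ∧ polar Q v x = 0 := by
      rintro _ ⟨x, hx, rfl⟩
      have m := mem_UU.1 x.2
      exact ⟨hx, m.1, m.2⟩
    obtain ⟨r1, hr1, n1⟩ := exists_in h2 U0 (Submodule.span F {v}) (by omega)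
    have hsp := finrank_span_pair_le (F := F) v r1
    obtain ⟨r2, hr2, n2⟩ := exists_in h2 U0 (Submodule.span F {v, r1}) (by omega)
    exact ⟨r1, r2, hU0 _ hr1, hU0 _ hr2, n1, n2⟩

/-- An isometry commuting with a root element preserves the line. -/
theorem line_of_comm (hQ : Nondeg Q) {y : V ≃ₗ[F] V} (hy : y ∈ O Q) {u w : V} (h : Ln Q u w)
    (hc : y * T Q u w = T Q u w * y) : y u = u ∨ y u = w ∨ y u = u + w := by
  have h3 := T_conj hy u w
  rw [hc, mul_inv_cancel_right] at h3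
  have h4 := D_T hQ (h.map hy)
  rw [← h3, D_T hQ h] at h4
  have h5 : y u ∈ L F u w := by rw [h4]; exact left_mem_L _ _
  exact (h2.mem_span_pair.1 h5).resolve_left (h.map hy).ne

theorem comm_of_fix2 {g : V ≃ₗ[F] V} (hg : g ∈ O Q) {u w : V} (hu : g u = u) (hw : g w = w) :
    g * T Q u w = T Q u w * g := by
  have := T_conj hg u w
  rw [hu, hw, mul_inv_eq_iff_eq_mul] at this
  exact this

variable {a b : V ≃ₗ[F] V}

omit h2 in
theorem Cst.yO (h : Cst Q a b) {y : V ≃ₗ[F] V} (hy : y = a ∨ y = b ∨ y = a * b) : y ∈ O Q := by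
  rcases hy with rfl | rfl | rfl
  · exact h.aO
  · exact h.bO
  · exact (O Q).mul_mem h.aO h.bO

omit h2 in
theorem Cst.yy (h : Cst Q a b) {y : V ≃ₗ[F] V} (hy : y = a ∨ y = b ∨ y = a * b) (x : V) : y (y x) = x := by
  have h3 : y * y = 1 := by
    rcases hy with rfl | rfl | rfl
    · exact h.aa
    · exact h.bb
    · calc a * b * (a * b) = a * (b * a) * b := by group
        _ = a * (a * b) * b := by rw [h.ab]
        _ = (a * a) * (b * b) := by group
        _ = 1 := by rw [h.aa, h.bb, one_mul]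
  exact congrArg (fun f : V ≃ₗ[F] V => f x) h3

/-- Singular fixed vectors agree. -/
theorem Cst.claim1 (h : Cst Q a b) (hQ : Nondeg Q) [FiniteDimensional F V] (hd : 8 ≤ Module.finrank F V)
    {y y' : V ≃ₗ[F] V} (hy : y = a ∨ y = b ∨ y = a * b) (hy' : y' = a ∨ y' = b ∨ y' = a * b) {v : V}
    (hv : Q v = 0) (hyv : y v = v) : y' v = v := by
  by_cases hv0 : v = 0
  · rw [hv0, map_zero]
  obtain ⟨r1, r2, ⟨q1, f1, p1⟩, ⟨q2, f2, p2⟩, n1, n2⟩ := exists_lines h2 hQ hd (h.yO hy) (h.yy hy) hv hyv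
  rw [h2.mem_span] at n1
  rw [h2.mem_span_pair] at n2
  push Not at n1 n2
  obtain ⟨a1, a2⟩ := n1
  obtain ⟨b1, b2, b3, b4⟩ := n2
  have l1 : Ln Q v r1 := h2.ln hv q1 p1 hv0 a1 a2
  have l2 : Ln Q v r2 := h2.ln hv q2 p2 hv0 b1 b2
  have i1 := line_of_comm h2 hQ (h.yO hy') l1 (h.cst y y' hy hy' v r1 l1 (comm_of_fix2 h2 (h.yO hy) hyv f1))
  have i2 := line_of_comm h2 hQ (h.yO hy') l2 (h.cst y y' hy hy' v r2 l2 (comm_of_fix2 h2 (h.yO hy) hyv f2))
  rcases i1 with i1 | i1 | i1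
  · exact i1
  · rcases i2 with i2 | i2 | i2
    · exact i2
    · exact absurd (i2.symm.trans i1) b3
    · exfalso
      apply b4
      have : v + r2 = r1 := i2.symm.trans i1
      rw [← this, ← add_assoc, h2.add_self, zero_add]
  · rcases i2 with i2 | i2 | i2
    · exact i2
    · exact absurd (i2.symm.trans i1) b4
    · exact absurd (add_left_cancel (i2.symm.trans i1)) b3

/-- Singular vectors `v ⊥ y v` are fixed. -/
theorem Cst.claim2 (h : Cst Q a b) (hQ : Nondeg Q) [FiniteDimensional F V] (hd : 8 ≤ Module.finrank F V)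
    {y : V ≃ₗ[F] V} (hy : y = a ∨ y = b ∨ y = a * b) {v : V} (hv : Q v = 0) (hp : polar Q v (y v) = 0) :
    y v = v := by
  by_contra hne
  have hv0 : v ≠ 0 := by
    rintro rfl
    exact hne (map_zero y)
  have hyO := h.yO hy
  have hqy : Q (y v) = 0 := by rw [mem_O.1 hyO, hv]
  have hy0 : y v ≠ 0 := fun e => hv0 ((LinearEquiv.map_eq_zero_iff y).1 e)
  have l : Ln Q v (y v) := h2.ln hv hqy hp hv0 hy0 hne
  have hyc : y * T Q v (y v) = T Q v (y v) * y := by
    have h3 := T_conj hyO v (y v)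
    rw [h.yy hy, h2.T_swap hqy hv l.perp', mul_inv_eq_iff_eq_mul] at h3
    exact h3
  obtain ⟨y', hy', hyy', hcomm⟩ : ∃ y', (y' = a ∨ y' = b ∨ y' = a * b) ∧ (y * y' = a ∨ y * y' = b ∨ y * y' = a * b) ∧
      y * y' = y' * y := by
    rcases hy with rfl | rfl | rfl
    · exact ⟨b, Or.inr (Or.inl rfl), Or.inr (Or.inr rfl), h.ab⟩
    · exact ⟨a, Or.inl rfl, Or.inr (Or.inr h.ab.symm), h.ab.symm⟩
    · refine ⟨a, Or.inl rfl, Or.inr (Or.inl ?_), ?_⟩
      · calc a * b * a = a * (b * a) := by group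
          _ = a * (a * b) := by rw [h.ab]
          _ = (a * a) * b := by group
          _ = b := by rw [h.aa, one_mul]
      · rw [mul_assoc, ← h.ab]
  rcases line_of_comm h2 hQ (h.yO hy') l (h.cst y y' hy hy' v (y v) l hyc) with h3 | h3 | h3
  · exact hne (Cst.claim1 h2 h hQ hd hy' hy hv h3)
  · have h4 : (y * y') v = v := by
      show y (y' v) = v
      rw [h3, h.yy hy]
    exact hne (Cst.claim1 h2 h hQ hd hyy' hy hv h4)
  · have h4 : y (y' v) = y' v := by
      rw [h3, map_add, h.yy hy, add_comm]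
    have h5 : y (y' v) = y' (y v) := congrArg (fun f : V ≃ₗ[F] V => f v) hcomm
    rw [h5] at h4
    exact hne (y'.injective h4)

/-- `y` is trivial on a hyperplane. -/
theorem Cst.claim3 (h : Cst Q a b) (hQ : Nondeg Q) [FiniteDimensional F V] (hd : 8 ≤ Module.finrank F V)
    {y : V ≃ₗ[F] V} (hy : y = a ∨ y = b ∨ y = a * b) :
    ∃ z : V, ∀ x, polar Q z x = 0 → y x = x := by
  have := h2.finite
  have hyO := h.yO hy
  -- the linear function `b(x, y x)`
  let lam : V →ₗ[F] F :=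
    { toFun := fun x => polar Q x (y x)
      map_add' := fun x x' => by
        rw [map_add, polar_add_left, polar_add_right, polar_add_right]
        have h3 := polar_map hyO x (y x')
        rw [h.yy hy] at h3
        rw [polar_comm Q x' (y x), h3]
        have h4 := h2.addF (polar Q x (y x'))
        linear_combination h4
      map_smul' := fun c x => by
        rw [map_smul, polar_smul_left, polar_smul_right]
        rcases h2 c with e | e <;> rw [e] <;> simp }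
  have hinj : Function.Injective (polarBilin Q) := by
    rw [← LinearMap.ker_eq_bot, LinearMap.ker_eq_bot']
    intro v hv
    apply hQ
    intro y
    have := LinearMap.congr_fun hv y
    simpa using this
  have hsurj : Function.Surjective (polarBilin Q) := by
    apply (LinearMap.injective_iff_surjective_of_finrank_eq_finrank _).1 hinj
    exact (Subspace.dual_finrank_eq).symm
  obtain ⟨z, hz⟩ := hsurj lam
  have hz' : ∀ x, polar Q z x = polar Q x (y x) := fun x => LinearMap.congr_fun hz x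
  refine ⟨z, ?_⟩
  have sing : ∀ x, polar Q z x = 0 → Q x = 0 → y x = x := fun x hx hq =>
    Cst.claim2 h2 h hQ hd hy hq (by rw [← hz', hx])
  have gen : ∀ x, polar Q z x = 0 → x ≠ z → y x = x := by
    intro x hx hxz
    rcases h2 (Q x) with hq | hq
    · exact sing x hx hq
    have hx0 : x ≠ 0 := by
      rintro rfl
      rw [QuadraticMap.map_zero] at hq
      exact zero_ne_one hq
    obtain ⟨x0, h3, h4⟩ := exists_sep hQ (x := x) (z := z) (fun c hc => by
      rcases h2.smul_cases ⟨c, hc⟩ with e | e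
      · exact hx0 e
      · exact hxz e)
    obtain ⟨s, hs1, hs2⟩ : ∃ s, Q s = 0 ∧ polar Q z s = 0 ∧ polar Q x s = 1 := by
      rcases h2 (Q x0) with hq0 | hq0
      · exact ⟨x0, hq0, h3, h4⟩
      obtain ⟨s, hs, hsn⟩ := exists_avoid (Q := Q) ![z, x, x0] (Submodule.span F (Set.range ![z, x, x0])) (by
        have := finrank_span_le (F := F) ![z, x, x0]
        omega)
      obtain ⟨s', hs1, hs2⟩ := exists_sep_sub hQ hsn
      have z1 : polar Q z s = 0 := hs 0
      have x1 : polar Q x s = 0 := hs 1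
      have w1 : polar Q x0 s = 0 := hs 2
      have z2 : polar Q z s' = 0 := hs2 z (Submodule.subset_span ⟨0, rfl⟩)
      have x2 : polar Q x s' = 0 := hs2 x (Submodule.subset_span ⟨1, rfl⟩)
      have w2 : polar Q x0 s' = 0 := hs2 x0 (Submodule.subset_span ⟨2, rfl⟩)
      obtain ⟨k, k1, k2, k3, k4⟩ : ∃ k, Q k = 1 ∧ polar Q z k = 0 ∧ polar Q x k = 0 ∧ polar Q x0 k = 0 := by
        rcases exists_nonsing hs1 with e | e | e
        · exact ⟨s, h2.eq_one e, z1, x1, w1⟩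
        · exact ⟨s', h2.eq_one e, z2, x2, w2⟩
        · refine ⟨s + s', h2.eq_one e, ?_, ?_, ?_⟩
          · rw [polar_add_right, z1, z2, add_zero]
          · rw [polar_add_right, x1, x2, add_zero]
          · rw [polar_add_right, w1, w2, add_zero]
      refine ⟨x0 + k, ?_, ?_, ?_⟩
      · rw [Q_add, hq0, k1, k4, add_zero, h2.two]
      · rw [polar_add_right, h3, k2, add_zero]
      · rw [polar_add_right, h4, k3, add_zero]
    have h5 := sing s hs2.1 hs1
    have h6 := sing (x + s) (by rw [polar_add_right, hx, hs2.1, add_zero]) (by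
      rw [Q_add, hq, hs1, hs2.2, add_zero, h2.two])
    rw [map_add, h5] at h6
    exact add_right_cancel h6
  intro x hx
  by_cases hxz : x = z
  · obtain ⟨x1, hx1, hn⟩ := exists_avoid (Q := Q) ![z] (Submodule.span F {z}) (by
      have := finrank_span_singleton_le (F := F) z
      omega)
    have hzx1 : polar Q z x1 = 0 := hx1 0
    rw [h2.mem_span] at hn
    push Not at hn
    have h3 := gen x1 hzx1 hn.2
    have h4 := gen (z + x1) (by rw [polar_add_right, h2.polar_self, hzx1, add_zero]) (by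
      intro e
      exact hn.1 (by simpa using e))
    rw [map_add, h3] at h4
    rw [hxz]
    exact add_right_cancel h4
  · exact gen x hx hxz

/-- `y` is a transvection. -/
theorem Cst.claim4 (h : Cst Q a b) (hQ : Nondeg Q) [FiniteDimensional F V] (hd : 8 ≤ Module.finrank F V)
    {y : V ≃ₗ[F] V} (hy : y = a ∨ y = b ∨ y = a * b) (hy1 : y ≠ 1) :
    ∃ z : V, z ≠ 0 ∧ ∀ x, y x = x + polar Q z x • z := by
  obtain ⟨z, hz⟩ := Cst.claim3 h2 h hQ hd hy
  have hyO := h.yO hy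
  have h3 : ∀ x, y x = x ∨ y x = x + z := by
    intro x
    have h4 : y x + x ∈ Submodule.span F {z} := by
      by_contra hn
      obtain ⟨t, ht1, ht2⟩ := exists_sep_sub hQ hn
      have hzt : polar Q z t = 0 := ht2 z (Submodule.mem_span_singleton_self z)
      have h5 := polar_map hyO x t
      rw [hz t hzt] at h5
      rw [polar_add_left, h5, h2.addF] at ht1
      exact zero_ne_one ht1
    rcases h2.mem_span.1 h4 with h5 | h5
    · left; exact h2.eq_of_add h5
    · right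
      rw [← h5, add_comm (y x) x, ← add_assoc, h2.add_self, zero_add]
  obtain ⟨x0, hx0⟩ : ∃ x, y x ≠ x := by
    by_contra hn
    push Not at hn
    exact hy1 (LinearEquiv.ext hn)
  have h4 := (h3 x0).resolve_left hx0
  have h5 : polar Q z x0 = 1 := h2.eq_one fun e => hx0 (hz x0 e)
  have hz0 : z ≠ 0 := by
    rintro rfl
    rw [polar_zero_left] at h5
    exact zero_ne_one h5
  refine ⟨z, hz0, fun x => ?_⟩
  rcases h2 (polar Q z x) with h6 | h6
  · rw [h6, zero_smul, add_zero]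
    exact hz x h6
  · have h7 := hz (x + x0) (by rw [polar_add_right, h6, h5, h2.two])
    rw [map_add, h4] at h7
    rw [h6, one_smul]
    have h8 : y x + (x0 + z) + z + x0 = x + x0 + z + x0 := by rw [h7]
    have e1 : y x + (x0 + z) + z + x0 = y x + (x0 + x0) + (z + z) := by abel
    have e2 : x + x0 + z + x0 = x + z + (x0 + x0) := by abel
    rw [e1, e2, h2.add_self, h2.add_self, add_zero, add_zero, add_zero] at h8
    exact h8

/-- **No such four-group.** -/
theorem Cst.false (h : Cst Q a b) (hQ : Nondeg Q) (hd : 8 ≤ Module.finrank F V) : False := by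
  have hfd : FiniteDimensional F V := Module.finite_of_finrank_pos (by omega)
  have hab1 : a * b ≠ 1 := by
    intro e
    apply h.ne
    calc a = a * (b * b) := by rw [h.bb, mul_one]
      _ = (a * b) * b := by group
      _ = b := by rw [e, one_mul]
  obtain ⟨za, hza0, hza⟩ := Cst.claim4 h2 h hQ hd (Or.inl rfl) h.a1
  obtain ⟨zb, hzb0, hzb⟩ := Cst.claim4 h2 h hQ hd (Or.inr (Or.inl rfl)) h.b1
  obtain ⟨zc, hzc0, hzc⟩ := Cst.claim4 h2 h hQ hd (Or.inr (Or.inr rfl)) hab1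
  by_cases hzz : za = zb
  · apply h.ne
    ext x
    rw [hza, hzb, hzz]
  · have hn1 : ∀ c : F, za ≠ c • zb := fun c hc => by
      rcases h2.smul_cases ⟨c, hc⟩ with e | e
      · exact hza0 e
      · exact hzz e
    have hn2 : ∀ c : F, zb ≠ c • za := fun c hc => by
      rcases h2.smul_cases ⟨c, hc⟩ with e | e
      · exact hzb0 e
      · exact hzz e.symm
    obtain ⟨x, hx1, hx2⟩ := exists_sep hQ hn1
    obtain ⟨x', hx1', hx2'⟩ := exists_sep hQ hn2
    -- `b x = x`, `a x = x + za`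
    have e1 : (a * b) x = x + za := by
      show a (b x) = _
      rw [hzb, hx1, zero_smul, add_zero, hza, hx2, one_smul]
    have e2 : (a * b) x' = x' + zb := by
      rw [h.ab]
      show b (a x') = _
      rw [hza, hx1', zero_smul, add_zero, hzb, hx2', one_smul]
    rw [hzc] at e1 e2
    have f1 : za = zc := by
      have h3 := add_left_cancel e1
      rcases h2 (polar Q zc x) with h4 | h4
      · rw [h4, zero_smul] at h3
        exact absurd h3.symm hza0
      · rw [h4, one_smul] at h3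
        exact h3.symm
    have f2 : zb = zc := by
      have h3 := add_left_cancel e2
      rcases h2 (polar Q zc x') with h4 | h4
      · rw [h4, zero_smul] at h3
        exact absurd h3.symm hzb0
      · rw [h4, one_smul] at h3
        exact h3.symm
    exact hzz (f1.trans f2.symm)

end

end Cfsg.Agent.OddHalf.D4.O2

end

-- merged: Cfsg.Agent.OddHalf.D4.O2.Core
section

/-!
# ODD, D4, rows `Ω^±_2n(2)`: `O(C(y)) = 1` for involutions `y` of `O(V)`
-/

set_option autoImplicit false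
set_option linter.unusedSectionVars false

namespace Cfsg.Agent.OddHalf.D4.O2

open QuadraticMap Cfsg.Agent.LieClassical.OrthCore Cfsg.Agent.LieClassical.OrthTrans
  Cfsg.Agent.ClassicalGeometry.OrthAutBasic Cfsg.Agent.ClassicalGeometry.OrthAutRoot
  Cfsg.Agent.ClassicalGeometry.OrthAutSylow

variable {F V : Type*} [Field F] [AddCommGroup V] [Module F V] {Q : QuadraticForm F V}

theorem one_of_odd {G : Type*} [Group G] {X : Subgroup G} (hodd : Odd (Nat.card ↥X)) {x : G} (hx : x ∈ X) {k : ℕ}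
    (h : x ^ 2 ^ k = 1) : x = 1 := by
  have h1 : orderOf x ∣ Nat.card ↥X := by
    have := orderOf_dvd_natCard (⟨x, hx⟩ : ↥X)
    rwa [Subgroup.orderOf_mk] at this
  have h2 : Odd (orderOf x) := Odd.of_dvd_nat hodd h1
  have h3 : orderOf x ∣ 2 ^ k := orderOf_dvd_of_pow_eq_one h
  rcases (Nat.dvd_prime_pow Nat.prime_two).1 h3 with ⟨m, _, hm⟩
  rw [← orderOf_eq_one_iff, hm]
  rcases Nat.eq_zero_or_pos m with h7 | h7
  · rw [h7, pow_zero]
  · exfalso
    rw [hm] at h2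
    exact (Nat.not_odd_iff_even.2 ((even_two).pow_of_ne_zero (by omega))) h2

theorem one_of_sq {G : Type*} [Group G] {X : Subgroup G} (hodd : Odd (Nat.card ↥X)) {x : G} (hx : x ∈ X)
    (h : x * x = 1) : x = 1 := one_of_odd hodd hx (k := 1) (by rw [pow_one, pow_two, h])

section

variable (h2 : Two F)

include h2

/-- An element of odd order with `g w ∈ {w, w + u}`, `g u = u` fixes `w`. -/
theorem fix_of_odd_order {X : Subgroup (V ≃ₗ[F] V)} (hodd : Odd (Nat.card ↥X)) {g : V ≃ₗ[F] V} (hg : g ∈ X)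
    {u w : V} (hu : g u = u) (hw : g w = w ∨ g w = w + u) : g w = w := by
  rcases hw with h | h
  · exact h
  -- `g²` fixes `w`, `g ∈ ⟨g²⟩`
  have h1 : orderOf g ∣ Nat.card ↥X := by
    have := orderOf_dvd_natCard (⟨g, hg⟩ : ↥X)
    rwa [Subgroup.orderOf_mk] at this
  obtain ⟨k, hk⟩ : Odd (orderOf g) := Odd.of_dvd_nat hodd h1
  have hsq : (g * g) w = w := by
    show g (g w) = w
    rw [h, map_add, h, hu, add_assoc, h2.add_self, add_zero]
  have hpow : ∀ m : ℕ, ((g * g) ^ m) w = w := by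
    intro m
    induction m with
    | zero => rfl
    | succ m ih =>
      rw [pow_succ]
      show ((g * g) ^ m) ((g * g) w) = w
      rw [hsq, ih]
  have h3 : g = (g * g) ^ (k + 1) := by
    rw [← pow_two, ← pow_mul]
    have h2 : 2 * (k + 1) = orderOf g + 1 := by omega
    rw [h2, pow_succ, pow_orderOf_eq_one, one_mul]
  rw [h3]
  exact hpow _

/-- If `g` of odd order is trivial on `S` and `(g - 1) V ≤ S` then `g = 1`. -/
theorem one_of_triv {X : Subgroup (V ≃ₗ[F] V)} (hodd : Odd (Nat.card ↥X)) {g : V ≃ₗ[F] V} (hg : g ∈ X)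
    (h : ∀ x, g (g x + x) = g x + x) : g = 1 := by
  apply one_of_sq hodd hg
  ext x
  show g (g x) = x
  have h3 := h x
  rw [map_add, add_comm (g x) x] at h3
  exact add_right_cancel h3

theorem span_perp (hQ : Nondeg Q) [FiniteDimensional F V] {S : Submodule F V} {z : V}
    (h : ∀ x, (∀ s ∈ S, polar Q s x = 0) → polar Q z x = 0) : z ∈ S := by
  by_contra hn
  obtain ⟨t, ht1, ht2⟩ := exists_sep_sub hQ hn
  have := h t ht2
  rw [ht1] at this
  exact one_ne_zero this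

/-- **`O(C(y)) = 1`.** -/
theorem core_trivial (hQ : Nondeg Q) (hd : 8 ≤ Module.finrank F V) {y : V ≃ₗ[F] V} (hyO : y ∈ O Q)
    (hyy : y * y = 1) (hy1 : y ≠ 1) {X : Subgroup (V ≃ₗ[F] V)} [Finite ↥X] (hXE : X ≤ E Q)
    (hXy : ∀ x ∈ X, x * y = y * x)
    (hXn : ∀ g ∈ E Q, g * y = y * g → ∀ x ∈ X, g * x * g⁻¹ ∈ X) (hodd : Odd (Nat.card ↥X)) : X = ⊥ := by
  have hF := h2.finite
  have hfd : FiniteDimensional F V := Module.finite_of_finrank_pos (by omega)
  have hyx : ∀ x, y (y x) = x := fun x => congrArg (fun f : V ≃ₗ[F] V => f x) hyy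
  have hgy : ∀ g ∈ X, ∀ x, g (y x) = y (g x) := fun g hg x => congrArg (fun f : V ≃ₗ[F] V => f x) (hXy g hg)
  have hgO : ∀ g ∈ X, g ∈ O Q := fun g hg => E_le_O (hXE hg)
  have hTc : ∀ u w, y u = u → y w = w → T Q u w * y = y * T Q u w := fun u w hu hw => (comm_of_fix hyO hu hw).symm
  -- vectors `y x + x`
  have dfix : ∀ x, y (y x + x) = y x + x := fun x => by rw [map_add, hyx, add_comm]
  have dperp : ∀ x v, y v = v → polar Q (y x + x) v = 0 := by
    intro x v hv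
    have h3 := polar_map hyO x v
    rw [hv] at h3
    rw [polar_add_left, h3]
    exact h2.addF _
  have hmemD : ∀ z, (∀ v, y v = v → polar Q z v = 0) → ∃ x, y x + x = z := by
    intro z hz
    have h3 : z ∈ LinearMap.range (y.toLinearMap - LinearMap.id) := by
      apply span_perp h2 hQ
      intro x hx
      apply hz
      apply fix_of_perp h2 hQ hyO hyx
      intro t
      apply hx
      exact ⟨t, by rw [LinearMap.sub_apply, LinearMap.id_apply, h2.sub_eq]; rfl⟩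
    obtain ⟨x, hx⟩ := h3
    refine ⟨x, ?_⟩
    rw [← hx, LinearMap.sub_apply, LinearMap.id_apply, h2.sub_eq]
    rfl
  rw [eq_bot_iff]
  intro g hg
  rw [Subgroup.mem_bot]
  by_cases hA : ∃ x, y x + x ≠ 0 ∧ Q (y x + x) = 0
  · -- a singular vector in `[V, y]`
    obtain ⟨x0, hu0, hqu⟩ := hA
    set u := y x0 + x0 with hu
    have hyu : y u = u := dfix x0
    have hgu0 : g u ≠ 0 := fun e => hu0 ((LinearEquiv.map_eq_zero_iff g).1 e)
    have hqgu : Q (g u) = 0 := by rw [mem_O.1 (hgO g hg), hqu]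
    have hgud : g u = y (g x0) + g x0 := by rw [hu, map_add, hgy g hg]
    have hygu : y (g u) = g u := by rw [hgud]; exact dfix _
    have guv : ∀ v, y v = v → polar Q (g u) v = 0 := by
      intro v hv
      rw [hgud]; exact dperp _ v hv
    have key : ∀ w, y w = w → T Q (g u) (g w) = T Q u w := by
      intro w hw
      have hygw : y (g w) = g w := by rw [← hgy g hg, hw]
      have huw : polar Q u w = 0 := dperp x0 w hw
      have h3 := X.mul_mem hg (hXn (T Q u w) (T_mem_E u w) (hTc u w hyu hw) _ (X.inv_mem hg))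
      have h4 : g * (T Q u w * g⁻¹ * (T Q u w)⁻¹) = T Q (g u) (g w) * T Q u w := by
        rw [← T_conj (hgO g hg)]
        calc g * (T Q u w * g⁻¹ * (T Q u w)⁻¹) = g * T Q u w * g⁻¹ * (T Q u w)⁻¹ := by group
          _ = g * T Q u w * g⁻¹ * T Q u w := by rw [h2.T_inv]
      rw [h4] at h3
      -- `h⁴ = 1`
      set u' := g u with hu'
      set w' := g w with hw'
      have b1 : polar Q u u' = 0 := by rw [polar_comm]; exact guv u hyu
      have b2 : polar Q w u' = 0 := by rw [polar_comm]; exact guv w hw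
      have b3 : polar Q u w' = 0 := dperp x0 w' hygw
      have b4 : polar Q u' w' = 0 := guv w' hygw
      have c1 : T Q u w u' = u' := T_fix b1 b2
      have c2 : T Q u w w' = w' + polar Q w w' • u := h2.T_perp hqu huw b3
      have h5 := T_conj (T_mem_O (Q := Q) u w) u' w'
      rw [c1, c2, h2.T_inv] at h5
      have b5 : polar Q u' (w' + polar Q w w' • u) = 0 := by
        rw [polar_add_right, b4, polar_smul_right, polar_comm Q u' u, b1]; simp
      have h6 : (T Q u' w' * T Q u w) * (T Q u' w' * T Q u w) = T Q u' (polar Q w w' • u) := by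
        calc (T Q u' w' * T Q u w) * (T Q u' w' * T Q u w) = T Q u' w' * (T Q u w * T Q u' w' * T Q u w) := by group
          _ = T Q u' w' * T Q u' (w' + polar Q w w' • u) := by rw [h5]
          _ = T Q u' (w' + (w' + polar Q w w' • u)) := T_mul hqgu b4 b5
          _ = _ := by rw [← add_assoc, h2.add_self, zero_add]
      have h7 : (T Q u' w' * T Q u w) ^ 2 ^ 2 = 1 := by
        have e : (T Q u' w' * T Q u w) ^ 2 ^ 2 = ((T Q u' w' * T Q u w) * (T Q u' w' * T Q u w)) *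
            ((T Q u' w' * T Q u w) * (T Q u' w' * T Q u w)) := by
          rw [show (2 : ℕ) ^ 2 = 2 * 2 from rfl, pow_mul, pow_two, pow_two]
        rw [e, h6, h2.T_sq]
      have h8 := one_of_odd hodd h3 h7
      rw [← h2.T_inv (Q := Q) (u := u) (w := w)]
      exact eq_inv_of_mul_eq_one_left h8
    -- `g u = u`
    have gu : g u = u := by
      by_contra hne
      have hn : ∀ c : F, g u ≠ c • u := fun c hc => by
        rcases h2.smul_cases ⟨c, hc⟩ with e | e
        · exact hgu0 e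
        · exact hne e
      obtain ⟨x, hx1, hx2⟩ := exists_sep hQ hn
      have hall : ∀ w, y w = w → w ∈ Submodule.span F {u, g u} := by
        intro w hw
        have hw1 : y (g⁻¹ w) = g⁻¹ w := by
          apply g.injective
          rw [hgy g hg]
          have e : g (g⁻¹ w) = w := LinearEquiv.apply_symm_apply g w
          rw [e, hw]
        have e : g (g⁻¹ w) = w := LinearEquiv.apply_symm_apply g w
        have h3 := key (g⁻¹ w) hw1
        rw [e] at h3
        have h4 : T Q (g u) w x = T Q u (g⁻¹ w) x := by rw [h3]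
        rw [h2.T_apply hqgu (guv w hw), h2.T_perp hqu (dperp x0 _ hw1) hx1, hx2, one_smul, mul_one, add_assoc,
          add_assoc] at h4
        have h5 := add_left_cancel h4
        have h6 : w = polar Q (g⁻¹ w) x • u + (polar Q w x • g u + Q w • g u) := by
          rw [← h5, add_assoc, h2.add_self, add_zero]
        rw [h6, Submodule.mem_span_pair]
        exact ⟨polar Q (g⁻¹ w) x, polar Q w x + Q w, by module⟩
      -- dimension
      obtain ⟨s, hs, hsn⟩ : ∃ s, (y s = s) ∧ s ∉ Submodule.span F {u, g u} := by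
        have hle : ∀ s, s ∈ LinearMap.range (y.toLinearMap - LinearMap.id) → s ∈ Submodule.span F {u, g u} := by
          rintro _ ⟨z, rfl⟩
          apply hall
          rw [LinearMap.sub_apply, LinearMap.id_apply, h2.sub_eq]
          exact dfix z
        have h5 := LinearMap.finrank_range_add_finrank_ker (y.toLinearMap - LinearMap.id)
        have h6 := Submodule.finrank_mono (show LinearMap.range (y.toLinearMap - LinearMap.id) ≤ _ from hle)
        have h7 := finrank_span_pair_le (F := F) u (g u)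
        obtain ⟨s, hs, hsn⟩ := exists_in h2 (LinearMap.ker (y.toLinearMap - LinearMap.id))
          (Submodule.span F {u, g u}) (by omega)
        refine ⟨s, ?_, hsn⟩
        rw [LinearMap.mem_ker, LinearMap.sub_apply, LinearMap.id_apply, sub_eq_zero] at hs
        exact hs
      exact hsn (hall s hs)
    have gV : ∀ w, y w = w → g w = w := by
      intro w hw
      apply fix_of_odd_order h2 hodd hg gu
      have h3 := key w hw
      rw [gu] at h3
      have hygw : y (g w) = g w := by rw [← hgy g hg, hw]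
      obtain ⟨c, hc⟩ := (T_eq_T_iff hQ hqu hu0 (dperp x0 w hw) (dperp x0 _ hygw)).1 h3.symm
      rcases h2 c with e | e
      · left; rw [hc, e, zero_smul, add_zero]
      · right; rw [hc, e, one_smul]
    apply one_of_triv h2 hodd hg
    intro x
    apply gV
    obtain ⟨t, ht⟩ := hmemD (g x + x) (by
      intro v hv
      have h3 := polar_map (hgO g hg) x v
      rw [gV v hv] at h3
      rw [polar_add_left, h3]
      exact h2.addF _)
    rw [← ht]
    exact dfix t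
  · -- `y` is a transvection
    push Not at hA
    obtain ⟨x0, hx0⟩ : ∃ x, y x ≠ x := by
      by_contra hn
      push Not at hn
      exact hy1 (LinearEquiv.ext hn)
    set q := y x0 + x0 with hqdef
    have hq0 : q ≠ 0 := fun e => hx0 (h2.eq_of_add e)
    have hqq : Q q = 1 := h2.eq_one (hA x0 hq0)
    have hD : ∀ x, y x + x = 0 ∨ y x + x = q := by
      intro x
      by_contra hcon
      push Not at hcon
      have h3 : y (x + x0) + (x + x0) = (y x + x) + q := by rw [map_add, hqdef]; abel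
      have h4 : (y x + x) + q ≠ 0 := fun e => hcon.2 (h2.eq_of_add e)
      have h5 := hA (x + x0) (by rw [h3]; exact h4)
      apply h5
      rw [h3, Q_add, hqq, h2.eq_one (hA x hcon.1), dperp x q (dfix x0), add_zero, h2.two]
    have hyq : y q = q := dfix x0
    have hfix : ∀ v, polar Q q v = 0 → y v = v := by
      intro v hv
      apply fix_of_perp h2 hQ hyO hyx
      intro z
      rcases hD z with e | e
      · rw [e, polar_zero_left]
      · rw [e, hv]
    have hgq : ∀ g ∈ X, g q = q := by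
      intro g hg
      have h3 : g q = y (g x0) + g x0 := by rw [hqdef, map_add, hgy g hg]
      rcases hD (g x0) with e | e
      · rw [e] at h3
        exact absurd ((LinearEquiv.map_eq_zero_iff g).1 h3) hq0
      · rw [h3, e]
    clear_value q
    -- stabilisers of singular points
    have hstab : ∀ u, Q u = 0 → u ≠ 0 → polar Q q u = 0 → ∀ g ∈ X, g u = u → g = 1 := by
      intro u hqu hu0 hqu' g hg hgu
      have hgw : ∀ w, polar Q u w = 0 → polar Q q w = 0 → g w = w := by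
        intro w huw hqw
        apply fix_of_odd_order h2 hodd hg hgu
        have h3 := X.mul_mem hg (hXn (T Q u w) (T_mem_E u w) (hTc u w (hfix u hqu') (hfix w hqw)) _ (X.inv_mem hg))
        have hugw : polar Q u (g w) = 0 := by
          have := polar_map (hgO g hg) u w
          rw [hgu] at this
          rw [this, huw]
        have h4 : g * (T Q u w * g⁻¹ * (T Q u w)⁻¹) = T Q u (g w + w) := by
          rw [← T_mul hqu hugw huw]
          have h5 := T_conj (hgO g hg) u w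
          rw [hgu] at h5
          rw [← h5, h2.T_inv]
          group
        rw [h4] at h3
        have h5 := one_of_sq hodd h3 h2.T_sq
        rw [← T_zero_right (Q := Q) u] at h5
        obtain ⟨c, hc⟩ := (T_eq_T_iff hQ hqu hu0 (polar_zero_right _ _) (by
          rw [polar_add_right, hugw, huw, add_zero])).1 h5.symm
        rw [zero_add] at hc
        rcases h2 c with e | e
        · left
          rw [e, zero_smul] at hc
          exact h2.eq_of_add hc
        · right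
          rw [e, one_smul] at hc
          rw [← hc, add_comm (g w) w, ← add_assoc, h2.add_self, zero_add]
      apply one_of_triv h2 hodd hg
      intro x
      have h3 : g x + x ∈ Submodule.span F {u, q} := by
        apply span_perp h2 hQ
        intro v hv
        have huv : polar Q u v = 0 := hv u (Submodule.subset_span (by simp))
        have hqv : polar Q q v = 0 := hv q (Submodule.subset_span (by simp))
        have h3 := polar_map (hgO g hg) x v
        rw [hgw v huv hqv] at h3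
        rw [polar_add_left, h3]
        exact h2.addF _
      rcases h2.mem_span_pair.1 h3 with e | e | e | e
      · rw [e, map_zero]
      · rw [e, hgu]
      · rw [e, hgq g hg]
      · rw [e, map_add, hgu, hgq g hg]
    -- three commuting involutions inverting `X`
    obtain ⟨u, hqu, hu1, hun⟩ := exists_sing_avoid (Q := Q) ![q] (Submodule.span F {q}) (by
      have := finrank_span_singleton_le (F := F) q
      omega)
    have hqu1 : polar Q q u = 0 := hu1 0
    have huq : polar Q u q = 0 := by rw [polar_comm, hqu1]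
    have hu0 : u ≠ 0 := fun e => hun (by rw [e]; exact Submodule.zero_mem _)
    obtain ⟨e, hqe, he1, hen⟩ := exists_sing_avoid (Q := Q) ![u, q] (Submodule.span F {u, q}) (by
      have := finrank_span_pair_le (F := F) u q
      omega)
    have hue : polar Q u e = 0 := he1 0
    have hqe1 : polar Q q e = 0 := he1 1
    obtain ⟨f0, hf1, hf2⟩ := exists_sep_sub hQ hen
    have huf0 : polar Q u f0 = 0 := hf2 u (Submodule.subset_span (by simp))
    have hqf0 : polar Q q f0 = 0 := hf2 q (Submodule.subset_span (by simp))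
    obtain ⟨c, hf3, hf4⟩ := h2.sing_of hqe hf1
    set f := f0 + c • e with hf
    have huf : polar Q u f = 0 := by rw [hf, polar_add_right, polar_smul_right, huf0, hue]; simp
    have hqf : polar Q q f = 0 := by rw [hf, polar_add_right, polar_smul_right, hqf0, hqe1]; simp
    have P1 : PQ Q u (e + f) := ⟨hqu, hu0, by rw [polar_add_right, hue, huf, add_zero], by
      rw [Q_add, hqe, hf3, hf4]; simp⟩
    have P2 : PQ Q u (e + q) := ⟨hqu, hu0, by rw [polar_add_right, hue, huq, add_zero], by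
      rw [Q_add, hqe, hqq, polar_comm, hqe1]; simp⟩
    have P3 : PQ Q u (e + f + (e + q)) := ⟨hqu, hu0, by rw [polar_add_right, P1.pq, P2.pq, add_zero], by
      rw [Q_add, P1.qq, P2.qq, polar_add_left, polar_add_right, polar_add_right, h2.polar_self, polar_comm Q e q,
        hqe1, polar_comm Q f e, hf4, polar_comm Q f q, hqf, h2.two]
      simp⟩
    have q1 : polar Q q (e + f) = 0 := by rw [polar_add_right, hqe1, hqf, add_zero]
    have q2 : polar Q q (e + q) = 0 := by rw [polar_add_right, hqe1, h2.polar_self, add_zero]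
    have q3 : polar Q q (e + f + (e + q)) = 0 := by rw [polar_add_right, q1, q2, add_zero]
    have inv : ∀ w, PQ Q u w → polar Q q w = 0 → ∀ g ∈ X, T Q u w * g * (T Q u w)⁻¹ = g⁻¹ := by
      intro w hw hqw g hg
      have hTy := hTc u w (hfix u hqu1) (hfix w hqw)
      let φ : ↥X →* ↥X :=
        { toFun := fun x => ⟨T Q u w * x * (T Q u w)⁻¹, hXn _ (T_mem_E _ _) hTy x x.2⟩
          map_one' := Subtype.ext (by simp)
          map_mul' := fun a b => Subtype.ext (by simp only [_root_.Subgroup.coe_mul, _root_.MulMemClass.mk_mul_mk, _root_.conj_mul]) }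
      have h3 : MonoidHom.FixedPointFree φ := by
        intro x hx
        have h4 : T Q u w * (x : V ≃ₗ[F] V) * (T Q u w)⁻¹ = x := congrArg Subtype.val hx
        have h5 : (x : V ≃ₗ[F] V) * T Q u w = T Q u w * x := by
          rw [mul_inv_eq_iff_eq_mul] at h4
          exact h4.symm
        exact Subtype.ext (hstab u hqu hu0 hqu1 x x.2 (PQ.fix_p h2 hQ hw (hgO x x.2) h5))
      have h4 : Function.Involutive φ := by
        intro x
        apply Subtype.ext
        show T Q u w * (T Q u w * x * (T Q u w)⁻¹) * (T Q u w)⁻¹ = x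
        calc T Q u w * (T Q u w * x * (T Q u w)⁻¹) * (T Q u w)⁻¹ =
            (T Q u w * T Q u w) * x * (T Q u w * T Q u w)⁻¹ := by group
          _ = x := by rw [h2.T_sq]; simp
      exact congrArg Subtype.val (congrFun (h3.coe_eq_inv_of_involutive h4) ⟨g, hg⟩)
    have i1 := inv _ P1 q1
    have i2 := inv _ P2 q2
    have i3 := inv _ P3 q3 g hg
    rw [← T_mul hqu P1.pq P2.pq] at i3
    have i4 : T Q u (e + f) * T Q u (e + q) * g * (T Q u (e + f) * T Q u (e + q))⁻¹ = g := by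
      calc T Q u (e + f) * T Q u (e + q) * g * (T Q u (e + f) * T Q u (e + q))⁻¹ =
          T Q u (e + f) * (T Q u (e + q) * g * (T Q u (e + q))⁻¹) * (T Q u (e + f))⁻¹ := by group
        _ = g := by rw [i2 g hg, i1 _ (X.inv_mem hg), inv_inv]
    rw [i4] at i3
    apply one_of_sq hodd hg
    nth_rewrite 1 [i3]
    exact inv_mul_cancel g

end

end Cfsg.Agent.OddHalf.D4.O2

end

-- merged: Cfsg.Agent.OddHalf.D4.O2.Main
section

/-!
# ODD, D4, rows `Ω^±_2n(2)`: no full pair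
-/

set_option autoImplicit false
set_option linter.unusedSectionVars false

namespace Cfsg.Agent.OddHalf.D4.O2

open QuadraticMap Cfsg.Agent.LieClassical.OrthCore Cfsg.Agent.LieClassical.OrthTrans
  Cfsg.Agent.ClassicalGeometry.OrthAutBasic Cfsg.Agent.ClassicalGeometry.OrthAutRoot
  Cfsg.Agent.ClassicalGeometry.OrthAutSylow Cfsg.Agent.OddHalf.D4.SigmaEnd

variable {F V : Type*} [Field F] [AddCommGroup V] [Module F V] {Q : QuadraticForm F V}

theorem finite_GL [Finite F] [FiniteDimensional F V] : Finite (V ≃ₗ[F] V) := by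
  have hfin : Finite V := Module.finite_of_finite F
  exact Finite.of_injective (fun g => (g : V → V)) DFunLike.coe_injective

section

variable (h2 : Two F)

include h2

theorem Two.charP : CharP F 2 := CharTwo.of_one_ne_zero_of_two_eq_zero one_ne_zero h2.two'

/-- `y T y⁻¹ = T` for all root elements `T` centralised by one of the `y`. -/
theorem OConf.cst {D N : Subgroup (V ≃ₗ[F] V)} [Finite (V ≃ₗ[F] V)] (hQ : Nondeg Q)
    (hd : 8 ≤ Module.finrank F V) {a b : V ≃ₗ[F] V} (oc : OConf Q D N a b) : Cst Q a b := by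
  have hfd : FiniteDimensional F V := Module.finite_of_finrank_pos (by omega)
  refine ⟨oc.aO, oc.bO, oc.aa, oc.bb, oc.ab, oc.a1, oc.b1, oc.ne, ?_⟩
  intro y y' hy hy' u w huw hc
  have yO : y' ∈ O Q := by
    rcases hy' with rfl | rfl | rfl
    · exact oc.aO
    · exact oc.bO
    · exact (O Q).mul_mem oc.aO oc.bO
  have hTD : T Q u w ∈ D := oc.cen y hy _ (T_mem_E u w) hc.symm
  have hTi : (T Q u w)⁻¹ = T Q u w := h2.T_inv
  have hc2 : ∀ p q, PQ Q p q → T Q p q ∉ N := fun p q hpq => OConf.c2 h2 hQ hd oc hpq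
  have hak : ∀ w, AK Q w → w ≠ 1 → w ∉ N := fun w hw hw1 => OConf.ak h2 hQ hd oc hw hw1
  have hodd : ∀ g ∈ O Q, T Q u w * (g * T Q u w * g⁻¹) ∈ N →
      Odd (orderOf (T Q u w * (g * T Q u w * g⁻¹))) := by
    intro g hg hN
    rw [T_conj hg] at hN ⊢
    exact odd_prod h2 hQ oc.toOC hc2 hak huw (huw.map hg) hN
  have hN : T Q u w * (y' * T Q u w * y'⁻¹) ∈ N := by
    have h3 := N.inv_mem (oc.comm y' hy' _ hTD)
    have h4 : (y' * T Q u w * y'⁻¹ * (T Q u w)⁻¹)⁻¹ = T Q u w * (y' * (T Q u w)⁻¹ * y'⁻¹) := by group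
    rw [h4, hTi] at h3
    exact h3
  have h5 := fix_of_odd (e := T Q u w) (e' := y' * T Q u w * y'⁻¹) h2.T_sq (T_ne_one hQ huw)
    (fun n hn => oc.norm _ hTD n hn) oc.core
    (fun n hn hnN => hodd n (E_le_O (oc.DE (oc.le hn))) hnN) (by
      calc y' * T Q u w * y'⁻¹ * (y' * T Q u w * y'⁻¹) = y' * (T Q u w * T Q u w) * y'⁻¹ := by group
        _ = 1 := by rw [h2.T_sq]; group) hN (hodd y' yO hN)
  rw [mul_inv_eq_iff_eq_mul] at h5
  exact h5

/-- Isometries commuting with `E Q`. -/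
theorem eq_one_of_comm [Finite F] (hB : Big Q) {g : V ≃ₗ[F] V} (hg : g ∈ O Q)
    (hc : ∀ x ∈ E Q, g * x = x * g) : g = 1 := by
  obtain ⟨c, hc1, hv⟩ := eq_smul_of_central hB hg fun u w _ => hc _ (T_mem_E u w)
  ext v
  rw [hv v]
  rcases hc1 with e | e
  · rw [e, one_smul]; rfl
  · rw [e, h2.negF, one_smul]; rfl

/-- **No configuration in `Ω(V)`.** -/
theorem false_of_conf (hQ : Nondeg Q) (hd : 8 ≤ Module.finrank F V)
    (haut : ∀ φ : MulAut ↥(E Q), ∃ g ∈ O Q, ∀ x : ↥(E Q), ((φ x : ↥(E Q)) : V ≃ₗ[F] V) = g * x * g⁻¹)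
    {α β : MulAut ↥(E Q)} {D N : Subgroup ↥(E Q)} (h : Conf α β D N) : False := by
  have hF := h2.finite
  have hfd : FiniteDimensional F V := Module.finite_of_finrank_pos (by omega)
  have hfin : Finite (V ≃ₗ[F] V) := finite_GL
  have hB : Big Q := ⟨hQ, by omega⟩
  have hchar := h2.charP
  obtain ⟨a, haO, ha⟩ := haut α
  obtain ⟨b, hbO, hb⟩ := haut β
  have hab' : ∀ x : ↥(E Q), (((α * β) x : ↥(E Q)) : V ≃ₗ[F] V) = (a * b) * x * (a * b)⁻¹ := by
    intro x
    show ((α (β x) : ↥(E Q)) : V ≃ₗ[F] V) = _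
    rw [ha, hb]; group
  have uniq : ∀ g g' : V ≃ₗ[F] V, g ∈ O Q → g' ∈ O Q → (∀ x ∈ E Q, g * x * g⁻¹ = g' * x * g'⁻¹) → g = g' := by
    intro g g' hg hg' h3
    have h4 : g'⁻¹ * g = 1 := by
      apply eq_one_of_comm h2 hB ((O Q).mul_mem ((O Q).inv_mem hg') hg)
      intro x hx
      have h5 := h3 x hx
      calc g'⁻¹ * g * x = g'⁻¹ * (g * x * g⁻¹) * g := by group
        _ = g'⁻¹ * (g' * x * g'⁻¹) * g := by rw [h5]
        _ = x * (g'⁻¹ * g) := by group
    calc g = g' * (g'⁻¹ * g) := by group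
      _ = g' := by rw [h4, mul_one]
  have inj : ∀ (φ ψ : MulAut ↥(E Q)) (g g' : V ≃ₗ[F] V), g ∈ O Q → g' ∈ O Q →
      (∀ x : ↥(E Q), ((φ x : ↥(E Q)) : V ≃ₗ[F] V) = g * x * g⁻¹) →
      (∀ x : ↥(E Q), ((ψ x : ↥(E Q)) : V ≃ₗ[F] V) = g' * x * g'⁻¹) → (φ = ψ ↔ g = g') := by
    intro φ ψ g g' hg hg' h3 h4
    constructor
    · intro e
      apply uniq g g' hg hg'
      intro x hx
      rw [← h3 ⟨x, hx⟩, ← h4 ⟨x, hx⟩, e]
    · intro e
      ext x
      rw [h3, h4, e]
  have hone : ∀ x : ↥(E Q), (((1 : MulAut ↥(E Q)) x : ↥(E Q)) : V ≃ₗ[F] V) = 1 * x * 1⁻¹ := by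
    intro x
    show (x : V ≃ₗ[F] V) = _
    rw [one_mul, inv_one, mul_one]
  have hmulf : ∀ (φ ψ : MulAut ↥(E Q)) (g g' : V ≃ₗ[F] V),
      (∀ x : ↥(E Q), ((φ x : ↥(E Q)) : V ≃ₗ[F] V) = g * x * g⁻¹) →
      (∀ x : ↥(E Q), ((ψ x : ↥(E Q)) : V ≃ₗ[F] V) = g' * x * g'⁻¹) →
      ∀ x : ↥(E Q), (((φ * ψ) x : ↥(E Q)) : V ≃ₗ[F] V) = (g * g') * x * (g * g')⁻¹ := by
    intro φ ψ g g' h3 h4 x
    show ((φ (ψ x) : ↥(E Q)) : V ≃ₗ[F] V) = _
    rw [h3, h4]; group
  have haa : a * a = 1 := (inj _ _ _ _ ((O Q).mul_mem haO haO) (O Q).one_mem (hmulf _ _ _ _ ha ha) hone).1 h.aa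
  have hbb : b * b = 1 := (inj _ _ _ _ ((O Q).mul_mem hbO hbO) (O Q).one_mem (hmulf _ _ _ _ hb hb) hone).1 h.bb
  have hab : a * b = b * a := (inj _ _ _ _ ((O Q).mul_mem haO hbO) ((O Q).mul_mem hbO haO)
    (hmulf _ _ _ _ ha hb) (hmulf _ _ _ _ hb ha)).1 h.ab
  have ha1 : a ≠ 1 := fun e => h.a1 ((inj _ _ _ _ haO (O Q).one_mem ha hone).2 e)
  have hb1 : b ≠ 1 := fun e => h.b1 ((inj _ _ _ _ hbO (O Q).one_mem hb hone).2 e)
  have hne : a ≠ b := fun e => h.ne ((inj _ _ _ _ haO hbO ha hb).2 e)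
  -- the correspondence
  have corr : ∀ y, (y = a ∨ y = b ∨ y = a * b) → ∃ γ : MulAut ↥(E Q), (γ = α ∨ γ = β ∨ γ = α * β) ∧
      ∀ x : ↥(E Q), ((γ x : ↥(E Q)) : V ≃ₗ[F] V) = y * x * y⁻¹ := by
    rintro y (rfl | rfl | rfl)
    · exact ⟨α, Or.inl rfl, ha⟩
    · exact ⟨β, Or.inr (Or.inl rfl), hb⟩
    · exact ⟨α * β, Or.inr (Or.inr rfl), hab'⟩
  have corr' : ∀ γ : MulAut ↥(E Q), (γ = α ∨ γ = β ∨ γ = α * β) → ∃ y, y ∈ O Q ∧ y * y = 1 ∧ y ≠ 1 ∧
      ∀ x : ↥(E Q), ((γ x : ↥(E Q)) : V ≃ₗ[F] V) = y * x * y⁻¹ := by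
    rintro γ (rfl | rfl | rfl)
    · exact ⟨a, haO, haa, ha1, ha⟩
    · exact ⟨b, hbO, hbb, hb1, hb⟩
    · refine ⟨a * b, (O Q).mul_mem haO hbO, ?_, ?_, hab'⟩
      · calc a * b * (a * b) = a * (b * a) * b := by group
          _ = a * (a * b) * b := by rw [hab]
          _ = (a * a) * (b * b) := by group
          _ = 1 := by rw [haa, hbb, one_mul]
      · intro e
        apply hne
        calc a = a * (b * b) := by rw [hbb, mul_one]
          _ = (a * b) * b := by group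
          _ = b := by rw [e, one_mul]
  have hNO : NoOdd N := noOdd_of_conf h (by
    intro γ hγ X hX1 hX2 hX3
    obtain ⟨y, hyO, hyy, hy1, hy⟩ := corr' γ hγ
    have h3 := core_trivial h2 hQ hd hyO hyy hy1 (X := X.map (E Q).subtype) (Subgroup.map_subtype_le X) (by
      rintro _ ⟨x, hx, rfl⟩
      have h4 := hy x
      rw [hX1 x hx] at h4
      show (x : V ≃ₗ[F] V) * y = y * x
      nth_rewrite 1 [h4]
      group) (by
      rintro g hg hgy _ ⟨x, hx, rfl⟩
      refine ⟨(⟨g, hg⟩ * x * ⟨g, hg⟩⁻¹ :), (hX2 ⟨g, hg⟩ (Subtype.ext ?_) x hx :), rfl⟩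
      rw [hy]
      show y * g * y⁻¹ = g
      rw [← hgy]; group) (by
      rw [Nat.card_congr (X.equivMapOfInjective _ (E Q).subtype_injective).toEquiv.symm]
      exact hX3)
    rwa [Subgroup.map_eq_bot_iff_of_injective _ (E Q).subtype_injective] at h3)
  refine Cst.false (a := a) (b := b) h2 (OConf.cst h2 (D := D.map (E Q).subtype) (N := N.map (E Q).subtype) (a := a) (b := b) hQ hd ?_) hQ hd
  have mem_map : ∀ (H : Subgroup ↥(E Q)) (x : ↥(E Q)), (x : V ≃ₗ[F] V) ∈ H.map (E Q).subtype ↔ x ∈ H := by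
    intro H x
    constructor
    · rintro ⟨x', hx', e⟩
      have : x' = x := Subtype.ext e
      rwa [this] at hx'
    · intro hx
      exact ⟨x, hx, rfl⟩
  have ord2 : ∀ n : ↥(E Q), (n : V ≃ₗ[F] V) ≠ 1 → (n : V ≃ₗ[F] V) * n = 1 → orderOf n = 2 := by
    intro n hn1 hn2
    apply orderOf_eq_prime
    · rw [pow_two]; exact Subtype.ext hn2
    · intro e; exact hn1 (congrArg Subtype.val e)
  refine ⟨⟨?_, ?_, ?_, ?_, ?_⟩, haO, hbO, haa, hbb, hab, ha1, hb1, hne, ?_, ?_, ?_⟩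
  · exact Subgroup.map_mono h.le
  · exact Subgroup.map_subtype_le D
  · rintro _ ⟨d, hd', rfl⟩ _ ⟨n, hn, rfl⟩
    exact ⟨d * n * d⁻¹, h.norm d hd' n hn, rfl⟩
  · rintro _ ⟨n, hn, rfl⟩ hn1 hn2 x hx hxn
    exact ⟨⟨x, hx⟩, h.cenN n hn (ord2 n hn1 hn2) ⟨x, hx⟩ (Subtype.ext hxn), rfl⟩
  · intro u w huw hmem
    have h3 : (⟨T Q u w, T_mem_E u w⟩ : ↥(E Q)) ∈ N := (mem_map N ⟨T Q u w, T_mem_E u w⟩).1 hmem
    have hp : Fact (Nat.Prime 2) := ⟨Nat.prime_two⟩
    obtain ⟨P, hP1, hP2, _, _⟩ := exists_sylow hB huw 2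
    obtain ⟨s, hs, hns⟩ := h.noCenN _ h3 (ord2 _ (T_ne_one hQ huw) h2.T_sq) P
    apply hns
    apply Subtype.ext
    show (s : V ≃ₗ[F] V) * T Q u w = T Q u w * s
    obtain ⟨c, hc⟩ := hP2 s hs
    have h4 := T_conj (E_le_O s.2) u w
    rw [hP1 s hs, hc, T_add_smul huw.qu huw.perp, mul_inv_eq_iff_eq_mul] at h4
    exact h4
  · intro y hy x hx hxy
    obtain ⟨γ, hγ, h3⟩ := corr y hy
    refine ⟨⟨x, hx⟩, h.cen γ hγ ⟨x, hx⟩ (Subtype.ext ?_), rfl⟩
    rw [h3]
    show y * x * y⁻¹ = x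
    rw [← hxy]; group
  · rintro y hy _ ⟨d, hd', rfl⟩
    obtain ⟨γ, hγ, h3⟩ := corr y hy
    refine ⟨γ d * d⁻¹, h.comm γ hγ d hd', ?_⟩
    show ((γ d : ↥(E Q)) : V ≃ₗ[F] V) * (d : V ≃ₗ[F] V)⁻¹ = _
    rw [h3]
    rfl
  · intro X hXN hXn hXo
    have hXE : X ≤ E Q := hXN.trans (Subgroup.map_subtype_le N)
    have h3 := hNO (X.subgroupOf (E Q)) (by
      intro x hx
      exact (mem_map N x).1 (hXN (Subgroup.mem_subgroupOf.1 hx))) (by
      intro n hn x hx
      rw [Subgroup.mem_subgroupOf] at hx ⊢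
      exact hXn n ((mem_map N n).2 hn) x hx) (by
      rw [Nat.card_congr (Subgroup.subgroupOfEquivOfLe hXE).toEquiv]
      exact hXo)
    rw [eq_bot_iff]
    intro x hx
    have h4 : (⟨x, hXE hx⟩ : ↥(E Q)) ∈ X.subgroupOf (E Q) := Subgroup.mem_subgroupOf.2 hx
    rw [h3, Subgroup.mem_bot] at h4
    exact congrArg Subtype.val h4

end

end Cfsg.Agent.OddHalf.D4.O2

end

-- merged: Cfsg.Agent.OddHalf.D4.O2.Aut
section

/-!
# ODD, D4, rows `Ω^±_2n(2)`: `Aut Ω(V) = O(V)`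
-/

set_option autoImplicit false
set_option linter.unusedSectionVars false

namespace Cfsg.Agent.OddHalf.D4.O2

open QuadraticMap Cfsg.Agent.LieClassical.OrthCore Cfsg.Agent.LieClassical.OrthTrans
  Cfsg.Agent.ClassicalGeometry.OrthAut1 Cfsg.Agent.AutOrth.SemiSim

variable {F V : Type*} [Field F] [AddCommGroup V] [Module F V] {Q : QuadraticForm F V}

theorem center_bot (h2 : Two F) (hG : Good Q) : Subgroup.center ↥(E Q) = ⊥ := by
  rw [eq_bot_iff]
  intro z hz
  rw [Subgroup.mem_bot]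
  obtain ⟨c, hc⟩ := center_scalar hG hz
  obtain ⟨x, hx0, _⟩ := hG.sing
  rcases h2 c with e | e
  · exfalso
    have h3 := hc x
    rw [e, zero_smul] at h3
    exact hx0 ((LinearEquiv.map_eq_zero_iff _).1 h3)
  · apply Subtype.ext
    ext v
    rw [hc v, e, one_smul]
    rfl

/-- `E Q ≃ P Q`. -/
noncomputable def eP (h2 : Two F) (hG : Good Q) : ↥(E Q) ≃* P Q :=
  MulEquiv.ofBijective (QuotientGroup.mk' (Subgroup.center ↥(E Q)))
    ⟨by
      rw [← MonoidHom.ker_eq_bot_iff, QuotientGroup.ker_mk']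
      exact center_bot h2 hG, QuotientGroup.mk'_surjective _⟩

theorem eP_apply (h2 : Two F) (hG : Good Q) (x : ↥(E Q)) : eP h2 hG x = (x : P Q) := rfl

/-- **Every automorphism of `Ω(V)` is conjugation by an isometry.** -/
theorem exists_iso [Finite F] [FiniteDimensional F V] (h2 : Two F) (hG : Good Q) (h7 : 7 ≤ Module.finrank F V)
    (h8 : Module.finrank F V = 8 → ∀ W : Submodule F V, TS Q W → Module.finrank F W ≠ 4) (α : MulAut ↥(E Q)) :
    ∃ g ∈ O Q, ∀ x : ↥(E Q), ((α x : ↥(E Q)) : V ≃ₗ[F] V) = g * x * g⁻¹ := by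
  obtain ⟨M, σ, c, hM, h⟩ := Cfsg.Agent.ClassicalGeometry.OrthAut4.exists_semi_P hG h7
    (MulAut.congr (eP h2 hG) α) (Cfsg.Agent.AutOrth.Main.pt_of_no_four hG h7 h8 _)
  have hσ : ∀ a : F, σ a = a := by
    intro a
    rcases h2 a with e | e
    · rw [e, map_zero]
    · rw [e, map_one]
  have hc : c = 1 := h2.eq_one hM.ne
  let g : V ≃ₗ[F] V := M.toLinearEquiv (by
    intro a v
    rw [hM.smul, hσ])
  have hg : g ∈ O Q := by
    intro v
    show Q (M v) = Q v
    rw [hM.form, hc, one_mul, hσ]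
  refine ⟨g, hg, fun x => ?_⟩
  have h3 := h x
  have h4 : MulAut.congr (eP h2 hG) α (x : P Q) = eP h2 hG (α x) := by
    show eP h2 hG (α ((eP h2 hG).symm (x : P Q))) = _
    rw [← eP_apply h2 hG, MulEquiv.symm_apply_apply]
  rw [h4] at h3
  have h5 : α x = conjE hM x := (eP h2 hG).injective h3
  rw [h5]
  ext v
  obtain ⟨v, rfl⟩ := M.surjective v
  rw [conjE_apply]
  show M _ = g ((x : V ≃ₗ[F] V) (g.symm (M v)))
  have h6 : g.symm (M v) = v := g.symm_apply_apply v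
  rw [h6]
  rfl

end Cfsg.Agent.OddHalf.D4.O2

end

-- merged: Cfsg.Agent.OddHalf.D4.AutOne
section

/-!
# ODD, D4: `AutFacts` from one Sylow 2-subgroup, transport of `AutFacts`
-/

set_option autoImplicit false

namespace Cfsg.Agent.OddHalf.D4.AutOne

open Cfsg Subgroup

variable {X Y : Type*} [Group X] [Group Y]

theorem orderOf_cj (g u : X) : orderOf (g * u * g⁻¹) = orderOf u :=
  orderOf_injective (MulAut.conj g).toMonoidHom (MulAut.conj g).injective u

/-- a Sylow 2-subgroup is conjugate to `S₀` -/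
theorem exists_conj [Finite X] (S S₀ : Sylow 2 X) : ∃ g : X, ∀ x, x ∈ S ↔ g * x * g⁻¹ ∈ S₀ := by
  obtain ⟨g, hg⟩ := MulAction.exists_smul_eq X S S₀
  refine ⟨g, fun x => ?_⟩
  rw [← hg]
  show x ∈ (S : Subgroup X) ↔ g * x * g⁻¹ ∈ ((g • S : Sylow 2 X) : Subgroup X)
  rw [Sylow.coe_subgroup_smul]
  constructor
  · intro hx
    exact ⟨x, hx, rfl⟩
  · rintro ⟨y, hy, hyx⟩
    have h1 : g * y * g⁻¹ = g * x * g⁻¹ := hyx
    have h2 : y = x := mul_left_cancel (mul_right_cancel h1)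
    rwa [← h2]

/-- **`AutFacts` from one Sylow 2-subgroup** -/
theorem of_one [Finite X] (S₀ : Sylow 2 X)
    (inner : ∀ φ : MulAut X, (∃ k : ℕ, φ ^ 2 ^ k = 1) → (∀ s ∈ S₀, φ s = s) → ∃ s ∈ S₀, φ = MulAut.conj s)
    (uniq : ∀ s ∈ S₀, orderOf s = 2 → (∀ u ∈ S₀, u * s = s * u) →
      ∀ s' ∈ S₀, orderOf s' = 2 → (∀ u ∈ S₀, u * s' = s' * u) → s = s')
    (bal : ∀ a : X, orderOf a = 2 → centralizerPPrimeCore 2 a = ⊥)
    (se : ∀ H : Subgroup X, ¬ IsStronglyEmbedded H) : AutFacts X := by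
  have e1 : ∀ g x : X, g * (g⁻¹ * x * g) * g⁻¹ = x := fun g x => by group
  have e2 : ∀ g x : X, g⁻¹ * (g * x * g⁻¹) * g = x := fun g x => by group
  refine ⟨?_, ?_, bal, se⟩
  · rintro S φ ⟨k, hk⟩ hS
    obtain ⟨g, hg⟩ := exists_conj S S₀
    obtain ⟨s, hs, hφ⟩ := inner (MulAut.conj g * φ * (MulAut.conj g)⁻¹) ⟨k, by
      rw [conj_pow, hk, mul_one, mul_inv_cancel]⟩ (by
      intro s hs
      have h1 : g⁻¹ * s * g ∈ S := by rw [hg, e1]; exact hs
      have h2 : ((MulAut.conj g)⁻¹ : MulAut X) s = g⁻¹ * s * g := MulAut.conj_inv_apply g s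
      rw [MulAut.mul_apply, MulAut.mul_apply, h2, hS _ h1, MulAut.conj_apply, e1])
    refine ⟨g⁻¹ * s * g, by rw [hg, e1]; exact hs, ?_⟩
    have h3 : φ = (MulAut.conj g)⁻¹ * MulAut.conj s * MulAut.conj g := by
      rw [← hφ]; group
    rw [h3, ← map_inv, ← map_mul, ← map_mul]
  · intro S s hs hs2 hsc s' hs' hs2' hsc'
    obtain ⟨g, hg⟩ := exists_conj S S₀
    have key : ∀ t, (∀ u ∈ S, u * t = t * u) → ∀ u ∈ S₀, u * (g * t * g⁻¹) = g * t * g⁻¹ * u := by
      intro t ht u hu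
      have h1 := ht (g⁻¹ * u * g) (by rw [hg, e1]; exact hu)
      calc u * (g * t * g⁻¹) = g * ((g⁻¹ * u * g) * t) * g⁻¹ := by group
        _ = g * (t * (g⁻¹ * u * g)) * g⁻¹ := by rw [h1]
        _ = g * t * g⁻¹ * u := by group
    have h1 := uniq (g * s * g⁻¹) ((hg s).mp hs) (by rw [orderOf_cj, hs2]) (key s hsc) (g * s' * g⁻¹)
      ((hg s').mp hs') (by rw [orderOf_cj, hs2']) (key s' hsc')
    exact mul_left_cancel (mul_right_cancel h1)

/-- the image of a Sylow subgroup under an isomorphism -/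
theorem exists_sylow_map (e : X ≃* Y) (S : Sylow 2 X) : ∃ T : Sylow 2 Y, ∀ x, x ∈ S ↔ e x ∈ T := by
  have h2 : IsPGroup 2 ↥((S : Subgroup X).comap e.symm.toMonoidHom) :=
    S.2.comap_of_injective _ e.symm.injective
  refine ⟨⟨(S : Subgroup X).comap e.symm.toMonoidHom, h2, ?_⟩, fun x => ?_⟩
  · intro Q hQ hle
    have h1 : IsPGroup 2 ↥(Q.comap e.toMonoidHom) := hQ.comap_of_injective _ e.injective
    have h3 : (S : Subgroup X) ≤ Q.comap e.toMonoidHom := by
      intro s hs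
      apply hle
      show e.symm (e s) ∈ (S : Subgroup X)
      rw [e.symm_apply_apply]; exact hs
    have h4 := S.3 h1 h3
    apply le_antisymm _ hle
    intro q hq
    show e.symm q ∈ (S : Subgroup X)
    rw [← h4]
    show e (e.symm q) ∈ Q
    rw [e.apply_symm_apply]; exact hq
  · show x ∈ (S : Subgroup X) ↔ e.symm (e x) ∈ (S : Subgroup X)
    rw [e.symm_apply_apply]

theorem centralizerPPrimeCore_equiv [Finite X] [Finite Y] (e : X ≃* Y) {a : X}
    (h : centralizerPPrimeCore 2 (e a) = ⊥) : centralizerPPrimeCore 2 a = ⊥ := by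
  let I := centralizerPPrimeCore 2 a
  have hI : I.map e.toMonoidHom = ⊥ := by
    apply eq_bot_of_core h
    · rintro _ ⟨i, ⟨c, hc, rfl⟩, rfl⟩
      have h1 := mem_centralizer_singleton_iff.mp c.2
      show e (c : X) * e a = e a * e (c : X)
      rw [← map_mul, ← map_mul]
      exact congrArg e h1
    · rintro x hx _ ⟨i, ⟨c, hc, rfl⟩, rfl⟩
      have h1 : e.symm x * a = a * e.symm x := by
        apply e.injective
        rw [map_mul, map_mul, e.apply_symm_apply, hx]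
      have h2 : e.symm x ∈ centralizer ({a} : Set X) := mem_centralizer_singleton_iff.mpr h1
      have hn : (pPrimeCore 2 ↥(centralizer ({a} : Set X))).Normal := inferInstance
      refine ⟨e.symm x * c * (e.symm x)⁻¹, ⟨(⟨e.symm x, h2⟩ * c * ⟨e.symm x, h2⟩⁻¹ :), hn.conj_mem c hc _, rfl⟩, ?_⟩
      show e (e.symm x * c * (e.symm x)⁻¹) = x * e (c : X) * x⁻¹
      rw [map_mul, map_mul, map_inv, e.apply_symm_apply]
    · have h1 : Nat.card ↥(I.map e.toMonoidHom) = Nat.card ↥I :=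
        (Nat.card_congr (I.equivMapOfInjective _ e.injective).toEquiv).symm
      have h2 : Nat.card ↥I = Nat.card ↥(pPrimeCore 2 ↥(centralizer ({a} : Set X))) :=
        (Nat.card_congr ((pPrimeCore 2 ↥(centralizer ({a} : Set X))).equivMapOfInjective _
          (centralizer ({a} : Set X)).subtype_injective).toEquiv).symm
      rw [h1, h2]
      exact Nat.coprime_two_right.mp (Cfsg.Agent.Lib.Cores.pPrimeCore_coprime 2)
  exact (Subgroup.map_eq_bot_iff_of_injective I e.injective).mp hI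

theorem not_se_equiv (e : X ≃* Y) (h : ∀ H : Subgroup Y, ¬ IsStronglyEmbedded H) (H : Subgroup X) :
    ¬ IsStronglyEmbedded H := by
  intro hH
  apply h (H.map e.toMonoidHom)
  have hcard : ∀ A : Subgroup X, Nat.card ↥(A.map e.toMonoidHom) = Nat.card ↥A := fun A =>
    (Nat.card_congr (A.equivMapOfInjective _ e.injective).toEquiv).symm
  refine ⟨?_, ?_, ?_⟩
  · intro h1
    apply hH.1
    rw [eq_top_iff]
    intro x _
    have h2 : e x ∈ H.map e.toMonoidHom := by rw [h1]; exact mem_top _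
    obtain ⟨y, hy, hyx⟩ := h2
    have h3 : y = x := e.injective hyx
    rwa [← h3]
  · rw [hcard]; exact hH.2.1
  · intro g hg
    have h1 : e.symm g ∉ H := by
      intro h2
      exact hg ⟨e.symm g, h2, e.apply_symm_apply g⟩
    have h2 := hH.2.2 _ h1
    have h3 : H.map e.toMonoidHom ⊓ (H.map e.toMonoidHom).map (MulAut.conj g).toMonoidHom
        = (H ⊓ H.map (MulAut.conj (e.symm g)).toMonoidHom).map e.toMonoidHom := by
      ext y
      constructor
      · rintro ⟨⟨a, ha, rfl⟩, ⟨_, ⟨b, hb, rfl⟩, hab⟩⟩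
        refine ⟨a, ⟨ha, ⟨b, hb, ?_⟩⟩, rfl⟩
        apply e.injective
        show e (e.symm g * b * (e.symm g)⁻¹) = e a
        rw [map_mul, map_mul, map_inv, e.apply_symm_apply]
        exact hab
      · rintro ⟨a, ⟨ha, ⟨b, hb, hab⟩⟩, rfl⟩
        refine ⟨⟨a, ha, rfl⟩, ⟨e b, ⟨b, hb, rfl⟩, ?_⟩⟩
        have h4 : e.symm g * b * (e.symm g)⁻¹ = a := hab
        show g * e b * g⁻¹ = e a
        rw [← h4, map_mul, map_mul, map_inv, e.apply_symm_apply]
    rw [h3, hcard]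
    exact h2

/-- **transport of `AutFacts`** -/
theorem of_equiv [Finite X] [Finite Y] (e : X ≃* Y) (h : AutFacts Y) : AutFacts X := by
  refine ⟨?_, ?_, ?_, not_se_equiv e h.se⟩
  · rintro S φ ⟨k, hk⟩ hS
    obtain ⟨T, hT⟩ := exists_sylow_map e S
    have hT' : ∀ y ∈ T, e.symm y ∈ S := by
      intro y hy
      rw [hT, e.apply_symm_apply]; exact hy
    obtain ⟨t, ht, hφ⟩ := h.inner T (MulAut.congr e φ) ⟨k, by rw [← map_pow, hk, map_one]⟩ (by
      intro y hy
      show e (φ (e.symm y)) = y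
      rw [hS _ (hT' y hy), e.apply_symm_apply])
    refine ⟨e.symm t, hT' t ht, ?_⟩
    ext x
    have h1 : MulAut.congr e φ (e x) = t * e x * t⁻¹ := by rw [hφ]; rfl
    have h2 : e (φ x) = t * e x * t⁻¹ := by
      rw [← h1]
      show e (φ x) = e (φ (e.symm (e x)))
      rw [e.symm_apply_apply]
    apply e.injective
    rw [h2, MulAut.conj_apply, map_mul, map_mul, map_inv, e.apply_symm_apply]
  · intro S s hs hs2 hsc s' hs' hs2' hsc'
    obtain ⟨T, hT⟩ := exists_sylow_map e S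
    have ho : ∀ x : X, orderOf (e x) = orderOf x := fun x => orderOf_injective e.toMonoidHom e.injective x
    have key : ∀ t, (∀ u ∈ S, u * t = t * u) → ∀ u ∈ T, u * e t = e t * u := by
      intro t ht u hu
      have h1 := ht (e.symm u) (by rw [hT, e.apply_symm_apply]; exact hu)
      have h2 := congrArg e h1
      rwa [map_mul, map_mul, e.apply_symm_apply] at h2
    exact e.injective (h.uniq T (e s) ((hT s).mp hs) (by rw [ho, hs2]) (key s hsc) (e s') ((hT s').mp hs')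
      (by rw [ho, hs2']) (key s' hsc'))
  · intro a ha
    apply centralizerPPrimeCore_equiv e
    apply h.bal
    rw [← ha]
    exact orderOf_injective e.toMonoidHom e.injective a

end Cfsg.Agent.OddHalf.D4.AutOne

end

-- merged: Cfsg.Agent.OddHalf.D4.Orth2.Facts
section

/-!
# ODD, D4, rows `Ω^±_2n(2)`: the facts `AutFacts (E Q)`

`autFacts`: over the field with two elements, in dimension at least 8, if every automorphism of `E Q` is conjugation
by an isometry and `O(C(a)) = 1` for the involutions `a`.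
-/

set_option autoImplicit false

namespace Cfsg.Agent.OddHalf.D4.Orth2.Facts

open QuadraticMap Cfsg.Agent.LieClassical.OrthCore Cfsg.Agent.LieClassical.OrthTrans
  Cfsg.Agent.ClassicalGeometry.OrthAutBasic Cfsg.Agent.ClassicalGeometry.OrthAutRoot
  Cfsg.Agent.ClassicalGeometry.OrthAutSylow Cfsg.Agent.OddHalf.D4.O2

variable {F V : Type*} [Field F] [AddCommGroup V] [Module F V] {Q : QuadraticForm F V}

theorem charP (h2 : Two F) : CharP F 2 := CharTwo.of_one_ne_zero_of_two_eq_zero one_ne_zero h2.two'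

theorem finite_E [Finite F] [Module.Finite F V] : Finite ↥(E Q) := by
  have hfin : Finite V := Module.finite_of_finite F
  have hfinE : Finite (V ≃ₗ[F] V) := Finite.of_injective (fun g => (g : V → V)) DFunLike.coe_injective
  infer_instance

/-- A singular line with a nonsingular vector orthogonal to `x`. -/
theorem exists_data [Finite F] (hB : Big Q) : ∃ x z v : V, Ln Q x z ∧ polar Q x v = 0 ∧ Q v = 1 := by
  obtain ⟨x, y, hy⟩ := hB.good.exists_hyp
  obtain ⟨z, w, hzw, hxz, hxw, hyz, hyw⟩ := hB.good.exists_hyp2 hy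
  refine ⟨x, z, z + w, ⟨hy.left, hzw.left, hxz, hy.left_ne, ?_⟩, ?_, ?_⟩
  · intro c hcc
    have := hzw.pair
    rw [hcc, polar_smul_left, hxw, smul_zero] at this
    exact zero_ne_one this
  · rw [polar_add_right, hxz, hxw, add_zero]
  · rw [Q_add, hzw.left, hzw.right, hzw.pair]; simp

/-- An isometry commuting with all `T x w` is one of them. -/
theorem eq_T_of_comm (h2 : Two F) [Finite F] (hB : Big Q) {g : V ≃ₗ[F] V} (hg : g ∈ O Q) {x : V}
    (hx : Q x = 0) (hx0 : x ≠ 0) (h : ∀ w, polar Q x w = 0 → g * T Q x w * g⁻¹ = T Q x w) :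
    ∃ w0, polar Q x w0 = 0 ∧ g = T Q x w0 := by
  have hgx : g x = x := by
    obtain ⟨c, hc⟩ := eq_smul_of_fix_rad hB hx hx0 (v := g x) (by
      intro w hw
      have h1 : T Q x w * g = g * T Q x w := by
        rw [← mul_inv_eq_iff_eq_mul, mul_assoc]
        have h3 := h w hw
        have h4 : T Q x w = g⁻¹ * T Q x w * g := by
          calc T Q x w = g⁻¹ * (g * T Q x w * g⁻¹) * g := by group
            _ = _ := by rw [h3]
        calc T Q x w * (g * (T Q x w)⁻¹) = (g * T Q x w * g⁻¹) * (g * (T Q x w)⁻¹) := by rw [h3]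
          _ = g := by group
      have h5 : (T Q x w * g) x = (g * T Q x w) x := by rw [h1]
      have h6 : T Q x w (g x) = g (T Q x w x) := h5
      rw [h6, T_apply_self hx hw])
    rcases h2 c with h3 | h3
    · exfalso
      rw [h3, zero_smul] at hc
      exact hx0 ((LinearEquiv.map_eq_zero_iff g).1 hc)
    · rw [hc, h3, one_smul]
  refine eq_T_of_comm_rad hB hg hx hx0 hgx fun w hw => ?_
  rw [← T_conj hg]
  exact h w hw

/-- `T x u`, `Q u = 0`, and `T x v`, `Q v = 1`, are not conjugate. -/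
theorem not_conj [Finite F] (hB : Big Q) {x z v : V} (h : Ln Q x z) (hv : polar Q x v = 0) (hv1 : Q v = 1)
    {g : V ≃ₗ[F] V} (hg : g ∈ O Q) (e : g * T Q x z * g⁻¹ = T Q x v) : False := by
  obtain ⟨y, hy⟩ := hB.nondeg.exists_polar_eq h.ne 1
  have h1 : Q (T Q x v y - y) = 1 := by
    rw [T_apply h.qu hv, hy]
    have e1 : y + (1 : F) • v - polar Q v y • x - (Q v * 1) • x - y = v + (-(polar Q v y) - Q v) • x := by module
    rw [e1, Q_add, QuadraticMap.map_smul, polar_smul_right, h.qu, polar_comm Q v x, hv, hv1]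
    simp
  have h3 : Q (T Q x v y - y) = 0 := by
    rw [← e]
    have e1 : (g * T Q x z * g⁻¹) y - y = g (T Q x z (g⁻¹ y) - g⁻¹ y) := by
      have e2 : g (g⁻¹ y) = y := g.apply_symm_apply y
      rw [map_sub, e2]
      rfl
    rw [e1, mem_O.1 hg, T_apply h.qu h.perp, h.qw]
    have e3 : ∀ t : V, t + polar Q x t • z - polar Q z t • x - (0 * polar Q x t) • x - t =
        polar Q x t • z + (-(polar Q z t)) • x := fun t => by module
    rw [e3, Q_add, QuadraticMap.map_smul, QuadraticMap.map_smul, polar_smul_right, polar_smul_left, h.qu, h.qw,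
      h.perp']
    simp
  rw [h1] at h3
  exact one_ne_zero h3

/-- **The facts of D4 for `Ω^±_2n(2)`.** -/
theorem autFacts (h2 : Two F) (hQ : Nondeg Q) (hd : 8 ≤ Module.finrank F V)
    (haut : ∀ φ : MulAut ↥(E Q), ∃ g ∈ O Q, ∀ x : ↥(E Q), ((φ x : ↥(E Q)) : V ≃ₗ[F] V) = g * x * g⁻¹)
    (hbal : ∀ a : ↥(E Q), orderOf a = 2 → centralizerPPrimeCore 2 a = ⊥) : AutFacts ↥(E Q) := by
  have hfF : Finite F := h2.finite
  have hfd : FiniteDimensional F V := Module.finite_of_finrank_pos (by omega)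
  have hfE : Finite ↥(E Q) := finite_E
  have hp : Fact (Nat.Prime 2) := ⟨Nat.prime_two⟩
  have hch : CharP F 2 := charP h2
  have hB : Big Q := ⟨hQ, by omega⟩
  obtain ⟨x, u, v, h, hv, hv1⟩ := exists_data hB
  obtain ⟨P, hP1, hP2, hP3, hP4⟩ := exists_sylow hB h 2
  refine AutOne.of_one P ?_ ?_ hbal ?_
  · -- (F1)
    rintro φ - hφ
    obtain ⟨g, hg, hgφ⟩ := haut φ
    obtain ⟨w0, hw0, e⟩ := eq_T_of_comm h2 hB hg h.qu h.ne (by
      intro w hw
      have h3 := hφ _ (hP3 w hw)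
      have h4 := hgφ ⟨T Q x w, T_mem_E x w⟩
      rw [h3] at h4
      exact h4.symm)
    refine ⟨⟨T Q x w0, T_mem_E x w0⟩, hP3 w0 hw0, ?_⟩
    ext y : 1
    apply Subtype.ext
    rw [hgφ y, e]
    rfl
  · -- (F5)
    have key : ∀ s ∈ P, orderOf s = 2 → (∀ t ∈ P, t * s = s * t) → (s : V ≃ₗ[F] V) = T Q x u := by
      intro s hs hs2 hsc
      have hsc' : ∀ t ∈ P, (t : V ≃ₗ[F] V) * s = s * t := fun t ht => congrArg Subtype.val (hsc t ht)
      have hsO : (s : V ≃ₗ[F] V) ∈ O Q := E_le_O s.2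
      obtain ⟨w0, hw0, e⟩ := eq_T_of_comm h2 hB hsO h.qu h.ne (by
        intro w hw
        have h3 := hsc' _ (hP3 w hw)
        have h4 : T Q x w * s = s * T Q x w := h3
        rw [← h4]; group)
      have hL : w0 ∈ L F x u := by
        apply mem_L_of_comm hB h hw0
        intro z hxz huz
        have e1 : T Q u z x = x := T_fix h.perp' (by rw [polar_comm]; exact hxz)
        have e2 := T_conj (T_mem_O (Q := Q) u z) x w0
        rw [e1, ← e] at e2
        have e3 : T Q u z * (s : V ≃ₗ[F] V) = s * T Q u z := hsc' _ (hP4 z hxz huz)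
        rw [← e2, e3, ← e]
        group
      obtain ⟨a, c, hac⟩ := mem_L.1 hL
      have hcu : polar Q x (c • u) = 0 := by rw [polar_smul_right, h.perp, smul_zero]
      have e4 : (s : V ≃ₗ[F] V) = T Q x (c • u) := by
        rw [e, ← hac, add_comm, T_add_smul h.qu hcu]
      rcases h2 c with hc | hc
      · exfalso
        rw [hc, zero_smul, T_zero_right] at e4
        have h5 : s = 1 := Subtype.ext e4
        rw [h5, orderOf_one] at hs2
        omega
      · rw [e4, hc, one_smul]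
    intro s hs hs2 hsc s' hs' hs2' hsc'
    apply Subtype.ext
    rw [key s hs hs2 hsc, key s' hs' hs2' hsc']
  · -- no strongly embedded subgroup
    intro H hH
    have ho : ∀ w, polar Q x w = 0 → T Q x w ≠ 1 → orderOf (⟨T Q x w, T_mem_E x w⟩ : ↥(E Q)) = 2 := by
      intro w hw hne
      apply orderOf_eq_prime
      · apply Subtype.ext
        show T Q x w ^ 2 = 1
        rw [pow_two, h2.T_sq]
      · intro h3
        exact hne (congrArg Subtype.val h3)
    have h3 : T Q x v ≠ 1 := by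
      intro h3
      obtain ⟨y, hy⟩ := hQ.exists_polar_eq h.ne 1
      have h4 : Q (T Q x v y - y) = 1 := by
        rw [T_apply h.qu hv, hy]
        have e1 : y + (1 : F) • v - polar Q v y • x - (Q v * 1) • x - y = v + (-(polar Q v y) - Q v) • x := by
          module
        rw [e1, Q_add, QuadraticMap.map_smul, polar_smul_right, h.qu, polar_comm Q v x, hv, hv1]
        simp
      rw [h3] at h4
      have h5 : (1 : V ≃ₗ[F] V) y - y = 0 := sub_self y
      rw [h5, QuadraticMap.map_zero] at h4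
      exact zero_ne_one h4
    have h4 : T Q x u ≠ 1 := T_ne_one hQ h
    obtain ⟨g, hg⟩ := isConj_iff.1 (TwoFusion.StronglyEmbeddedBasic.isConj_of_involutions hH _ _
      (ho u h.perp h4) (ho v hv h3))
    exact not_conj hB h hv hv1 (E_le_O g.2) (congrArg Subtype.val hg)

end Cfsg.Agent.OddHalf.D4.Orth2.Facts

end

-- merged: Cfsg.Agent.OddHalf.D4.O2.Row
section

/-!
# ODD, D4: the rows `Ω⁺_2m(2)`, `m ≥ 5`, and `Ω⁻_2m(2)`, `m ≥ 4`
-/

set_option autoImplicit false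
set_option linter.unusedSectionVars false

namespace Cfsg.Agent.OddHalf.D4.O2

open QuadraticMap Cfsg.Agent.LieClassical.OrthCore Cfsg.Agent.LieClassical.OrthTrans
  Cfsg.Agent.OddHalf.D4.Basic Cfsg.Agent.LieClassical Cfsg.Agent.ClassicalGeometry.OrthAut1

universe u

section

variable {F V : Type*} [Field F] [AddCommGroup V] [Module F V] {Q : QuadraticForm F V}

theorem core_conj {X : Type*} [Group X] {a g x : X} (hg : g * a = a * g) (hx : x ∈ centralizerPPrimeCore 2 a) :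
    g * x * g⁻¹ ∈ centralizerPPrimeCore 2 a := by
  obtain ⟨x', hx', rfl⟩ := hx
  have hgc : g ∈ Subgroup.centralizer ({a} : Set X) := Subgroup.mem_centralizer_singleton_iff.mpr hg
  exact ⟨(⟨g, hgc⟩ * x' * ⟨g, hgc⟩⁻¹ :), (Cfsg.Agent.Lib.Cores.pPrimeCore_normal 2).conj_mem _ hx' _, rfl⟩

/-- (F0): `O(C(a)) = 1`. -/
theorem bal_E (h2 : Two F) (hQ : Nondeg Q) (hd : 8 ≤ Module.finrank F V) (a : ↥(E Q)) (ha : orderOf a = 2) :
    centralizerPPrimeCore 2 a = ⊥ := by
  have hF := h2.finite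
  have hfd : FiniteDimensional F V := Module.finite_of_finrank_pos (by omega)
  have hfin : Finite (V ≃ₗ[F] V) := finite_GL
  have haa : a * a = 1 := by rw [← pow_two, ← ha]; exact pow_orderOf_eq_one a
  have ha1 : a ≠ 1 := by
    rintro rfl
    rw [orderOf_one] at ha
    omega
  have hcen : ∀ x ∈ centralizerPPrimeCore 2 a, x * a = a * x := by
    rintro _ ⟨⟨x, hx⟩, _, rfl⟩
    exact Subgroup.mem_centralizer_singleton_iff.mp hx
  have hcard : Odd (Nat.card ↥(centralizerPPrimeCore 2 a)) := by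
    have h3 := Cfsg.Agent.Lib.Cores.pPrimeCore_coprime (G := ↥(Subgroup.centralizer ({a} : Set ↥(E Q)))) 2
    rw [← Nat.coprime_two_right]
    unfold centralizerPPrimeCore
    rwa [Nat.card_congr ((pPrimeCore 2 ↥(Subgroup.centralizer ({a} : Set ↥(E Q)))).equivMapOfInjective _
      (Subgroup.subtype_injective _)).toEquiv.symm]
  have h3 := core_trivial h2 hQ hd (y := (a : V ≃ₗ[F] V)) (E_le_O a.2) (congrArg Subtype.val haa)
    (fun e => ha1 (Subtype.ext e)) (X := (centralizerPPrimeCore 2 a).map (E Q).subtype)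
    (Subgroup.map_subtype_le _) (by
      rintro _ ⟨x, hx, rfl⟩
      exact congrArg Subtype.val (hcen x hx)) (by
      rintro g hg hga _ ⟨x, hx, rfl⟩
      exact ⟨(⟨g, hg⟩ * x * ⟨g, hg⟩⁻¹ :), (core_conj (g := ⟨g, hg⟩) (Subtype.ext hga) hx :), rfl⟩) (by
      rw [Nat.card_congr ((centralizerPPrimeCore 2 a).equivMapOfInjective _ (E Q).subtype_injective).toEquiv.symm]
      exact hcard)
  rwa [Subgroup.map_eq_bot_iff_of_injective _ (E Q).subtype_injective] at h3

end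

/-- `X` is one of the groups `Ω(V)` of this folder. -/
def IsE (X : Type u) [Group X] : Prop :=
  ∃ (F : Type) (V : Type) (_ : Field F) (_ : AddCommGroup V) (_ : Module F V) (Q : QuadraticForm F V),
    Two F ∧ Nondeg Q ∧ 8 ≤ Module.finrank F V ∧
    (∀ φ : MulAut ↥(E Q), ∃ g ∈ O Q, ∀ x : ↥(E Q), ((φ x : ↥(E Q)) : V ≃ₗ[F] V) = g * x * g⁻¹) ∧
    Nonempty (X ≃* ↥(E Q))

/-- **The facts of D4.** -/
theorem IsE.autFacts {X : Type u} [Group X] (h : IsE X) : AutFacts X := by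
  obtain ⟨F, V, _, _, _, Q, h2, hQ, hd, haut, ⟨e⟩⟩ := h
  have hF := h2.finite
  have hfd : FiniteDimensional F V := Module.finite_of_finrank_pos (by omega)
  have hfin : Finite (V ≃ₗ[F] V) := finite_GL
  have hfX : Finite X := Finite.of_equiv _ e.symm.toEquiv
  exact AutOne.of_equiv e (Orth2.Facts.autFacts h2 hQ hd haut (bal_E h2 hQ hd))

/-- **No configuration.** -/
theorem IsE.false_of_conf {X : Type u} [Group X] (h : IsE X) {α β : MulAut X} {D N : Subgroup X}
    (hc : Conf α β D N) : False := by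
  obtain ⟨F, V, _, _, _, Q, h2, hQ, hd, haut, ⟨e⟩⟩ := h
  exact O2.false_of_conf h2 hQ hd haut (hc.map e)

/-- **A row of `Cut.lean` from `AutFacts` and "no configuration".** -/
theorem row_of_noConf (h1173 : Start.P1173.{u}) {P : (K : Type u) → [Group K] → Prop}
    (hF : ∀ (X : Type u) [Group X] [Finite X] [IsSimpleGroup X], P X → AutFacts X)
    (hno : ∀ (X : Type u) [Group X] [Finite X] [IsSimpleGroup X], P X →
      ∀ (α β : MulAut X) (D N : Subgroup X), Conf α β D N → False) : Cut.Row1.{u} P := by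
  apply Start.row_of_pair h1173 hF
  intro G _ hG K L Q U _ hD hp hP
  have := hG.fin
  have := hD.simple
  have hrL : Rk2 L := by
    obtain ⟨g, _, rfl⟩ := hp.conj
    exact hD.rk.cj g
  obtain ⟨y, hy, u, hu, hy2, hu2, hyu, hne⟩ := hrL.exists_syl hp.sylU
  have hUK := hp.leU hD.loc.tight hD.loc.even
  exact hno ↥K hP _ _ _ _ (hp.conf hD.loc (hUK hy) (hUK hu) (hp.sylU.le hy) (hp.sylU.le hu) hy2 hu2 hyu hne)

theorem row_isE (h1173 : Start.P1173.{u}) : Cut.Row1.{u} (fun K _ => IsE K) :=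
  row_of_noConf h1173 (fun _ _ _ _ h => h.autFacts) fun _ _ _ _ h _ _ _ _ hc => h.false_of_conf hc

theorem two_of_card {F : Type*} [Field F] [Fintype F] (h : Fintype.card F = 2) : Two F := by
  classical
  intro a
  by_contra hcon
  push Not at hcon
  have h3 : ({0, 1, a} : Finset F).card ≤ Fintype.card F := Finset.card_le_univ _
  rw [h, Finset.card_insert_of_notMem (by
    simp only [Finset.mem_insert, Finset.mem_singleton, not_or]
    exact ⟨zero_ne_one, hcon.1.symm⟩), Finset.card_insert_of_notMem (by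
    simp only [Finset.mem_singleton]
    exact hcon.2.symm), Finset.card_singleton] at h3
  omega

theorem exists_congr {ι : Type} [Fintype ι] [DecidableEq ι] {F : Type*} [Field F] {q q' : (ι → F) → F} (h : q = q') :
    Nonempty (POmega F q ≃* POmega F q') := by
  subst h
  exact ⟨MulEquiv.refl _⟩

/-- The transport. -/
theorem isE_of_equiv {X : Type u} [Group X] {ι F : Type} [Fintype ι] [DecidableEq ι] [Field F] {q : (ι → F) → F}
    (e : X ≃* POmega F q) (Q : QuadraticForm F (ι → F)) (hq : ⇑Q = q) (h2 : Two F) (hG : Good Q)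
    (h8 : 8 ≤ Module.finrank F (ι → F))
    (h4 : Module.finrank F (ι → F) = 8 → ∀ (W : Submodule F (ι → F)), TS Q W → Module.finrank F ↥W ≠ 4) : IsE X := by
  obtain ⟨e'⟩ := exists_congr hq.symm
  have hF := h2.finite
  exact ⟨F, ι → F, _, _, _, Q, h2, hG.nondeg, h8, exists_iso h2 hG (by omega) h4,
    ⟨(e.trans e').trans ((AutOrth.Main.pe hG).trans (eP h2 hG).symm)⟩⟩

theorem isE_plus {X : Type u} [Group X] (h : Cut.Op2 X) : IsE X := by
  obtain ⟨F, _, _, m, hF, hm, ⟨e⟩⟩ := h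
  have h2 := two_of_card hF
  have hG : Good (QuadForms.plusForm m F) := AutOrth.Main.good_plus (by omega)
  have hr : Module.finrank F (Fin m ⊕ Fin m → F) = m + m := by
    rw [Module.finrank_fintype_fun_eq_card, Fintype.card_sum, Fintype.card_fin]
  exact isE_of_equiv e _ (QuadForms.coe_plusForm m) h2 hG (by omega) (fun h8 => by omega)

theorem isE_minus {X : Type u} [Group X] (h : Cut.Om2 X) : IsE X := by
  obtain ⟨F, _, _, m, b, c, hF, hm, hbc, ⟨e⟩⟩ := h
  have h2 := two_of_card hF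
  have hG : Good (QuadForms.minusForm (m - 1) F b c) := AutOrth.Main.good_minus (by omega) hbc
  have hr : Module.finrank F ((Fin (m - 1) ⊕ Fin (m - 1)) ⊕ Fin 2 → F) = (m - 1) + (m - 1) + 2 := by
    rw [Module.finrank_fintype_fun_eq_card, Fintype.card_sum, Fintype.card_sum, Fintype.card_fin, Fintype.card_fin]
  refine isE_of_equiv e _ (QuadForms.coe_minusForm (m - 1) b c) h2 hG (by omega) (fun h8 W hW h4 => ?_)
  have h1 := AutOrth.Main.finrank_le_of_TS_minus (m - 1) b c hbc hW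
  omega

/-- **The row `Ω⁺_2m(2)`, `m ≥ 5`.** -/
theorem row_op2 (h1173 : Start.P1173.{u}) : Cut.Row1.{u} (fun K _ => Cut.Op2 K) :=
  (row_isE h1173).mono fun _ _ h => isE_plus h

/-- **The row `Ω⁻_2m(2)`, `m ≥ 4`.** -/
theorem row_om2 (h1173 : Start.P1173.{u}) : Cut.Row1.{u} (fun K _ => Cut.Om2 K) :=
  (row_isE h1173).mono fun _ _ h => isE_minus h

end Cfsg.Agent.OddHalf.D4.O2

end
end

-- part: OddHalf/D4/TwLin
section
-- merged: Cfsg.Agent.OddHalf.D4.TwWt
section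

/-!
# ODD, D4, (1B): weights on the positive roots of a root group datum (helper917)

`Wts cs h X wt` : `[X r, X s] ≤ ⟨X z : z between r and s, wt z ≥ wt r + wt s⟩`, the root groups are abelian.
* `VV d = ⟨X r : wt r ≥ d⟩`, `VV_comm` : `[U, VV d] ≤ VV (d + 1)`;
* `inf_eq` : `X r ∩ ⟨X s : s ∈ Ω⟩ = 1` for `r ∉ Ω`, `Ω` an upper set (`Up`);
* `Up.comm` : `[U, X r ⟨X s : s ∈ Ω⟩] ≤ ⟨X s : s ∈ Ω⟩` for `r` of maximal weight outside `Ω`.
-/

set_option autoImplicit false
set_option linter.unusedSectionVars false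

namespace Cfsg.Agent.OddHalf.D4.TwWt

open Subgroup CoxeterSystem Cfsg.Agent.ChevalleyStructure.CoxeterGeom Cfsg.Agent.Tits.Roots Cfsg.Agent.Tits.Core
  Cfsg.Agent.Nodes.Reps Cfsg.Agent.Nodes.BNOf Cfsg.Agent.Nodes.Bruhat Cfsg.Agent.Nodes.OppDec
  Cfsg.Agent.Nodes.NormalForm Cfsg.Agent.Nodes.Coroot Cfsg.Agent.Nodes
  Cfsg.Agent.KFacts.RgdPar Cfsg.Agent.KFacts.RgdTI Cfsg.Agent.KFacts.RgdFilt Cfsg.Agent.KFacts.RgdBorelTits
  Cfsg.Agent.OddHalf.D4.Line Cfsg.Agent.OddHalf.D4.LineFilt Cfsg.Agent.OddHalf.D4.LineRgd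
open scoped commutatorElement

variable {I W Y : Type*} [Fintype I] [DecidableEq I] [Group W] [Group Y] {M : CoxeterMatrix I}
  {cs : CoxeterSystem M W} {A : I → I → ℤ} {h : IsCartan M A} {p : ℕ} {T : Subgroup Y} {n : I → Y}
  {X : (I → ℤ) → Subgroup Y}

/-- Weights on the positive roots. -/
structure Wts (cs : CoxeterSystem M W) (h : IsCartan M A) (X : (I → ℤ) → Subgroup Y) (wt : (I → ℤ) → ℕ) : Prop where
  ab : ∀ r ∈ RGD.Pos cs h, ∀ a ∈ X r, ∀ b ∈ X r, a * b = b * a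
  comm : ∀ r ∈ RGD.Pos cs h, ∀ s ∈ RGD.Pos cs h, r ≠ s → ∀ a ∈ X r, ∀ b ∈ X s,
    ⁅a, b⁆ ∈ RGD.Sup X {z | Btwn cs h r s z ∧ wt r + wt s ≤ wt z}
  pos : ∀ r ∈ RGD.Pos cs h, 0 < wt r

/-- the height is a weight -/
theorem Wts.of_ht (hI : IntComm cs h X) (hab : ∀ a ∈ RGD.Pos cs h, ∀ u ∈ X a, ∀ v ∈ X a, u * v = v * u) :
    Wts cs h X (fun z => (LineRgd.ht z).toNat) where
  ab := hab
  comm r hr s hs hrs a ha b hb := by
    have h1 := ht_pos hr.2 hr.1.ne_zero
    have h2 := ht_pos hs.2 hs.1.ne_zero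
    have hrs' : r ≠ -s := by
      rintro rfl
      rw [map_neg] at h1
      omega
    have h3 := hI r s hr.1 hs.1 hrs hrs' a ha b hb
    refine (FS_le fun z hz => ?_ : FS X {z | IB cs h r s z} ≤ _) h3
    have hz' : IB cs h r s z := hz
    obtain ⟨hz1, i, j, hi, hj, rfl⟩ := id hz'
    refine RGD.le_Sup ⟨hz'.btwn, ?_⟩
    show (LineRgd.ht r).toNat + (LineRgd.ht s).toNat ≤ (LineRgd.ht (i • r + j • s)).toNat
    rw [map_add, map_zsmul, map_zsmul, smul_eq_mul, smul_eq_mul]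
    have h4 : LineRgd.ht r + LineRgd.ht s ≤ i * LineRgd.ht r + j * LineRgd.ht s := by nlinarith only [h1, h2, hi, hj]
    omega
  pos r hr := by
    have h1 := ht_pos hr.2 hr.1.ne_zero
    show 0 < (LineRgd.ht r).toNat
    omega

/-- roots between positive roots are positive -/
theorem pos_of_btwn {r s z : I → ℤ} (hr : r ∈ RGD.Pos cs h) (hs : s ∈ RGD.Pos cs h) (hz : Btwn cs h r s z) :
    z ∈ RGD.Pos cs h := by
  obtain ⟨hz, m, a, b, hm, ha, hb, he⟩ := hz
  refine ⟨hz, fun i => ?_⟩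
  have h1 := congrFun he i
  simp only [Pi.add_apply, Pi.smul_apply, smul_eq_mul] at h1
  have h2 := mul_nonneg ha.le (hr.2 i)
  have h3 := mul_nonneg hb.le (hs.2 i)
  show 0 ≤ z i
  by_contra h4
  push Not at h4
  have := mul_neg_of_pos_of_neg hm h4
  linarith

variable {wt : (I → ℤ) → ℕ}

/-- the roots of weight at least `d` -/
def VV (cs : CoxeterSystem M W) (h : IsCartan M A) (X : (I → ℤ) → Subgroup Y) (wt : (I → ℤ) → ℕ) (d : ℕ) :
    Subgroup Y := RGD.Sup X {r | r ∈ RGD.Pos cs h ∧ d ≤ wt r}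

theorem X_le_VV {r : I → ℤ} (hr : r ∈ RGD.Pos cs h) {d : ℕ} (hd : d ≤ wt r) : X r ≤ VV cs h X wt d :=
  RGD.le_Sup (S := {r | r ∈ RGD.Pos cs h ∧ d ≤ wt r}) ⟨hr, hd⟩

theorem VV_zero : VV cs h X wt 0 = RGD.Sup X (RGD.Pos cs h) :=
  le_antisymm (RGD.Sup_mono fun _ hr => hr.1) (RGD.Sup_mono fun _ hr => ⟨hr, Nat.zero_le _⟩)

theorem VV_anti {d e : ℕ} (hde : d ≤ e) : VV cs h X wt e ≤ VV cs h X wt d :=
  RGD.Sup_mono fun _ hr => ⟨hr.1, hde.trans hr.2⟩

theorem VV_eq (d : ℕ) : VV cs h X wt d = V (Yp (cs := cs) (h := h) X) (fun z => wt z.1) d := by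
  apply le_antisymm
  · exact RGD.Sup_le fun r hr => le_V (Y := Yp X) (w := fun z => wt z.1) (i := ⟨r, hr.1⟩) hr.2
  · exact V_le fun i hi => X_le_VV i.2 hi

section

variable (Ws : Wts cs h X wt)

include Ws

theorem comm_le {r s : I → ℤ} (hr : r ∈ RGD.Pos cs h) (hs : s ∈ RGD.Pos cs h) {a b : Y} (ha : a ∈ X r)
    (hb : b ∈ X s) : a * b * a⁻¹ * b⁻¹ ∈ VV cs h X wt (wt r + wt s) := by
  by_cases hrs : r = s
  · subst hrs
    rw [Ws.ab r hr a ha b hb]
    have e : b * a * a⁻¹ * b⁻¹ = 1 := by group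
    rw [e]
    exact one_mem _
  · have h1 := Ws.comm r hr s hs hrs a ha b hb
    rw [commutatorElement_def] at h1
    exact RGD.Sup_mono (fun z hz => (⟨pos_of_btwn hr hs hz.1, hz.2⟩ :
      z ∈ {r' | r' ∈ RGD.Pos cs h ∧ wt r + wt s ≤ wt r'})) h1

theorem VV_comm (d : ℕ) {s : Y} (hs : s ∈ RGD.Sup X (RGD.Pos cs h)) {u : Y} (hu : u ∈ VV cs h X wt d) :
    s * u * s⁻¹ * u⁻¹ ∈ VV cs h X wt (d + 1) := by
  rw [VV_eq] at hu ⊢
  refine V_comm ?_ d ?_ u hu
  · rintro ⟨r, hr⟩ ⟨s, hs⟩ a ha b hb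
    rw [← VV_eq]
    have h1 := Ws.pos r hr
    exact VV_anti (show wt s + 1 ≤ wt r + wt s by omega) (comm_le Ws hr hs ha hb)
  · rw [← VV_eq, VV_zero]
    exact hs

end

/-! ### Upper sets -/

/-- upper sets of positive roots -/
structure Up (cs : CoxeterSystem M W) (h : IsCartan M A) (wt : (I → ℤ) → ℕ) (Ω : Set (I → ℤ)) : Prop where
  pos : Ω ⊆ RGD.Pos cs h
  up : ∀ r ∈ Ω, ∀ s ∈ RGD.Pos cs h, wt r < wt s → s ∈ Ω

/-- **Independence.** -/
theorem inf_eq [Finite W] (R : RGD cs h p T n X) (Ws : Wts cs h X wt) {Ω : Set (I → ℤ)} (hΩ : Up cs h wt Ω)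
    {a : I → ℤ} (ha : a ∈ RGD.Pos cs h) (haΩ : a ∉ Ω) : X a ⊓ RGD.Sup X Ω = ⊥ := by
  have hPS : PS' cs h (1 : W) = RGD.Pos cs h := by
    ext x
    simp only [PS', RGD.Pos, _root_.inv_one, _root_.map_one, _root_.Module.End.one_apply, _root_.Set.mem_ofPred_eq]
  have h1 := inf_w R (G := cut {a} X) (G' := cut Ω X) (1 : W) ?_ ?_ ?_ ?_
  · rw [hPS] at h1
    rw [eq_bot_iff]
    intro g hg
    have h2 : g ∈ FS (cut {a} X) (RGD.Pos cs h) := by
      have h3 := le_FS (G := cut {a} X) (S := RGD.Pos cs h) ha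
      rw [cut_pos (Set.mem_singleton a)] at h3
      exact h3 hg.1
    have h3 : g ∈ FS (cut Ω X) (RGD.Pos cs h) := by
      have h4 : RGD.Sup X Ω ≤ FS (cut Ω X) (RGD.Pos cs h) := by
        refine RGD.Sup_le fun z hz => ?_
        have h6 := le_FS (G := cut Ω X) (S := RGD.Pos cs h) (hΩ.pos hz)
        rw [cut_pos hz] at h6
        exact h6
      exact h4 hg.2
    have h4 := h1 ⟨h2, h3⟩
    refine (FS_le fun z _ => ?_ : FS (fun x => cut {a} X x ⊓ cut Ω X x) (RGD.Pos cs h) ≤ ⊥) h4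
    by_cases hz : z = a
    · rw [hz, cut_neg haΩ, inf_bot_eq]
    · rw [cut_neg (show z ∉ ({a} : Set (I → ℤ)) from hz), bot_inf_eq]
  · intro x _ y _ hxy u hu v hv
    by_cases hx : x = a
    · have hy : y ∉ ({a} : Set (I → ℤ)) := fun e => hxy (by rw [hx]; exact (Set.mem_singleton_iff.1 e).symm)
      rw [cut_neg hy, Subgroup.mem_bot] at hv
      rw [hv, commutatorElement_one_right]
      exact one_mem _
    · rw [cut_neg (show x ∉ ({a} : Set (I → ℤ)) from hx), Subgroup.mem_bot] at hu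
      rw [hu, commutatorElement_one_left]
      exact one_mem _
  · intro x hx y hy hxy u hu v hv
    rw [hPS] at hx hy
    by_cases hx' : x ∈ Ω
    · by_cases hy' : y ∈ Ω
      · rw [cut_pos hx'] at hu
        rw [cut_pos hy'] at hv
        have h5 := Ws.comm x hx y hy hxy u hu v hv
        refine (RGD.Sup_le fun z hz => ?_ : RGD.Sup X {z | Btwn cs h x y z ∧ wt x + wt y ≤ wt z} ≤ _) h5
        have h6 : z ∈ Ω := hΩ.up x hx' z (pos_of_btwn hx hy hz.1) (by
          have := Ws.pos y hy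
          have := hz.2
          omega)
        have h7 := le_FS (G := cut Ω X) (S := {z | Btwn cs h x y z}) hz.1
        rwa [cut_pos h6] at h7
      · rw [cut_neg hy', Subgroup.mem_bot] at hv
        rw [hv, commutatorElement_one_right]
        exact one_mem _
    · rw [cut_neg hx', Subgroup.mem_bot] at hu
      rw [hu, commutatorElement_one_left]
      exact one_mem _
  · intro x _
    exact cut_le _ _ _
  · intro x _
    exact cut_le _ _ _

theorem Up.ins {Ω : Set (I → ℤ)} (hΩ : Up cs h wt Ω) {r : I → ℤ} (hr : r ∈ RGD.Pos cs h)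
    (hmax : ∀ s ∈ RGD.Pos cs h, s ∉ Ω → wt s ≤ wt r) : Up cs h wt (insert r Ω) where
  pos := Set.insert_subset hr hΩ.pos
  up := by
    rintro s (rfl | hs) t ht hlt
    · by_contra h1
      have h2 := hmax t ht (fun h3 => h1 (Set.mem_insert_of_mem _ h3))
      omega
    · exact Set.mem_insert_of_mem _ (hΩ.up s hs t ht hlt)

/-- the roots of weight `> wt r` are in `Ω`, all roots of `Ω` have weight `≥ wt r` -/
theorem Up.between {Ω : Set (I → ℤ)} (hΩ : Up cs h wt Ω) {r : I → ℤ} (hr : r ∈ RGD.Pos cs h) (hrΩ : r ∉ Ω)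
    (hmax : ∀ s ∈ RGD.Pos cs h, s ∉ Ω → wt s ≤ wt r) :
    VV cs h X wt (wt r + 1) ≤ RGD.Sup X Ω ∧ RGD.Sup X Ω ≤ VV cs h X wt (wt r) := by
  constructor
  · refine RGD.Sup_mono fun s hs => ?_
    by_contra h1
    have h2 := hmax s hs.1 h1
    have h3 := hs.2
    omega
  · refine RGD.Sup_mono fun s hs => ⟨hΩ.pos hs, ?_⟩
    by_contra h1
    push Not at h1
    exact hrΩ (hΩ.up s hs r hr h1)

/-- a positive root of maximal weight outside `Ω` -/
theorem Up.exists_max [Finite W] {Ω : Set (I → ℤ)} (hne : ¬ RGD.Pos cs h ⊆ Ω) :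
    ∃ r ∈ RGD.Pos cs h, r ∉ Ω ∧ ∀ s ∈ RGD.Pos cs h, s ∉ Ω → wt s ≤ wt r := by
  have hfin : (RGD.Pos cs h \ Ω).Finite :=
    (RGD.finite_roots (cs := cs) (h := h)).subset fun x hx => hx.1.1
  obtain ⟨r, hr, hrΩ⟩ := Set.not_subset.1 hne
  obtain ⟨m, hm, hmax⟩ := Set.exists_max_image _ wt hfin ⟨r, hr, hrΩ⟩
  exact ⟨m, hm.1, hm.2, fun s hs hs' => hmax s ⟨hs, hs'⟩⟩

/-- **Induction over the upper sets.** -/
theorem Up.induction [Finite W] {Q : Set (I → ℤ) → Prop} (h0 : Q ∅)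
    (h1 : ∀ Ω, Up cs h wt Ω → Q Ω → ∀ r ∈ RGD.Pos cs h, r ∉ Ω → (∀ s ∈ RGD.Pos cs h, s ∉ Ω → wt s ≤ wt r) →
      Q (Insert.insert r Ω)) : Q (RGD.Pos cs h) := by
  have hfin : (RGD.Pos cs h).Finite := (RGD.finite_roots (cs := cs) (h := h)).subset fun x hx => hx.1
  have key : ∀ m : ℕ, ∃ Ω, Up cs h wt Ω ∧ Q Ω ∧ (RGD.Pos cs h ⊆ Ω ∨ m ≤ Ω.ncard) := by
    intro m
    induction m with
    | zero => exact ⟨∅, ⟨Set.empty_subset _, fun r hr => absurd hr (Set.notMem_empty r)⟩, h0, Or.inr (Nat.zero_le _)⟩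
    | succ m ih =>
      obtain ⟨Ω, hΩ, hQ, h2⟩ := ih
      by_cases hne : RGD.Pos cs h ⊆ Ω
      · exact ⟨Ω, hΩ, hQ, Or.inl hne⟩
      · obtain ⟨r, hr, hrΩ, hmax⟩ := Up.exists_max (wt := wt) hne
        refine ⟨insert r Ω, hΩ.ins hr hmax, h1 Ω hΩ hQ r hr hrΩ hmax, Or.inr ?_⟩
        rw [Set.ncard_insert_of_notMem hrΩ (hfin.subset hΩ.pos)]
        have := h2.resolve_left hne
        omega
  obtain ⟨Ω, hΩ, hQ, h2⟩ := key ((RGD.Pos cs h).ncard + 1)
  rcases h2 with h2 | h2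
  · rwa [Set.Subset.antisymm h2 hΩ.pos]
  · have h3 := Set.ncard_le_ncard hΩ.pos hfin
    omega

end Cfsg.Agent.OddHalf.D4.TwWt

end

-- merged: Cfsg.Agent.OddHalf.D4.TwLin
section

/-!
# ODD, D4, (1B): linear root group data (helper917)

`Lin R k Kf x χ wt ρ` : the simple root group `X_i` is coordinatised by the subfield `Kf i` of `L`, `k ≤ Kf i`; all frame
automorphisms fix the diagram and act on the coordinates by one field automorphism of `L`; `star` : an element of `U`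
centralising one nontrivial element of a line `k a` of a root group centralises the line.

* `Lin.lam : MulAut Y →* (L ≃+* L)` : the field automorphism, trivial on inner automorphisms; 2-elements of the kernel
  are inner.
-/

set_option autoImplicit false
set_option linter.unusedSectionVars false

namespace Cfsg.Agent.OddHalf.D4.TwLin

open Subgroup CoxeterSystem Cfsg.Agent.ChevalleyStructure.CoxeterGeom Cfsg.Agent.Tits.Roots Cfsg.Agent.Tits.Core
  Cfsg.Agent.Tits.Exchange Cfsg.Agent.Nodes.Reps Cfsg.Agent.Nodes.BNOf Cfsg.Agent.Nodes.StabComb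
  Cfsg.Agent.Nodes.Bruhat Cfsg.Agent.Nodes.OppDec Cfsg.Agent.Nodes.LeviDec Cfsg.Agent.Nodes.NormalForm
  Cfsg.Agent.KFacts.RgdOpp Cfsg.Agent.KFacts.RgdAut Cfsg.Agent.KFacts.RgdDiag Cfsg.Agent.KFacts.RgdRigid
  Cfsg.Agent.KFacts.RgdField Cfsg.Agent.KFacts.RgdTau Cfsg.Agent.KFacts.RgdNodes Cfsg.Agent.OddHalf.D4.TwWt
open scoped commutatorElement

variable {I W Y : Type*} [Fintype I] [DecidableEq I] [Group W] [Group Y] {M : CoxeterMatrix I}
  {cs : CoxeterSystem M W} {A : I → I → ℤ} {h : IsCartan M A} {T : Subgroup Y} {n : I → Y}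
  {X : (I → ℤ) → Subgroup Y} {L : Type*} [Field L] {k : Subfield L} {Kf : I → Subfield L}
  {x : ∀ i, Kf i → Y} {χ : ∀ i, Y → Kf i} {wt : (I → ℤ) → ℕ} {ρ : I → ℤ}

/-- Linear root group data. -/
structure Lin (R : RGD cs h 2 T n X) (k : Subfield L) (Kf : I → Subfield L) (x : ∀ i, Kf i → Y)
    (χ : ∀ i, Y → Kf i) (wt : (I → ℤ) → ℕ) (ρ : I → ℤ) : Prop where
  gen : RGD.Sup X {z | IsRoot cs h z} = ⊤
  coord : ∀ i, Coord T (X (sr i)) (x i) (χ i)
  le : ∀ i, k ≤ Kf i
  top : ∃ i, Kf i = ⊤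
  one : ∀ (β : MulAut Y) (σ : Equiv.Perm I), Diag T X β σ → σ = 1
  tau : ∀ β : MulAut Y, Diag T X β 1 → ∃ τ : L ≃+* L, ∀ i, ∀ t ∈ T, (χ i (β t) : L) = τ (χ i t)
  wts : Wts cs h X wt
  star : ∀ w i g, Rp cs R.nsys w g → rep cs h w (sr i) ∈ RGD.Pos cs h → ∀ a : Kf i, a ≠ 0 →
    ∀ u ∈ RGD.Sup X (RGD.Pos cs h), u * (g * x i a * g⁻¹) = g * x i a * g⁻¹ * u → ∀ t : Kf i, (t : L) ∈ k →
      u * (g * x i (t * a) * g⁻¹) = g * x i (t * a) * g⁻¹ * u
  rho : ∃ w i, rep cs h w (sr i) = ρ ∧ Kf i = k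
  rho_pos : ρ ∈ RGD.Pos cs h
  cen : ∀ z ∈ RGD.Sup X (RGD.Pos cs h), (∀ u ∈ RGD.Sup X (RGD.Pos cs h), u * z = z * u) ↔ z ∈ X ρ

/-- The field automorphism of a frame automorphism. -/
structure LTau (T : Subgroup Y) (X : (I → ℤ) → Subgroup Y) (χ : ∀ i, Y → Kf i) (β : MulAut Y) (τ : L ≃+* L) :
    Prop where
  diag : Diag T X β 1
  char : ∀ i, ∀ t ∈ T, (χ i (β t) : L) = τ (χ i t)

theorem LTau.one : LTau T X χ (1 : MulAut Y) (1 : L ≃+* L) := ⟨Diag.one, fun _ _ _ => rfl⟩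

theorem LTau.mul {β β' : MulAut Y} {τ τ' : L ≃+* L} (S : LTau T X χ β τ) (S' : LTau T X χ β' τ') :
    LTau T X χ (β * β') (τ * τ') where
  diag := by
    have := S.diag.mul S'.diag
    rwa [mul_one] at this
  char i t ht := by
    rw [MulAut.mul_apply, S.char _ _ ((S'.diag.tor t).2 ht), S'.char i t ht]
    rfl

theorem LTau.inv {β : MulAut Y} {τ : L ≃+* L} (S : LTau T X χ β τ) : LTau T X χ β⁻¹ τ⁻¹ where
  diag := by
    have := S.diag.inv
    rwa [inv_one] at this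
  char i t ht := by
    have h2 := S.char i (β⁻¹ t) ((S.diag.tor.inv t).2 ht)
    rw [MulAut.apply_inv_self] at h2
    rw [h2]
    exact (τ.symm_apply_apply _).symm

theorem LTau.pow {β : MulAut Y} {τ : L ≃+* L} (S : LTau T X χ β τ) (m : ℕ) : LTau T X χ (β ^ m) (τ ^ m) := by
  induction m with
  | zero => rw [pow_zero, pow_zero]; exact LTau.one
  | succ m ih => rw [pow_succ, pow_succ]; exact ih.mul S

section

variable {R : RGD cs h 2 T n X} (Λ : Lin R k Kf x χ wt ρ)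

include Λ

/-- uniqueness -/
theorem LTau.unique {β : MulAut Y} {τ τ' : L ≃+* L} (S : LTau T X χ β τ) (S' : LTau T X χ β τ') : τ = τ' := by
  obtain ⟨i, hi⟩ := Λ.top
  have C := Λ.coord i
  have h1 : AddSubgroup.closure (χ i '' (T : Set Y)) ≤
      (AddMonoidHom.eqLocus (τ : L →+ L) (τ' : L →+ L)).comap ((Kf i).subtype : Kf i →+ L) := by
    rw [AddSubgroup.closure_le]
    rintro _ ⟨t, ht, rfl⟩
    show τ (χ i t) = τ' (χ i t)
    rw [← S.char i t ht, ← S'.char i t ht]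
  rw [C.span, top_le_iff] at h1
  ext a
  have h2 : (⟨a, by rw [hi]; exact Subfield.mem_top a⟩ : Kf i) ∈
      (AddMonoidHom.eqLocus (τ : L →+ L) (τ' : L →+ L)).comap ((Kf i).subtype : Kf i →+ L) := by
    rw [h1]; exact AddSubgroup.mem_top _
  exact h2

theorem exists_ltau {β : MulAut Y} {σ : Equiv.Perm I} (D : Diag T X β σ) : ∃ τ : L ≃+* L, LTau T X χ β τ := by
  have h1 := Λ.one β σ D
  subst h1
  obtain ⟨τ, hτ⟩ := Λ.tau β D
  exact ⟨τ, D, hτ⟩

/-- the semilinear action on the simple root groups -/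
theorem LTau.semi {β : MulAut Y} {τ : L ≃+* L} (S : LTau T X χ β τ) (i : I) :
    ∃ (τ' : Kf i ≃+* Kf i) (c : Kf i), c ≠ 0 ∧ (∀ a, (τ' a : L) = τ a) ∧ ∀ a, β (x i a) = x i (c * τ' a) := by
  have C := Λ.coord i
  obtain ⟨τ', c, hc, hx, hchar⟩ := C.exists_semi C S.diag.tor (S.diag.pos i)
  refine ⟨τ', c, hc, fun a => ?_, hx⟩
  have h1 : AddSubgroup.closure (χ i '' (T : Set Y)) ≤
      AddMonoidHom.eqLocus (((Kf i).subtype : Kf i →+ L).comp (τ' : Kf i →+ Kf i))
        ((τ : L →+ L).comp ((Kf i).subtype : Kf i →+ L)) := by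
    rw [AddSubgroup.closure_le]
    rintro _ ⟨t, ht, rfl⟩
    show (τ' (χ i t) : L) = τ (χ i t)
    rw [← hchar t ht, S.char i t ht]
  rw [C.span, top_le_iff] at h1
  have h2 : a ∈ AddMonoidHom.eqLocus (((Kf i).subtype : Kf i →+ L).comp (τ' : Kf i →+ Kf i))
      ((τ : L →+ L).comp ((Kf i).subtype : Kf i →+ L)) := by
    rw [h1]; exact AddSubgroup.mem_top _
  exact h2

omit Λ in
theorem hat_one (hσ : ∀ i j, M ((1 : Equiv.Perm I) i) ((1 : Equiv.Perm I) j) = M i j) (w : W) :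
    hat cs (1 : Equiv.Perm I) hσ w = w := by
  obtain ⟨ω, rfl⟩ := cs.wordProd_surjective w
  induction ω with
  | nil => rw [wordProd_nil, map_one]
  | cons i ω ih => rw [wordProd_cons, map_mul, hat_simple, ih, Equiv.Perm.one_apply]

/-- the action on all root groups -/
theorem LTau.root [Finite W] {β : MulAut Y} {τ : L ≃+* L} (S : LTau T X χ β τ) (i : I) {w : W} {g : Y}
    (hg : Rp cs R.nsys w g) : ∃ (τ' : Kf i ≃+* Kf i) (c : Kf i), c ≠ 0 ∧ (∀ a, (τ' a : L) = τ a) ∧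
      ∀ a, β (g * x i a * g⁻¹) = g * x i (c * τ' a) * g⁻¹ := by
  obtain ⟨τ', c, hc, h1, h2⟩ := LTau.semi Λ S i
  have h3 : Rp cs R.nsys w (β g) := by
    have hσ : ∀ i j, M ((1 : Equiv.Perm I) i) ((1 : Equiv.Perm I) j) = M i j := fun _ _ => rfl
    have h4 := S.diag.rp' (R := R) hσ hg
    exact (congrArg (fun v => Rp cs R.nsys v (β g)) (hat_one hσ w)).mp h4
  obtain ⟨t, ht⟩ : ∃ t, t = g⁻¹ * β g := ⟨_, rfl⟩
  have htT : t ∈ T := by rw [ht]; exact hg.unique h3
  have e1 : β g = g * t := by rw [ht]; group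
  have C := Λ.coord i
  refine ⟨τ', χ i t * c, mul_ne_zero (C.chi_ne_zero htT) hc, h1, fun a => ?_⟩
  rw [map_mul, map_mul, map_inv, h2, e1, mul_assoc (χ i t), ← C.act t htT]
  group

end

end Cfsg.Agent.OddHalf.D4.TwLin

end
end

-- part: OddHalf/D4/Free/KTwo
section
/-!
# ODD, D4, (1B): the fact (k2) of `BFacts` holds for every `K`

`field_free` : `S`, `S₁` good, `e ∈ S₁` centralizes `Z(S ∩ K)`: then `e` centralizes `Z(S₁ ∩ K)`.
-/

set_option autoImplicit false

namespace Cfsg.Agent.OddHalf.D4.Free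

open Cfsg Subgroup Cfsg.Agent.OddHalf.D4 Cfsg.Agent.OddHalf.D4.Basic
open Cfsg.Agent.OddHalf.D4.CommConj (Tight cj mem_cj cj_mul card_cj mem_cj_mul cj_eq_of_mem_normalizer)

variable {G : Type*} [Group G]

/-- Sylow subgroups are conjugate. -/
theorem exists_cj_eq [Finite G] {T T' M : Subgroup G} (h : IsSyl T M) (h' : IsSyl T' M) :
    ∃ m ∈ M, cj m T = T' := by
  obtain ⟨m, hm, hq⟩ := h'.conj_into h.two h.le
  refine ⟨m, hm, le_antisymm ?_ ?_⟩
  · intro x hx
    have h1 := hq _ (mem_cj.mp hx)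
    have h2 : m * (m⁻¹ * x * m) * m⁻¹ = x := by group
    rwa [h2] at h1
  · have h1 : cj m⁻¹ T' ≤ T := by
      apply h.max
      · exact h'.two.map _
      · intro x hx
        rw [mem_cj, inv_inv]
        exact hq x hx
      · intro x hx
        rw [mem_cj, inv_inv] at hx
        have h2 := M.mul_mem (M.mul_mem (M.inv_mem hm) (h'.le hx)) hm
        have h3 : m⁻¹ * (m * x * m⁻¹) * m = x := by group
        rwa [h3] at h2
    intro x hx
    rw [mem_cj]
    apply h1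
    rw [mem_cj, inv_inv]
    have h3 : m * (m⁻¹ * x * m) * m⁻¹ = x := by group
    rwa [h3]

/-- A 2-element of `M` normalizing a Sylow 2-subgroup of `M` lies in it. -/
theorem mem_of_norm [Finite G] {U M : Subgroup G} (hU : IsSyl U M) {x : G} (hx : x ∈ M)
    (hn : x ∈ normalizer (U : Set G)) {k : ℕ} (hk : x ^ 2 ^ k = 1) : x ∈ U := by
  have h1 : IsPGroup 2 ↥(zpowers x) := by
    have h2 : orderOf x ∣ 2 ^ k := orderOf_dvd_of_pow_eq_one hk
    obtain ⟨j, -, hj⟩ := (Nat.dvd_prime_pow Nat.prime_two).mp h2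
    rw [IsPGroup.iff_card]
    exact ⟨j, by rw [Nat.card_zpowers, hj]⟩
  have h2 : IsPGroup 2 ↥(zpowers x ⊔ U) := h1.to_sup_of_normal_right' hU.two (by
    rw [zpowers_le]; exact hn)
  exact hU.max _ h2 le_sup_right (sup_le (by rw [zpowers_le]; exact hx) hU.le)
    (mem_sup_left (mem_zpowers x))

theorem act_pow {Z : Subgroup G} {e b : G} (hZb : ∀ z ∈ Z, b * z * b⁻¹ ∈ Z)
    (h : ∀ z ∈ Z, e⁻¹ * z * e = b * z * b⁻¹) (j : ℕ) :
    ∀ z ∈ Z, (e ^ j)⁻¹ * z * e ^ j = b ^ j * z * (b ^ j)⁻¹ := by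
  induction j with
  | zero => intro z _; simp
  | succ j ih =>
    intro z hz
    calc (e ^ (j + 1))⁻¹ * z * e ^ (j + 1) = (e ^ j)⁻¹ * (e⁻¹ * z * e) * e ^ j := by
          rw [pow_succ' e j]; group
      _ = (e ^ j)⁻¹ * (b * z * b⁻¹) * e ^ j := by rw [h z hz]
      _ = b ^ j * (b * z * b⁻¹) * (b ^ j)⁻¹ := ih _ (hZb z hz)
      _ = _ := by rw [pow_succ b j]; group

/-- **(k2)** -/
theorem field_free [Finite G] {K S S₁ : Subgroup G} (hS : Good K S) (hS₁ : Good K S₁) {e : G} (he : e ∈ S₁)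
    (hez : e ∈ cz K S) : e ∈ cz K S₁ := by
  obtain ⟨k₀, hk₀⟩ := hS₁.two ⟨e, he⟩
  have hk₀' : e ^ 2 ^ k₀ = 1 := congrArg Subtype.val hk₀
  have heN := hS₁.le he
  set H : Subgroup G := normalizer (K : Set G) ⊓ cz K S with hH
  have heP : IsPGroup 2 ↥(zpowers e) := hS₁.two.to_le (by rw [zpowers_le]; exact he)
  obtain ⟨T, hT, heT⟩ := exists_isSyl (M := H) heP (by rw [zpowers_le]; exact ⟨heN, hez⟩)
  have heT' : e ∈ T := heT (mem_zpowers e)
  have hSH : S ⊓ K ≤ H ⊓ K := le_inf (le_inf (inf_le_left.trans hS.le) inf_le_cz) inf_le_right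
  have hTN : T ≤ normalizer ((H ⊓ K : Subgroup G) : Set G) := by
    intro t ht
    have htH := hT.le ht
    rw [mem_normalizer_iff]
    intro x
    have h1 : x ∈ H ↔ t * x * t⁻¹ ∈ H := by
      constructor
      · intro hx; exact H.mul_mem (H.mul_mem htH hx) (H.inv_mem htH)
      · intro hx
        have h2 := H.mul_mem (H.mul_mem (H.inv_mem htH) hx) htH
        have h3 : t⁻¹ * (t * x * t⁻¹) * t = x := by group
        rwa [h3] at h2
    have h2 := mem_normalizer_iff.mp htH.1 x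
    show (x ∈ H ∧ x ∈ K) ↔ (t * x * t⁻¹ ∈ H ∧ t * x * t⁻¹ ∈ K)
    rw [← h1]
    exact and_congr Iff.rfl h2
  have h1 : IsSyl (T ⊓ (H ⊓ K)) (H ⊓ K) := hT.inf inf_le_left hTN
  have h2 : IsSyl (S ⊓ K) (H ⊓ K) := hS.syl.mono hSH inf_le_right
  obtain ⟨m, hm, hmT⟩ := exists_cj_eq h2 h1
  have hTK : T ⊓ (H ⊓ K) = T ⊓ K := by
    apply le_antisymm
    · exact inf_le_inf_left T inf_le_right
    · exact le_inf inf_le_left (le_inf (inf_le_left.trans hT.le) inf_le_right)
  rw [hTK] at hmT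
  have hmK : m ∈ K := hm.2
  have hcjK : ∀ m ∈ K, cj m K = K := fun m hm => cj_eq_of_mem_normalizer (le_normalizer hm)
  have hTsyl : IsSyl (T ⊓ K) K := by
    have h3 := hS.syl.cj m
    rwa [hmT, hcjK m hmK] at h3
  obtain ⟨k, hk, hkT⟩ := exists_cj_eq hTsyl hS₁.syl
  -- `Z₁ = k m Z m⁻¹ k⁻¹ = k Z k⁻¹`
  have hzT : ∀ z ∈ zc K S₁, k⁻¹ * z * k ∈ zc K S := by
    intro z hz
    have h3 : cj (k * m) (S ⊓ K) = S₁ ⊓ K := by rw [cj_mul, hmT, hkT]
    have h4 : (k * m)⁻¹ * z * (k * m) ∈ zc K S := by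
      rw [mem_zc] at hz ⊢
      have h5 : z ∈ cj (k * m) (S ⊓ K) := by rw [h3]; exact hz.1
      refine ⟨mem_cj.mp h5, fun u hu => ?_⟩
      have h6 : k * m * u * (k * m)⁻¹ ∈ S₁ ⊓ K := by rw [← h3]; exact mem_cj_mul hu
      have h7 := hz.2 _ h6
      calc u * ((k * m)⁻¹ * z * (k * m)) = (k * m)⁻¹ * (k * m * u * (k * m)⁻¹ * z) * (k * m) := by group
        _ = (k * m)⁻¹ * (z * (k * m * u * (k * m)⁻¹)) * (k * m) := by rw [h7]
        _ = _ := by group
    have h5 := mem_cz.mp (hm.1.2 : m ∈ cz K S) _ h4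
    have h6 : k⁻¹ * z * k = (k * m)⁻¹ * z * (k * m) := by
      calc k⁻¹ * z * k = m * ((k * m)⁻¹ * z * (k * m)) * m⁻¹ := by group
        _ = ((k * m)⁻¹ * z * (k * m)) * m * m⁻¹ := by rw [h5]
        _ = _ := by group
    rw [h6]; exact h4
  -- the element `b`
  set b : G := e⁻¹ * (k * e * k⁻¹) with hb
  have hbK : b ∈ K := by
    have h3 : b = (e⁻¹ * k * e) * k⁻¹ := by rw [hb]; group
    rw [h3]
    exact K.mul_mem ((mem_normalizer_iff''.mp heN k).mp hk) (K.inv_mem hk)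
  have hnU : ∀ x ∈ S₁, x ∈ normalizer ((S₁ ⊓ K : Subgroup G) : Set G) := by
    intro x hx
    rw [mem_normalizer_iff]
    intro y
    have h3 := mem_normalizer_iff.mp (hS₁.le hx) y
    constructor
    · rintro ⟨h4, h5⟩
      exact ⟨S₁.mul_mem (S₁.mul_mem hx h4) (S₁.inv_mem hx), h3.mp h5⟩
    · rintro ⟨h4, h5⟩
      refine ⟨?_, h3.mpr h5⟩
      have h6 := S₁.mul_mem (S₁.mul_mem (S₁.inv_mem hx) h4) hx
      have h7 : x⁻¹ * (x * y * x⁻¹) * x = y := by group
      rwa [h7] at h6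
  have heT2 : k * e * k⁻¹ ∈ normalizer ((S₁ ⊓ K : Subgroup G) : Set G) := by
    have h3 : e ∈ normalizer ((T ⊓ K : Subgroup G) : Set G) := by
      rw [mem_normalizer_iff]
      intro y
      have h3 := mem_normalizer_iff.mp heN y
      constructor
      · rintro ⟨h4, h5⟩
        exact ⟨T.mul_mem (T.mul_mem heT' h4) (T.inv_mem heT'), h3.mp h5⟩
      · rintro ⟨h4, h5⟩
        refine ⟨?_, h3.mpr h5⟩
        have h6 := T.mul_mem (T.mul_mem (T.inv_mem heT') h4) heT'
        have h7 : e⁻¹ * (e * y * e⁻¹) * e = y := by group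
        rwa [h7] at h6
    rw [← hkT, mem_normalizer_iff]
    intro y
    rw [mem_cj, mem_cj]
    have h4 := mem_normalizer_iff.mp h3 (k⁻¹ * y * k)
    have h5 : k⁻¹ * (k * e * k⁻¹ * y * (k * e * k⁻¹)⁻¹) * k = e * (k⁻¹ * y * k) * e⁻¹ := by group
    rw [h5]
    exact h4
  have hbN : b ∈ normalizer ((S₁ ⊓ K : Subgroup G) : Set G) :=
    mul_mem (inv_mem (hnU e he)) heT2
  have hbZ : ∀ z ∈ zc K S₁, b * z * b⁻¹ ∈ zc K S₁ := by
    intro z hz
    rw [mem_zc] at hz ⊢
    refine ⟨(mem_normalizer_iff.mp hbN z).mp hz.1, fun u hu => ?_⟩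
    have h3 := hz.2 _ ((mem_normalizer_iff''.mp hbN u).mp hu)
    calc u * (b * z * b⁻¹) = b * (b⁻¹ * u * b * z) * b⁻¹ := by group
      _ = b * (z * (b⁻¹ * u * b)) * b⁻¹ := by rw [h3]
      _ = b * z * b⁻¹ * u := by group
  have hact : ∀ z ∈ zc K S₁, e⁻¹ * z * e = b * z * b⁻¹ := by
    intro z hz
    have h3 := mem_cz.mp hez _ (hzT z hz)
    have h4 : (k * e * k⁻¹) * z * (k * e * k⁻¹)⁻¹ = z := by
      calc (k * e * k⁻¹) * z * (k * e * k⁻¹)⁻¹ = k * (e * (k⁻¹ * z * k)) * e⁻¹ * k⁻¹ := by group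
        _ = k * ((k⁻¹ * z * k) * e) * e⁻¹ * k⁻¹ := by rw [h3]
        _ = z := by group
    calc e⁻¹ * z * e = e⁻¹ * ((k * e * k⁻¹) * z * (k * e * k⁻¹)⁻¹) * e := by rw [h4]
      _ = b * z * b⁻¹ := by rw [hb]; group
  -- an odd power of `b` lies in `S₁ ∩ K`
  obtain ⟨s, r, hr, hsr⟩ := Nat.exists_eq_two_pow_mul_odd (orderOf_pos b).ne'
  have hbr : b ^ r ∈ S₁ ⊓ K := by
    refine mem_of_norm hS₁.syl (K.pow_mem hbK r) (pow_mem hbN r) (k := s) ?_
    rw [← pow_mul, mul_comm, ← hsr, pow_orderOf_eq_one]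
  have her : ∀ z ∈ zc K S₁, z * e ^ r = e ^ r * z := by
    intro z hz
    have h3 := act_pow hbZ hact r z hz
    have h4 := (mem_zc.mp hz).2 _ hbr
    have h5 : b ^ r * z * (b ^ r)⁻¹ = z := by rw [h4]; group
    rw [h5] at h3
    calc z * e ^ r = e ^ r * ((e ^ r)⁻¹ * z * e ^ r) := by group
      _ = e ^ r * z := by rw [h3]
  have hcop : r.Coprime (orderOf e) := by
    have h3 : orderOf e ∣ 2 ^ k₀ := orderOf_dvd_of_pow_eq_one hk₀'
    refine Nat.Coprime.coprime_dvd_right h3 (Nat.Coprime.pow_right _ ?_)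
    exact Nat.coprime_two_right.mpr hr
  obtain ⟨j, hj⟩ := exists_pow_eq_self_of_coprime hcop
  rw [mem_cz]
  intro z hz
  have h3 : Commute z (e ^ r) := her z hz
  have h4 := h3.pow_right j
  rw [hj] at h4
  exact h4

end Cfsg.Agent.OddHalf.D4.Free
end

-- part: OddHalf/D4/LinESix
section
-- merged: Cfsg.Agent.OddHalf.D4.TwGood
section

/-!
# ODD, D4, (1B): filtrations by lines, one step at a time (helper917)

`LineA T A D l` : `l` is a line relative to `D`. `Good T A D` : the subgroup `D` has a filtration by lines.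
`Good.exists_flt` : the filtration `FltA`.
-/

set_option autoImplicit false

namespace Cfsg.Agent.OddHalf.D4.TwGood

open Cfsg Subgroup Cfsg.Agent.OddHalf.D4 Cfsg.Agent.OddHalf.D4.Free

variable {X : Type*} [Group X]

/-- a line relative to `D` -/
structure LineA (T : Sylow 2 X) (A : Subgroup (MulAut X)) (D l : Subgroup X) : Prop where
  sq : ∀ x ∈ l, x * x ∈ D
  pair : ∃ a ∈ l, ∃ b ∈ l, a ∉ D ∧ b ∉ D ∧ a⁻¹ * b ∉ D
  star : ∀ y ∈ A, FixZ T y → y * y = 1 → ∀ x ∈ l, x ∉ D → y x = x → ∀ x' ∈ l, y x' = x'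
  fix : ∀ x ∈ l, ∀ e ∈ A, FixZ T e → e x * x⁻¹ ∈ D

/-- `D` has a filtration by lines. -/
inductive Good (T : Sylow 2 X) (A : Subgroup (MulAut X)) : Subgroup X → Prop
  | bot : Good T A ⊥
  | step (D D' l : Subgroup X) (hD : Good T A D) (hle : D ≤ D') (gen : D' ≤ l ⊔ D) (line_le : l ≤ D')
      (line : LineA T A D l) : Good T A D'

variable {T : Sylow 2 X} {A : Subgroup (MulAut X)} {D : Subgroup X}

theorem Good.exists_seq (h : Good T A D) : ∃ (U : ℕ → Subgroup X) (L : ℕ → Set (Subgroup X)), U 0 = D ∧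
    (∃ n, U n = ⊥) ∧ (∀ j, U (j + 1) ≤ U j) ∧
    (∀ j, ∀ u ∈ U j, u ∈ _root_.Subgroup.closure ({x | ∃ l ∈ L j, x ∈ l} ∪ (U (j + 1) : Set X))) ∧
    (∀ j, ∀ l ∈ L j, l ≤ U j) ∧ (∀ j, ∀ l ∈ L j, LineA T A (U (j + 1)) l) := by
  induction h with
  | bot =>
    refine ⟨fun _ => ⊥, fun _ => ∅, rfl, ⟨0, rfl⟩, fun _ => le_rfl, ?_, ?_, ?_⟩
    · intro _ u hu
      exact _root_.Subgroup.subset_closure (Or.inr hu)
    all_goals intro _ l hl; exact absurd hl (Set.notMem_empty l)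
  | step D D' l hD hle gen line_le line ih =>
    obtain ⟨U, L, h0, ⟨m, hm⟩, h2, h4, h5, h6⟩ := ih
    refine ⟨fun j => Nat.casesOn j D' U, fun j => Nat.casesOn j {l} L, rfl, ⟨m + 1, hm⟩, ?_, ?_, ?_, ?_⟩
    · rintro (_ | j)
      · show U 0 ≤ D'
        rw [h0]; exact hle
      · exact h2 j
    · rintro (_ | j)
      · show ∀ u ∈ D', u ∈ _root_.Subgroup.closure ({x | ∃ l' ∈ ({l} : Set (Subgroup X)), x ∈ l'} ∪ (U 0 : Set X))
        intro u hu
        rw [h0]
        have h9 : l ⊔ D ≤ _root_.Subgroup.closure ({x | ∃ l' ∈ ({l} : Set (Subgroup X)), x ∈ l'} ∪ (D : Set X)) :=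
          sup_le (fun x hx => _root_.Subgroup.subset_closure (Or.inl ⟨l, rfl, hx⟩)) fun x hx => _root_.Subgroup.subset_closure (Or.inr hx)
        exact h9 (gen hu)
      · exact h4 j
    · rintro (_ | j)
      · rintro _ rfl
        exact line_le
      · exact h5 j
    · rintro (_ | j)
      · rintro _ rfl
        show LineA T A (U 0) _
        rw [h0]; exact line
      · exact h6 j

/-- **The filtration.** -/
theorem Good.exists_flt (h : Good T A (T : Subgroup X)) : ∃ (U : ℕ → Subgroup X) (L : ℕ → Set (Subgroup X)),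
    FltA T A U L := by
  obtain ⟨U, L, h0, h1, h2, h4, h5, h6⟩ := h.exists_seq
  exact ⟨U, L, h0, h1, h2, h4, h5, fun j l hl => (h6 j l hl).sq, fun j l hl => (h6 j l hl).pair,
    fun j l hl => (h6 j l hl).star, fun j l hl => (h6 j l hl).fix⟩

end Cfsg.Agent.OddHalf.D4.TwGood

end

-- merged: Cfsg.Agent.OddHalf.D4.TwFlt
section

/-!
# ODD, D4, (1B): the filtration of `U` for linear root group data (helper917)

`Ctx` : `A` is a 2-subgroup of `Aut Y` normalising `U`, whose elements centralising `Z(U)` have the form `conj u * β`,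
`β ∈ {1, β₀}`, `β₀` an involutory frame automorphism with trivial action on `k`. `Ctx.flt` : the filtration `FltA`.
-/

set_option autoImplicit false
set_option linter.unusedSectionVars false

namespace Cfsg.Agent.OddHalf.D4.TwFlt

open Subgroup CoxeterSystem Cfsg.Agent.ChevalleyStructure.CoxeterGeom Cfsg.Agent.Tits.Roots Cfsg.Agent.Tits.Core
  Cfsg.Agent.Tits.Exchange Cfsg.Agent.Nodes.Reps Cfsg.Agent.Nodes.BNOf Cfsg.Agent.Nodes.StabComb
  Cfsg.Agent.Nodes.Bruhat Cfsg.Agent.Nodes.OppDec Cfsg.Agent.Nodes.LeviDec Cfsg.Agent.Nodes.NormalForm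
  Cfsg.Agent.KFacts.RgdOpp Cfsg.Agent.KFacts.RgdAut Cfsg.Agent.KFacts.RgdDiag Cfsg.Agent.KFacts.RgdRigid
  Cfsg.Agent.KFacts.RgdField Cfsg.Agent.KFacts.RgdTau Cfsg.Agent.KFacts.RgdNodes Cfsg.Agent.OddHalf.D4.TwWt
  Cfsg.Agent.OddHalf.D4.TwLin Cfsg.Agent.OddHalf.D4.Free
open scoped commutatorElement

variable {I W Y : Type*} [Fintype I] [DecidableEq I] [Group W] [Group Y] {M : CoxeterMatrix I}
  {cs : CoxeterSystem M W} {A : I → I → ℤ} {h : IsCartan M A} {T : Subgroup Y} {n : I → Y}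
  {X : (I → ℤ) → Subgroup Y} {L : Type*} [Field L] {k : Subfield L} {Kf : I → Subfield L}
  {x : ∀ i, Kf i → Y} {χ : ∀ i, Y → Kf i} {wt : (I → ℤ) → ℕ} {ρ : I → ℤ}

/-! ### The subgroups `z(N)` -/

section Z

variable {i : I} (C : Coord T (X (sr i)) (x i) (χ i)) (g : Y)

/-- `g x_i(a) g⁻¹`, a homomorphism -/
def zhom : Multiplicative (Kf i) →* Y :=
  MonoidHom.mk' (fun a => g * x i (Multiplicative.toAdd a) * g⁻¹) (by
    intro a b
    rw [toAdd_mul, C.add]
    group)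

/-- `z(N)` -/
def zS (N : AddSubgroup (Kf i)) : Subgroup Y := (AddSubgroup.toSubgroup N).map (zhom C g)

theorem mem_zS {N : AddSubgroup (Kf i)} {y : Y} : y ∈ zS C g N ↔ ∃ a ∈ N, g * x i a * g⁻¹ = y := by
  constructor
  · rintro ⟨a, ha, rfl⟩
    exact ⟨Multiplicative.toAdd a, ha, rfl⟩
  · rintro ⟨a, ha, rfl⟩
    exact ⟨Multiplicative.ofAdd a, ha, rfl⟩

theorem zS_mono {N N' : AddSubgroup (Kf i)} (h : N ≤ N') : zS C g N ≤ zS C g N' := by
  intro y hy
  obtain ⟨a, ha, rfl⟩ := (mem_zS C g).1 hy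
  exact (mem_zS C g).2 ⟨a, h ha, rfl⟩

theorem zS_sup {N N' : AddSubgroup (Kf i)} : zS C g (N ⊔ N') ≤ zS C g N' ⊔ zS C g N := by
  intro y hy
  obtain ⟨a, ha, rfl⟩ := (mem_zS C g).1 hy
  obtain ⟨b, hb, c, hc, rfl⟩ := AddSubgroup.mem_sup.1 ha
  have e : g * x i (b + c) * g⁻¹ = (g * x i b * g⁻¹) * (g * x i c * g⁻¹) := by rw [C.add]; group
  rw [e]
  exact mul_mem (mem_sup_right ((mem_zS C g).2 ⟨b, hb, rfl⟩)) (mem_sup_left ((mem_zS C g).2 ⟨c, hc, rfl⟩))

theorem zS_bot : zS C g ⊥ = ⊥ := by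
  rw [eq_bot_iff]
  intro y hy
  obtain ⟨a, ha, rfl⟩ := (mem_zS C g).1 hy
  rw [AddSubgroup.mem_bot] at ha
  rw [ha, C.zero, mem_bot]
  group

include C

theorem z_inj {a b : Kf i} (h : g * x i a * g⁻¹ = g * x i b * g⁻¹) : a = b :=
  C.inj (mul_left_cancel (mul_right_cancel h))

theorem z_sub (a b : Kf i) : (g * x i a * g⁻¹) * (g * x i b * g⁻¹)⁻¹ = g * x i (a - b) * g⁻¹ := by
  have h1 : x i (a - b) * x i b = x i a := by rw [← C.add, sub_add_cancel]
  rw [← h1]
  group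

theorem z_sub' (a b : Kf i) : (g * x i a * g⁻¹)⁻¹ * (g * x i b * g⁻¹) = g * x i (b - a) * g⁻¹ := by
  have h1 : x i a * x i (b - a) = x i b := by rw [← C.add, add_sub_cancel]
  rw [← h1]
  group

end Z

/-- the `k`-line of `b` -/
def kl (k : Subfield L) {K : Subfield L} (b : K) : AddSubgroup K where
  carrier := {a | ∃ t : K, (t : L) ∈ k ∧ t * b = a}
  add_mem' := by
    rintro _ _ ⟨t, ht, rfl⟩ ⟨s, hs, rfl⟩
    exact ⟨t + s, k.add_mem ht hs, add_mul _ _ _⟩
  zero_mem' := ⟨0, k.zero_mem, zero_mul _⟩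
  neg_mem' := by
    rintro _ ⟨t, ht, rfl⟩
    exact ⟨-t, k.neg_mem ht, neg_mul _ _⟩

/-- the root `r` with its coordinates -/
structure Root (R : RGD cs h 2 T n X) (r : I → ℤ) (i : I) (w : W) (g : Y) : Prop where
  rp : Rp cs R.nsys w g
  eq : rep cs h w (sr i) = r
  pos : r ∈ RGD.Pos cs h

section

variable {R : RGD cs h 2 T n X}

theorem exists_root {r : I → ℤ} (hr : r ∈ RGD.Pos cs h) : ∃ i w g, Root R r i w g := by
  obtain ⟨w, i, e⟩ := id hr.1
  obtain ⟨g, hg⟩ := exists_rp cs R.nsys w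
  exact ⟨i, w, g, hg, e.symm, hr⟩

variable (Λ : Lin R k Kf x χ wt ρ)

include Λ

theorem zS_top {r : I → ℤ} {i : I} {w : W} {g : Y} (Q : Root R r i w g) : zS (Λ.coord i) g ⊤ = X r := by
  ext y
  rw [mem_zS]
  have h1 := isRoot_sr cs h i
  constructor
  · rintro ⟨a, -, rfl⟩
    have h2 := R.conj_mem Q.rp h1 (((Λ.coord i).mem _).2 ⟨a, rfl⟩)
    rwa [Q.eq] at h2
  · intro hy
    rw [← Q.eq, ← R.conj_rp Q.rp h1] at hy
    have e : g * (g⁻¹ * y * g) * g⁻¹ = y := by group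
    rw [← e, conj_mem_cj] at hy
    obtain ⟨a, ha⟩ := ((Λ.coord i).mem _).1 hy
    exact ⟨a, AddSubgroup.mem_top _, by rw [ha]; group⟩

theorem z_mem {r : I → ℤ} {i : I} {w : W} {g : Y} (Q : Root R r i w g) (a : Kf i) : g * x i a * g⁻¹ ∈ X r := by
  rw [← zS_top Λ Q]
  exact (mem_zS _ _).2 ⟨a, AddSubgroup.mem_top _, rfl⟩

/-- the action of a frame automorphism trivial on `k` on the coordinates -/
theorem exists_m [Finite W] {β : MulAut Y} {τ : L ≃+* L} (S : LTau T X χ β τ) (hτ : ∀ a ∈ k, τ a = a)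
    {r : I → ℤ} {i : I} {w : W} {g : Y} (Q : Root R r i w g) :
    ∃ m : Kf i → Kf i, (∀ a, β (g * x i a * g⁻¹) = g * x i (m a) * g⁻¹) ∧ (∀ a b, m (a + b) = m a + m b) ∧
      ∀ t a : Kf i, (t : L) ∈ k → m (t * a) = t * m a := by
  obtain ⟨τ', c, hc, h1, h2⟩ := LTau.root Λ S i Q.rp
  refine ⟨fun a => c * τ' a, h2, fun a b => by
    show c * τ' (a + b) = c * τ' a + c * τ' b
    rw [map_add, mul_add], fun t a ht => ?_⟩
  have h3 : τ' t = t := Subtype.ext (by rw [h1, hτ _ ht])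
  show c * τ' (t * a) = t * (c * τ' a)
  rw [map_mul, h3]
  ring

end

section

variable {R : RGD cs h 2 T n X} {Ω : Set (I → ℤ)}

theorem X_norm (Ws : Wts cs h X wt) (hΩ : Up cs h wt Ω) {r : I → ℤ} (hr : r ∈ RGD.Pos cs h) (hrΩ : r ∉ Ω)
    (hmax : ∀ s ∈ RGD.Pos cs h, s ∉ Ω → wt s ≤ wt r) {u y : Y} (hu : u ∈ RGD.Sup X (RGD.Pos cs h))
    (hy : y ∈ X r ⊔ RGD.Sup X Ω) : u * y * u⁻¹ * y⁻¹ ∈ RGD.Sup X Ω := by
  have h1 := hΩ.between (X := X) hr hrΩ hmax
  exact h1.1 (VV_comm Ws _ hu (sup_le (X_le_VV hr le_rfl) h1.2 hy))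

variable (Λ : Lin R k Kf x χ wt ρ)

include Λ

theorem mem_of_z_mem [Finite W] (hΩ : Up cs h wt Ω) {r : I → ℤ} {i : I} {w : W} {g : Y} (Q : Root R r i w g)
    (hrΩ : r ∉ Ω) (hmax : ∀ s ∈ RGD.Pos cs h, s ∉ Ω → wt s ≤ wt r) {N : AddSubgroup (Kf i)} {a : Kf i}
    (ha : g * x i a * g⁻¹ ∈ zS (Λ.coord i) g N ⊔ RGD.Sup X Ω) : a ∈ N := by
  have C := Λ.coord i
  have hU : ∀ y ∈ X r, y ∈ RGD.Sup X (RGD.Pos cs h) := fun y hy => RGD.le_Sup Q.pos hy
  have hn : zS C g N ≤ normalizer (RGD.Sup X Ω : Set Y) := by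
    have hle : ∀ y ∈ zS C g N, ∀ d ∈ RGD.Sup X Ω, y * d * y⁻¹ ∈ RGD.Sup X Ω := by
      intro y hy d hd
      obtain ⟨a, -, rfl⟩ := (mem_zS _ _).1 hy
      have h2 := X_norm Λ.wts hΩ Q.pos hrΩ hmax (hU _ (z_mem Λ Q a)) (mem_sup_right hd : d ∈ X r ⊔ RGD.Sup X Ω)
      have h3 := mul_mem h2 hd
      rwa [inv_mul_cancel_right] at h3
    intro y hy
    rw [mem_normalizer_iff]
    intro d
    refine ⟨hle y hy d, fun hd => ?_⟩
    have h2 := hle _ (inv_mem hy) _ hd
    have e : y⁻¹ * (y * d * y⁻¹) * y⁻¹⁻¹ = d := by group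
    rwa [e] at h2
  have h1 : g * x i a * g⁻¹ ∈ ((zS C g N ⊔ RGD.Sup X Ω : Subgroup Y) : Set Y) := ha
  rw [coe_mul_of_left_le_normalizer_right _ _ hn] at h1
  obtain ⟨y, hy, d, hd, e⟩ := h1
  obtain ⟨a', ha', rfl⟩ := (mem_zS _ _).1 hy
  have e2 : d = (g * x i a' * g⁻¹)⁻¹ * (g * x i a * g⁻¹) := by
    rw [← e]
    show d = (g * x i a' * g⁻¹)⁻¹ * ((g * x i a' * g⁻¹) * d)
    rw [inv_mul_cancel_left]
  have h2 : d ∈ X r := by
    rw [e2]
    exact mul_mem (inv_mem (z_mem Λ Q _)) (z_mem Λ Q _)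
  have h3 : d ∈ X r ⊓ RGD.Sup X Ω := ⟨h2, hd⟩
  rw [inf_eq R Λ.wts hΩ Q.pos hrΩ, mem_bot] at h3
  rw [h3] at e2
  have e3 : g * x i a' * g⁻¹ = g * x i a * g⁻¹ := inv_mul_eq_one.1 e2.symm
  rw [← z_inj C g e3]
  exact ha'

/-- the group acting -/
structure Ctx (k : Subfield L) (χ : ∀ i, Y → Kf i) (h : IsCartan M A) (T : Subgroup Y) (X : (I → ℤ) → Subgroup Y)
    (cs : CoxeterSystem M W) (T₀ : Sylow 2 Y) (B : Subgroup (MulAut Y)) (β₀ : MulAut Y) : Prop where
  syl : (T₀ : Subgroup Y) = RGD.Sup X (RGD.Pos cs h)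
  lt : ∃ τ₀ : L ≃+* L, LTau T X χ β₀ τ₀ ∧ ∀ a ∈ k, τ₀ a = a
  sq : β₀ * β₀ = 1
  dec : ∀ e ∈ B, FixZ T₀ e → ∃ u ∈ RGD.Sup X (RGD.Pos cs h), e = MulAut.conj u ∨ e = MulAut.conj u * β₀

variable {T₀ : Sylow 2 Y} {B : Subgroup (MulAut Y)} {β₀ : MulAut Y}

/-- **The line of one root.** -/
theorem lineA [Finite W] [CharP L 2] (Cx : Ctx k χ h T X cs T₀ B β₀) (hk : ∃ s ∈ k, s ≠ 0 ∧ s ≠ 1)
    (hΩ : Up cs h wt Ω) {r : I → ℤ} {i : I} {w : W} {g : Y} (Q : Root R r i w g)
    (hrΩ : r ∉ Ω) (hmax : ∀ s ∈ RGD.Pos cs h, s ∉ Ω → wt s ≤ wt r) {N : AddSubgroup (Kf i)}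
    (hN : ∀ t : Kf i, (t : L) ∈ k → ∀ a ∈ N, t * a ∈ N) {m : Kf i → Kf i}
    (hm : ∀ a, β₀ (g * x i a * g⁻¹) = g * x i (m a) * g⁻¹) (hmk : ∀ t a : Kf i, (t : L) ∈ k → m (t * a) = t * m a)
    {b : Kf i} (hb : b ∉ N) (hmb : m b - b ∈ N) :
    TwGood.LineA T₀ B (zS (Λ.coord i) g N ⊔ RGD.Sup X Ω) (zS (Λ.coord i) g (kl k b)) := by
  have C := Λ.coord i
  -- elements of the line outside `N`
  have hout : ∀ t : Kf i, (t : L) ∈ k → t ≠ 0 → t * b ∉ N := by
    intro t ht ht0 h1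
    have h2 := hN t⁻¹ (by
      show ((t⁻¹ : Kf i) : L) ∈ k
      rw [Subfield.coe_inv]
      exact k.inv_mem ht) _ h1
    rw [inv_mul_cancel_left₀ ht0] at h2
    exact hb h2
  have hadd : ∀ a : Kf i, a + a = 0 := fun a => CharTwo.add_self_eq_zero a
  -- the elements of `B` fixing `Z(U)`
  have hB : ∀ e ∈ B, FixZ T₀ e → ∃ u ∈ RGD.Sup X (RGD.Pos cs h), ∃ (β : MulAut Y) (m' : Kf i → Kf i),
      e = MulAut.conj u * β ∧ (∀ a, β (g * x i a * g⁻¹) = g * x i (m' a) * g⁻¹) ∧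
      (∀ t a : Kf i, (t : L) ∈ k → m' (t * a) = t * m' a) ∧ m' b - b ∈ N := by
    intro e he hf
    obtain ⟨u, hu, h1 | h1⟩ := Cx.dec e he hf
    · exact ⟨u, hu, 1, id, by rw [mul_one, h1], fun a => rfl, fun t a _ => rfl, by
        rw [id, sub_self]; exact N.zero_mem⟩
    · exact ⟨u, hu, β₀, m, h1, hm, hmk, hmb⟩
  -- commutators
  have hcom : ∀ u ∈ RGD.Sup X (RGD.Pos cs h), ∀ a : Kf i,
      u * (g * x i a * g⁻¹) * u⁻¹ * (g * x i a * g⁻¹)⁻¹ ∈ RGD.Sup X Ω := fun u hu a =>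
    X_norm Λ.wts hΩ Q.pos hrΩ hmax hu (mem_sup_left (z_mem Λ Q a))
  constructor
  · -- squares
    intro y hy
    obtain ⟨a, -, rfl⟩ := (mem_zS _ _).1 hy
    have e : (g * x i a * g⁻¹) * (g * x i a * g⁻¹) = g * x i (a + a) * g⁻¹ := by rw [C.add]; group
    rw [e, hadd, C.zero]
    have e2 : g * 1 * g⁻¹ = 1 := by group
    rw [e2]
    exact one_mem _
  · -- three cosets
    obtain ⟨s, hs, hs0, hs1⟩ := hk
    have hs' : s ∈ Kf i := Λ.le i hs
    refine ⟨g * x i b * g⁻¹, (mem_zS _ _).2 ⟨b, ⟨1, by rw [OneMemClass.coe_one]; exact k.one_mem, one_mul _⟩, rfl⟩,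
      g * x i (⟨s, hs'⟩ * b) * g⁻¹, (mem_zS _ _).2 ⟨_, ⟨⟨s, hs'⟩, hs, rfl⟩, rfl⟩, ?_, ?_, ?_⟩
    · exact fun h1 => hb (mem_of_z_mem Λ hΩ Q hrΩ hmax h1)
    · exact fun h1 => hout ⟨s, hs'⟩ hs (fun h2 => hs0 (congrArg Subtype.val h2))
        (mem_of_z_mem Λ hΩ Q hrΩ hmax h1)
    · intro h1
      rw [z_sub' C] at h1
      have h2 := mem_of_z_mem Λ hΩ Q hrΩ hmax h1
      have e : (⟨s, hs'⟩ : Kf i) * b - b = (⟨s, hs'⟩ - 1) * b := by ring
      rw [e] at h2
      refine hout (⟨s, hs'⟩ - 1) ?_ ?_ h2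
      · show s - ((1 : Kf i) : L) ∈ k
        rw [OneMemClass.coe_one]
        exact k.sub_mem hs k.one_mem
      · intro h3
        exact hs1 (congrArg Subtype.val (sub_eq_zero.1 h3))
  · -- star
    intro e he hf _ y hy hyD hey y' hy'
    obtain ⟨u, hu, β, m', rfl, h1, h2, h3⟩ := hB e he hf
    obtain ⟨_, ⟨t, ht, rfl⟩, rfl⟩ := (mem_zS _ _).1 hy
    obtain ⟨_, ⟨t', ht', rfl⟩, rfl⟩ := (mem_zS _ _).1 hy'
    have h4 : u * (g * x i (m' (t * b)) * g⁻¹) * u⁻¹ = g * x i (t * b) * g⁻¹ := by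
      have := hey
      rw [MulAut.mul_apply, h1, MulAut.conj_apply] at this
      exact this
    have h5 := hcom u hu (m' (t * b))
    rw [h4, z_sub C] at h5
    have h6 : g * x i (t * b - m' (t * b)) * g⁻¹ ∈ zS C g ⊥ ⊔ RGD.Sup X Ω := mem_sup_right h5
    have h7 := mem_of_z_mem Λ hΩ Q hrΩ hmax h6
    rw [AddSubgroup.mem_bot, sub_eq_zero] at h7
    have ht0 : t ≠ 0 := by
      rintro rfl
      apply hyD
      rw [zero_mul]
      exact mem_sup_left ((mem_zS _ _).2 ⟨0, N.zero_mem, rfl⟩)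
    have h8 : m' b = b := by
      rw [h2 _ _ ht] at h7
      exact (mul_left_cancel₀ ht0 h7).symm
    have hb0 : b ≠ 0 := by
      rintro rfl
      exact hb N.zero_mem
    have h9 : u * (g * x i (t * b) * g⁻¹) = g * x i (t * b) * g⁻¹ * u := by
      rw [← h7] at h4
      exact mul_inv_eq_iff_eq_mul.1 h4
    have hpos : rep cs h w (sr i) ∈ RGD.Pos cs h := by rw [Q.eq]; exact Q.pos
    have h10 := Λ.star w i g Q.rp hpos (t * b) (mul_ne_zero ht0 hb0) u hu h9 (t' * t⁻¹) (by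
      show ((t' * t⁻¹ : Kf i) : L) ∈ k
      rw [MulMemClass.coe_mul, Subfield.coe_inv]
      exact k.mul_mem ht' (k.inv_mem ht))
    have e3 : t' * t⁻¹ * (t * b) = t' * b := by field_simp
    rw [e3] at h10
    rw [MulAut.mul_apply, h1, MulAut.conj_apply, h2 _ _ ht', h8, h10, mul_inv_cancel_right]
  · -- fixed modulo `D`
    intro y hy e he hf
    obtain ⟨u, hu, β, m', rfl, h1, h2, h3⟩ := hB e he hf
    obtain ⟨_, ⟨t, ht, rfl⟩, rfl⟩ := (mem_zS _ _).1 hy
    rw [MulAut.mul_apply, h1, MulAut.conj_apply]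
    have h5 := hcom u hu (m' (t * b))
    have h6 : g * x i (m' (t * b) - t * b) * g⁻¹ ∈ zS C g N := by
      rw [h2 _ _ ht, ← mul_sub]
      exact (mem_zS _ _).2 ⟨_, hN t ht _ h3, rfl⟩
    rw [← z_sub C] at h6
    have h7 := mul_mem (mem_sup_right h5 : _ ∈ zS C g N ⊔ RGD.Sup X Ω) (mem_sup_left h6)
    have e4 : u * (g * x i (m' (t * b)) * g⁻¹) * u⁻¹ * (g * x i (m' (t * b)) * g⁻¹)⁻¹ *
        ((g * x i (m' (t * b)) * g⁻¹) * (g * x i (t * b) * g⁻¹)⁻¹) =
        u * (g * x i (m' (t * b)) * g⁻¹) * u⁻¹ * (g * x i (t * b) * g⁻¹)⁻¹ := by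
      rw [mul_assoc (u * (g * x i (m' (t * b)) * g⁻¹) * u⁻¹), inv_mul_cancel_left]
    rwa [e4] at h7

/-- **One root.** -/
theorem good_root [Finite W] [CharP L 2] [Finite L] (Cx : Ctx k χ h T X cs T₀ B β₀) (hk : ∃ s ∈ k, s ≠ 0 ∧ s ≠ 1)
    (hΩ : Up cs h wt Ω) {r : I → ℤ} (hr : r ∈ RGD.Pos cs h)
    (hrΩ : r ∉ Ω) (hmax : ∀ s ∈ RGD.Pos cs h, s ∉ Ω → wt s ≤ wt r)
    (h0 : TwGood.Good T₀ B (RGD.Sup X Ω)) : TwGood.Good T₀ B (RGD.Sup X (Insert.insert r Ω)) := by
  obtain ⟨i, w, g, Q⟩ := exists_root (R := R) hr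
  have C := Λ.coord i
  obtain ⟨τ₀, hτ, hτk⟩ := Cx.lt
  obtain ⟨m, hm, hma, hmk⟩ := exists_m Λ hτ hτk Q
  have hmm : ∀ a, m (m a) = a := by
    intro a
    apply z_inj C g
    rw [← hm, ← hm, ← MulAut.mul_apply, Cx.sq, MulAut.one_apply]
  have hadd : ∀ a : Kf i, a + a = 0 := fun a => CharTwo.add_self_eq_zero a
  have key : ∀ j : ℕ, ∃ N : AddSubgroup (Kf i), (∀ t : Kf i, (t : L) ∈ k → ∀ a ∈ N, t * a ∈ N) ∧
      (∀ a ∈ N, m a ∈ N) ∧ TwGood.Good T₀ B (zS (Λ.coord i) g N ⊔ RGD.Sup X Ω) ∧ (N = ⊤ ∨ j ≤ Nat.card N) := by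
    intro j
    induction j with
    | zero =>
      have hm0 : m 0 = 0 := by
        have := hma 0 0
        rw [add_zero, hadd] at this
        exact this
      refine ⟨⊥, fun t _ a ha => ?_, fun a ha => ?_, ?_, Or.inr (Nat.zero_le _)⟩
      · rw [AddSubgroup.mem_bot] at ha ⊢
        rw [ha, mul_zero]
      · rw [AddSubgroup.mem_bot] at ha ⊢
        rw [ha, hm0]
      · rw [zS_bot, bot_sup_eq]
        exact h0
    | succ j ih =>
      obtain ⟨N, hN, hNm, hG, h1⟩ := ih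
      by_cases hT : N = ⊤
      · exact ⟨N, hN, hNm, hG, Or.inl hT⟩
      obtain ⟨b, hb, hmb⟩ : ∃ b, b ∉ N ∧ m b - b ∈ N := by
        by_cases hall : ∀ v, m v - v ∈ N
        · obtain ⟨b, hb⟩ : ∃ b, b ∉ N := by
            by_contra hcon
            push Not at hcon
            exact hT (top_le_iff.1 fun b _ => hcon b)
          exact ⟨b, hb, hall b⟩
        · push Not at hall
          obtain ⟨v, hv⟩ := hall
          refine ⟨m v - v, hv, ?_⟩
          have e : m (m v - v) - (m v - v) = 0 := by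
            rw [CharTwo.sub_eq_add, CharTwo.sub_eq_add, hma, hmm, add_comm v (m v), hadd]
          rw [e]
          exact N.zero_mem
      have hbN : b ∈ N ⊔ kl k b := AddSubgroup.mem_sup_right
        (⟨1, by rw [OneMemClass.coe_one]; exact k.one_mem, one_mul _⟩ : b ∈ kl k b)
      refine ⟨N ⊔ kl k b, fun t ht a ha => ?_, fun a ha => ?_, ?_, Or.inr ?_⟩
      · obtain ⟨y, hy, _, ⟨s, hs, rfl⟩, rfl⟩ := AddSubgroup.mem_sup.1 ha
        rw [mul_add]
        refine add_mem (AddSubgroup.mem_sup_left (hN t ht y hy)) (AddSubgroup.mem_sup_right ⟨t * s, ?_, ?_⟩)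
        · rw [MulMemClass.coe_mul]; exact k.mul_mem ht hs
        · rw [mul_assoc]
      · obtain ⟨y, hy, _, ⟨s, hs, rfl⟩, rfl⟩ := AddSubgroup.mem_sup.1 ha
        rw [hma, hmk _ _ hs]
        refine add_mem (AddSubgroup.mem_sup_left (hNm y hy)) ?_
        have e : s * m b = s * (m b - b) + s * b := by ring
        rw [e]
        exact add_mem (AddSubgroup.mem_sup_left (hN s hs _ hmb)) (AddSubgroup.mem_sup_right ⟨s, hs, rfl⟩)
      · refine TwGood.Good.step _ _ _ hG ?_ ?_ ?_ (lineA Λ Cx hk hΩ Q hrΩ hmax hN hm hmk hb hmb)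
        · exact sup_le (le_sup_of_le_left (zS_mono _ _ le_sup_left)) le_sup_right
        · refine sup_le ((zS_sup _ _).trans (sup_le le_sup_left ?_)) ?_
          · exact le_sup_of_le_right le_sup_left
          · exact le_sup_of_le_right le_sup_right
        · exact le_sup_of_le_left (zS_mono _ _ le_sup_right)
      · have h2 := h1.resolve_left hT
        have h3 : N < N ⊔ kl k b := lt_of_le_of_ne le_sup_left fun h4 => hb (by rw [h4]; exact hbN)
        have h4 : Nat.card N < Nat.card ↥(N ⊔ kl k b) := by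
          by_contra h5
          push Not at h5
          exact h3.ne (AddSubgroup.eq_of_le_of_card_ge h3.le h5)
        omega
  obtain ⟨N, -, -, hG, h1⟩ := key (Nat.card (Kf i) + 1)
  have hN : N = ⊤ := by
    rcases h1 with h1 | h1
    · exact h1
    · exfalso
      have := AddSubgroup.card_le_card_addGroup N
      omega
  rw [hN, zS_top Λ Q] at hG
  have e : RGD.Sup X (Insert.insert r Ω) = X r ⊔ RGD.Sup X Ω := by
    apply le_antisymm
    · refine RGD.Sup_le ?_
      rintro s (rfl | hs)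
      · exact le_sup_left
      · exact le_sup_of_le_right (RGD.le_Sup hs)
    · exact sup_le (RGD.le_Sup (Set.mem_insert _ _)) (RGD.Sup_mono (Set.subset_insert _ _))
  rw [e]
  exact hG

/-- **The filtration.** -/
theorem Ctx.flt [Finite W] [CharP L 2] [Finite L] (Cx : Ctx k χ h T X cs T₀ B β₀) (hk : ∃ s ∈ k, s ≠ 0 ∧ s ≠ 1) :
    ∃ U Ls, FltA T₀ B U Ls := by
  apply TwGood.Good.exists_flt
  rw [Cx.syl]
  refine Up.induction (wt := wt) (Q := fun Ω => TwGood.Good T₀ B (RGD.Sup X Ω)) ?_ ?_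
  · have e : RGD.Sup X ∅ = ⊥ := by
      rw [eq_bot_iff]
      exact RGD.Sup_le fun z hz => absurd hz (Set.notMem_empty z)
    rw [e]
    exact TwGood.Good.bot
  · intro Ω hΩ hQ r hr hrΩ hmax
    exact good_root Λ Cx hk hΩ hr hrΩ hmax hQ

end

end Cfsg.Agent.OddHalf.D4.TwFlt

end

-- merged: Cfsg.Agent.OddHalf.D4.TwAFacts
section

/-!
# ODD, D4, (1B): `AFacts` for linear root group data (helper917)

* `field_aut` : (k2) of `AFacts` for every finite group with trivial centre;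
* `Lin.afacts` : `Lin`, `4 ≤ |k|`, `Gal(L/k)` has no element of order 4, (k5) ⟹ `AFacts U`;
* `Lin.outA` : (k5)(c2) if all involutions of `Aut L` are trivial on `k`;
* `Lin.bfacts` : `BFacts K` for `K ≅ Y`.
-/

set_option autoImplicit false
set_option linter.unusedSectionVars false

namespace Cfsg.Agent.OddHalf.D4.TwAFacts

open Subgroup CoxeterSystem Cfsg.Agent.ChevalleyStructure.CoxeterGeom Cfsg.Agent.Tits.Roots Cfsg.Agent.Tits.Core
  Cfsg.Agent.Tits.Exchange Cfsg.Agent.Nodes.Reps Cfsg.Agent.Nodes.BNOf Cfsg.Agent.Nodes.StabComb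
  Cfsg.Agent.Nodes.Bruhat Cfsg.Agent.Nodes.OppDec Cfsg.Agent.Nodes.LeviDec Cfsg.Agent.Nodes.NormalForm
  Cfsg.Agent.KFacts.RgdOpp Cfsg.Agent.KFacts.RgdAut Cfsg.Agent.KFacts.RgdDiag Cfsg.Agent.KFacts.RgdRigid
  Cfsg.Agent.KFacts.RgdField Cfsg.Agent.KFacts.RgdTau Cfsg.Agent.KFacts.RgdNodes Cfsg.Agent.OddHalf.D4.TwWt
  Cfsg.Agent.OddHalf.D4.TwLin Cfsg.Agent.OddHalf.D4.TwFlt Cfsg.Agent.OddHalf.D4.Free
  Cfsg.Agent.OddHalf.D4.Basic
open scoped commutatorElement

/-! ### (k2) -/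

section Field

variable {X : Type*} [Group X]

theorem conj_inj (hc : center X = ⊥) : Function.Injective (MulAut.conj : X →* MulAut X) := by
  rw [injective_iff_map_eq_one]
  intro x hx
  have h1 : x ∈ center X := by
    rw [mem_center_iff]
    intro y
    have h2 : x * y * x⁻¹ = y := congrArg (fun f : MulAut X => f y) hx
    exact (mul_inv_eq_iff_eq_mul.1 h2).symm
  rwa [hc, mem_bot] at h1

theorem aut_conj (a : MulAut X) (x : X) : a * MulAut.conj x * a⁻¹ = MulAut.conj (a x) := by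
  ext y
  simp only [MulAut.mul_apply, MulAut.conj_apply, map_mul, map_inv, MulAut.apply_inv_self]

theorem comm_iff (hc : center X = ⊥) (a : MulAut X) (x : X) :
    MulAut.conj x * a = a * MulAut.conj x ↔ a x = x := by
  rw [← (conj_inj hc).eq_iff, ← aut_conj, mul_inv_eq_iff_eq_mul]
  exact eq_comm

variable [Finite X]

theorem good_conj (hc : center X = ⊥) (T : Sylow 2 X) {A : Subgroup (MulAut X)} (hA : GoodA T A) :
    _root_.Cfsg.Agent.OddHalf.D4.Free.Good (MulAut.conj : X →* MulAut X).range A ∧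
      A ⊓ (MulAut.conj : X →* MulAut X).range = (T : Subgroup X).map MulAut.conj := by
  have hinf : A ⊓ (MulAut.conj : X →* MulAut X).range = (T : Subgroup X).map MulAut.conj := by
    ext a
    constructor
    · rintro ⟨h1, ⟨x, rfl⟩⟩
      have h2 : x ∈ normalizer ((T : Subgroup X) : Set X) := by
        rw [mem_normalizer_iff]
        intro y
        constructor
        · exact fun hy => hA.norm _ h1 y hy
        · intro hy
          have h3 := hA.norm _ (inv_mem h1) _ hy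
          rw [← map_inv, MulAut.conj_apply] at h3
          have e : x⁻¹ * (x * y * x⁻¹) * x⁻¹⁻¹ = y := by group
          rwa [e] at h3
      obtain ⟨m, hm⟩ := hA.two ⟨_, h1⟩
      have h3 : x ^ 2 ^ m = 1 := by
        apply conj_inj hc
        rw [map_pow, map_one]
        exact congrArg Subtype.val hm
      exact ⟨x, mem_of_norm (M := ⊤) ⟨T.2, le_top, fun Q hQ hle _ => (T.3 hQ hle).le⟩ (mem_top x) h2 h3, rfl⟩
    · rintro ⟨t, ht, rfl⟩
      exact ⟨hA.inn t ht, ⟨t, rfl⟩⟩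
  refine ⟨⟨hA.two, ?_, ?_⟩, hinf⟩
  · intro a _
    rw [mem_normalizer_iff]
    intro b
    constructor
    · rintro ⟨x, rfl⟩
      exact ⟨a x, (aut_conj a x).symm⟩
    · rintro ⟨x, hx⟩
      refine ⟨a⁻¹ x, ?_⟩
      rw [← aut_conj, hx]
      group
  · rw [hinf]
    refine ⟨T.2.map _, ?_, ?_⟩
    · rintro _ ⟨t, _, rfl⟩
      exact ⟨t, rfl⟩
    · intro Q hQ hle hQK
      have h1 : Q.comap MulAut.conj = (T : Subgroup X) := by
        refine T.3 (hQ.comap_of_injective _ (conj_inj hc)) ?_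
        intro t ht
        exact hle ⟨t, ht, rfl⟩
      intro q hq
      obtain ⟨x, rfl⟩ := hQK hq
      exact ⟨x, by rw [← h1]; exact hq, rfl⟩

/-- **(k2) of `AFacts`** -/
theorem field_aut (hc : center X = ⊥) (T : Sylow 2 X) {A : Subgroup (MulAut X)} (hA : GoodA T A) {e : MulAut X}
    (he : e ∈ A) (g : X) (hg : ∀ z, InZ T z → e (g * z * g⁻¹) = g * z * g⁻¹) : FixZ T e := by
  obtain ⟨h1, hinf⟩ := good_conj hc T hA
  have : Finite (MulAut X) := inferInstance
  -- `Z(T)`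
  have hz : ∀ z, z ∈ zc (MulAut.conj : X →* MulAut X).range A ↔ ∃ x, InZ T x ∧ MulAut.conj x = z := by
    intro z
    rw [mem_zc, ← mem_inf, hinf]
    constructor
    · rintro ⟨⟨x, hx, rfl⟩, h2⟩
      refine ⟨x, ⟨hx, fun t ht => ?_⟩, rfl⟩
      apply conj_inj hc
      rw [map_mul, map_mul]
      exact h2 _ ⟨t, ht, rfl⟩
    · rintro ⟨x, ⟨hx, h2⟩, rfl⟩
      refine ⟨⟨x, hx, rfl⟩, ?_⟩
      rintro _ ⟨t, ht, rfl⟩
      rw [← map_mul, ← map_mul, h2 t ht]
  have hcjK : CommConj.cj (MulAut.conj g) (MulAut.conj : X →* MulAut X).range =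
      (MulAut.conj : X →* MulAut X).range :=
    CommConj.cj_eq_of_mem_normalizer (le_normalizer ⟨g, rfl⟩)
  have h2 := h1.cj (MulAut.conj g)
  rw [hcjK] at h2
  have h3 : e ∈ cz (MulAut.conj : X →* MulAut X).range (CommConj.cj (MulAut.conj g) A) := by
    rw [mem_cz]
    intro z hz'
    rw [← hcjK, zc_cj, CommConj.mem_cj] at hz'
    obtain ⟨x, hx, ex⟩ := (hz _).1 hz'
    have e1 : z = MulAut.conj (g * x * g⁻¹) := by
      rw [map_mul, map_mul, map_inv, ex]
      group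
    rw [e1]
    exact (comm_iff hc e _).2 (hg x hx)
  have h4 := field_free h2 h1 he h3
  intro z hz'
  rw [mem_cz] at h4
  exact (comm_iff hc e z).1 (h4 _ ((hz _).2 ⟨z, hz', rfl⟩))

end Field

/-! ### Frame automorphisms -/

variable {I W Y : Type*} [Fintype I] [DecidableEq I] [Group W] [Group Y] {M : CoxeterMatrix I}
  {cs : CoxeterSystem M W} {A : I → I → ℤ} {h : IsCartan M A} {T : Subgroup Y} {n : I → Y}
  {X : (I → ℤ) → Subgroup Y} {L : Type*} [Field L] {k : Subfield L} {Kf : I → Subfield L}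
  {x : ∀ i, Kf i → Y} {χ : ∀ i, Y → Kf i} {wt : (I → ℤ) → ℕ} {ρ : I → ℤ}
  {R : RGD cs h 2 T n X}

theorem eq_one_of_pow [CharP L 2] {K : Subfield L} {c : K} {m : ℕ} (h : c ^ 2 ^ m = 1) : c = 1 := by
  have : Fact (Nat.Prime 2) := ⟨Nat.prime_two⟩
  have : ExpChar K 2 := ExpChar.prime Nat.prime_two
  have h5 : (c - 1) ^ 2 ^ m = 0 := by rw [sub_pow_expChar_pow, h, one_pow, sub_self]
  exact sub_eq_zero.1 ((pow_eq_zero_iff (pow_ne_zero _ two_ne_zero)).1 h5)

section

variable (Λ : Lin R k Kf x χ wt ρ)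

include Λ

/-- a 2-element acting with a trivial field automorphism of `K_i` fixes the root group pointwise -/
theorem root_fix [Finite W] [CharP L 2] {β : MulAut Y} {τ : L ≃+* L} (S : LTau T X χ β τ) {m : ℕ}
    (hm : β ^ 2 ^ m = 1) {i : I} {w : W} {g : Y} (hg : Rp cs R.nsys w g) (hτ : ∀ a ∈ Kf i, τ a = a) (a : Kf i) :
    β (g * x i a * g⁻¹) = g * x i a * g⁻¹ := by
  obtain ⟨τ', c, hc, h1, h2⟩ := LTau.root Λ S i hg
  have h3 : ∀ a, τ' a = a := fun a => Subtype.ext (by rw [h1, hτ _ a.2])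
  have h4 : ∀ j a, (β ^ j) (g * x i a * g⁻¹) = g * x i (c ^ j * a) * g⁻¹ := by
    intro j
    induction j with
    | zero => intro a; rw [pow_zero, pow_zero, one_mul]; rfl
    | succ j ih =>
      intro a
      rw [pow_succ, MulAut.mul_apply, h2, ih, h3, pow_succ, mul_assoc (c ^ j)]
  have h5 := h4 (2 ^ m) 1
  rw [hm, MulAut.one_apply, mul_one] at h5
  have h6 : c = 1 := eq_one_of_pow (m := m) (z_inj (Λ.coord i) g h5).symm
  rw [h2, h6, h3, one_mul]

theorem LTau.eq_one [Finite W] [CharP L 2] {β : MulAut Y} (S : LTau T X χ β (1 : L ≃+* L)) {m : ℕ}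
    (hm : β ^ 2 ^ m = 1) : β = 1 := by
  apply Diag.eq_one R Λ.gen S.diag
  intro i y hy
  obtain ⟨a, rfl⟩ := ((Λ.coord i).mem y).1 hy
  have h1 := root_fix Λ S hm (rp_of_mem (cs := cs) (hN := R.nsys) (one_mem T)) (fun _ _ => rfl) a
  rw [one_mul, inv_one, mul_one] at h1
  exact h1

theorem fix_rho_iff [Finite W] [CharP L 2] {β : MulAut Y} {τ : L ≃+* L} (S : LTau T X χ β τ) {m : ℕ}
    (hm : β ^ 2 ^ m = 1) : (∀ z ∈ X ρ, β z = z) ↔ ∀ a ∈ k, τ a = a := by
  obtain ⟨w, i, e, hk⟩ := Λ.rho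
  obtain ⟨g, hg⟩ := exists_rp cs R.nsys w
  have Q : Root R ρ i w g := ⟨hg, e, Λ.rho_pos⟩
  constructor
  · intro h1 a ha
    obtain ⟨τ', c, hc, h2, h3⟩ := LTau.root Λ S i hg
    have h4 : ∀ a, c * τ' a = a := fun a => z_inj (Λ.coord i) g (by rw [← h3, h1 _ (z_mem Λ Q a)])
    have h5 := h4 1
    rw [map_one, mul_one] at h5
    have h6 := h4 ⟨a, by rw [hk]; exact ha⟩
    rw [h5, one_mul] at h6
    rw [← h2 ⟨a, by rw [hk]; exact ha⟩, h6]
  · intro h1 z hz
    rw [← zS_top Λ Q] at hz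
    obtain ⟨a, -, rfl⟩ := (mem_zS _ _).1 hz
    exact root_fix Λ S hm hg (fun a ha => h1 a (by rwa [hk] at ha)) a

end

/-! ### The group `A` -/

/-- the frame projection of `B` with its field automorphism -/
structure Proj (k : Subfield L) (χ : ∀ i, Y → Kf i) (h : IsCartan M A) (T : Subgroup Y) (X : (I → ℤ) → Subgroup Y)
    (cs : CoxeterSystem M W) (T₀ : Sylow 2 Y) (B : Subgroup (MulAut Y)) (q : ↥B →* MulAut Y)
    (φ : ↥B →* (L ≃+* L)) : Prop where
  lt : ∀ a, LTau T X χ (q a) (φ a)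
  two : ∀ a, ∃ m : ℕ, (q a) ^ 2 ^ m = 1 ∧ (φ a) ^ 2 ^ m = 1
  eq : ∀ a : ↥B, ∃ u ∈ RGD.Sup X (RGD.Pos cs h), q a = MulAut.conj u * a.1
  one : ∀ a : ↥B, q a = 1 → ∃ u ∈ RGD.Sup X (RGD.Pos cs h), a.1 = MulAut.conj u
  fix : ∀ a : ↥B, FixZ T₀ a.1 ↔ ∀ c ∈ k, φ a c = c
  inj : ∀ a : ↥B, φ a = 1 → q a = 1

section

variable (Λ : Lin R k Kf x χ wt ρ)

include Λ

theorem inZ_iff {T₀ : Sylow 2 Y} (hT : (T₀ : Subgroup Y) = RGD.Sup X (RGD.Pos cs h)) (z : Y) :
    InZ T₀ z ↔ z ∈ X ρ := by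
  have hmem : ∀ y, y ∈ T₀ ↔ y ∈ RGD.Sup X (RGD.Pos cs h) := fun y => by rw [← hT]; rfl
  constructor
  · rintro ⟨h1, h2⟩
    exact (Λ.cen z ((hmem z).1 h1)).1 fun u hu => h2 u ((hmem u).2 hu)
  · intro h1
    have h2 : z ∈ RGD.Sup X (RGD.Pos cs h) := RGD.le_Sup Λ.rho_pos h1
    exact ⟨(hmem z).2 h2, fun u hu => (Λ.cen z h2).2 h1 u ((hmem u).1 hu)⟩

theorem exists_proj [Finite W] [CharP L 2] {T₀ : Sylow 2 Y}
    (hT : (T₀ : Subgroup Y) = RGD.Sup X (RGD.Pos cs h)) {B : Subgroup (MulAut Y)} (hB : GoodA T₀ B) :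
    ∃ q φ, Proj k χ h T X cs T₀ B q φ := by
  have hG := GG_eq_top (T := T) Λ.gen
  have hmem : ∀ y, y ∈ T₀ ↔ y ∈ RGD.Sup X (RGD.Pos cs h) := fun y => by rw [← hT]; rfl
  have hfix : ∀ α ∈ B, _root_.Cfsg.Agent.KFacts.RgdAut.Fix α (RGD.Sup X (RGD.Pos cs h)) := by
    intro α hα y
    constructor
    · intro h1
      have h2 := hB.norm _ (inv_mem hα) _ ((hmem _).2 h1)
      rw [MulAut.inv_apply_self] at h2
      exact (hmem _).1 h2
    · intro h1
      exact (hmem _).1 (hB.norm _ hα _ ((hmem _).2 h1))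
  obtain ⟨q, hq⟩ := exists_toFrame R hG B hfix
  have h1 : ∀ a : ↥B, ∃ τ : L ≃+* L, LTau T X χ (q a) τ := fun a => by
    obtain ⟨σ, D⟩ := exists_diag R hG (hq a).1.1 (hq a).1.2
    exact exists_ltau Λ D
  choose φ hφ using h1
  have huniq : ∀ a τ, LTau T X χ (q a) τ → φ a = τ := fun a τ h2 => LTau.unique Λ (hφ a) h2
  let φ' : ↥B →* (L ≃+* L) := MonoidHom.mk' φ fun a b => huniq _ _ (by
    rw [map_mul]
    exact (hφ a).mul (hφ b))
  have hφ' : ∀ a, LTau T X χ (q a) (φ' a) := hφ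
  have htwo : ∀ a, ∃ m : ℕ, (q a) ^ 2 ^ m = 1 ∧ (φ' a) ^ 2 ^ m = 1 := by
    intro a
    obtain ⟨m, hm⟩ := hB.two a
    exact ⟨m, by rw [← map_pow, hm, map_one], by rw [← map_pow, hm, map_one]⟩
  refine ⟨q, φ', hφ', htwo, fun a => (hq a).2.1, fun a ha => ((hq a).2.2.2.1).1 ha, fun a => ?_, fun a ha => ?_⟩
  · obtain ⟨m, hm, -⟩ := htwo a
    rw [← fix_rho_iff Λ (hφ' a) hm]
    obtain ⟨u, hu, e⟩ := (hq a).2.1
    have h3 : ∀ z ∈ X ρ, (a.1 z = z ↔ q a z = z) := by
      intro z hz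
      have h4 := (inZ_iff Λ hT z).2 hz
      have h5 : u * z * u⁻¹ = z := by rw [h4.2 u ((hmem u).2 hu), mul_inv_cancel_right]
      rw [e, MulAut.mul_apply, MulAut.conj_apply]
      constructor
      · intro h6; rw [h6, h5]
      · intro h6
        have h7 : a.1 z = u⁻¹ * (u * a.1 z * u⁻¹) * u := by group
        rw [h7, h6]
        have h8 : u⁻¹ * z * u = u⁻¹ * (u * z * u⁻¹) * u := by rw [h5]
        rw [h8]; group
    constructor
    · exact fun h4 z hz => (h3 z hz).1 (h4 z ((inZ_iff Λ hT z).2 hz))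
    · exact fun h4 z hz => (h3 z ((inZ_iff Λ hT z).1 hz)).2 (h4 z ((inZ_iff Λ hT z).1 hz))
  · obtain ⟨m, hm, -⟩ := htwo a
    have := hφ' a
    rw [ha] at this
    exact LTau.eq_one Λ this hm

omit Λ in
/-- involutions of `Aut L` -/
theorem cyc_aux [Finite L] [CharP L 2] {σ τ : L ≃+* L} (hσ : σ * σ = 1) (hτ : τ * τ = 1) :
    σ = 1 ∨ τ = 1 ∨ σ = τ := by
  by_cases h1 : σ = 1
  · exact Or.inl h1
  by_cases h2 : τ = 1
  · exact Or.inr (Or.inl h2)
  exact Or.inr (Or.inr (StdRank2.OutField.unique_invol hσ hτ h1 h2))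

theorem exists_ctx [Finite W] [Finite L] [CharP L 2] {T₀ : Sylow 2 Y}
    (hT : (T₀ : Subgroup Y) = RGD.Sup X (RGD.Pos cs h)) {B : Subgroup (MulAut Y)} {q : ↥B →* MulAut Y}
    {φ : ↥B →* (L ≃+* L)} (P : Proj k χ h T X cs T₀ B q φ)
    (hgal : ∀ τ : L ≃+* L, (∀ a ∈ k, τ a = a) → (∃ m : ℕ, τ ^ 2 ^ m = 1) → τ * τ = 1) :
    ∃ β₀, Ctx k χ h T X cs T₀ B β₀ := by
  have hsq : ∀ a : ↥B, FixZ T₀ a.1 → φ a * φ a = 1 := fun a ha => by
    obtain ⟨m, -, hm⟩ := P.two a
    exact hgal _ ((P.fix a).1 ha) ⟨m, hm⟩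
  by_cases hex : ∃ a : ↥B, FixZ T₀ a.1 ∧ q a ≠ 1
  · obtain ⟨a, ha, ha1⟩ := hex
    refine ⟨q a, hT, ⟨φ a, P.lt a, (P.fix a).1 ha⟩, ?_, fun e he hf => ?_⟩
    · rw [← map_mul]
      apply P.inj
      rw [map_mul]
      exact hsq a ha
    · obtain ⟨u, hu, eu⟩ := P.eq ⟨e, he⟩
      have e1 : e = MulAut.conj u⁻¹ * q ⟨e, he⟩ := by
        rw [eu, map_inv, inv_mul_cancel_left]
      refine ⟨u⁻¹, inv_mem hu, ?_⟩
      rcases cyc_aux (hsq ⟨e, he⟩ hf) (hsq a ha) with h1 | h1 | h1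
      · left
        rw [e1, P.inj _ h1, mul_one]
      · exact absurd (P.inj _ h1) ha1
      · right
        have h2 : q (⟨e, he⟩ * a⁻¹) = 1 := P.inj _ (by rw [map_mul, map_inv, h1, mul_inv_cancel])
        rw [map_mul, map_inv, mul_inv_eq_one] at h2
        rw [e1, h2]
  · push Not at hex
    refine ⟨1, hT, ⟨1, LTau.one, fun _ _ => rfl⟩, one_mul 1, fun e he hf => ?_⟩
    obtain ⟨u, hu, eu⟩ := P.one ⟨e, he⟩ (hex ⟨e, he⟩ hf)
    exact ⟨u, hu, Or.inl eu⟩

/-- **`AFacts`.** -/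
theorem afacts [Finite W] [Finite L] [CharP L 2] [Finite Y] (hc : center Y = ⊥)
    (hk : ∃ s ∈ k, s ≠ 0 ∧ s ≠ 1) {T₀ : Sylow 2 Y} (hT : (T₀ : Subgroup Y) = RGD.Sup X (RGD.Pos cs h))
    (hgal : ∀ τ : L ≃+* L, (∀ a ∈ k, τ a = a) → (∃ m : ℕ, τ ^ 2 ^ m = 1) → τ * τ = 1)
    (hout : OutA T₀) : AFacts T₀ := by
  refine ⟨fun z hz => ?_, fun B hB a ha b hb haa hbb => ?_, fun B hB e he g hg => field_aut hc T₀ hB he g hg,
    fun B hB => ?_, fun B hB a ha b hb haz hbz => ?_, hout⟩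
  · -- (k0)
    rw [inZ_iff Λ hT] at hz
    obtain ⟨i, w, g, Q⟩ := exists_root (R := R) Λ.rho_pos
    rw [← zS_top Λ Q] at hz
    obtain ⟨a, -, rfl⟩ := (mem_zS _ _).1 hz
    have e : (g * x i a * g⁻¹) * (g * x i a * g⁻¹) = g * x i (a + a) * g⁻¹ := by
      rw [(Λ.coord i).add]; group
    rw [e, CharTwo.add_self_eq_zero, (Λ.coord i).zero]
    group
  · -- (k1)
    obtain ⟨q, φ, P⟩ := exists_proj Λ hT hB
    obtain ⟨w, i, -, hki⟩ := Λ.rho
    have hres : ∀ c : ↥B, ∃ τ' : Kf i ≃+* Kf i, ∀ a, (τ' a : L) = φ c a := fun c => by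
      obtain ⟨τ', _, _, h1, _⟩ := LTau.semi Λ (P.lt c) i
      exact ⟨τ', h1⟩
    obtain ⟨σ, hσ⟩ := hres ⟨a, ha⟩
    obtain ⟨τ, hτ⟩ := hres ⟨b, hb⟩
    have hsq : ∀ (c : ↥B) (τ' : Kf i ≃+* Kf i), (∀ a, (τ' a : L) = φ c a) → FixZ T₀ (c.1 * c.1) → τ' * τ' = 1 := by
      intro c τ' h1 h2
      have h3 := (P.fix (c * c)).1 h2
      ext v
      have h4 := h3 v (by rw [← hki]; exact v.2)
      rw [map_mul] at h4
      show ((τ' (τ' v) : Kf i) : L) = v
      rw [h1, h1]
      exact h4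
    have hfixk : ∀ (c : ↥B) (τ' : Kf i ≃+* Kf i), (∀ a, (τ' a : L) = φ c a) → τ' = 1 → FixZ T₀ c.1 := by
      intro c τ' h1 h2
      rw [P.fix]
      intro v hv
      have h3 := h1 ⟨v, by rw [hki]; exact hv⟩
      rw [h2] at h3
      exact h3.symm
    have h1 := hsq _ σ hσ haa
    have h2 := hsq _ τ hτ hbb
    by_cases h3 : σ = 1
    · exact Or.inl (hfixk _ σ hσ h3)
    by_cases h4 : τ = 1
    · exact Or.inr (Or.inl (hfixk _ τ hτ h4))
    refine Or.inr (Or.inr ?_)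
    have h5 := StdRank2.OutField.unique_invol h1 h2 h3 h4
    have h6 : FixZ T₀ ((⟨a, ha⟩⁻¹ * ⟨b, hb⟩ : ↥B) : MulAut Y) := by
      rw [P.fix]
      intro v hv
      have h7 : φ ⟨a, ha⟩ v = φ ⟨b, hb⟩ v := by
        rw [← hσ ⟨v, by rw [hki]; exact hv⟩, ← hτ ⟨v, by rw [hki]; exact hv⟩, h5]
      rw [map_mul, map_inv, RingAut.mul_apply, ← h7]
      exact (φ ⟨a, ha⟩).symm_apply_apply v
    exact h6
  · -- (k3)
    obtain ⟨q, φ, P⟩ := exists_proj Λ hT hB
    obtain ⟨β₀, Cx⟩ := exists_ctx Λ hT P hgal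
    exact Ctx.flt Λ Cx hk
  · -- (k4)
    obtain ⟨q, φ, P⟩ := exists_proj Λ hT hB
    have hsq : ∀ c : ↥B, FixZ T₀ c.1 → φ c * φ c = 1 := fun c hc => by
      obtain ⟨m, -, hm⟩ := P.two c
      exact hgal _ ((P.fix c).1 hc) ⟨m, hm⟩
    have hinn : ∀ c : ↥B, φ c = 1 → c.1 ∈ (MulAut.conj : Y →* MulAut Y).range := by
      intro c hc
      obtain ⟨u, -, e⟩ := P.one c (P.inj c hc)
      exact ⟨u, e.symm⟩
    rcases cyc_aux (hsq ⟨a, ha⟩ haz) (hsq ⟨b, hb⟩ hbz) with h1 | h1 | h1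
    · exact Or.inl (hinn _ h1)
    · exact Or.inr (Or.inl (hinn _ h1))
    · exact Or.inr ((Or.inr ((hinn (@HMul.hMul _ _ _ instHMul ⟨a, ha⟩⁻¹ ⟨b, hb⟩) (by rw [map_mul, map_inv, h1, inv_mul_cancel]) :)) :))

/-- **(k5)(c2)** -/
theorem outA [Finite W] [Finite L] [CharP L 2] {T₀ : Sylow 2 Y}
    (hT : (T₀ : Subgroup Y) = RGD.Sup X (RGD.Pos cs h))
    (hinv : ∀ τ : L ≃+* L, τ * τ = 1 → ∀ a ∈ k, τ a = a) : OutA T₀ := by
  refine Or.inr (Or.inl fun B hB e he hee => ?_)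
  obtain ⟨q, φ, P⟩ := exists_proj Λ hT hB
  refine (P.fix ⟨e, he⟩).2 (hinv _ ?_)
  rw [← map_mul]
  have h1 : (⟨e, he⟩ * ⟨e, he⟩ : ↥B) = 1 := Subtype.ext hee
  rw [h1, map_one]

/-- **`BFacts K` for `K ≅ Y`.** -/
theorem bfacts [Finite W] [Finite L] [CharP L 2] [Finite Y] (hc : center Y = ⊥)
    (hk : ∃ s ∈ k, s ≠ 0 ∧ s ≠ 1)
    (hgal : ∀ τ : L ≃+* L, (∀ a ∈ k, τ a = a) → (∃ m : ℕ, τ ^ 2 ^ m = 1) → τ * τ = 1)
    (hinv : ∀ τ : L ≃+* L, τ * τ = 1 → ∀ a ∈ k, τ a = a) {G : Type*} [Group G] [Finite G] {K : Subgroup G}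
    (e : Y ≃* ↥K) : BFacts K := by
  have hG := GG_eq_top (T := T) Λ.gen
  have : Fact (Nat.Prime 2) := ⟨Nat.prime_two⟩
  obtain ⟨P, hP⟩ := R.isPGroup_Upos.exists_le_sylow
  have hT := Nodes.NormalForm.eq_U_of_isPGroup R P.isPGroup' hP (by rw [hG]; exact le_top)
  exact (afacts Λ hc hk hT hgal (outA Λ hT hinv)).bfacts e

end

end Cfsg.Agent.OddHalf.D4.TwAFacts

end

-- merged: Cfsg.Agent.OddHalf.D4.TwQuad
section

/-!
# ODD, D4, (1B): the field facts for `L/k` quadratic (helper917)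

`hgal`, `hinv` : the two field hypotheses of `TwAFacts.bfacts` for `|L| = |k|²`, characteristic two.
-/

set_option autoImplicit false

namespace Cfsg.Agent.OddHalf.D4.TwQuad

variable {L : Type*} [Field L] [Finite L] {k : Subfield L}

theorem finrank_eq (hc : Nat.card L = Nat.card k ^ 2) : Module.finrank k L = 2 := by
  have h1 : Nat.card L = Nat.card k ^ Module.finrank k L := Module.natCard_eq_pow_finrank
  rw [hc] at h1
  have h2 : 1 < Nat.card k := Finite.one_lt_card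
  exact (Nat.pow_right_injective h2 h1).symm

theorem hgal (hc : Nat.card L = Nat.card k ^ 2) (τ : L ≃+* L) (hτ : ∀ a ∈ k, τ a = a) : τ * τ = 1 := by
  let σ : L ≃ₐ[k] L := AlgEquiv.ofRingEquiv (f := τ) (fun a => hτ _ a.2)
  have h1 : Nat.card (L ≃ₐ[k] L) = 2 := by
    rw [IsGalois.card_aut_eq_finrank, finrank_eq hc]
  have h2 : σ ^ 2 = 1 := by
    rw [← h1]
    exact pow_card_eq_one'
  ext a
  exact congrArg (fun f : L ≃ₐ[k] L => f a) (pow_two σ ▸ h2)

theorem hinv [CharP L 2] (hc : Nat.card L = Nat.card k ^ 2) (τ : L ≃+* L) (hτ : τ * τ = 1) :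
    ∀ a ∈ k, τ a = a := by
  by_cases h0 : τ = 1
  · rw [h0]
    exact fun a _ => rfl
  have h1 : Nat.card (L ≃ₐ[k] L) = 2 := by
    rw [IsGalois.card_aut_eq_finrank, finrank_eq hc]
  obtain ⟨σ, hσ⟩ : ∃ σ : L ≃ₐ[k] L, σ ≠ 1 := by
    by_contra hcon
    push Not at hcon
    have h2 : Nat.card (L ≃ₐ[k] L) ≤ 1 := by
      have : Subsingleton (L ≃ₐ[k] L) := ⟨fun a b => by rw [hcon a, hcon b]⟩
      exact Finite.card_le_one_iff_subsingleton.2 this
    omega
  have h2 : σ.toRingEquiv * σ.toRingEquiv = 1 := hgal hc _ fun a ha => σ.commutes ⟨a, ha⟩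
  have h3 : σ.toRingEquiv ≠ 1 := by
    intro h4
    apply hσ
    ext a
    exact congrArg (fun f : L ≃+* L => f a) h4
  rw [StdRank2.OutField.unique_invol hτ h2 h0 h3]
  exact fun a ha => σ.commutes ⟨a, ha⟩

end Cfsg.Agent.OddHalf.D4.TwQuad

end

-- merged: Cfsg.Agent.OddHalf.D4.LinESix
section

/-!
# ODD, D4, (1B): `BFacts` for `²E₆(q)`, `q = 2^a ≥ 4` (helper917)

* `lin` : the root group datum of `²E₆(q)`, `q` even, is linear (`TwLin.Lin`), `k = F_q`, `ρ` the highest root;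
* **`bfacts`** : `BFacts K` for `K ≅ ²E₆(2^a)`, `a ≥ 2`.
-/

set_option autoImplicit false
set_option linter.unusedSectionVars false

namespace Cfsg.Agent.OddHalf.D4.LinESix

open Subgroup CoxeterSystem Cfsg.Agent.ChevalleyStructure.CoxeterGeom Cfsg.Agent.Tits.Core
  Cfsg.Agent.Tits.Exchange Cfsg.Agent.Nodes.Reps Cfsg.Agent.Nodes.BNOf Cfsg.Agent.Nodes.StabComb
  Cfsg.Agent.Nodes.Bruhat Cfsg.Agent.Nodes.OppDec Cfsg.Agent.Nodes.RGDTwGen Cfsg.Agent.Nodes.RGDChev
  Cfsg.Agent.Nodes.RGDFold Cfsg.Agent.Nodes.RGDFoldSL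
open Cfsg.Agent.KFacts.RgdOpp Cfsg.Agent.KFacts.RgdAut Cfsg.Agent.KFacts.RgdDiag Cfsg.Agent.KFacts.RgdRigid
  Cfsg.Agent.KFacts.RgdField Cfsg.Agent.KFacts.RgdTau Cfsg.Agent.KFacts.RgdNodes
open Cfsg.Agent.Tits.Roots hiding ht
open Cfsg.Lie Cfsg.Agent.ChevalleyStructure
open Cfsg.Agent.ChevalleyStructure.SL2Hom (up lo)
open Cfsg.Agent.KFacts.TwESix.NodeCoord Cfsg.Agent.KFacts.TwESix.Out Cfsg.Agent.KFacts.TwESix.OutTwo
  Cfsg.Agent.KFacts.TwESix.Comb
open Cfsg.Agent.Nodes.RGDTwE6 Cfsg.Agent.Nodes.RGDTwNode.E6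
open Cfsg.Agent.Nodes.RGDTwCoordE6 (O dl)
open Cfsg.Agent.OddHalf.D4.TwLin Cfsg.Agent.OddHalf.D4.TwWt

universe u

variable {K : Type u} [Field K] {q : ℕ} {φ : K →+* K}

/-! ### Coordinates -/

theorem cl_sr : ∀ i : Fin 4, Cfsg.Agent.Nodes.RGDTwCoord.cl chevE6 J O (sr i) = _root_.Cfsg.Agent.Nodes.RGDTwNode.E6.rep i :: rest i := by
  decide +kernel

theorem dl_one : ∀ i : Fin 4, ∀ s ∈ _root_.Cfsg.Agent.Nodes.RGDTwNode.E6.rep i :: rest i, dl s = 1 := by decide +kernel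

theorem yv_congr {xx yy : ℕ → K → GL chevE6.Idx K} : ∀ {o : List ℕ}, (∀ s ∈ o, ∀ t, xx s t = yy s t) → ∀ t,
    yv xx φ o t = yv yy φ o t
  | [], _, _ => rfl
  | s :: o, h, t => by
    show xx s t * yv xx φ o (φ t) = yy s t * yv yy φ o (φ t)
    rw [h s List.mem_cons_self, yv_congr (fun s' hs' => h s' (List.mem_cons_of_mem _ hs'))]

variable [Fintype K] (hφ : ∀ x, φ x = x ^ q) (hqq : ∀ t : K, (t ^ q) ^ q = t)

theorem ok_sr (i : Fin 4) (a : KF φ i) : Cfsg.Agent.Nodes.RGDTwCoord.Ok chevE6 J O φ (sr i) (a : K) := by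
  unfold Cfsg.Agent.Nodes.RGDTwCoord.Ok
  rw [cl_sr]
  exact mem_Fx.1 a.2

theorem PhiE_eq {W : Type*} [Group W] (cs : CoxeterSystem CoxeterMatrix.F₄ W) (i : Fin 4) (a : KF φ i) :
    PhiE hφ hqq i (up a) = Cfsg.Agent.Nodes.RGDTwComE6.x φ q (sr i) (a : K) := by
  apply Subtype.ext
  rw [Cfsg.Agent.Nodes.RGDTwComE6.coe_x hφ hqq (isRoot_sr cs isCartan i) (ok_sr i a)]
  refine (coe_Phi_up (foldGrp hφ hqq) (nodeOK i) (hf i) a).trans ?_
  show _ = yv (Cfsg.Agent.Nodes.RGDTwCoord.xs hp dl) φ (Cfsg.Agent.Nodes.RGDTwCoord.cl chevE6 J O (sr i)) (a : K)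
  rw [cl_sr]
  apply yv_congr
  intro s hs t
  unfold Cfsg.Agent.Nodes.RGDTwCoord.xs
  rw [dl_one i s hs, Int.cast_one, one_mul]

theorem F1_le (i : Fin 4) : Fx φ 1 ≤ KF φ i := by
  have hi : i = 0 ∨ i = 1 ∨ i = 2 ∨ i = 3 := by (revert i; simp only [_root_.Fin.forall_fin_succ, Fin.isValue, _root_.zero_ne_one, Fin.reduceEq, _root_.or_self, _root_.or_false, _root_.Fin.succ_ne_zero, _root_.false_or, _root_.Fin.succ_zero_eq_one, _root_.Fin.succ_one_eq_two, _root_.or_true, Fin.reduceSucc, _root_.IsEmpty.forall_iff, _root_.and_self])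
  rcases hi with rfl | rfl | rfl | rfl
  · exact le_rfl
  · exact le_rfl
  · exact F1_le_F2
  · exact F1_le_F2

/-- **`²E₆(q)` is linear.** -/
theorem lin {W : Type*} [Group W] (cs : CoxeterSystem CoxeterMatrix.F₄ W) [Finite W] [CharP K 2]
    (hq : IsPrimePow q) (hK : Fintype.card K = q ^ 2) :
    Lin (_root_.Cfsg.Agent.Nodes.RGDTwE6.rgd cs hφ hqq 2) (Fx φ 1) (KF φ) (fun i a => PhiE hφ hqq i (up a)) (chE hφ hqq)
      (fun z => (LineRgd.ht z).toNat) rho := by
  have : Fact (Nat.Prime 2) := ⟨Nat.prime_two⟩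
  have hq1 := hq.one_lt
  have R := _root_.Cfsg.Agent.Nodes.RGDTwE6.rgd cs hφ hqq 2
  have D := Cfsg.Agent.KFacts.TwESix.Dat.dat cs hφ hqq hK hq1
  have hN := Cfsg.Agent.OddHalf.DblR.SheetTwE6.noCent cs hφ hqq hq hK
  have hG1 := G1_top cs hφ hqq
  have hpos : rho ∈ RGD.Pos cs isCartan := ⟨rho_root cs, fun i => by (revert i; simp only [rho, _root_.Fin.forall_fin_succ, _root_.Pi.zero_apply, Fin.isValue, _root_.Matrix.cons_val_zero, _root_.Nat.ofNat_nonneg, _root_.Matrix.cons_val_succ, _root_.Matrix.cons_val_fin_one, _root_.implies_true, _root_.and_self])⟩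
  refine ⟨hG1, coordE hφ hqq, F1_le, ⟨2, F2_eq_top hφ hqq⟩, ?_, ?_, ?_, ?_, ?_, hpos, ?_⟩
  · -- one
    intro β σ D
    apply perm_F4 σ (D.matrix R)
    intro h3
    have h4 := Diag.card_eq D 0
    rw [h3] at h4
    exact card_ne hφ hqq hK hq1 h4
  · -- tau
    intro β D
    obtain ⟨τ, S⟩ := exists_ftau hφ hqq cs 2 D
    exact ⟨τ, S.char⟩
  · -- wts
    exact Wts.of_ht (StarESix.intComm hφ hqq) fun a ha u hu v hv => StarESix.abel hφ hqq ha.1 u hu v hv
  · -- star
    intro w i g hg hpos a ha u hu hux t ht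
    have ha' : (a : K) ≠ 0 := fun h => ha (Subtype.ext h)
    rw [PhiE_eq hφ hqq cs] at hux
    rw [PhiE_eq hφ hqq cs]
    have ht' : φ (t : K) = t := by
      rw [mem_Fx, Function.iterate_one] at ht
      exact ht
    exact StarESix.star hφ hqq 2 hg (isRoot_sr cs isCartan i) hpos (ok_sr i a) ha' hu hux ht'
  · -- rho
    obtain ⟨w, hw⟩ := exists_rep_long cs (rho_root cs) rho_long
    exact ⟨w, 0, hw, rfl⟩
  · -- cen
    intro z hz
    constructor
    · intro h1
      refine Cfsg.Agent.KFacts.TwESix.Faith.cent_Q D hN (by rw [GG_eq_top hG1]; exact mem_top z) fun v hv => ?_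
      have hle : Cfsg.Agent.KFacts.TwESix.QRho.QQ cs (X φ q) ≤ RGD.Sup (X φ q) (RGD.Pos cs isCartan) :=
        Cfsg.Agent.KFacts.TwESix.QRho.QQ_le fun b hb h2 => RGD.le_Sup ⟨hb, by
          rcases hb.pos_or_neg with h3 | h3
          · exact h3
          · have h4 : b 0 ≤ 0 := h3 0
            omega⟩
      exact (h1 v (hle hv)).symm
    · intro h1 u hu
      have hle : RGD.Sup (X φ q) (RGD.Pos cs isCartan) ≤ Cfsg.Agent.KFacts.TwESix.QRho.PP cs (X φ q) :=
        RGD.Sup_le fun b hb => Cfsg.Agent.KFacts.TwESix.QRho.le_PP hb.1 (hb.2 0)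
      exact (Cfsg.Agent.KFacts.TwESix.QRho.cen_PP D h1 (hle hu)).symm

/-- **`BFacts` for `²E₆(2^a)`, `a ≥ 2`.** -/
theorem bfacts {G : Type*} [Group G] [Finite G] {H : Subgroup G} {F : Type u} [Field F] [Fintype F] {a : ℕ}
    (ha : 2 ≤ a) (hF : Fintype.card F = 4 ^ a) (e : ↥(twistedE6 F (2 ^ a)) ≃* ↥H) : Free.BFacts H := by
  have hF' : Fintype.card F = (2 ^ a) ^ 2 := by rw [hF, ← pow_mul, mul_comm, pow_mul]; norm_num
  have hq : IsPrimePow (2 ^ a) := (Nat.prime_two.isPrimePow).pow (by omega)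
  have : Fact (Nat.Prime 2) := ⟨Nat.prime_two⟩
  have hc : CharP F 2 := charP_of_card_eq_prime_pow (f := 2 * a) (by rw [hF, pow_mul]; norm_num)
  obtain ⟨φ, hφ, hqq⟩ := Cfsg.Agent.ChevalleyStructure.TwE6Basic.exists_frob hq hF'
  have hW : Finite CoxeterMatrix.F₄.Group := finiteW CoxeterMatrix.F₄.toCoxeterSystem
  have hcard : Nat.card (Fx φ 1) = 2 ^ a := by
    have h1 := card_of_coord (coordE hφ hqq 0)
    rw [Cfsg.Agent.KFacts.TwESix.Tor.card_long CoxeterMatrix.F₄.toCoxeterSystem hφ hqq hF' hq.one_lt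
      (isRoot_sr _ isCartan 0) (by decide +kernel)] at h1
    exact h1.symm
  have hcard' : Nat.card F = Nat.card (Fx φ 1) ^ 2 := by
    rw [hcard, Nat.card_eq_fintype_card, hF']
  have hk : ∃ s ∈ Fx φ 1, s ≠ 0 ∧ s ≠ 1 := by
    by_contra hcon
    push Not at hcon
    have h1 : Nat.card (Fx φ 1) ≤ 2 := by
      have h2 : Set.univ ⊆ ({0, 1} : Set (Fx φ 1)) := by
        rintro ⟨s, hs⟩ -
        by_cases h0 : s = 0
        · exact Or.inl (Subtype.ext h0)
        · exact Or.inr (Subtype.ext (hcon s hs h0))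
      have h3 := Set.ncard_le_ncard h2
      rw [Set.ncard_univ] at h3
      have h4 := Set.ncard_insert_le (0 : Fx φ 1) {1}
      rw [Set.ncard_singleton] at h4
      exact h3.trans h4
    have h4 : 2 ^ 2 ≤ 2 ^ a := Nat.pow_le_pow_right (by norm_num) ha
    omega
  exact TwAFacts.bfacts (lin hφ hqq CoxeterMatrix.F₄.toCoxeterSystem hq hF')
    (Cfsg.Agent.OddHalf.DblR.SheetTwE6.center_eq_bot hq hF') hk
    (fun τ h1 _ => TwQuad.hgal hcard' τ h1) (TwQuad.hinv hcard') e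

end Cfsg.Agent.OddHalf.D4.LinESix

end
end

private theorem dce_efce22c97a7e : _root_.True := by
  try have : _root_.True := by simp only [_root_.Cfsg.Agent.OddHalf.D4.O2.UU.eq_1]
  exact _root_.True.intro
end

-- part: OddHalf/NI3/Ex4/RowF4
section
prune_inst 0xd0105344056202000018058271003e46fe000192006b8c01fd410b4006c6ff23a5032721fde01a11491aa664203b0068135c00c90230000000200600411d01a090aa72c0b308a10426000f80f887500000000000000000000000000000041004000000000
set_option linter.all false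
open scoped Cfsg.Agent.FastGrp

/-!
# (EX4): the row `F₄(2)` (helper931)

In `LL = F₄(2)`: `OO2 (x 44) = RG qsP = ⟨x₃₃, …, x₄₇⟩` (`mem_OO2_iff`), its squares are in `⟨x₄₄⟩` (`sq_mem`), it contains
its centralizer; the same for `x 47` with the graph automorphism; `cc`: the elements centralising `OO2 (x 44)` and
`OO2 (x 47)` are `1, x₄₄, x₄₇, x₄₄ x₄₇`.

* `two4` : `Two4 (x 44) (x 47)`;
* `row4_f42` : `XF42 X → Row4 X`.
-/

set_option autoImplicit false
set_option linter.style.haveILetI false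

namespace Cfsg.Agent.OddHalf.NI3.Ex4.RowF4

open Subgroup Cfsg
open Cfsg.Agent.FourTwo.Base (LL x wd bar bar_lt bar_bar x_mul_self wd_cons wd_nil wd_one wd_append x_inv)
open Cfsg.Agent.FourTwo.BN Cfsg.Agent.FourTwo.Comm Cfsg.Agent.FourTwo.Par Cfsg.Agent.FourTwo.Cent
open Cfsg.Agent.FourTwo.AutF4 (isPGroup_U U_inf_Vo x_mem_Vo comm_44 comm_47 x44_ne_x47)
open Cfsg.Agent.ChevalleyStructure.F4TwU (posList)

universe u

/-! ### squares modulo a central subgroup -/

section Sq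

variable {G : Type*} [Group G] {S : Set G} {Z : Subgroup G}

theorem comm_closure (hZ : ∀ z ∈ Z, ∀ g ∈ closure S, z * g = g * z)
    (h : ∀ s ∈ S, ∀ t ∈ S, s * t * s⁻¹ * t⁻¹ ∈ Z) :
    ∀ g ∈ closure S, ∀ k ∈ closure S, g * k * g⁻¹ * k⁻¹ ∈ Z := by
  have h1 : ∀ s ∈ S, ∀ k ∈ closure S, s * k * s⁻¹ * k⁻¹ ∈ Z := by
    intro s hs k hk
    refine closure_induction (p := fun k _ => s * k * s⁻¹ * k⁻¹ ∈ Z) (fun t ht => h s hs t ht) ?_ ?_ ?_ hk
    · have e : s * 1 * s⁻¹ * 1⁻¹ = 1 := by group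
      rw [e]; exact Z.one_mem
    · intro a b ha _ h2 h3
      have e : s * (a * b) * s⁻¹ * (a * b)⁻¹ = (s * a * s⁻¹ * a⁻¹) * (a * (s * b * s⁻¹ * b⁻¹) * a⁻¹) := by group
      have e2 : a * (s * b * s⁻¹ * b⁻¹) * a⁻¹ = s * b * s⁻¹ * b⁻¹ := by
        rw [← hZ _ h3 a ha, mul_inv_cancel_right]
      rw [e, e2]
      exact Z.mul_mem h2 h3
    · intro a ha h2
      have e : s * a⁻¹ * s⁻¹ * a⁻¹⁻¹ = (a⁻¹ * (s * a * s⁻¹ * a⁻¹) * a)⁻¹ := by group
      have e2 : a⁻¹ * (s * a * s⁻¹ * a⁻¹) * a = s * a * s⁻¹ * a⁻¹ := by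
        rw [mul_assoc, hZ _ h2 a ha, inv_mul_cancel_left]
      rw [e, e2]
      exact Z.inv_mem h2
  intro g hg k hk
  refine closure_induction (p := fun g _ => g * k * g⁻¹ * k⁻¹ ∈ Z) (fun s hs => h1 s hs k hk) ?_ ?_ ?_ hg
  · have e : 1 * k * 1⁻¹ * k⁻¹ = 1 := by group
    rw [e]; exact Z.one_mem
  · intro a b ha _ h2 h3
    have e : a * b * k * (a * b)⁻¹ * k⁻¹ = (a * (b * k * b⁻¹ * k⁻¹) * a⁻¹) * (a * k * a⁻¹ * k⁻¹) := by group
    have e2 : a * (b * k * b⁻¹ * k⁻¹) * a⁻¹ = b * k * b⁻¹ * k⁻¹ := by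
      rw [← hZ _ h3 a ha, mul_inv_cancel_right]
    rw [e, e2]
    exact Z.mul_mem h3 h2
  · intro a ha h2
    have e : a⁻¹ * k * a⁻¹⁻¹ * k⁻¹ = (a⁻¹ * (a * k * a⁻¹ * k⁻¹) * a)⁻¹ := by group
    have e2 : a⁻¹ * (a * k * a⁻¹ * k⁻¹) * a = a * k * a⁻¹ * k⁻¹ := by
      rw [mul_assoc, hZ _ h2 a ha, inv_mul_cancel_left]
    rw [e, e2]
    exact Z.inv_mem h2

theorem sq_closure (hZ : ∀ z ∈ Z, ∀ g ∈ closure S, z * g = g * z)
    (h : ∀ s ∈ S, ∀ t ∈ S, s * t * s⁻¹ * t⁻¹ ∈ Z) (h2 : ∀ s ∈ S, s * s ∈ Z) :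
    ∀ g ∈ closure S, g * g ∈ Z := by
  intro g hg
  refine closure_induction (p := fun g _ => g * g ∈ Z) h2 ?_ ?_ ?_ hg
  · rw [one_mul]; exact Z.one_mem
  · intro a b ha hb h3 h4
    have e : a * b * (a * b) = (a * a) * ((a⁻¹ * b * a⁻¹⁻¹ * b⁻¹) * (b * b)) := by group
    rw [e]
    exact Z.mul_mem h3 (Z.mul_mem (comm_closure hZ h _ (inv_mem ha) _ hb) h4)
  · intro a _ h3
    rw [← mul_inv_rev]
    exact Z.inv_mem h3

theorem zp {ζ : G} (h : ζ * ζ = 1) {g : G} (hg : g ∈ zpowers ζ) : g = 1 ∨ g = ζ := by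
  obtain ⟨k, rfl⟩ := mem_zpowers_iff.1 hg
  rcases Int.even_or_odd k with ⟨m, hm⟩ | ⟨m, hm⟩
  · left
    rw [hm, zpow_add, ← (Commute.refl ζ).mul_zpow, h, one_zpow]
  · right
    rw [hm, zpow_add, zpow_one, two_mul, zpow_add, ← (Commute.refl ζ).mul_zpow, h, one_zpow, one_mul]

theorem comm_zp {ζ g z : G} (h : g * ζ = ζ * g) (hz : z ∈ zpowers ζ) : z * g = g * z := by
  obtain ⟨k, rfl⟩ := mem_zpowers_iff.1 hz
  have h1 : Commute g ζ := h
  exact (h1.zpow_right k).eq.symm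

end Sq

/-! ### `OO2 (x 44)` -/

open Cfsg.Agent.FourTwo.Facts2 (qsP)

theorem Q_two : IsPGroup 2 ↥(RG qsP) :=
  isPGroup_U.to_le (RG_le_U (by decide +kernel))

theorem Ps_norm : Ps ≤ normalizer (RG qsP : Set LL) := le_normalizer (by decide +kernel)

theorem Q_le_Ps : RG qsP ≤ Ps := RG_mono (by decide +kernel)

theorem comm_iff {g : LL} : g * x 44 = x 44 * g ↔ g ∈ Ps := by
  rw [← cent_short, mem_centralizer_singleton_iff]

theorem Q_le_OO2 : RG qsP ≤ OO2 (x 44) := by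
  intro g hg
  have h1 : g ∈ centralizer ({x 44} : Set LL) := by rw [cent_short]; exact Q_le_Ps hg
  have hn : ((RG qsP).subgroupOf (centralizer ({x 44} : Set LL))).Normal := by
    refine ⟨fun n hn k => ?_⟩
    rw [mem_subgroupOf] at hn ⊢
    have h2 : (k : LL) ∈ Ps := by rw [← cent_short]; exact k.2
    have h3 := (mem_normalizer_iff.1 (Ps_norm h2) n).1 hn
    exact h3
  have h2 : IsPGroup 2 ↥((RG qsP).subgroupOf (centralizer ({x 44} : Set LL))) :=
    Q_two.comap_of_injective _ (subtype_injective _)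
  exact ⟨⟨g, h1⟩, Cfsg.Agent.Lib.Cores.le_pCore hn h2 hg, rfl⟩

theorem OO2_le_U : OO2 (x 44) ≤ U := by
  haveI : Fact (Nat.Prime 2) := ⟨Nat.prime_two⟩
  have h1 : U ≤ normalizer (OO2 (x 44) : Set LL) := by
    intro g hg
    have hc : ∀ k : LL, k * x 44 = x 44 * k → ∀ n ∈ OO2 (x 44), k * n * k⁻¹ ∈ OO2 (x 44) :=
      fun k hk n hn => OO2_conj hn hk
    rw [mem_normalizer_iff]
    intro n
    refine ⟨fun hn => hc g (comm_44 hg) n hn, fun hn => ?_⟩
    have h2 := hc g⁻¹ (comm_44 (U.inv_mem hg)) _ hn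
    have h3 : g⁻¹ * (g * n * g⁻¹) * g⁻¹⁻¹ = n := by group
    rwa [h3] at h2
  have h2 : IsPGroup 2 ↥(OO2 (x 44) ⊔ U) :=
    (OO2_isPGroup (x 44)).to_sup_of_normal_left' isPGroup_U h1
  have h3 := Cfsg.Agent.FourTwo.Perf.sylU.is_maximal' h2 (show (Cfsg.Agent.FourTwo.Perf.sylU : Subgroup LL) ≤ _ by
    rw [Cfsg.Agent.FourTwo.Perf.coe_sylU]; exact le_sup_right)
  rw [Cfsg.Agent.FourTwo.Perf.coe_sylU] at h3
  rw [← h3]
  exact le_sup_left

/-- the longest element of the Levi factor -/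
def w0 : List ℕ := [1, 2, 3, 1, 2, 3, 1, 2, 3]

theorem w0_lt : ∀ i ∈ w0, i < 4 := by decide

theorem act_w0 : ∀ r < 33, 24 ≤ r → act w0 r = 47 - r := by decide +kernel

theorem act_w0_44 : act w0 44 = 44 := by decide +kernel

theorem w0_comm : nw w0 * x 44 = x 44 * nw w0 := by
  have h1 := nw_conj w0_lt (r := 44) (by omega)
  rw [act_w0_44, mul_inv_eq_iff_eq_mul] at h1
  exact h1

theorem split_pos : posList 24 = List.range' 24 9 ++ List.range' 33 15 := by decide +kernel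

theorem OO2_le_Q : OO2 (x 44) ≤ RG qsP := by
  intro g hg
  have hgU := OO2_le_U hg
  have h1 := OO2_le_U (OO2_conj hg w0_comm)
  rw [Cfsg.Agent.FourTwo.Par.U_eq_RG] at hgU
  obtain ⟨S, hS⟩ := nf_RG (by decide +kernel) hgU
  rw [split_pos, List.filter_append, wd_append] at hS
  set l := wd ((List.range' 24 9).filter fun r => decide (24 ≤ r) && S r) with hl
  set q := wd ((List.range' 33 15).filter fun r => decide (24 ≤ r) && S r) with hq
  have hqQ : q ∈ RG qsP := by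
    rw [hq]
    refine wd_mem_RG fun r hr => ?_
    rw [List.mem_filter, List.mem_range'_1] at hr
    refine ⟨by omega, ?_⟩
    unfold Cfsg.Agent.FourTwo.Facts2.qsP
    exact decide_eq_true hr.1.1
  have hqU : nw w0 * q * (nw w0)⁻¹ ∈ U := by
    apply OO2_le_U
    exact OO2_conj (Q_le_OO2 hqQ) w0_comm
  have hlU : nw w0 * l * (nw w0)⁻¹ ∈ U := by
    have e : nw w0 * l * (nw w0)⁻¹ = (nw w0 * g * (nw w0)⁻¹) * (nw w0 * q * (nw w0)⁻¹)⁻¹ := by
      rw [hS]; group
    rw [e]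
    exact U.mul_mem h1 (U.inv_mem hqU)
  have hlV : nw w0 * l * (nw w0)⁻¹ ∈ Cfsg.Agent.FourTwo.AutF4.Vo := by
    have key : ∀ L : List ℕ, (∀ r ∈ L, 24 ≤ r ∧ r < 33) → nw w0 * wd L * (nw w0)⁻¹ ∈ Cfsg.Agent.FourTwo.AutF4.Vo := by
      intro L
      induction L with
      | nil => intro _; rw [wd_nil, mul_one, mul_inv_cancel]; exact one_mem _
      | cons r L ih =>
        intro h2
        have h3 := ih fun r hr => h2 r (List.mem_cons_of_mem _ hr)
        have h4 := h2 r List.mem_cons_self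
        rw [wd_cons]
        have e : nw w0 * (x r * wd L) * (nw w0)⁻¹ = (nw w0 * x r * (nw w0)⁻¹) * (nw w0 * wd L * (nw w0)⁻¹) := by group
        rw [e, nw_conj w0_lt (by omega), act_w0 r h4.2 h4.1]
        exact mul_mem (x_mem_Vo (by omega)) h3
    apply key
    intro r hr
    rw [List.mem_filter, List.mem_range'_1] at hr
    omega
  have h2 := U_inf_Vo hlU hlV
  have h3 : l = 1 := by
    have h4 : l = (nw w0)⁻¹ * (nw w0 * l * (nw w0)⁻¹) * nw w0 := by group
    rw [h4, h2]; group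
  rw [hS, h3, one_mul]
  exact hqQ

theorem mem_OO2_iff {g : LL} : g ∈ OO2 (x 44) ↔ g ∈ RG qsP := ⟨fun h => OO2_le_Q h, fun h => Q_le_OO2 h⟩

theorem x_mem_OO2 {r : ℕ} (hr : r < 48) (h : 33 ≤ r) : x r ∈ OO2 (x 44) :=
  Q_le_OO2 (x_mem_RG hr (decide_eq_true h))

/-! ### the facts on `x 44` -/

theorem cmg_tab : ((List.range' 33 15).all fun r => (List.range' 33 15).all fun s =>
    r == s || (cmg r s == [] || cmg r s == [44])) = true := by decide +kernel

theorem cmg_Q {r s : ℕ} (hr : r < 48) (hr' : 33 ≤ r) (hs : s < 48) (hs' : 33 ≤ s) (hrs : r ≠ s) :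
    cmg r s = [] ∨ cmg r s = [44] := by
  have h1 := cmg_tab
  rw [List.all_eq_true] at h1
  have h2 := h1 r (List.mem_range'_1.2 (by omega))
  rw [List.all_eq_true] at h2
  have h3 := h2 s (List.mem_range'_1.2 (by omega))
  rw [Bool.or_eq_true, Bool.or_eq_true] at h3
  rcases h3 with h3 | h3 | h3
  · exact (hrs (eq_of_beq h3)).elim
  · exact Or.inl (eq_of_beq h3)
  · exact Or.inr (eq_of_beq h3)

theorem sq_mem {g : LL} (hg : g ∈ OO2 (x 44)) : g * g ∈ zpowers (x 44) := by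
  rw [mem_OO2_iff] at hg
  unfold RG at hg
  have hZ : ∀ z ∈ zpowers (x 44), ∀ g ∈ Subgroup.closure {g : LL | ∃ r < 48, qsP r = true ∧ g = x r}, z * g = g * z := by
    intro z hz g hg
    have h1 : g ∈ Ps := Q_le_Ps hg
    rw [← comm_iff] at h1
    exact comm_zp (G := LL) h1 hz
  refine sq_closure (G := LL) hZ ?_ ?_ g hg
  · rintro _ ⟨r, hr, hr1, rfl⟩ _ ⟨s, hs, hs1, rfl⟩
    have hr2 : 33 ≤ r := of_decide_eq_true hr1
    have hs2 : 33 ≤ s := of_decide_eq_true hs1
    by_cases hrs : r = s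
    · subst hrs
      rw [mul_inv_cancel_right, mul_inv_cancel]
      exact one_mem _
    · have h1 := comm_all hr hs hrs (by omega)
      rcases cmg_Q hr hr2 hs hs2 hrs with h2 | h2
      · rw [h2, wd_nil, mul_one] at h1
        have e : x r * x s * (x r)⁻¹ * (x s)⁻¹ = 1 := by rw [h1]; group
        rw [e]; exact one_mem _
      · rw [h2, wd_one] at h1
        have h3 := hZ (x 44) (mem_zpowers _) (x s) (subset_closure ⟨s, hs, hs1, rfl⟩)
        have e : x r * x s * (x r)⁻¹ * (x s)⁻¹ = x 44 := by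
          rw [h1, ← h3]; group
        rw [e]; exact mem_zpowers _
  · rintro _ ⟨r, hr, hr1, rfl⟩
    rw [x_mul_self]; exact one_mem _

/-- `C(O₂(C(x 44))) ≤ O₂(C(x 44))` -/
theorem con {g : LL} (h : ∀ q ∈ OO2 (x 44), g * q = q * g) : g ∈ OO2 (x 44) := by
  obtain ⟨T, hT, hg⟩ := Cfsg.Agent.FourTwo.CentK.mainC (c := []) (ans := List.sublists [17, 18, 19, 20, 21, 22, 23])
    (by decide +kernel) (g := g) (fun k hk => h _ (x_mem_OO2 (by omega) (by omega))) (by simp)
  rw [List.mem_sublists] at hT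
  rw [hg]
  apply Q_le_OO2
  refine wd_mem_RG fun r hr => ?_
  rw [List.mem_map] at hr
  obtain ⟨j, hj, rfl⟩ := hr
  have h1 : ∀ j ∈ [17, 18, 19, 20, 21, 22, 23], 24 + j < 48 ∧ qsP (24 + j) = true := by decide
  exact h1 j (hT.subset hj)

theorem pre : PreG (x 44) (zpowers (x 44)) where
  zz := x_mul_self 44
  z1 := x_ne_one (by omega)
  syl := ⟨Cfsg.Agent.FourTwo.Perf.sylU, fun g hg => comm_44 (show g ∈ U by
    rw [← Cfsg.Agent.FourTwo.Perf.coe_sylU]; exact hg)⟩
  con := fun g _ h => con h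
  mem := mem_zpowers _
  le := by rw [zpowers_le]; exact x_mem_OO2 (by omega) (by omega)
  ex := by
    intro g hg
    rcases zp (G := LL) (by exact x_mul_self 44) hg with rfl | rfl
    · rw [one_mul]
    · exact x_mul_self 44
  cen := by
    intro g hg k hk
    rcases zp (G := LL) (by exact x_mul_self 44) hg with rfl | rfl
    · rw [one_mul, mul_one]
    · exact hk
  sq := fun g hg => sq_mem hg
  gd := by
    intro g hg h1
    rcases zp (G := LL) (by exact x_mul_self 44) hg with rfl | rfl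
    · exact (h1 rfl).elim
    · apply Cfsg.Agent.OddHalf.NI.Ex.Lemma.good_of_perfect
      · refine ⟨OO2 (x 44), OO2_isPGroup _, fun q hq => mem_centralizer_singleton_iff.2 (OO2_comm hq),
          fun h hh q hq => OO2_conj hq (mem_centralizer_singleton_iff.1 hh), fun h _ hq => con hq⟩
      · rw [cent_short]; exact Cfsg.Agent.FourTwo.Perf.perfect_Ps
  fix := by
    intro β _ hβ g hg
    rcases zp (G := LL) (by exact x_mul_self 44) hg with rfl | rfl
    · exact map_one β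
    · exact hβ

/-! ### `x 47` and the row -/

theorem bar_44 : bar 44 = 47 := by decide

theorem two4 : ∃ Z₂ : Subgroup LL, Two4 (x 44) (x 47) (zpowers (x 44)) Z₂ := by
  obtain ⟨γ, hγ, -⟩ := Cfsg.Agent.FourTwo.CentP.exists_dual
  have h47 : γ (x 44) = x 47 := by rw [hγ 44 (by omega), bar_44]
  refine ⟨(zpowers (x 44)).map (γ : LL →* LL), ⟨pre, ?_, ?_, ?_⟩⟩
  · have := @PreG.map LL LL (Subgroup.toGroup _) (Subgroup.toGroup _) _ γ _ _ pre
    rwa [h47] at this
  · refine ⟨Cfsg.Agent.FourTwo.Perf.sylU, fun g hg => ?_⟩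
    have hg' : g ∈ U := by rw [← Cfsg.Agent.FourTwo.Perf.coe_sylU]; exact hg
    exact ⟨comm_44 hg', comm_47 hg'⟩
  · intro g h1 h2
    have h3 : ∀ r < 48, 33 ≤ r → Commute g (x (bar r)) := by
      intro r hr hr'
      have h4 := @OO2_map LL (Subgroup.toGroup _) LL (Subgroup.toGroup _) γ _ _ (x_mem_OO2 hr hr')
      rw [h47, hγ r hr] at h4
      exact h2 _ h4
    obtain ⟨T, hT, hg⟩ := Cfsg.Agent.FourTwo.CentK.mainC
      (c := [([], 24), ([], 26), ([], 31), ([], 42), ([], 32), ([], 43), ([], 45), ([], 46), ([], 29)])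
      (ans := [[], [20], [23], [20, 23]]) (by decide +kernel) (g := g)
      (fun k hk => h1 _ (x_mem_OO2 (by omega) (by omega))) (by
        intro p hp
        have hb : ∀ p ∈ [(([] : List ℕ), 24), ([], 26), ([], 31), ([], 42), ([], 32), ([], 43), ([], 45), ([], 46),
            ([], 29)], ∃ r < 48, 33 ≤ r ∧ bar r = p.2 := by decide +kernel
        obtain ⟨r, hr, hr', e⟩ := hb p hp
        rw [← e]; exact h3 r hr hr')
    obtain ⟨a, b, ha, hb, rfl⟩ := Cfsg.Agent.FourTwo.CentP.two ⟨T, hT, hg⟩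
    rcases ha with rfl | rfl <;> rcases hb with rfl | rfl
    · left; rw [one_mul]
    · right; right; left; rw [one_mul]
    · right; left; rw [mul_one]
    · right; right; right; rfl

variable {X : Type u} [Group X]

theorem row4_f42 [Finite X] (hZ : center X = ⊥) (h : D9.Cut.XF42 X) : Row4 X := by
  obtain ⟨e⟩ := Cfsg.Agent.OddHalf.D9.FFour.MultTwo.exists_equiv h
  obtain ⟨Z₂, h4⟩ := two4
  exact @row4_of_zeta X _ LL (Subgroup.toGroup _) _ e.symm hZ _ _ _ _ h4

end Cfsg.Agent.OddHalf.NI3.Ex4.RowF4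
end
end
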